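import Groth.Agent.Lib.Helper85.ExtLoc
import Groth.Agent.Lib.Helper4.InjDim
import Mathlib.Algebra.Module.LocalizedModule.Submodule
import Mathlib.RingTheory.LocalProperties.Basic

/-!
# Consequences of `ExtLoc`: vanishing criterion, identification of localizations, and
localizations of Gorenstein local rings are Gorenstein
-/

set_option autoImplicit false
set_option linter.style.haveILetI false

namespace Groth.Agent.Lib.Helper85.ExtLoc

open CategoryTheory Abelian

universe u

section Iso

variable {C : Type*} [Category C] [Abelian C] [HasExt.{u} C]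

theorem subsingleton_ext_of_iso {X X' Y Y' : C} (eX : X ≅ X') (eY : Y ≅ Y') (n : ℕ)
    (h : Subsingleton (Ext.{u} X Y n)) : Subsingleton (Ext.{u} X' Y' n) := by
  refine ⟨fun a b => ?_⟩
  suffices h0 : ∀ y : Ext.{u} X' Y' n, y = 0 from (h0 a).trans (h0 b).symm
  intro y
  have h1 : (Ext.mk₀ eX.hom).comp (y.comp (Ext.mk₀ eY.inv) (add_zero n)) (zero_add n) = 0 :=
    Subsingleton.elim _ _
  have h2 : y.comp (Ext.mk₀ eY.inv) (add_zero n) = 0 := by
    have := congrArg (fun z => (Ext.mk₀ eX.inv).comp z (zero_add n)) h1
    simp only [Ext.comp_zero] at this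
    rwa [Ext.mk₀_comp_mk₀_assoc, eX.inv_hom_id, Ext.mk₀_id_comp] at this
  have := congrArg (fun z => z.comp (Ext.mk₀ eY.hom) (add_zero n)) h2
  simp only [Ext.zero_comp] at this
  rwa [Ext.comp_assoc_of_third_deg_zero, Ext.mk₀_comp_mk₀, eY.inv_hom_id, Ext.comp_mk₀_id] at this

end Iso

section Vanish

variable {R : Type u} [CommRing R] (S : Submonoid R) [IsNoetherianRing R]

/-- vanishing of the localized `Ext` in terms of the `Ext` over `R` -/
theorem subsingleton_ext_LF_iff (i : ℕ) (M : Type u) [AddCommGroup M] [Module R M]
    [Module.Finite R M] (N : ModuleCat.{u} R) :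
    Subsingleton (Ext.{u} ((LF S).obj (ModuleCat.of R M)) ((LF S).obj N) i) ↔
      ∀ x : Ext.{u} (ModuleCat.of R M) N i, ∃ s ∈ S, s • x = 0 := by
  obtain ⟨h1, h2⟩ := main S i M N
  constructor
  · intro hsub x
    exact h2 x (Subsingleton.elim _ _)
  · intro h
    refine ⟨fun a b => ?_⟩
    suffices h0 : ∀ y : Ext.{u} ((LF S).obj (ModuleCat.of R M)) ((LF S).obj N) i, y = 0 from
      (h0 a).trans (h0 b).symm
    intro y
    obtain ⟨s, hs, x, hx⟩ := h1 y
    obtain ⟨s', hs', hx'⟩ := h x
    have h3 : algebraMap R (Localization S) s' • (algebraMap R (Localization S) s • y) = 0 := by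
      rw [hx, ← Φ_smul, hx', Φ_zero]
    have hu : IsUnit (algebraMap R (Localization S) s' * algebraMap R (Localization S) s) :=
      (IsLocalization.map_units (Localization S) ⟨s', hs'⟩).mul
        (IsLocalization.map_units (Localization S) ⟨s, hs⟩)
    rw [smul_smul] at h3
    exact (hu.smul_eq_zero).mp h3

end Vanish

section Ident

variable {R : Type u} [CommRing R] (S : Submonoid R)

/-- any localization of `M` (with values in an `A`-module) is isomorphic to `LF S M` -/
noncomputable def LFIso (M : Type u) [AddCommGroup M] [Module R M] (Z : Type u) [AddCommGroup Z]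
    [Module R Z] [Module (Localization S) Z] [IsScalarTower R (Localization S) Z]
    (g : M →ₗ[R] Z) [IsLocalizedModule S g] :
    (LF S).obj (ModuleCat.of R M) ≅ ModuleCat.of (Localization S) Z :=
  haveI := ModuleCat.localizedModule_isLocalizedModule (ModuleCat.of R M) S
  ((IsLocalizedModule.linearEquiv S ((ModuleCat.of R M).localizedModuleMkLinearMap S)
    g).extendScalarsOfIsLocalization S (Localization S)).toModuleIso

/-- `S⁻¹(R) ≅ S⁻¹R` -/
noncomputable def LFSelfIso :
    (LF S).obj (ModuleCat.of R R) ≅ ModuleCat.of (Localization S) (Localization S) :=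
  LFIso S R (Localization S) (Algebra.linearMap R (Localization S))

/-- `S⁻¹(R/I) ≅ S⁻¹R / J` -/
noncomputable def LFQuotIso (J : Ideal (Localization S)) :
    (LF S).obj (ModuleCat.of R (R ⧸ J.comap (algebraMap R (Localization S)))) ≅
      ModuleCat.of (Localization S) (Localization S ⧸ J) := by
  have hJ : Submodule.localized' (Localization S) S (Algebra.linearMap R (Localization S))
      (J.comap (algebraMap R (Localization S))) = J := by
    rw [Ideal.localized'_eq_map, IsLocalization.map_under S]
  exact LFIso S (R ⧸ J.comap (algebraMap R (Localization S)))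
      (Localization S ⧸ Submodule.localized' (Localization S) S
        (Algebra.linearMap R (Localization S)) (J.comap (algebraMap R (Localization S))))
      (Submodule.toLocalizedQuotient' (Localization S) S (Algebra.linearMap R (Localization S))
        (J.comap (algebraMap R (Localization S)))) ≪≫
    (Submodule.quotEquivOfEq _ _ hJ).toModuleIso

end Ident

section Gor

variable {R : Type u} [CommRing R] (S : Submonoid R)

/-- injective dimension of the ring localizes -/
theorem hasInjectiveDimensionLT_localization [IsNoetherianRing R] (n : ℕ)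
    [HasInjectiveDimensionLT (ModuleCat.of R R) (n + 1)] :
    HasInjectiveDimensionLT (ModuleCat.of (Localization S) (Localization S)) (n + 1) := by
  apply Groth.Agent.Lib.Helper4.InjDim.hasInjectiveDimensionLT_of_ext_quotient
  intro J
  refine subsingleton_ext_of_iso (LFQuotIso S J) (LFSelfIso S) (n + 1) ?_
  rw [subsingleton_ext_LF_iff]
  intro x
  exact ⟨1, S.one_mem, by rw [one_smul]; exact Ext.eq_zero_of_hasInjectiveDimensionLT x (n + 1) le_rfl⟩

theorem isGorensteinLocalRing_localization (R : Type u) [CommRing R]
    [LocCoh.IsGorensteinLocalRing R] (P : Ideal R) [P.IsPrime] :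
    LocCoh.IsGorensteinLocalRing (Localization.AtPrime P) := by
  obtain ⟨n, hn⟩ := LocCoh.IsGorensteinLocalRing.exists_hasInjectiveDimensionLT (A := R)
  haveI : HasInjectiveDimensionLT (ModuleCat.of R R) (n + 1) :=
    hasInjectiveDimensionLT_of_ge _ n (n + 1) (by omega)
  exact LocCoh.IsGorensteinLocalRing.mk ⟨n + 1, hasInjectiveDimensionLT_localization P.primeCompl n⟩

end Gor

end Groth.Agent.Lib.Helper85.ExtLoc
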