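import Groth.Agent.Lib.Helper85.FLCrit
import Groth.Agent.Lib.Helper76.RegularLocalGlDim

/-!
# Regular local rings are Gorenstein
-/

set_option autoImplicit false
set_option linter.style.haveILetI false

namespace Groth.Agent.Lib.Helper85.FLCrit

open CategoryTheory Abelian IsLocalRing

universe u

/-- a regular local ring is Gorenstein -/
theorem isGorensteinLocalRing_of_regular (R : Type u) [CommRing R] [IsRegularLocalRing R] :
    LocCoh.IsGorensteinLocalRing R := by
  have hspan := IsRegularLocalRing.spanFinrank_maximalIdeal (R := R)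
  refine LocCoh.IsGorensteinLocalRing.mk ⟨(maximalIdeal R).spanFinrank + 1, ?_⟩
  refine HasInjectiveDimensionLT.mk ?_
  intro i hi Y e
  haveI := Groth.Agent.Lib.Helper76.hasProjectiveDimensionLT_of_isRegularLocalRing R
    (maximalIdeal R).spanFinrank hspan.symm Y
  exact Ext.eq_zero_of_hasProjectiveDimensionLT e ((maximalIdeal R).spanFinrank + 1) hi

end Groth.Agent.Lib.Helper85.FLCrit
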