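import Groth.Agent.Lib.Helper85.GorFlat
import Groth.Agent.Lib.Helper85.GorLoc
import Groth.Agent.Lib.Helper85.RegGor
import Mathlib.RingTheory.RegularLocalRing.Polynomial
import Mathlib.RingTheory.Localization.Algebra

/-!
# Gorenstein rings: permanence properties

Transfer along ring isomorphisms, localization, quotient by a regular element, polynomial rings.
-/

set_option autoImplicit false
set_option linter.style.haveILetI false

namespace Groth.Agent.Lib.Helper85.GorRing

open CategoryTheory Abelian IsLocalRing

universe u

/-- `gor_iff` with an abstract model of the closed fibre -/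
theorem gor_iff_fibre (A B F : Type u) [CommRing A] [CommRing B] [CommRing F]
    [IsLocalRing A] [IsNoetherianRing A] [IsLocalRing B] [IsNoetherianRing B]
    [IsLocalRing F] [IsNoetherianRing F]
    [Algebra A B] [IsLocalHom (algebraMap A B)] [Module.Flat A B]
    (π : B →+* F) (hπ : Function.Surjective π)
    (hker : RingHom.ker π = (maximalIdeal A).map (algebraMap A B)) :
    LocCoh.IsGorensteinLocalRing B ↔
      LocCoh.IsGorensteinLocalRing A ∧ LocCoh.IsGorensteinLocalRing F := by
  obtain ⟨N, hN⟩ := ENat.ne_top_iff_exists.mp
    (Groth.Agent.Lib.Helper67.depth_ne_top (R := B) B)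
  exact Groth.Agent.Lib.Helper85.GorFlat.gor_iff_aux N A B F π hπ hker hN.symm

/-- a field is a Gorenstein local ring -/
theorem gor_of_isField (R : Type u) [CommRing R] (h : IsField R) :
    LocCoh.IsGorensteinLocalRing R := by
  letI := h.toField
  exact Groth.Agent.Lib.Helper85.FLCrit.isGorensteinLocalRing_of_regular R

/-- Gorenstein local rings transfer along ring isomorphisms -/
theorem gor_of_ringEquiv {R S : Type u} [CommRing R] [CommRing S] (e : R ≃+* S)
    [LocCoh.IsGorensteinLocalRing R] : LocCoh.IsGorensteinLocalRing S := by
  haveI : IsLocalRing S := e.isLocalRing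
  haveI : IsNoetherianRing S := isNoetherianRing_of_ringEquiv R e
  letI : Algebra R S := e.toRingHom.toAlgebra
  have halg : ∀ r : R, algebraMap R S r = e r := fun _ => rfl
  haveI : IsLocalHom (algebraMap R S) := by
    refine ⟨fun a ha => ?_⟩
    rw [halg] at ha
    simpa using ha
  haveI : Module.Flat R S := by
    let l : R ≃ₗ[R] S :=
      { e.toAddEquiv with
        map_smul' := fun r x => by
          simp [Algebra.smul_def, halg] }
    exact Module.Flat.of_linearEquiv l.symm
  have hker : RingHom.ker (residue S) = (maximalIdeal R).map (algebraMap R S) := by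
    rw [ker_residue]
    ext x
    constructor
    · intro hx
      have : e.symm x ∈ maximalIdeal R := by
        rw [mem_maximalIdeal, mem_nonunits_iff] at hx ⊢
        intro hu
        apply hx
        simpa using hu.map e
      have h2 := Ideal.mem_map_of_mem (algebraMap R S) this
      rwa [halg, e.apply_symm_apply] at h2
    · intro hx
      exact Groth.Agent.Lib.Helper85.GorFlat.map_le_maximalIdeal (maximalIdeal R) le_rfl hx
  exact ((gor_iff_fibre R S (ResidueField S) (residue S) residue_surjective hker).mpr
    ⟨inferInstance, gor_of_isField _ (Field.toIsField _)⟩)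

/-- quotient by a regular element, through an abstract surjection -/
theorem gor_iff_of_surjective {R R' : Type u} [CommRing R] [CommRing R'] [IsLocalRing R]
    [IsNoetherianRing R] (π : R →+* R') (hπ : Function.Surjective π) (f : R)
    (hfm : f ∈ maximalIdeal R) (hf : IsSMulRegular R f) (hker : RingHom.ker π = Ideal.span {f}) :
    LocCoh.IsGorensteinLocalRing R' ↔ LocCoh.IsGorensteinLocalRing R := by
  haveI : IsLocalRing (R ⧸ Ideal.span {f}) :=
    Groth.Agent.Lib.Helper85.GorFlat.isLocalRing_quot _
      ((Ideal.span_singleton_le_iff_mem _).mpr hfm)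
  let e : (R ⧸ Ideal.span {f}) ≃+* R' :=
    (Ideal.quotEquivOfEq hker.symm).trans (RingHom.quotientKerEquivOfSurjective hπ)
  rw [← Groth.Agent.Lib.Helper85.GorFlat.gorenstein_quot_iff f hfm hf _ rfl]
  exact ⟨fun h => gor_of_ringEquiv e.symm, fun h => gor_of_ringEquiv e⟩

/-- any model of the localization of a Gorenstein local ring at a prime is Gorenstein -/
theorem gor_atPrime (R : Type u) [CommRing R] [LocCoh.IsGorensteinLocalRing R] (P : Ideal R)
    [P.IsPrime] (S : Type u) [CommRing S] [Algebra R S] [IsLocalization.AtPrime S P] :
    LocCoh.IsGorensteinLocalRing S := by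
  haveI := Groth.Agent.Lib.Helper85.ExtLoc.isGorensteinLocalRing_localization R P
  exact gor_of_ringEquiv
    (IsLocalization.algEquiv P.primeCompl (Localization.AtPrime P) S).toRingEquiv

/-- localization commutes with quotients: the induced surjection of local rings and its kernel -/
theorem exists_loc_surjective {R R' : Type u} [CommRing R] [CommRing R'] (π : R →+* R')
    (hπ : Function.Surjective π) (q : Ideal R) [q.IsPrime] (q' : Ideal R') [q'.IsPrime]
    (h : q'.comap π = q) :
    ∃ φ : Localization.AtPrime q →+* Localization.AtPrime q', Function.Surjective φ ∧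
      RingHom.ker φ = (RingHom.ker π).map (algebraMap R (Localization.AtPrime q)) ∧
      ∀ r : R, φ (algebraMap R _ r) = algebraMap R' _ (π r) := by
  have hT : Submonoid.map π q.primeCompl = q'.primeCompl := by
    ext x
    simp only [Submonoid.mem_map, Ideal.mem_primeCompl_iff]
    constructor
    · rintro ⟨y, hy, rfl⟩
      intro hx
      apply hy
      rw [← h]
      exact hx
    · intro hx
      obtain ⟨y, rfl⟩ := hπ x
      refine ⟨y, ?_, rfl⟩
      intro hy
      rw [← h] at hy
      exact hx hy
  haveI : IsLocalization (Submonoid.map π q.primeCompl) (Localization.AtPrime q') := by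
    rw [hT]; infer_instance
  have hle : q.primeCompl ≤ Submonoid.comap π q'.primeCompl := by
    rw [← hT]; exact Submonoid.le_comap_map _
  refine ⟨IsLocalization.map (Localization.AtPrime q') π hle, ?_, ?_,
    fun r => IsLocalization.map_eq _ r⟩
  · intro x
    obtain ⟨y, s, rfl⟩ := IsLocalization.exists_mk'_eq q'.primeCompl x
    obtain ⟨y', rfl⟩ := hπ y
    obtain ⟨s', hs'⟩ := hπ s.1
    have hs'm : s' ∈ q.primeCompl := by
      rw [Ideal.mem_primeCompl_iff, ← h, Ideal.mem_comap, hs']
      exact s.2
    refine ⟨IsLocalization.mk' _ y' ⟨s', hs'm⟩, ?_⟩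
    rw [IsLocalization.map_mk']
    congr 1
    exact Subtype.ext hs'
  · exact IsLocalization.ker_map (S := Localization.AtPrime q) (Localization.AtPrime q') π hT

section Global

/-- a Gorenstein local ring is a Gorenstein ring -/
theorem gorRing_of_gorLocal (R : Type u) [CommRing R] [LocCoh.IsGorensteinLocalRing R] :
    LocCoh.IsGorensteinRing R :=
  { isGorensteinLocalRing_localization := fun p _ =>
      Groth.Agent.Lib.Helper85.ExtLoc.isGorensteinLocalRing_localization R p }

/-- any model of the localization of a Gorenstein ring at a prime is Gorenstein local -/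
theorem gorRing_atPrime (R : Type u) [CommRing R] [LocCoh.IsGorensteinRing R] (P : Ideal R)
    [P.IsPrime] (S : Type u) [CommRing S] [Algebra R S] [IsLocalization.AtPrime S P] :
    LocCoh.IsGorensteinLocalRing S := by
  haveI := LocCoh.IsGorensteinRing.isGorensteinLocalRing_localization (A := R) P
  exact gor_of_ringEquiv
    (IsLocalization.algEquiv P.primeCompl (Localization.AtPrime P) S).toRingEquiv

theorem gorRing_of_ringEquiv {R S : Type u} [CommRing R] [CommRing S] (e : R ≃+* S)
    [LocCoh.IsGorensteinRing R] : LocCoh.IsGorensteinRing S := by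
  haveI : IsNoetherianRing S := isNoetherianRing_of_ringEquiv R e
  refine { isGorensteinLocalRing_localization := fun p _ => ?_ }
  haveI := LocCoh.IsGorensteinRing.isGorensteinLocalRing_localization (A := R) (p.comap e)
  exact gor_of_ringEquiv (IsLocalization.ringEquivOfRingEquiv
    (Localization.AtPrime (p.comap e)) (Localization.AtPrime p) e (e.map_primeCompl_comap_eq p))

/-- a localization of a Gorenstein ring is a Gorenstein ring -/
theorem gorRing_localization {R : Type u} [CommRing R] (M : Submonoid R) (S : Type u)
    [CommRing S] [Algebra R S] [IsLocalization M S] [LocCoh.IsGorensteinRing R] :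
    LocCoh.IsGorensteinRing S := by
  haveI : IsNoetherianRing S := IsLocalization.isNoetherianRing M S inferInstance
  refine { isGorensteinLocalRing_localization := fun q _ => ?_ }
  haveI : IsLocalization.AtPrime (Localization.AtPrime q) (q.comap (algebraMap R S)) :=
    IsLocalization.isLocalization_isLocalization_atPrime_isLocalization M
      (Localization.AtPrime q) q
  exact gorRing_atPrime R (q.comap (algebraMap R S)) (Localization.AtPrime q)

/-- the quotient of a Gorenstein ring by a regular element (abstract surjection) -/
theorem gorRing_of_surjective {R R' : Type u} [CommRing R] [CommRing R'] (π : R →+* R')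
    (hπ : Function.Surjective π) (f : R) (hf : IsSMulRegular R f)
    (hker : RingHom.ker π = Ideal.span {f}) [LocCoh.IsGorensteinRing R] :
    LocCoh.IsGorensteinRing R' := by
  haveI : IsNoetherianRing R' := isNoetherianRing_of_surjective R R' π hπ
  refine { isGorensteinLocalRing_localization := fun q' _ => ?_ }
  obtain ⟨φ, hφ, hkerφ, -⟩ := exists_loc_surjective π hπ (q'.comap π) q' rfl
  haveI := LocCoh.IsGorensteinRing.isGorensteinLocalRing_localization (A := R) (q'.comap π)
  have hfq : f ∈ q'.comap π := by
    have : f ∈ RingHom.ker π := by rw [hker]; exact Ideal.mem_span_singleton_self f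
    rw [Ideal.mem_comap, RingHom.mem_ker.mp this]
    exact zero_mem _
  refine (gor_iff_of_surjective φ hφ (algebraMap R (Localization.AtPrime (q'.comap π)) f)
    ?_ ?_ ?_).mpr inferInstance
  · rw [← Localization.AtPrime.map_eq_maximalIdeal]
    exact Ideal.mem_map_of_mem _ hfq
  · exact IsSMulRegular.of_flat hf
  · rw [hkerφ, hker, Ideal.map_span, Set.image_singleton]

theorem gorRing_quot {R : Type u} [CommRing R] (f : R) (hf : IsSMulRegular R f)
    [LocCoh.IsGorensteinRing R] : LocCoh.IsGorensteinRing (R ⧸ Ideal.span {f}) :=
  gorRing_of_surjective (Ideal.Quotient.mk _) Ideal.Quotient.mk_surjective f hf Ideal.mk_ker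

end Global

section Poly

open Polynomial

/-- the local step: localizations of `S[X]` at primes over the maximal ideal -/
theorem gor_polynomial_local (S : Type u) [CommRing S] [LocCoh.IsGorensteinLocalRing S]
    (p : Ideal S[X]) [p.IsPrime] (hp : p.comap C = maximalIdeal S) :
    LocCoh.IsGorensteinLocalRing (Localization.AtPrime p) := by
  let g : S[X] →+* (ResidueField S)[X] := Polynomial.mapRingHom (residue S)
  have hg : Function.Surjective g := Polynomial.map_surjective _ residue_surjective
  have hkerg : RingHom.ker g = (maximalIdeal S).map C := by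
    rw [Polynomial.ker_mapRingHom, ker_residue]
  have hle : RingHom.ker g ≤ p := by
    rw [hkerg, ← hp]; exact Ideal.map_comap_le
  let P : Ideal (ResidueField S)[X] := p.map g
  haveI : P.IsPrime := Ideal.map_isPrime_of_surjective hg hle
  have hcomap : P.comap g = p := by
    rw [Ideal.comap_map_of_surjective g hg, ← RingHom.ker_eq_comap_bot]
    exact sup_eq_left.mpr hle
  obtain ⟨φ, hφ, hkerφ, -⟩ := exists_loc_surjective g hg p P hcomap
  haveI : IsLocalHom (algebraMap S (Localization.AtPrime p)) := by
    refine ⟨fun a ha => ?_⟩
    rw [IsScalarTower.algebraMap_apply S S[X] (Localization.AtPrime p),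
      IsLocalization.AtPrime.isUnit_to_map_iff _ p] at ha
    by_contra hna
    have : a ∈ p.comap C := by rw [hp]; exact hna
    exact ha this
  haveI : Module.Flat S (Localization.AtPrime p) := Module.Flat.trans S S[X] _
  haveI : IsRegularLocalRing (Localization.AtPrime P) := inferInstance
  refine (gor_iff_fibre S (Localization.AtPrime p) (Localization.AtPrime P) φ hφ ?_).mpr
    ⟨inferInstance, Groth.Agent.Lib.Helper85.FLCrit.isGorensteinLocalRing_of_regular _⟩
  rw [hkerφ, hkerg, Ideal.map_map]
  rfl

open Ideal in
/-- the polynomial ring over a Gorenstein ring is Gorenstein -/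
theorem gorRing_polynomial (R : Type u) [CommRing R] [LocCoh.IsGorensteinRing R] :
    LocCoh.IsGorensteinRing R[X] := by
  refine { isGorensteinLocalRing_localization := fun p hp => ?_ }
  let q := p.comap C
  let S := (Localization.AtPrime q)[X]
  let pc := Submonoid.map Polynomial.C.toMonoidHom q.primeCompl
  let : Algebra R[X] S := algebra R (Localization.AtPrime q)
  have : IsLocalization pc S := Polynomial.isLocalization _ _
  let pS := p.map (algebraMap R[X] S)
  have disj : Disjoint (pc : Set R[X]) (p : Set R[X]) := by
    simpa [pc, q] using! Set.disjoint_image_left.mpr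
      (Set.disjoint_compl_left_iff_subset.mpr (fun _ a ↦ a))
  have : pS.IsPrime := IsLocalization.isPrime_of_isPrime_disjoint pc _ _ ‹_› disj
  have : IsLocalization.AtPrime (Localization.AtPrime pS) p := by
    convert IsLocalization.isLocalization_isLocalization_atPrime_isLocalization pc
      (Localization.AtPrime pS) pS
    exact (IsLocalization.under_map_of_isPrime_disjoint pc _ ‹_› disj).symm
  have := LocCoh.IsGorensteinRing.isGorensteinLocalRing_localization (A := R) q
  have eq : comap C pS = maximalIdeal (Localization.AtPrime q) := by
    rw [← IsLocalization.map_under q.primeCompl _ (comap C pS),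
      ← IsLocalization.map_under q.primeCompl _ (maximalIdeal (Localization.AtPrime q))]
    simp only [comap_comap, S, pS]
    rw [← Polynomial.algebraMap_eq (R := Localization.AtPrime q),
      ← IsScalarTower.algebraMap_eq R (Localization.AtPrime q) (Localization.AtPrime q)[X],
      IsScalarTower.algebraMap_eq R R[X] (Localization.AtPrime q)[X], ← comap_comap,
      ← Ideal.under_def R[X], IsLocalization.under_map_of_isPrime_disjoint pc _ ‹_› disj]
    simp [q, IsLocalization.AtPrime.under_maximalIdeal (Localization.AtPrime q) q]
  have := gor_polynomial_local _ pS eq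
  exact gor_of_ringEquiv (R := Localization.AtPrime pS) (S := Localization.AtPrime p)
    (IsLocalization.algEquiv p.primeCompl
      (Localization.AtPrime pS) (Localization.AtPrime p)).toRingEquiv

/-- polynomial rings in finitely many variables over a Gorenstein ring are Gorenstein -/
theorem gorRing_mvPolynomial (R : Type u) [CommRing R] [LocCoh.IsGorensteinRing R]
    (ι : Type u) [Finite ι] : LocCoh.IsGorensteinRing (MvPolynomial ι R) := by
  induction ι using Finite.induction_empty_option with
  | of_equiv e H => exact gorRing_of_ringEquiv (MvPolynomial.renameEquiv _ e).toRingEquiv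
  | h_empty => exact gorRing_of_ringEquiv (MvPolynomial.isEmptyRingEquiv R _).symm
  | @h_option α _ IH =>
    haveI := IH
    haveI := gorRing_polynomial (MvPolynomial α R)
    exact gorRing_of_ringEquiv (MvPolynomial.optionEquivLeft R α).toRingEquiv.symm

end Poly

end Groth.Agent.Lib.Helper85.GorRing
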