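import Groth.Agent.Lib.Helper85.CanonCM

/-!
# Local duality over a Cohen–Macaulay local ring with a canonical module
-/

open CategoryTheory TensorProduct
open scoped Pointwise

namespace Groth.Agent.Lib.Helper85.Canon

open Groth.Agent.Lib.Helper92.LC IsLocalRing InjHull

universe u

section Generic

variable {R : Type u} [CommRing R]

theorem subsingleton_H_free (I : Ideal R) (j : ℕ) (h : Subsingleton (LocCoh.H I j R)) (b : ℕ) :
    Subsingleton (LocCoh.H I j (Fin b → R)) := by
  have hb := EW.tau_bijective_free (isLinFunctor_localCohomology I j) b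
  have hsub : Subsingleton ((localCohomology I j).obj (ModuleCat.of R R) ⊗[R] (Fin b → R)) := by
    refine ⟨fun s t => ?_⟩
    suffices h0 : ∀ s : (localCohomology I j).obj (ModuleCat.of R R) ⊗[R] (Fin b → R), s = 0 from
      (h0 s).trans (h0 t).symm
    intro s
    induction s using TensorProduct.induction_on with
    | zero => rfl
    | tmul y x => rw [Subsingleton.elim y 0, TensorProduct.zero_tmul]
    | add a c ha hc => rw [ha, hc, add_zero]
  exact hb.2.subsingleton

/-- factoring through a surjection -/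
theorem exists_factor {A B P : Type*} [AddCommGroup A] [Module R A] [AddCommGroup B] [Module R B]
    [AddCommGroup P] [Module R P] (g : A →ₗ[R] B) (hg : Function.Surjective g) (ψ : A →ₗ[R] P)
    (hle : LinearMap.ker g ≤ LinearMap.ker ψ) : ∃ χ : B →ₗ[R] P, χ ∘ₗ g = ψ := by
  refine ⟨((LinearMap.ker g).liftQ ψ hle) ∘ₗ (g.quotKerEquivOfSurjective hg).symm.toLinearMap, ?_⟩
  apply LinearMap.ext
  intro x
  change ((LinearMap.ker g).liftQ ψ hle) ((g.quotKerEquivOfSurjective hg).symm (g x)) = ψ x
  have : (g.quotKerEquivOfSurjective hg).symm (g x) = Submodule.Quotient.mk x := by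
    rw [LinearEquiv.symm_apply_eq]
    rfl
  rw [this]
  rfl

/-- dual of a right exact sequence -/
theorem dual_exact {A B C E : Type*} [AddCommGroup A] [Module R A] [AddCommGroup B] [Module R B]
    [AddCommGroup C] [Module R C] [AddCommGroup E] [Module R E]
    (res : C →ₗ[R] A) (d : A →ₗ[R] B) (hex : Function.Exact res d) (hs : Function.Surjective d) :
    Function.Injective (LinearMap.lcomp R E d) ∧
      ∀ l : A →ₗ[R] E, l ∈ LinearMap.range (LinearMap.lcomp R E d) ↔ l ∘ₗ res = 0 := by
  constructor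
  · intro a b hab
    apply LinearMap.ext
    intro z
    obtain ⟨z', rfl⟩ := hs z
    exact LinearMap.congr_fun hab z'
  · intro l
    constructor
    · rintro ⟨μ, rfl⟩
      apply LinearMap.ext
      intro c
      change μ (d (res c)) = 0
      rw [hex.apply_apply_eq_zero, map_zero]
    · intro h
      have hle : LinearMap.ker d ≤ LinearMap.ker l := by
        intro a ha
        obtain ⟨c, rfl⟩ := (hex a).1 ha
        exact LinearMap.congr_fun h c
      obtain ⟨χ, hχ⟩ := exists_factor d hs l hle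
      exact ⟨χ, hχ⟩

end Generic

section LES

variable {R : Type u} [CommRing R] (I : Ideal R)
  {S : ShortComplex (ModuleCat.{u} R)} (hS : S.ShortExact)

theorem δ_injective (j : ℕ) (hvan : Subsingleton ((localCohomology I j).obj S.X₂)) :
    Function.Injective (δ I j hS) := by
  rw [injective_iff_map_eq_zero]
  intro z hz
  obtain ⟨y, rfl⟩ := exact₃ I j hS z hz
  rw [Subsingleton.elim y 0, map_zero]

theorem mem_range_δ_iff (j : ℕ) (w : (localCohomology I (j + 1)).obj S.X₁) :
    w ∈ LinearMap.range (δ I j hS) ↔ Hmap I (j + 1) S.f w = 0 := by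
  constructor
  · rintro ⟨z, rfl⟩
    exact Hmap_f_δ I j hS z
  · intro hw
    exact exact₁ I j hS w hw

theorem δ_surjective (j : ℕ) (hvan : Subsingleton ((localCohomology I (j + 1)).obj S.X₂)) :
    Function.Surjective (δ I j hS) := by
  intro w
  exact exact₁ I j hS w (Subsingleton.elim _ _)

end LES

section ExtLES

variable {R : Type u} [CommRing R]
  {S : ShortComplex (ModuleCat.{u} R)} (hS : S.ShortExact) (Y : ModuleCat.{u} R)

open Abelian

/-- the connecting map `Ext^i(X₁, Y) → Ext^{i+1}(X₃, Y)` -/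
noncomputable abbrev extδ (i : ℕ) : Ext.{u} S.X₁ Y i →ₗ[R] Ext.{u} S.X₃ Y (i + 1) :=
  Ext.precompOfLinear hS.extClass R Y (add_comm 1 i)

theorem extδ_surjective [Projective S.X₂] (i : ℕ) : Function.Surjective (extδ hS Y i) := by
  intro x₃
  obtain ⟨x₁, hx₁⟩ := Ext.contravariant_sequence_exact₃ hS Y x₃
    (Ext.eq_zero_of_projective _) (add_comm 1 i)
  exact ⟨x₁, hx₁⟩

theorem extδ_injective [Projective S.X₂] (i : ℕ) : Function.Injective (extδ hS Y (i + 1)) := by
  rw [injective_iff_map_eq_zero]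
  intro x₁ hx₁
  obtain ⟨x₂, hx₂⟩ := Ext.contravariant_sequence_exact₁ hS Y x₁ (add_comm 1 (i + 1)) hx₁
  rw [← hx₂, Ext.eq_zero_of_projective x₂, Ext.comp_zero]

/-- the connecting map `Hom(X₁, Y) → Ext^1(X₃, Y)` -/
noncomputable def extδ₀ : (S.X₁ →ₗ[R] Y) →ₗ[R] Ext.{u} S.X₃ Y 1 :=
  extδ hS Y 0 ∘ₗ (Ext.linearEquiv₀ (R := R)).symm.toLinearMap ∘ₗ
    (ModuleCat.homLinearEquiv (S := R)).symm.toLinearMap

theorem extδ₀_apply (ψ : S.X₁ →ₗ[R] Y) :
    extδ₀ hS Y ψ = hS.extClass.comp (Ext.mk₀ (ModuleCat.ofHom ψ)) (add_comm 1 0) := rfl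

theorem extδ₀_surjective [Projective S.X₂] : Function.Surjective (extδ₀ hS Y) := by
  intro x₃
  obtain ⟨x₁, hx₁⟩ := extδ_surjective hS Y 0 x₃
  obtain ⟨φ, rfl⟩ := (Ext.mk₀_bijective _ _).2 x₁
  exact ⟨φ.hom, hx₁⟩

theorem extδ₀_exact :
    Function.Exact (LinearMap.lcomp R Y S.f.hom) (extδ₀ hS Y) := by
  intro ψ
  constructor
  · intro hψ
    rw [extδ₀_apply] at hψ
    obtain ⟨x₂, hx₂⟩ := Ext.contravariant_sequence_exact₁ hS Y _ (add_comm 1 0) hψ
    obtain ⟨χ, rfl⟩ := (Ext.mk₀_bijective _ _).2 x₂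
    rw [Ext.mk₀_comp_mk₀] at hx₂
    have := (Ext.mk₀_bijective _ _).1 hx₂
    refine ⟨χ.hom, ?_⟩
    have h2 := congrArg ModuleCat.Hom.hom this
    exact h2
  · rintro ⟨χ, rfl⟩
    rw [extδ₀_apply]
    have : ModuleCat.ofHom ((LinearMap.lcomp R Y S.f.hom) χ) = S.f ≫ ModuleCat.ofHom χ := rfl
    rw [this, ← Ext.mk₀_comp_mk₀]
    exact hS.extClass_comp_assoc _

end ExtLES

section Duality

variable {R : Type u} [CommRing R] [IsNoetherianRing R] [IsLocalRing R]
  {E : Type u} [AddCommGroup E] [Module R E] [Module.Injective R E]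
  (K : Type u) [AddCommGroup K] [Module R K]

open Abelian

/-- local duality, degree one -/
theorem duality_one (j : ℕ) (hcd : LocCoh.CdLE R (maximalIdeal R) (j + 1))
    (hR : Subsingleton (LocCoh.H (maximalIdeal R) j R))
    (eK : (K →ₗ[R] E) ≃ₗ[R] LocCoh.H (maximalIdeal R) (j + 1) R)
    (M : Type u) [AddCommGroup M] [Module R M] [Module.Finite R M] :
    Nonempty (LocCoh.H (maximalIdeal R) j M ≃ₗ[R]
      (Ext.{u} (ModuleCat.of R M) (ModuleCat.of R K) 1 →ₗ[R] E)) := by
  obtain ⟨b, p, hp⟩ := Module.Finite.exists_fin' R M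
  have hS := LinearMap.shortExact_shortComplexKer hp
  have hvanF : Subsingleton ((localCohomology (maximalIdeal R) j).obj p.shortComplexKer.X₂) :=
    subsingleton_H_free (maximalIdeal R) j hR b
  haveI : Projective p.shortComplexKer.X₂ :=
    inferInstanceAs (Projective (ModuleCat.of R (Fin b → R)))
  haveI : Module.Finite R p.shortComplexKer.X₁ :=
    inferInstanceAs (Module.Finite R (LinearMap.ker p))
  haveI : Module.Finite R p.shortComplexKer.X₂ :=
    inferInstanceAs (Module.Finite R (Fin b → R))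
  obtain ⟨hα, hαr⟩ := dual_exact (E := E) (LinearMap.lcomp R (ModuleCat.of R K) p.shortComplexKer.f.hom)
    (extδ₀ hS (ModuleCat.of R K)) (extδ₀_exact hS _) (extδ₀_surjective hS _)
  have hβ := δ_injective (maximalIdeal R) hS j hvanF
  let e := (theta (maximalIdeal R) (j + 1) hcd K E eK p.shortComplexKer.X₁).symm
  refine ⟨(equivOfInjections (LinearMap.lcomp R E (extδ₀ hS (ModuleCat.of R K)))
    (δ (maximalIdeal R) j hS) e hα hβ ?_).symm⟩
  intro l
  rw [hαr, mem_range_δ_iff]
  have key : ∀ ψ : (Fin b → R) →ₗ[R] K,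
      theta (maximalIdeal R) (j + 1) hcd K E eK p.shortComplexKer.X₂
        (Hmap (maximalIdeal R) (j + 1) p.shortComplexKer.f (e l)) ψ
      = l (ψ ∘ₗ p.shortComplexKer.f.hom) := by
    intro ψ
    rw [theta_naturality]
    have : theta (maximalIdeal R) (j + 1) hcd K E eK p.shortComplexKer.X₁ (e l) = l :=
      LinearEquiv.apply_symm_apply _ l
    rw [this]
  constructor
  · intro h
    apply (theta (maximalIdeal R) (j + 1) hcd K E eK p.shortComplexKer.X₂).injective
    rw [map_zero]
    apply LinearMap.ext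
    intro ψ
    rw [key]
    exact LinearMap.congr_fun h ψ
  · intro h
    apply LinearMap.ext
    intro ψ
    have := key ψ
    rw [h, map_zero] at this
    exact this.symm

/-- local duality over a ring with `H^j_m(R) = 0` for `j < n`, `cd ≤ n` and a canonical module -/
theorem duality (n : ℕ) (hcd : LocCoh.CdLE R (maximalIdeal R) n)
    (hR : ∀ j < n, Subsingleton (LocCoh.H (maximalIdeal R) j R))
    (eK : (K →ₗ[R] E) ≃ₗ[R] LocCoh.H (maximalIdeal R) n R) :
    ∀ (i j : ℕ), i + j = n → ∀ (M : Type u) [AddCommGroup M] [Module R M] [Module.Finite R M],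
    Nonempty (LocCoh.H (maximalIdeal R) j M ≃ₗ[R]
      (Ext.{u} (ModuleCat.of R M) (ModuleCat.of R K) i →ₗ[R] E)) := by
  intro i
  induction i with
  | zero =>
    intro j hj M _ _ _
    obtain rfl : j = n := by omega
    let e1 : Ext.{u} (ModuleCat.of R M) (ModuleCat.of R K) 0 ≃ₗ[R] (M →ₗ[R] K) :=
      (Ext.linearEquiv₀ (R := R)) ≪≫ₗ (ModuleCat.homLinearEquiv (S := R))
    exact ⟨theta (maximalIdeal R) j hcd K E eK (ModuleCat.of R M) ≪≫ₗ
      (LinearEquiv.congrLeft E R e1).symm⟩
  | succ i ih =>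
    intro j hj M _ _ _
    rcases i with _ | i'
    · obtain rfl : n = j + 1 := by omega
      exact duality_one K j hcd (hR j (Nat.lt_succ_self j)) eK M
    · obtain ⟨b, p, hp⟩ := Module.Finite.exists_fin' R M
      have hS := LinearMap.shortExact_shortComplexKer hp
      have hvanF : Subsingleton ((localCohomology (maximalIdeal R) j).obj p.shortComplexKer.X₂) :=
        subsingleton_H_free (maximalIdeal R) j (hR j (by omega)) b
      have hvanF' : Subsingleton
          ((localCohomology (maximalIdeal R) (j + 1)).obj p.shortComplexKer.X₂) :=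
        subsingleton_H_free (maximalIdeal R) (j + 1) (hR (j + 1) (by omega)) b
      haveI : Projective p.shortComplexKer.X₂ :=
        inferInstanceAs (Projective (ModuleCat.of R (Fin b → R)))
      obtain ⟨e1⟩ := ih (j + 1) (by omega) (LinearMap.ker p)
      let eδ := LinearEquiv.ofBijective (δ (maximalIdeal R) j hS)
        ⟨δ_injective (maximalIdeal R) hS j hvanF, δ_surjective (maximalIdeal R) hS j hvanF'⟩
      let eD := LinearEquiv.ofBijective (extδ hS (ModuleCat.of R K) (i' + 1))
        ⟨extδ_injective hS _ i', extδ_surjective hS _ (i' + 1)⟩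
      exact ⟨eδ ≪≫ₗ e1 ≪≫ₗ (LinearEquiv.congrLeft E R eD)⟩

end Duality

end Groth.Agent.Lib.Helper85.Canon
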