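import Mathlib.RingTheory.Flat.Equalizer
import Mathlib.RingTheory.Flat.Tensor
import Mathlib.LinearAlgebra.TensorProduct.Prod
import Mathlib.RingTheory.Flat.FaithfullyFlat.Algebra
import Mathlib.RingTheory.Spectrum.Prime.Topology

set_option autoImplicit false

namespace Groth.Agent.Lib.Helper85

open TensorProduct

universe u v w

theorem flat_prod (R : Type u) [CommRing R] (M : Type v) (N : Type w)
    [AddCommGroup M] [AddCommGroup N] [Module R M] [Module R N]
    [Module.Flat R M] [Module.Flat R N] : Module.Flat R (M × N) := by
  rw [Module.Flat.iff_rTensor_injective']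
  intro I
  have hM := (Module.Flat.iff_rTensor_injective' (R := R) (M := M)).mp inferInstance I
  have hN := (Module.Flat.iff_rTensor_injective' (R := R) (M := N)).mp inferInstance I
  have key : (TensorProduct.prodRight R R R M N).toLinearMap ∘ₗ (LinearMap.rTensor (M × N) I.subtype)
      = (LinearMap.prodMap (LinearMap.rTensor M I.subtype) (LinearMap.rTensor N I.subtype)) ∘ₗ
        (TensorProduct.prodRight R R I M N).toLinearMap := by
    apply TensorProduct.ext'
    intro i x
    simp
  have h2 : Function.Injective ((LinearMap.prodMap (LinearMap.rTensor M I.subtype)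
      (LinearMap.rTensor N I.subtype)) ∘ₗ (TensorProduct.prodRight R R I M N).toLinearMap) := by
    rw [LinearMap.coe_comp]
    apply Function.Injective.comp
    · rw [LinearMap.coe_prodMap]
      exact Function.Injective.prodMap hM hN
    · exact (TensorProduct.prodRight R R I M N).injective
  rw [← key, LinearMap.coe_comp] at h2
  exact Function.Injective.of_comp h2

theorem flat_of_exact_of_flat {R : Type u} [CommRing R] {K F Q : Type*}
    [AddCommGroup K] [AddCommGroup F] [AddCommGroup Q] [Module R K] [Module R F] [Module R Q]
    [Module.Flat R F] [Module.Flat R Q]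
    (g : K →ₗ[R] F) (f : F →ₗ[R] Q) (hg : Function.Injective g) (hf : Function.Surjective f)
    (H : Function.Exact g f) : Module.Flat R K := by
  rw [Module.Flat.iff_rTensor_injective']
  intro I
  have h1 : Function.Injective (g.lTensor I) :=
    LinearMap.lTensor_injective_of_exact_of_flat f hf g hg H I
  have h2 : Function.Injective (LinearMap.rTensor F I.subtype) :=
    (Module.Flat.iff_rTensor_injective' (R := R) (M := F)).mp inferInstance I
  have key : (LinearMap.rTensor F I.subtype) ∘ₗ (g.lTensor I) =
      (g.lTensor R) ∘ₗ (LinearMap.rTensor K I.subtype) := by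
    rw [LinearMap.rTensor_comp_lTensor, LinearMap.lTensor_comp_rTensor]
  have h3 : Function.Injective ((g.lTensor R) ∘ₗ (LinearMap.rTensor K I.subtype)) := by
    rw [← key, LinearMap.coe_comp]
    exact h2.comp h1
  rw [LinearMap.coe_comp] at h3
  exact Function.Injective.of_comp h3

theorem faithfullyFlat_of_finite_flat_injective (B : Type u) (D : Type v) [CommRing B] [CommRing D] [Algebra B D]
    [Module.Finite B D] [Module.Flat B D] (hinj : Function.Injective (algebraMap B D)) :
    Module.FaithfullyFlat B D := by
  have : FaithfulSMul B D := (faithfulSMul_iff_algebraMap_injective B D).mpr hinj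
  exact Module.FaithfullyFlat.of_comap_surjective (Algebra.IsIntegral.comap_surjective B D)

theorem lTensor_injective_of_faithfullyFlat (R : Type u) (B : Type v) (D : Type w) (N : Type*)
    [CommRing R] [CommRing B] [CommRing D]
    [Algebra R B] [Algebra B D] [Algebra R D] [IsScalarTower R B D] [Module.FaithfullyFlat B D]
    [AddCommGroup N] [Module R N] :
    Function.Injective (LinearMap.lTensor N (IsScalarTower.toAlgHom R B D).toLinearMap) := by
  have h1 : Function.Injective (TensorProduct.mk B D (B ⊗[R] N) 1) :=
    Module.FaithfullyFlat.tensorProduct_mk_injective (B ⊗[R] N)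
  have h2 : Function.Injective ((TensorProduct.AlgebraTensorModule.cancelBaseChange R B B D N).toLinearMap ∘ₗ
      (TensorProduct.mk B D (B ⊗[R] N) 1)) := by
    rw [LinearMap.coe_comp]
    exact (TensorProduct.AlgebraTensorModule.cancelBaseChange R B B D N).injective.comp h1
  have h3 : (((TensorProduct.AlgebraTensorModule.cancelBaseChange R B B D N).toLinearMap ∘ₗ
      (TensorProduct.mk B D (B ⊗[R] N) 1)).restrictScalars R) =
      LinearMap.rTensor N (IsScalarTower.toAlgHom R B D).toLinearMap := by
    apply TensorProduct.ext'
    intro b n
    simp [Algebra.smul_def]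
  have h4 : Function.Injective (LinearMap.rTensor N (IsScalarTower.toAlgHom R B D).toLinearMap) := by
    rw [← h3]
    exact h2
  rw [← LinearMap.comm_comp_rTensor_comp_comm_eq]
  simp only [LinearMap.coe_comp, LinearEquiv.coe_coe, EquivLike.comp_injective, EquivLike.injective_comp]
  exact h4

end Groth.Agent.Lib.Helper85
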