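import Mathlib
import Groth.Prelude.Def_ResDeg
import Groth.Agent.Lib.Helper67.FiberStalk

set_option autoImplicit false
set_option linter.style.haveILetI false
universe u
open CategoryTheory CategoryTheory.Limits AlgebraicGeometry

namespace Groth.Agent.Lib.Helper85.Cyc1941GD

theorem nonempty_stalk_fiber_ringEquiv {X S : Scheme.{u}} (f : X ⟶ S) (s : S) (z : ↥(f.fiber s)) :
    Nonempty ((f.fiber s).presheaf.stalk z ≃+*
      Groth.Agent.Lib.Helper67.FiberStalk.Q f (f.fiberι s z)) := by
  have hs : f (f.fiberι s z) = s := by
    have := Scheme.Hom.range_fiberι f s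
    have hz : f.fiberι s z ∈ Set.range (f.fiberι s) := ⟨z, rfl⟩
    rw [this] at hz
    exact hz
  generalize hx : f.fiberι s z = x at hs ⊢
  subst hs
  exact ⟨Groth.Agent.Lib.Helper67.FiberStalk.stalkEquiv f x z hx⟩

theorem length_quotient_self {R : Type u} [CommRing R] (I : Ideal R) :
    Module.length R (R ⧸ I) = Module.length (R ⧸ I) (R ⧸ I) :=
  Module.length_eq_of_surjective (S := R) (R := R ⧸ I) (M := R ⧸ I) Ideal.Quotient.mk_surjective

theorem length_self_of_ringEquiv {R R' : Type u} [CommRing R] [CommRing R'] (e : R ≃+* R') :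
    Module.length R R = Module.length R' R' := by
  letI : Algebra R R' := e.toRingHom.toAlgebra
  have h1 : Module.length R R' = Module.length R' R' :=
    Module.length_eq_of_surjective (S := R) (R := R') (M := R') e.surjective
  rw [← h1]
  let l : R ≃ₗ[R] R' :=
    { e.toAddEquiv with
      map_smul' := fun r x => by
        change e (r * x) = e r * e x
        exact map_mul e r x }
  exact l.length_eq

end Groth.Agent.Lib.Helper85.Cyc1941GD
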