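import Groth.Agent.Lib.Helper85.ZClosedMain

set_option autoImplicit false
universe u

namespace Groth.Agent.Lib.Helper85.ZClosed

open AlgebraicGeometry StructureSheaf TopologicalSpace Opposite CategoryTheory
open Groth.Agent.Lib.Helper48

variable {A : Type u} [CommRing A] {M : Type u} [AddCommGroup M] [Module A M]

instance instIsPrimeTop (x : PrimeSpectrum.Top A) : (PrimeSpectrum.asIdeal (R := A) x).IsPrime :=
  PrimeSpectrum.isPrime (R := A) x

/-- local representation of a section as one fraction on a basic open neighbourhood. -/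
theorem exists_fraction (U : Opens (PrimeSpectrum.Top A)) (s : Sec A M U) (x : PrimeSpectrum A)
    (hx : x ∈ U) : ∃ (g : A) (f : M), g ∉ x.asIdeal ∧
      (∀ y : PrimeSpectrum A, g ∉ y.asIdeal → y ∈ U) ∧
      ∀ (y : U) (hy : g ∉ y.1.asIdeal), s.1 y = LocalizedModule.mk f ⟨g, hy⟩ := by
  obtain ⟨g, hxg, hgU, f, hf⟩ := exists_const U s x hx
  refine ⟨g, f, hxg, fun y hy => hgU hy, fun y hy => ?_⟩
  have := congrArg (fun t : (structureSheafInType A M).obj.obj (op (PrimeSpectrum.basicOpen g))
    => t.1 ⟨y.1, hy⟩) hf
  exact this.symm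

/-- evaluation of sections at a point, as a linear map. -/
def ev (U : Opens (PrimeSpectrum.Top A)) (x : U) :
    Sec A M U →ₗ[A] LocalizedModule (PrimeSpectrum.asIdeal (R := A) x.1).primeCompl M where
  toFun s := s.1 x
  map_add' _ _ := rfl
  map_smul' _ _ := rfl

theorem units_act (x : PrimeSpectrum A) (t : x.asIdeal.primeCompl) :
    IsUnit (algebraMap A (Module.End A (LocalizedModule x.asIdeal.primeCompl M)) t) :=
  IsLocalizedModule.map_units (LocalizedModule.mkLinearMap x.asIdeal.primeCompl M) t

/-- evaluation extended to the localization of the module of sections. -/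
noncomputable def evLoc (U : Opens (PrimeSpectrum.Top A)) (x : U) :
    LocalizedModule (PrimeSpectrum.asIdeal (R := A) x.1).primeCompl (Sec A M U) →ₗ[A]
      LocalizedModule (PrimeSpectrum.asIdeal (R := A) x.1).primeCompl M :=
  LocalizedModule.lift _ (ev U x) (units_act x.1)

theorem smul_evLoc_mk (U : Opens (PrimeSpectrum.Top A)) (x : U) (s : Sec A M U)
    (g : (PrimeSpectrum.asIdeal (R := A) x.1).primeCompl) :
    (g : A) • evLoc U x (LocalizedModule.mk s g) = s.1 x := by
  have : evLoc U x (LocalizedModule.mk s g) = evLoc U x (LocalizedModule.mk s g) := rfl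
  unfold evLoc at this ⊢
  rw [LocalizedModule.lift_mk, Module.End.algebraMap_isUnit_inv_apply_eq_iff] at this
  exact this.symm

end Groth.Agent.Lib.Helper85.ZClosed
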