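import Groth.Agent.Lib.Helper85.MatlisEnd
import Mathlib

/-!
# Finite modules with isomorphic Matlis duals are isomorphic

* `exists_surjective_of_forall_quot`: (Artin–Rees approximation) if `K/m^n K → K'/m^n K'` is
  surjective for all `n` then there is a surjection `K → K'`.
* `nonempty_equiv_of_dual_equiv`: if `Hom(K,E) ≅ Hom(K',E)` (E the injective hull of the residue
  field) then `K ≅ K'`.
-/

set_option autoImplicit false
universe u

namespace Groth.Agent.Lib.Helper85.CanonUnique

open IsLocalRing InjHull Groth.Agent.Lib.Helper85.Matlis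

section Pi

variable {R : Type u} [CommRing R] {M : Type u} [AddCommGroup M] [Module R M]

theorem mem_smul_top_pi (I : Ideal R) {a : ℕ} (y : Fin a → M)
    (h : ∀ j, y j ∈ I • (⊤ : Submodule R M)) : y ∈ I • (⊤ : Submodule R (Fin a → M)) := by
  have hy : y = ∑ j, LinearMap.single R (fun _ => M) j (y j) := by
    ext i
    simp [Finset.sum_apply, Pi.single_apply]
  rw [hy]
  refine Submodule.sum_mem _ fun j _ => ?_
  have h1 : (I • (⊤ : Submodule R M)).map (LinearMap.single R (fun _ => M) j) ≤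
      I • (⊤ : Submodule R (Fin a → M)) := by
    rw [Submodule.map_smul'']
    exact Submodule.smul_mono le_rfl le_top
  exact h1 (Submodule.mem_map_of_mem (h j))

theorem apply_mem_smul_top_of_mem (I : Ideal R) {a : ℕ} (y : Fin a → M)
    (h : y ∈ I • (⊤ : Submodule R (Fin a → M))) (j : Fin a) : y j ∈ I • (⊤ : Submodule R M) := by
  have h1 : (I • (⊤ : Submodule R (Fin a → M))).map (LinearMap.proj j) ≤
      I • (⊤ : Submodule R M) := by
    rw [Submodule.map_smul'']
    exact Submodule.smul_mono le_rfl le_top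
  exact h1 (Submodule.mem_map_of_mem h)

end Pi

section Approx

variable {R : Type u} [CommRing R] [IsNoetherianRing R] [IsLocalRing R]
  {K K' : Type u} [AddCommGroup K] [Module R K] [Module.Finite R K]
  [AddCommGroup K'] [Module R K'] [Module.Finite R K']

theorem exists_surjective_of_forall_quot
    (h : ∀ n : ℕ, ∃ σ : (K ⧸ (maximalIdeal R ^ n) • (⊤ : Submodule R K)) →ₗ[R]
      (K' ⧸ (maximalIdeal R ^ n) • (⊤ : Submodule R K')), Function.Surjective σ) :
    ∃ φ : K →ₗ[R] K', Function.Surjective φ := by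
  obtain ⟨b, g, hg⟩ := Module.Finite.exists_fin (R := R) (M := K)
  set π : (Fin b → R) →ₗ[R] K := Fintype.linearCombination R g with hπdef
  have hπ : Function.Surjective π := by
    rw [← LinearMap.range_eq_top, Fintype.range_linearCombination]; exact hg
  obtain ⟨a, l, hl⟩ := Submodule.fg_iff_exists_fin_generating_family.mp
    (IsNoetherian.noetherian (LinearMap.ker π))
  let B : (Fin b → K') →ₗ[R] (Fin b → R) →ₗ[R] K' := Fintype.bilinearCombination R R
  let Φ : (Fin b → K') →ₗ[R] (Fin a → K') :=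
    LinearMap.pi (fun j => (LinearMap.applyₗ (l j)).comp B)
  have hΦ : ∀ y j, Φ y j = Fintype.linearCombination R y (l j) := fun _ _ => rfl
  obtain ⟨k, hk⟩ := Ideal.exists_pow_inf_eq_pow_smul (maximalIdeal R) (LinearMap.range Φ)
  obtain ⟨σ, hσ⟩ := h (k + 1)
  have hy : ∀ i, ∃ y : K', (Submodule.Quotient.mk y :
      K' ⧸ (maximalIdeal R ^ (k + 1)) • (⊤ : Submodule R K')) =
      σ (Submodule.Quotient.mk (g i)) := fun i => Submodule.Quotient.mk_surjective _ _
  choose y hy using hy
  have hlc : ∀ r : Fin b → R, (Submodule.Quotient.mk (Fintype.linearCombination R y r) :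
      K' ⧸ (maximalIdeal R ^ (k + 1)) • (⊤ : Submodule R K')) =
      σ (Submodule.Quotient.mk (π r)) := by
    intro r
    rw [hπdef, Fintype.linearCombination_apply, Fintype.linearCombination_apply]
    rw [← Submodule.mkQ_apply, ← Submodule.mkQ_apply, map_sum, map_sum, map_sum]
    refine Finset.sum_congr rfl fun i _ => ?_
    rw [map_smul, map_smul, map_smul, Submodule.mkQ_apply, Submodule.mkQ_apply, hy]
  have hlker : ∀ j, π (l j) = 0 := by
    intro j
    have : l j ∈ LinearMap.ker π := by rw [← hl]; exact Submodule.subset_span (Set.mem_range_self j)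
    exact this
  have hΦy : Φ y ∈ (maximalIdeal R ^ (k + 1)) • (⊤ : Submodule R (Fin a → K')) := by
    apply mem_smul_top_pi
    intro j
    rw [hΦ, ← Submodule.Quotient.mk_eq_zero, hlc, hlker, Submodule.Quotient.mk_zero, map_zero]
  have hAR : Φ y ∈ maximalIdeal R • (LinearMap.range Φ) := by
    have h1 : Φ y ∈ maximalIdeal R ^ (k + 1) • (⊤ : Submodule R (Fin a → K')) ⊓ LinearMap.range Φ :=
      ⟨hΦy, LinearMap.mem_range_self _ _⟩
    rw [hk (k + 1) (Nat.le_succ k)] at h1
    have h2 : k + 1 - k = 1 := by omega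
    rw [h2, pow_one] at h1
    exact Submodule.smul_mono le_rfl inf_le_right h1
  rw [LinearMap.range_eq_map, ← Submodule.map_smul''] at hAR
  obtain ⟨z, hz, hzy⟩ := hAR
  have hzi : ∀ i, z i ∈ maximalIdeal R • (⊤ : Submodule R K') :=
    apply_mem_smul_top_of_mem _ z hz
  -- the map
  have hle : LinearMap.ker π ≤ LinearMap.ker (Fintype.linearCombination R (y - z)) := by
    rw [← hl, Submodule.span_le]
    rintro _ ⟨j, rfl⟩
    rw [SetLike.mem_coe, LinearMap.mem_ker, ← hΦ, map_sub, hzy, sub_self, Pi.zero_apply]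
  let φ : K →ₗ[R] K' := ((LinearMap.ker π).liftQ (Fintype.linearCombination R (y - z)) hle).comp
    (π.quotKerEquivOfSurjective hπ).symm.toLinearMap
  have hφ : ∀ r : Fin b → R, φ (π r) = Fintype.linearCombination R (y - z) r := by
    intro r
    have h1 : (π.quotKerEquivOfSurjective hπ).symm (π r) = Submodule.Quotient.mk r := by
      rw [LinearEquiv.symm_apply_eq]; rfl
    change (LinearMap.ker π).liftQ _ hle ((π.quotKerEquivOfSurjective hπ).symm (π r)) = _
    rw [h1]; rfl
  refine ⟨φ, ?_⟩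
  rw [← LinearMap.range_eq_top, eq_top_iff]
  refine Submodule.le_of_le_smul_of_le_jacobson_bot (I := maximalIdeal R) Module.Finite.fg_top
    (by rw [IsLocalRing.jacobson_eq_maximalIdeal ⊥ bot_ne_top]) ?_
  intro v _
  obtain ⟨u, hu⟩ := hσ (Submodule.Quotient.mk v)
  obtain ⟨u0, rfl⟩ := Submodule.Quotient.mk_surjective _ u
  obtain ⟨r, rfl⟩ := hπ u0
  rw [← hlc, Submodule.Quotient.eq] at hu
  have h1 : Fintype.linearCombination R y r - v ∈ maximalIdeal R • (⊤ : Submodule R K') :=
    Submodule.smul_mono_left (Ideal.pow_le_self (Nat.succ_ne_zero k)) hu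
  have h2 : Fintype.linearCombination R z r ∈ maximalIdeal R • (⊤ : Submodule R K') := by
    rw [Fintype.linearCombination_apply]
    exact Submodule.sum_mem _ fun i _ => Submodule.smul_mem _ _ (hzi i)
  have h3 : v = φ (π r) + (Fintype.linearCombination R z r -
      (Fintype.linearCombination R y r - v)) := by
    rw [hφ]
    have : Fintype.linearCombination R (y - z) r =
        Fintype.linearCombination R y r - Fintype.linearCombination R z r := by
      simp only [Fintype.linearCombination_apply, Pi.sub_apply, smul_sub, Finset.sum_sub_distrib]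
    rw [this]; abel
  rw [h3]
  exact Submodule.add_mem_sup (LinearMap.mem_range_self _ _) (Submodule.sub_mem _ h2 h1)

end Approx

section Dual

variable {R : Type u} [CommRing R] {E : Type u} [AddCommGroup E] [Module R E]
  {K K' : Type u} [AddCommGroup K] [Module R K] [AddCommGroup K'] [Module R K']

theorem smul_top_le_ker (θ : (K →ₗ[R] E) →ₗ[R] (K' →ₗ[R] E)) (I : Ideal R)
    (h : (K ⧸ I • (⊤ : Submodule R K)) →ₗ[R] E) :
    I • (⊤ : Submodule R K') ≤ LinearMap.ker (θ (h ∘ₗ Submodule.mkQ _)) := by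
  rw [Submodule.smul_le]
  intro a ha x _
  rw [LinearMap.mem_ker, map_smul, ← LinearMap.smul_apply, ← map_smul]
  have h0 : a • (h ∘ₗ Submodule.mkQ (I • (⊤ : Submodule R K))) = 0 := by
    ext x'
    rw [LinearMap.smul_apply, LinearMap.comp_apply, ← map_smul, ← map_smul, Submodule.mkQ_apply,
      (Submodule.Quotient.mk_eq_zero _).mpr (Submodule.smul_mem_smul ha Submodule.mem_top),
      map_zero, LinearMap.zero_apply]
  rw [h0, map_zero, LinearMap.zero_apply]

/-- map on duals of quotients induced by a map of duals -/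
noncomputable def dualQuotMap (θ : (K →ₗ[R] E) →ₗ[R] (K' →ₗ[R] E)) (I : Ideal R) :
    ((K ⧸ I • (⊤ : Submodule R K)) →ₗ[R] E) →ₗ[R] ((K' ⧸ I • (⊤ : Submodule R K')) →ₗ[R] E) where
  toFun h := (I • (⊤ : Submodule R K')).liftQ (θ (h ∘ₗ Submodule.mkQ _)) (smul_top_le_ker θ I h)
  map_add' h1 h2 := by
    apply Submodule.linearMap_qext
    ext x
    simp [LinearMap.add_comp]
  map_smul' c h1 := by
    apply Submodule.linearMap_qext
    ext x
    simp [LinearMap.smul_comp]

theorem dualQuotMap_comp_mkQ (θ : (K →ₗ[R] E) →ₗ[R] (K' →ₗ[R] E)) (I : Ideal R)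
    (h : (K ⧸ I • (⊤ : Submodule R K)) →ₗ[R] E) :
    (dualQuotMap θ I h) ∘ₗ Submodule.mkQ _ = θ (h ∘ₗ Submodule.mkQ _) :=
  Submodule.liftQ_mkQ _ _ _

/-- equivalence on duals of quotients induced by an equivalence of duals -/
noncomputable def dualQuotEquiv (θ : (K →ₗ[R] E) ≃ₗ[R] (K' →ₗ[R] E)) (I : Ideal R) :
    ((K ⧸ I • (⊤ : Submodule R K)) →ₗ[R] E) ≃ₗ[R] ((K' ⧸ I • (⊤ : Submodule R K')) →ₗ[R] E) :=
  LinearEquiv.ofLinear (dualQuotMap θ.toLinearMap I) (dualQuotMap θ.symm.toLinearMap I)
    (by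
      ext h' : 1
      apply Submodule.linearMap_qext
      rw [LinearMap.comp_apply, dualQuotMap_comp_mkQ, dualQuotMap_comp_mkQ]
      simp)
    (by
      ext h' : 1
      apply Submodule.linearMap_qext
      rw [LinearMap.comp_apply, dualQuotMap_comp_mkQ, dualQuotMap_comp_mkQ]
      simp)

end Dual

section Main

variable {R : Type u} [CommRing R] [IsNoetherianRing R] [IsLocalRing R]
  {E : Type u} [AddCommGroup E] [Module R E] {f : ResidueField R →ₗ[R] E}
  {K K' : Type u} [AddCommGroup K] [Module R K] [Module.Finite R K]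
  [AddCommGroup K'] [Module R K'] [Module.Finite R K']

theorem isFiniteLength_quot_pow_smul (K : Type u) [AddCommGroup K] [Module R K] [Module.Finite R K]
    (n : ℕ) : IsFiniteLength R (K ⧸ (maximalIdeal R ^ n) • (⊤ : Submodule R K)) := by
  have h0 := Groth.Agent.Lib.Helper85.Matlis.isFiniteLength_quot_pow (R := R) n
  have hA : IsArtinian R (R ⧸ maximalIdeal R ^ n) :=
    (isFiniteLength_iff_isNoetherian_isArtinian.mp h0).2
  have : IsArtinianRing (R ⧸ maximalIdeal R ^ n) := by
    have := isArtinian_of_tower R hA (S := R ⧸ maximalIdeal R ^ n)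
    exact this
  have : IsArtinian R (K ⧸ (maximalIdeal R ^ n) • (⊤ : Submodule R K)) :=
    isArtinian_of_surjective_algebraMap (R := R ⧸ maximalIdeal R ^ n)
      (M := K ⧸ (maximalIdeal R ^ n) • (⊤ : Submodule R K)) Ideal.Quotient.mk_surjective
  exact isFiniteLength_iff_isNoetherian_isArtinian.mpr ⟨inferInstance, inferInstance⟩

theorem nonempty_quot_equiv (hf : IsInjectiveHull f) (θ : (K →ₗ[R] E) ≃ₗ[R] (K' →ₗ[R] E)) (n : ℕ) :
    Nonempty ((K ⧸ (maximalIdeal R ^ n) • (⊤ : Submodule R K)) ≃ₗ[R]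
      (K' ⧸ (maximalIdeal R ^ n) • (⊤ : Submodule R K'))) := by
  let e1 := LinearEquiv.ofBijective _
    (applyₗ_bijective_of_isFiniteLength hf _ (isFiniteLength_quot_pow_smul K n))
  let e2 := LinearEquiv.ofBijective _
    (applyₗ_bijective_of_isFiniteLength hf _ (isFiniteLength_quot_pow_smul K' n))
  let δ := dualQuotEquiv θ (maximalIdeal R ^ n)
  exact ⟨e1 ≪≫ₗ (LinearEquiv.congrLeft E R δ) ≪≫ₗ e2.symm⟩

/-- Finite modules over a Noetherian local ring with isomorphic Matlis duals are isomorphic. -/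
theorem nonempty_equiv_of_dual_equiv (hf : IsInjectiveHull f)
    (θ : (K →ₗ[R] E) ≃ₗ[R] (K' →ₗ[R] E)) : Nonempty (K ≃ₗ[R] K') := by
  obtain ⟨φ, hφ⟩ := exists_surjective_of_forall_quot (K := K) (K' := K') (fun n => by
    obtain ⟨e⟩ := nonempty_quot_equiv hf θ n
    exact ⟨e.toLinearMap, e.surjective⟩)
  obtain ⟨ψ, hψ⟩ := exists_surjective_of_forall_quot (K := K') (K' := K) (fun n => by
    obtain ⟨e⟩ := nonempty_quot_equiv hf θ.symm n
    exact ⟨e.toLinearMap, e.surjective⟩)
  have hinj : Function.Injective (ψ ∘ₗ φ) :=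
    IsNoetherian.injective_of_surjective_endomorphism (ψ ∘ₗ φ) (hψ.comp hφ)
  have hφinj : Function.Injective φ := by
    intro x y hxy
    apply hinj
    change ψ (φ x) = ψ (φ y)
    rw [hxy]
  exact ⟨LinearEquiv.ofBijective φ ⟨hφinj, hφ⟩⟩

end Main

end Groth.Agent.Lib.Helper85.CanonUnique
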