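import Groth.Agent.Lib.Helper85.MatlisArt
import Mathlib.RingTheory.Finiteness.Cardinality
import Mathlib.RingTheory.Nakayama

set_option autoImplicit false
universe u
namespace Groth.Agent.Lib.Helper85.Matlis

open InjHull IsLocalRing

section Dual

variable {R : Type u} [CommRing R] [IsLocalRing R] {E : Type u} [AddCommGroup E] [Module R E]
  {f : ResidueField R →ₗ[R] E}

variable [IsNoetherianRing R]

theorem end_eq_smul [IsAdicComplete (maximalIdeal R) R] (hf : IsInjectiveHull f)
    (φ : Module.End R E) : ∃ r : R, ∀ e, φ e = r • e := by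
  obtain ⟨r, hr⟩ := AdicCompletion.of_surjective (maximalIdeal R) R (Theta hf φ)
  refine ⟨r, fun e => ?_⟩
  have h1 : Theta hf (algebraMap R _ r) = Theta hf φ := by
    rw [Theta_algebraMap, AdicCompletion.algebraMap_apply, Algebra.algebraMap_self,
      RingHom.id_apply, hr]
  have h2 := Theta_injective hf h1
  rw [← h2]
  rfl

/-- the dual of a finite module is Artinian -/
theorem isArtinian_dual (hf : IsInjectiveHull f) (M : Type u) [AddCommGroup M] [Module R M]
    [Module.Finite R M] : IsArtinian R (M →ₗ[R] E) := by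
  have hE : IsArtinian R E := isArtinian_hull hf
  obtain ⟨n, π, hπ⟩ := Module.Finite.exists_fin' R M
  let e : (Fin n → E) ≃ₗ[R] ((Fin n → R) →ₗ[R] E) := (Pi.basisFun R (Fin n)).constr R
  have h1 : IsArtinian R ((Fin n → R) →ₗ[R] E) := (LinearEquiv.isArtinian_iff e).mp inferInstance
  let α : (M →ₗ[R] E) →ₗ[R] ((Fin n → R) →ₗ[R] E) := LinearMap.lcomp R E π
  have hα : Function.Injective α := by
    intro φ ψ hφψ
    apply LinearMap.ext
    intro y
    obtain ⟨y, rfl⟩ := hπ y
    exact LinearMap.congr_fun hφψ y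
  exact isArtinian_of_injective α hα

theorem applyₗ_surjective_pi [IsAdicComplete (maximalIdeal R) R] (hf : IsInjectiveHull f) (n : ℕ) :
    Function.Surjective
      (LinearMap.applyₗ : (Fin n → R) →ₗ[R] ((Fin n → R) →ₗ[R] E) →ₗ[R] E) := by
  classical
  intro ξ
  let ξi : Fin n → Module.End R E := fun i =>
    ξ ∘ₗ (LinearMap.lcomp R E (LinearMap.proj i : (Fin n → R) →ₗ[R] R)) ∘ₗ
      (LinearMap.ringLmapEquivSelf R R E).symm.toLinearMap
  choose r hr using fun i => end_eq_smul hf (ξi i)
  refine ⟨r, ?_⟩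
  apply LinearMap.ext
  intro φ
  change φ r = ξ φ
  have hdec : φ = ∑ i, (LinearMap.lcomp R E (LinearMap.proj i : (Fin n → R) →ₗ[R] R))
      ((LinearMap.ringLmapEquivSelf R R E).symm (φ fun j => if i = j then 1 else 0)) := by
    apply LinearMap.ext
    intro v
    rw [LinearMap.sum_apply, LinearMap.pi_apply_eq_sum_univ φ v]
    apply Finset.sum_congr rfl
    intro i _
    simp [LinearMap.ringLmapEquivSelf]
  conv_rhs => rw [hdec, map_sum]
  rw [LinearMap.pi_apply_eq_sum_univ φ r]
  apply Finset.sum_congr rfl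
  intro i _
  rw [← hr i]
  rfl

theorem applyₗ_bijective_of_finite [IsAdicComplete (maximalIdeal R) R] (hf : IsInjectiveHull f)
    (M : Type u) [AddCommGroup M] [Module R M] [Module.Finite R M] :
    Function.Bijective (LinearMap.applyₗ : M →ₗ[R] (M →ₗ[R] E) →ₗ[R] E) := by
  refine ⟨applyₗ_injective hf M, ?_⟩
  have := hf.isInjective
  obtain ⟨n, π, hπ⟩ := Module.Finite.exists_fin' R M
  let α : (M →ₗ[R] E) →ₗ[R] ((Fin n → R) →ₗ[R] E) := LinearMap.lcomp R E π
  have hα : Function.Injective α := by
    intro φ ψ hφψ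
    apply LinearMap.ext
    intro y
    obtain ⟨y, rfl⟩ := hπ y
    exact LinearMap.congr_fun hφψ y
  intro ξ
  obtain ⟨ξ', hξ'⟩ := Module.Injective.extension_property R E _ _ α hα ξ
  obtain ⟨y, hy⟩ := applyₗ_surjective_pi hf n ξ'
  refine ⟨π y, ?_⟩
  apply LinearMap.ext
  intro φ
  change φ (π y) = ξ φ
  rw [← hξ']
  have := LinearMap.congr_fun hy (α φ)
  exact this

theorem isPowerTorsion_of_isArtinian (M : Type u) [AddCommGroup M] [Module R M] [IsArtinian R M] :
    LocCoh.IsPowerTorsion (maximalIdeal R) M := by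
  intro x
  let F : ℕ →o (Submodule R M)ᵒᵈ :=
    { toFun := fun n => OrderDual.toDual (maximalIdeal R ^ n • Submodule.span R {x})
      monotone' := by
        intro a b hab
        change maximalIdeal R ^ b • Submodule.span R {x} ≤ maximalIdeal R ^ a • Submodule.span R {x}
        exact Submodule.smul_mono_left (Ideal.pow_le_pow_right hab) }
  obtain ⟨n, hn⟩ := IsArtinian.monotone_stabilizes F
  refine ⟨n, ?_⟩
  set N := maximalIdeal R ^ n • Submodule.span R {x} with hNdef
  have h1 : N = maximalIdeal R • N := by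
    have := hn (n + 1) (Nat.le_succ n)
    have h2 : N = maximalIdeal R ^ (n + 1) • Submodule.span R {x} := congrArg OrderDual.ofDual this
    conv_lhs => rw [h2]
    rw [hNdef, ← mul_smul, ← pow_succ']
  have hle : N ≤ Submodule.span R {x} := Submodule.smul_le_right
  have hfg : N.FG := by
    have : IsNoetherian R (Submodule.span R {x}) := isNoetherian_span_of_finite R (Set.finite_singleton x)
    have : IsNoetherian R N := isNoetherian_of_le hle
    exact Module.Finite.iff_fg.mp inferInstance
  have h0 : N = ⊥ := Submodule.eq_bot_of_le_smul_of_le_jacobson_bot (maximalIdeal R) N hfg h1.le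
    (IsLocalRing.maximalIdeal_le_jacobson _)
  intro a ha
  have : a • x ∈ N := Submodule.smul_mem_smul ha (Submodule.mem_span_singleton_self x)
  rw [h0, Submodule.mem_bot] at this
  exact this

omit [IsNoetherianRing R] in
theorem finite_socle_of_isArtinian (M : Type u) [AddCommGroup M] [Module R M] [IsArtinian R M] :
    Module.Finite (R ⧸ maximalIdeal R) ↥(LocCoh.torsionBy (maximalIdeal R) M) := by
  letI : Field (R ⧸ maximalIdeal R) := Ideal.Quotient.field _
  have h1 : IsArtinian (R ⧸ maximalIdeal R) ↥(LocCoh.torsionBy (maximalIdeal R) M) :=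
    isArtinian_of_tower R inferInstance
  exact (IsSemisimpleModule.finite_tfae.out 0 2).mpr h1

theorem exists_embedding_of_isArtinian (hf : IsInjectiveHull f) (M : Type u) [AddCommGroup M]
    [Module R M] [IsArtinian R M] :
    ∃ (n : ℕ) (g : M →ₗ[R] (Fin n → E)), Function.Injective g := by
  have := finite_socle_of_isArtinian (R := R) M
  exact ⟨_, exists_embedding_pi hf M (isPowerTorsion_of_isArtinian M) _ rfl⟩

variable [IsAdicComplete (maximalIdeal R) R]

theorem finite_end (hf : IsInjectiveHull f) : Module.Finite R (Module.End R E) :=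
  Module.Finite.of_surjective (Algebra.linearMap R (Module.End R E)) (fun φ => by
    obtain ⟨r, hr⟩ := end_eq_smul hf φ
    exact ⟨r, LinearMap.ext (fun e => (hr e).symm)⟩)

theorem finite_dual_pi (hf : IsInjectiveHull f) (n : ℕ) :
    Module.Finite R ((Fin n → E) →ₗ[R] E) := by
  have := finite_end hf
  exact Module.Finite.equiv (LinearMap.lsum R (fun _ : Fin n => E) R)

omit [IsNoetherianRing R] [IsAdicComplete (maximalIdeal R) R] in
theorem lcomp_surjective_of_injective (hf : IsInjectiveHull f) {M N : Type u} [AddCommGroup M]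
    [Module R M] [AddCommGroup N] [Module R N] (g : M →ₗ[R] N) (hg : Function.Injective g) :
    Function.Surjective (LinearMap.lcomp R E g) := by
  have := hf.isInjective
  intro ψ
  obtain ⟨φ, hφ⟩ := Module.Injective.extension_property R E _ _ g hg ψ
  exact ⟨φ, hφ⟩

theorem finite_dual_of_isArtinian (hf : IsInjectiveHull f) (M : Type u) [AddCommGroup M]
    [Module R M] [IsArtinian R M] : Module.Finite R (M →ₗ[R] E) := by
  obtain ⟨n, g, hg⟩ := exists_embedding_of_isArtinian hf M
  have := finite_dual_pi hf n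
  exact Module.Finite.of_surjective (LinearMap.lcomp R E g) (lcomp_surjective_of_injective hf g hg)

theorem applyₗ_surjective_piE (hf : IsInjectiveHull f) (n : ℕ) :
    Function.Surjective
      (LinearMap.applyₗ : (Fin n → E) →ₗ[R] ((Fin n → E) →ₗ[R] E) →ₗ[R] E) := by
  classical
  intro ξ
  refine ⟨fun i => ξ (LinearMap.proj i), ?_⟩
  apply LinearMap.ext
  intro φ
  change φ (fun i => ξ (LinearMap.proj i)) = ξ φ
  choose r hr using fun i => end_eq_smul hf (φ ∘ₗ LinearMap.single R (fun _ : Fin n => E) i)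
  have hφ : ∀ v : Fin n → E, φ v = ∑ i, r i • v i := by
    intro v
    conv_lhs => rw [← Finset.univ_sum_single v, map_sum]
    apply Finset.sum_congr rfl
    intro i _
    exact hr i (v i)
  have hdec : φ = ∑ i, r i • (LinearMap.proj i : (Fin n → E) →ₗ[R] E) := by
    apply LinearMap.ext
    intro v
    rw [hφ v, LinearMap.sum_apply]
    rfl
  conv_rhs => rw [hdec, map_sum]
  rw [hφ]
  apply Finset.sum_congr rfl
  intro i _
  rw [map_smul]

theorem applyₗ_bijective_of_isArtinian (hf : IsInjectiveHull f) (M : Type u) [AddCommGroup M]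
    [Module R M] [IsArtinian R M] :
    Function.Bijective (LinearMap.applyₗ : M →ₗ[R] (M →ₗ[R] E) →ₗ[R] E) := by
  refine ⟨applyₗ_injective hf M, ?_⟩
  have hE : IsArtinian R E := isArtinian_hull hf
  obtain ⟨n, g, hg⟩ := exists_embedding_of_isArtinian hf M
  obtain ⟨k, g', hg'⟩ := exists_embedding_of_isArtinian hf ((Fin n → E) ⧸ LinearMap.range g)
  let u : (Fin n → E) →ₗ[R] (Fin k → E) := g' ∘ₗ (LinearMap.range g).mkQ
  have hu : ∀ y, u y = 0 → y ∈ LinearMap.range g := by
    intro y hy
    have : (LinearMap.range g).mkQ y = 0 := hg' (hy.trans (map_zero g').symm)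
    rwa [Submodule.mkQ_apply, Submodule.Quotient.mk_eq_zero] at this
  have hug : ∀ x, u (g x) = 0 := by
    intro x
    change g' ((LinearMap.range g).mkQ (g x)) = 0
    rw [Submodule.mkQ_apply, (Submodule.Quotient.mk_eq_zero _).mpr (LinearMap.mem_range_self g x),
      map_zero]
  intro ξ
  obtain ⟨y, hy⟩ := applyₗ_surjective_piE hf n (ξ ∘ₗ LinearMap.lcomp R E g)
  have hy' : ∀ φ' : (Fin n → E) →ₗ[R] E, φ' y = ξ (φ' ∘ₗ g) := fun φ' => LinearMap.congr_fun hy φ'
  have huy : u y = 0 := by
    by_contra hne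
    obtain ⟨χ, hχ⟩ := exists_hom_apply_ne_zero hf (u y) hne
    apply hχ
    have h1 := hy' (χ ∘ₗ u)
    rw [LinearMap.comp_apply] at h1
    rw [h1]
    have : (χ ∘ₗ u) ∘ₗ g = 0 := by
      apply LinearMap.ext
      intro x
      simp only [LinearMap.comp_apply, LinearMap.zero_apply]
      rw [hug x, map_zero]
    rw [this, map_zero]
  obtain ⟨x, rfl⟩ := hu y huy
  refine ⟨x, ?_⟩
  apply LinearMap.ext
  intro φ
  obtain ⟨φ', rfl⟩ := lcomp_surjective_of_injective hf g hg φ
  change φ' (g x) = ξ (φ' ∘ₗ g)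
  exact hy' φ'

end Dual

end Groth.Agent.Lib.Helper85.Matlis
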