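import Groth.Agent.Lib.Helper85.CanonReg
import Groth.Agent.Lib.Helper85.CanonUnique
import Groth.Agent.Lib.Helper85.MatlisDual
import Groth.Agent.Lib.Helper4.GorCM

/-!
# `H^n_m(R) ≃ E` for a Gorenstein local ring

* `exists_rees`: the natural Rees map `Hom(L, M/(xs)M) → Ext^n(L, M)` for a weakly regular
  sequence `xs` of length `n`; surjective when `xs` kills `L`, injective when
  `Ext^j(L, M) = 0` for `j < n`.
* `exists_smul_of_socle`: for a Gorenstein local ring `R` of dimension `n` and a maximal regular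
  sequence `xs`, the socle of `R/(xs)` is at most one-dimensional.
* `gor_top_equiv`: `H^n_m(R) ≃ E`.
-/

open CategoryTheory
open scoped Pointwise

namespace Groth.Agent.Lib.Helper85.Canon

open Groth.Agent.Lib.Helper92.LC IsLocalRing InjHull RingTheory.Sequence

universe u

section Rees

open Abelian

variable {R : Type u} [CommRing R]

theorem ext_comp_extClass_injective {S : ShortComplex (ModuleCat.{u} R)} (hS : S.ShortExact)
    (L : ModuleCat.{u} R) (n : ℕ) (hvan : Subsingleton (Ext.{u} L S.X₂ n)) :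
    Function.Injective (fun η : Ext.{u} L S.X₃ n => η.comp hS.extClass (rfl : n + 1 = n + 1)) := by
  intro a b hab
  have h0 : (a - b).comp hS.extClass (rfl : n + 1 = n + 1) = 0 := by
    rw [sub_eq_add_neg, Ext.add_comp, Ext.neg_comp, ← sub_eq_add_neg]
    exact sub_eq_zero.2 hab
  obtain ⟨ζ, hζ⟩ := Ext.covariant_sequence_exact₃ L hS (a - b) rfl h0
  rw [Subsingleton.elim ζ 0, Ext.zero_comp] at hζ
  exact sub_eq_zero.1 hζ.symm

theorem ext_quot_subsingleton {S : ShortComplex (ModuleCat.{u} R)} (hS : S.ShortExact)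
    (L : ModuleCat.{u} R) (j : ℕ) (h1 : Subsingleton (Ext.{u} L S.X₂ j))
    (h2 : Subsingleton (Ext.{u} L S.X₁ (j + 1))) : Subsingleton (Ext.{u} L S.X₃ j) := by
  refine ⟨fun a b => ?_⟩
  suffices H : ∀ η : Ext.{u} L S.X₃ j, η = 0 from (H a).trans (H b).symm
  intro η
  obtain ⟨ζ, hζ⟩ := Ext.covariant_sequence_exact₃ L hS η rfl (Subsingleton.elim _ _)
  rw [← hζ, Subsingleton.elim ζ 0, Ext.zero_comp]

/-- the Rees map -/
theorem exists_rees : ∀ (xs : List R) (M : Type u) [AddCommGroup M] [Module R M],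
    IsWeaklyRegular M xs →
    ∃ ρ : ∀ L : ModuleCat.{u} R,
        (L ⟶ ModuleCat.of R (M ⧸ Ideal.ofList xs • (⊤ : Submodule R M))) →
          Ext.{u} L (ModuleCat.of R M) xs.length,
      (∀ (L L' : ModuleCat.{u} R) (g : L' ⟶ L)
        (φ : L ⟶ ModuleCat.of R (M ⧸ Ideal.ofList xs • (⊤ : Submodule R M))),
        ρ L' (g ≫ φ) = (Ext.mk₀ g).comp (ρ L φ) (zero_add _)) ∧
      (∀ L : ModuleCat.{u} R, (∀ x ∈ xs, ∀ l : L, x • l = 0) → Function.Surjective (ρ L)) ∧
      (∀ L : ModuleCat.{u} R,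
        (∀ j < xs.length, Subsingleton (Ext.{u} L (ModuleCat.of R M) j)) →
          Function.Injective (ρ L)) := by
  intro xs
  induction xs with
  | nil =>
    intro M _ _ _
    have hN0 : Ideal.ofList ([] : List R) • (⊤ : Submodule R M) = ⊥ := by
      rw [Ideal.ofList_nil, Submodule.bot_smul]
    let eN := (Submodule.quotEquivOfEqBot _ hN0).toModuleIso
    refine ⟨fun L φ => Ext.mk₀ (φ ≫ eN.hom), ?_, ?_, ?_⟩
    · intro L L' g φ
      change Ext.mk₀ ((g ≫ φ) ≫ eN.hom) = _
      rw [Category.assoc, Ext.mk₀_comp_mk₀]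
    · intro L _ ξ
      obtain ⟨ψ, rfl⟩ := (Ext.mk₀_bijective _ _).2 ξ
      refine ⟨ψ ≫ eN.inv, ?_⟩
      change Ext.mk₀ ((ψ ≫ eN.inv) ≫ eN.hom) = _
      rw [Category.assoc, Iso.inv_hom_id, Category.comp_id]
    · intro L _ φ φ' h
      have h1 := (Ext.mk₀_bijective _ _).1 h
      exact (cancel_mono eN.hom).1 h1
  | cons x xs ih =>
    intro M _ _ hreg
    obtain ⟨hx, hreg'⟩ := (isWeaklyRegular_cons_iff M x xs).1 hreg
    obtain ⟨ρ', hnat, hsurj, hinj⟩ := ih (QuotSMulTop x M) hreg'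
    have hS := sesSMul_shortExact M x hx
    let eN := (Submodule.quotOfListConsSMulTopEquivQuotSMulTopInner M x xs).toModuleIso
    refine ⟨fun L φ => (ρ' L (φ ≫ eN.hom)).comp hS.extClass rfl, ?_, ?_, ?_⟩
    · intro L L' g φ
      change (ρ' L' ((g ≫ φ) ≫ eN.hom)).comp hS.extClass rfl =
        (Ext.mk₀ g).comp ((ρ' L (φ ≫ eN.hom)).comp hS.extClass rfl) (zero_add _)
      rw [Category.assoc, hnat]
      exact Ext.comp_assoc _ _ _ _ _ (by omega)
    · intro L hL ξ
      have hxL : x ∈ Module.annihilator R L :=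
        Module.mem_annihilator.2 (fun l => hL x List.mem_cons_self l)
      have h0 : ξ.comp (Ext.mk₀ (sesSMul M x).f) (add_zero _) = 0 := by
        rw [sesSMul_f, ← Ext.smul_eq_comp_mk₀]
        exact Groth.Agent.Lib.Helper67.ext_smul_eq_zero_of_mem_annihilator_left ξ hxL
      obtain ⟨η, hη⟩ := Ext.covariant_sequence_exact₁ L hS ξ h0 rfl
      obtain ⟨φ', hφ'⟩ := hsurj L (fun y hy l => hL y (List.mem_cons_of_mem _ hy) l) η
      refine ⟨φ' ≫ eN.inv, ?_⟩
      change (ρ' L ((φ' ≫ eN.inv) ≫ eN.hom)).comp hS.extClass rfl = _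
      rw [Category.assoc, Iso.inv_hom_id, Category.comp_id, hφ', hη]
    · intro L hL
      have hinj' : Function.Injective (ρ' L) := by
        apply hinj L
        intro j hj
        exact ext_quot_subsingleton hS L j (hL j (by simp; omega)) (hL (j + 1) (by simp; omega))
      have hδ := ext_comp_extClass_injective hS L xs.length (hL xs.length (by simp))
      intro φ φ' h
      have h1 := hinj' (hδ h)
      exact (cancel_mono eN.hom).1 h1

end Rees

section Socle

open Abelian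

variable {R : Type u} [CommRing R] [IsNoetherianRing R] [IsLocalRing R]

/-- the socle of `R/(xs)` is at most one-dimensional, for `R` of injective dimension `≤ n`,
depth `≥ n`, and `xs` a regular sequence of length `n` -/
theorem exists_smul_of_socle (xs : List R) (hreg : IsWeaklyRegular R xs)
    (hinj : HasInjectiveDimensionLT (ModuleCat.of R R) (xs.length + 1))
    (hdepth : (xs.length : ℕ∞) ≤ LocCoh.depth R R)
    (s1 s2 : R ⧸ Ideal.ofList xs • (⊤ : Submodule R R))
    (h1 : ∀ a ∈ maximalIdeal R, a • s1 = 0) (h2 : ∀ a ∈ maximalIdeal R, a • s2 = 0)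
    (hne : s1 ≠ 0) : ∃ a : R, s2 = a • s1 := by
  obtain ⟨ρ, hnat, hsurj, hinjρ⟩ := exists_rees xs R hreg
  have hle : ∀ s : R ⧸ Ideal.ofList xs • (⊤ : Submodule R R),
      (∀ a ∈ maximalIdeal R, a • s = 0) →
      maximalIdeal R ≤ LinearMap.ker (LinearMap.toSpanSingleton R _ s) := by
    intro s hs a ha
    rw [LinearMap.mem_ker, LinearMap.toSpanSingleton_apply]
    exact hs a ha
  let ι1 : (R ⧸ maximalIdeal R) →ₗ[R] (R ⧸ Ideal.ofList xs • (⊤ : Submodule R R)) :=
    Submodule.liftQ _ (LinearMap.toSpanSingleton R _ s1) (hle s1 h1)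
  let ι2 : (R ⧸ maximalIdeal R) →ₗ[R] (R ⧸ Ideal.ofList xs • (⊤ : Submodule R R)) :=
    Submodule.liftQ _ (LinearMap.toSpanSingleton R _ s2) (hle s2 h2)
  have hι1 : ι1 (Submodule.Quotient.mk 1) = s1 := by
    change Submodule.liftQ _ _ _ (Submodule.Quotient.mk 1) = _
    rw [Submodule.liftQ_apply, LinearMap.toSpanSingleton_apply, one_smul]
  have hι2 : ι2 (Submodule.Quotient.mk 1) = s2 := by
    change Submodule.liftQ _ _ _ (Submodule.Quotient.mk 1) = _
    rw [Submodule.liftQ_apply, LinearMap.toSpanSingleton_apply, one_smul]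
  have hker : LinearMap.ker (LinearMap.toSpanSingleton R
      (R ⧸ Ideal.ofList xs • (⊤ : Submodule R R)) s1) = maximalIdeal R := by
    refine ((IsLocalRing.maximalIdeal.isMaximal R).eq_of_le ?_ (hle s1 h1)).symm
    intro htop
    apply hne
    have h1' : (1 : R) ∈ LinearMap.ker (LinearMap.toSpanSingleton R
        (R ⧸ Ideal.ofList xs • (⊤ : Submodule R R)) s1) := by
      rw [htop]; exact Submodule.mem_top
    rw [LinearMap.mem_ker, LinearMap.toSpanSingleton_apply, one_smul] at h1'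
    exact h1'
  have hι1inj : Function.Injective ι1 := by
    rw [← LinearMap.ker_eq_bot, Submodule.ker_liftQ, hker]
    simp
  let S : ShortComplex (ModuleCat.{u} R) :=
    ModuleCat.shortComplexOfCompEqZero _ _ ι1.exact_map_mkQ_range.linearMap_comp_eq_zero
  have hS : S.ShortExact := ModuleCat.shortComplex_shortExact S
    ι1.exact_map_mkQ_range hι1inj (Submodule.mkQ_surjective _)
  -- lift
  have hx₁ : hS.extClass.comp (ρ S.X₁ (ModuleCat.ofHom ι2))
      (rfl : 1 + xs.length = 1 + xs.length) = 0 :=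
    Ext.eq_zero_of_hasInjectiveDimensionLT _ (xs.length + 1) (by omega)
  obtain ⟨ξ, hξ⟩ := Ext.contravariant_sequence_exact₁ hS (ModuleCat.of R R)
    (ρ S.X₁ (ModuleCat.ofHom ι2)) rfl hx₁
  have hkill : ∀ x ∈ xs, ∀ l : S.X₂, x • l = 0 := by
    intro x hx l
    obtain ⟨r, rfl⟩ := Submodule.Quotient.mk_surjective _ l
    rw [← Submodule.Quotient.mk_smul, Submodule.Quotient.mk_eq_zero]
    exact Submodule.smul_mem_smul (Ideal.subset_span hx) Submodule.mem_top
  obtain ⟨φ, hφ⟩ := hsurj S.X₂ hkill ξ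
  have hvan : ∀ j < xs.length, Subsingleton (Ext.{u} S.X₁ (ModuleCat.of R R) j) :=
    (Groth.Agent.Lib.Helper67.le_idealDepth_iff_ext' (maximalIdeal R) R xs.length).1 hdepth
  have hcomp : S.f ≫ φ = ModuleCat.ofHom ι2 := by
    apply hinjρ S.X₁ hvan
    rw [hnat, hφ, hξ]
  have hφs : φ.hom s1 = s2 := by
    rw [← hι1, ← hι2]
    exact congrArg (fun t => t.hom (Submodule.Quotient.mk 1)) hcomp
  obtain ⟨r1, rfl⟩ := Submodule.Quotient.mk_surjective _ s1
  obtain ⟨a, ha⟩ := Submodule.Quotient.mk_surjective _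
    (φ.hom (Submodule.Quotient.mk (1 : R)))
  refine ⟨a, ?_⟩
  rw [← hφs]
  have e1 : (Submodule.Quotient.mk r1 : R ⧸ Ideal.ofList xs • (⊤ : Submodule R R)) =
      r1 • Submodule.Quotient.mk (1 : R) := by
    rw [← Submodule.Quotient.mk_smul]; congr 1; rw [smul_eq_mul, mul_one]
  rw [e1, map_smul, ← ha, smul_comm]
  congr 1
  rw [← Submodule.Quotient.mk_smul]
  congr 1
  rw [smul_eq_mul, mul_one]

end Socle

section Base

variable {R : Type u} [CommRing R] [IsNoetherianRing R] [IsLocalRing R]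
  {E : Type u} [AddCommGroup E] [Module R E] {f : ResidueField R →ₗ[R] E}

/-- a finite length cyclic module `R/J` with simple socle is isomorphic to `E[J]` -/
theorem equiv_torsion_of_socle (hf : IsInjectiveHull f) (J : Ideal R)
    (hJ : IsFiniteLength R (R ⧸ J)) (hnt : J ≠ ⊤)
    (hsoc : ∀ s1 s2 : R ⧸ J, (∀ a ∈ maximalIdeal R, a • s1 = 0) →
      (∀ a ∈ maximalIdeal R, a • s2 = 0) → s1 ≠ 0 → ∃ a : R, s2 = a • s1) :
    Nonempty ((R ⧸ J) ≃ₗ[R] Submodule.torsionBySet R E (J : Set R)) := by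
  haveI := hf.isInjective
  haveI : Nontrivial (R ⧸ J) := Ideal.Quotient.nontrivial_iff.2 hnt
  haveI : IsArtinian R (R ⧸ J) := (isFiniteLength_iff_isNoetherian_isArtinian.mp hJ).2
  have hPT := Matlis.isPowerTorsion_of_isArtinian (R := R) (R ⧸ J)
  obtain ⟨a0, ha0, hs0⟩ := Matlis.exists_smul_mem_socle hPT (1 : R ⧸ J) one_ne_zero
  have hs1' : ∀ a ∈ maximalIdeal R, a • (a0 • (1 : R ⧸ J)) = 0 :=
    fun a ha => (Submodule.mem_torsionBySet_iff _ _).1 hs0 ⟨a, ha⟩
  obtain ⟨ψ, hψ⟩ := Matlis.exists_hom_apply_ne_zero hf (a0 • (1 : R ⧸ J)) ha0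
  have hψinj : Function.Injective ψ := by
    rw [injective_iff_map_eq_zero]
    intro y hy
    by_contra hy0
    obtain ⟨b, hb, hbs⟩ := Matlis.exists_smul_mem_socle hPT y hy0
    obtain ⟨c, hc⟩ := hsoc (b • y) (a0 • (1 : R ⧸ J))
      (fun a ha => (Submodule.mem_torsionBySet_iff _ _).1 hbs ⟨a, ha⟩) hs1' hb
    apply hψ
    rw [hc, map_smul, map_smul, hy, smul_zero, smul_zero]
  have hmem : ∀ y, ψ y ∈ Submodule.torsionBySet R E (J : Set R) := by
    intro y
    rw [Submodule.mem_torsionBySet_iff]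
    rintro ⟨j, hj⟩
    change j • ψ y = 0
    rw [← map_smul]
    obtain ⟨r, rfl⟩ := Ideal.Quotient.mk_surjective y
    have : j • (Ideal.Quotient.mk J r) = 0 := by
      change Ideal.Quotient.mk J (j * r) = 0
      rw [Ideal.Quotient.eq_zero_iff_mem]
      exact Ideal.mul_mem_right _ _ hj
    rw [this, map_zero]
  refine ⟨LinearEquiv.ofBijective (ψ.codRestrict _ hmem) ⟨?_, ?_⟩⟩
  · intro a b hab
    exact hψinj (congrArg Subtype.val hab)
  · rintro ⟨e, he⟩
    have hle : J ≤ LinearMap.ker (LinearMap.toSpanSingleton R E e) := by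
      intro j hj
      rw [LinearMap.mem_ker, LinearMap.toSpanSingleton_apply]
      exact (Submodule.mem_torsionBySet_iff _ _).mp he ⟨j, hj⟩
    let φe : (R ⧸ J) →ₗ[R] E := Submodule.liftQ J (LinearMap.toSpanSingleton R E e) hle
    have h1 : φe 1 = e := by
      change φe (Submodule.Quotient.mk 1) = _
      rw [Submodule.liftQ_apply, LinearMap.toSpanSingleton_apply, one_smul]
    obtain ⟨θ, hθ⟩ := Module.Injective.extension_property R E _ _ ψ hψinj φe
    obtain ⟨r, hr⟩ := Matlis.exists_smul_of_isFiniteLength hf J hJ (θ ∘ₗ (Submodule.subtype _))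
    refine ⟨r • 1, Subtype.ext ?_⟩
    change ψ (r • 1) = e
    rw [map_smul, ← h1, ← hθ]
    exact (hr ⟨ψ 1, hmem 1⟩).symm

theorem isFiniteLength_of_supportDim_le_zero (N : Type u) [AddCommGroup N] [Module R N]
    [Module.Finite R N] (h : Module.supportDim R N ≤ 0) : IsFiniteLength R N := by
  obtain ⟨t, ht⟩ := exists_pow_le_annihilator N h
  have h0 := Groth.Agent.Lib.Helper85.CanonUnique.isFiniteLength_quot_pow_smul (R := R) N t
  have hbot : (maximalIdeal R ^ t) • (⊤ : Submodule R N) = ⊥ := by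
    rw [eq_bot_iff, Submodule.smul_le]
    intro a ha y _
    rw [Submodule.mem_bot]
    exact Module.mem_annihilator.1 (ht ha) y
  exact (Submodule.quotEquivOfEqBot _ hbot).isFiniteLength h0

theorem withBot_le_zero_of_add_eq (a : WithBot ℕ∞) (k : ℕ)
    (h : a + (k : WithBot ℕ∞) = (k : WithBot ℕ∞)) : a ≤ 0 := by
  induction a using WithBot.recBotCoe with
  | bot => exact bot_le
  | coe t =>
    induction t using ENat.recTopCoe with
    | top =>
      exfalso
      have h1 : (((⊤ : ℕ∞) + (k : ℕ∞) : ℕ∞) : WithBot ℕ∞) = ((k : ℕ∞) : WithBot ℕ∞) := by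
        exact_mod_cast h
      rw [top_add] at h1
      exact ENat.top_ne_coe k (WithBot.coe_injective h1)
    | coe m =>
      have h' : (((m + k : ℕ) : ℕ∞) : WithBot ℕ∞) = (((k : ℕ) : ℕ∞) : WithBot ℕ∞) := by
        exact_mod_cast h
      have h2 : m + k = k := by exact_mod_cast WithBot.coe_injective h'
      have hm : m = 0 := by omega
      subst hm
      exact le_refl _

end Base

/-- `H^n_m(R) ≃ E` for a Gorenstein local ring of dimension `n` -/
theorem gor_top_equiv (R : Type u) [CommRing R] [LocCoh.IsGorensteinLocalRing R] (n : ℕ)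
    (hn : ringKrullDim R = n) {E : Type u} [AddCommGroup E] [Module R E]
    {f : ResidueField R →ₗ[R] E} (hf : IsInjectiveHull f) :
    Nonempty (LocCoh.H (maximalIdeal R) n R ≃ₗ[R] E) := by
  haveI := Groth.Agent.Lib.Helper4.GorCM.isCohenMacaulayLocalRing_of_gorenstein R
  obtain ⟨d, hdim, hdepth, hinj⟩ := Groth.Agent.Lib.Helper4.GorCM.gorenstein_dim R
  obtain rfl := Groth.Agent.Lib.Helper4.GorCM.nat_of_ringKrullDim_eq hdim hn
  obtain ⟨xs, hlen, hreg, hmem⟩ :=
    Groth.Agent.Lib.Helper67.exists_isRegular_of_le_depth (R := R) R d (le_of_eq hdepth.symm)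
  subst hlen
  have hN := LCCM.self_of_CM R xs.length hn
  have hu : ∀ y : R, ∃ r : R, y = r • (1 : R) := fun y => ⟨y, by rw [smul_eq_mul, mul_one]⟩
  have hbase : Nonempty (LocCoh.H (maximalIdeal R) (xs.length - xs.length)
      (R ⧸ Ideal.ofList xs • (⊤ : Submodule R R)) ≃ₗ[R]
      TAnn R E (R ⧸ Ideal.ofList xs • (⊤ : Submodule R R))) := by
    rw [Nat.sub_self]
    have hsd : Module.supportDim R (R ⧸ Ideal.ofList xs • (⊤ : Submodule R R)) ≤ 0 := by
      have h1 := Module.supportDim_add_length_eq_supportDim_of_isRegular xs hreg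
      rw [Module.supportDim_self_eq_ringKrullDim, hn] at h1
      exact withBot_le_zero_of_add_eq _ _ h1
    have hJfl := isFiniteLength_of_supportDim_le_zero _ hsd
    have hnt : (Ideal.ofList xs • (⊤ : Submodule R R) : Ideal R) ≠ ⊤ := fun h =>
      hreg.top_ne_smul h.symm
    have hsoc := exists_smul_of_socle xs hreg.toIsWeaklyRegular hinj (le_of_eq hdepth.symm)
    obtain ⟨e⟩ := equiv_torsion_of_socle hf _ hJfl hnt hsoc
    have hT : TAnn R E (R ⧸ Ideal.ofList xs • (⊤ : Submodule R R)) =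
        Submodule.torsionBySet R E ((Ideal.ofList xs • (⊤ : Submodule R R) : Ideal R) : Set R) := by
      unfold TAnn
      rw [Ideal.annihilator_quotient]
    exact ⟨H0Equiv _ hsd ≪≫ₗ e ≪≫ₗ LinearEquiv.ofEq _ _ hT.symm⟩
  obtain ⟨e⟩ := lift_seq hf xs R (1 : R) hu xs.length hmem hN hreg hbase
  exact ⟨e ≪≫ₗ LinearEquiv.ofEq _ _ TAnn_self ≪≫ₗ Submodule.topEquiv⟩

end Groth.Agent.Lib.Helper85.Canon
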