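import Groth.Agent.Lib.Helper85.CanonDual
import Groth.Agent.Lib.Helper4.InjDim

/-!
# Injective dimension and depth of a canonical module over a Cohen–Macaulay local ring
-/

open CategoryTheory TensorProduct
open scoped Pointwise

namespace Groth.Agent.Lib.Helper85.Canon

open Groth.Agent.Lib.Helper92.LC IsLocalRing InjHull Abelian

universe u

variable {R : Type u} [CommRing R] [IsNoetherianRing R] [IsLocalRing R]
  {E : Type u} [AddCommGroup E] [Module R E] {f : ResidueField R →ₗ[R] E}
  (K : Type u) [AddCommGroup K] [Module R K]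

omit [IsNoetherianRing R] in
theorem subsingleton_of_dual_subsingleton (hf : IsInjectiveHull f) (X : Type u) [AddCommGroup X]
    [Module R X] (h : Subsingleton (X →ₗ[R] E)) : Subsingleton X := by
  refine ⟨fun a b => ?_⟩
  by_contra hne
  obtain ⟨φ, hφ⟩ := Matlis.exists_hom_apply_ne_zero hf (a - b) (sub_ne_zero.2 hne)
  apply hφ
  rw [Subsingleton.elim φ 0]
  rfl

section

variable (hf : IsInjectiveHull f) (n : ℕ) (hcd : LocCoh.CdLE R (maximalIdeal R) n)
  (hR : ∀ j < n, Subsingleton (LocCoh.H (maximalIdeal R) j R))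
  (eK : (K →ₗ[R] E) ≃ₗ[R] LocCoh.H (maximalIdeal R) n R)

include hf hcd hR eK

/-- `Ext^{n+1}(X, K) = 0` for finite `X` -/
theorem ext_succ_subsingleton (X : Type u) [AddCommGroup X] [Module R X] [Module.Finite R X] :
    Subsingleton (Ext.{u} (ModuleCat.of R X) (ModuleCat.of R K) (n + 1)) := by
  haveI : Module.Injective R E := hf.isInjective
  obtain ⟨b, p, hp⟩ := Module.Finite.exists_fin' R X
  have hS := LinearMap.shortExact_shortComplexKer hp
  haveI : Projective p.shortComplexKer.X₂ :=
    inferInstanceAs (Projective (ModuleCat.of R (Fin b → R)))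
  haveI : Module.Finite R p.shortComplexKer.X₁ :=
    inferInstanceAs (Module.Finite R (LinearMap.ker p))
  haveI : Module.Finite R p.shortComplexKer.X₂ :=
    inferInstanceAs (Module.Finite R (Fin b → R))
  rcases n with _ | n'
  · -- `n = 0`
    refine ⟨fun a c => ?_⟩
    suffices h0 : ∀ x₃ : Ext.{u} (ModuleCat.of R X) (ModuleCat.of R K) 1, x₃ = 0 from
      (h0 a).trans (h0 c).symm
    intro x₃
    obtain ⟨ψ, rfl⟩ := extδ₀_surjective hS (ModuleCat.of R K) x₃
    rw [← LinearMap.mem_ker, (extδ₀_exact hS (ModuleCat.of R K)).linearMap_ker_eq]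
    -- `ψ` extends to the free module
    set res := LinearMap.lcomp R (ModuleCat.of R K) p.shortComplexKer.f.hom with hres
    by_contra hψ
    have hne : (Submodule.Quotient.mk ψ : _ ⧸ LinearMap.range res) ≠ 0 := by
      rwa [Ne, Submodule.Quotient.mk_eq_zero]
    obtain ⟨φ, hφ⟩ := Matlis.exists_hom_apply_ne_zero hf _ hne
    let l : (p.shortComplexKer.X₁ →ₗ[R] K) →ₗ[R] E := φ ∘ₗ (LinearMap.range res).mkQ
    have hl : ∀ χ, l (res χ) = 0 := by
      intro χ
      change φ (Submodule.Quotient.mk (res χ)) = 0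
      have hmem : res χ ∈ LinearMap.range res := ⟨χ, rfl⟩
      rw [(Submodule.Quotient.mk_eq_zero _).2 hmem, map_zero]
    let w := (theta (maximalIdeal R) 0 hcd K E eK p.shortComplexKer.X₁).symm l
    have hw : Hmap (maximalIdeal R) 0 p.shortComplexKer.f w = 0 := by
      apply (theta (maximalIdeal R) 0 hcd K E eK p.shortComplexKer.X₂).injective
      rw [map_zero]
      apply LinearMap.ext
      intro χ
      rw [theta_naturality]
      have : theta (maximalIdeal R) 0 hcd K E eK p.shortComplexKer.X₁ w = l :=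
        LinearEquiv.apply_symm_apply _ l
      rw [this]
      exact hl χ
    have hw0 : w = 0 :=
      Hmap_f_zero_injective (maximalIdeal R) hS (hw.trans (map_zero _).symm)
    have hl0 : l = 0 := by
      have := congrArg (theta (maximalIdeal R) 0 hcd K E eK p.shortComplexKer.X₁) hw0
      rwa [LinearEquiv.apply_symm_apply, map_zero] at this
    apply hφ
    have := LinearMap.congr_fun hl0 ψ
    exact this
  · -- `n ≥ 1`
    have hvanF : Subsingleton ((localCohomology (maximalIdeal R) 0).obj p.shortComplexKer.X₂) :=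
      subsingleton_H_free (maximalIdeal R) 0 (hR 0 (Nat.succ_pos n')) b
    have hH0 : Subsingleton ((localCohomology (maximalIdeal R) 0).obj p.shortComplexKer.X₁) :=
      (Hmap_f_zero_injective (maximalIdeal R) hS).subsingleton
    obtain ⟨e⟩ := duality K (n' + 1) hcd hR eK (n' + 1) 0 (by omega) (LinearMap.ker p)
    have h1 : Subsingleton (Ext.{u} (ModuleCat.of R (LinearMap.ker p)) (ModuleCat.of R K) (n' + 1)
        →ₗ[R] E) := e.symm.toEquiv.subsingleton
    have h2 := subsingleton_of_dual_subsingleton hf _ h1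
    exact (extδ_surjective hS (ModuleCat.of R K) (n' + 1)).subsingleton

theorem hasInjectiveDimensionLT_canon : HasInjectiveDimensionLT (ModuleCat.of R K) (n + 1) := by
  apply Groth.Agent.Lib.Helper4.InjDim.hasInjectiveDimensionLT_of_ext_quotient
  intro I
  exact ext_succ_subsingleton K hf n hcd hR eK (R ⧸ I)

/-- `Ext^n(k, K) ≠ 0` -/
theorem ext_residue_nontrivial :
    Nontrivial (Ext.{u} (ModuleCat.of R (R ⧸ maximalIdeal R)) (ModuleCat.of R K) n) := by
  haveI : Module.Injective R E := hf.isInjective
  obtain ⟨e⟩ := duality K n hcd hR eK n 0 (by omega) (R ⧸ maximalIdeal R)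
  have hdim : Module.supportDim R (R ⧸ maximalIdeal R) ≤ 0 := by
    rw [Module.supportDim_quotient_eq_ringKrullDim,
      Groth.Agent.Lib.Helper67.ringKrullDim_quotient_maximalIdeal]
  have e0 := H0Equiv (R ⧸ maximalIdeal R) hdim
  by_contra hnt
  rw [not_nontrivial_iff_subsingleton] at hnt
  have h1 : Subsingleton (Ext.{u} (ModuleCat.of R (R ⧸ maximalIdeal R)) (ModuleCat.of R K) n
      →ₗ[R] E) := ⟨fun a c => LinearMap.ext fun z => by
        rw [Subsingleton.elim z 0, map_zero, map_zero]⟩
  have h2 : Subsingleton (R ⧸ maximalIdeal R) := (e0.symm.trans e).toEquiv.subsingleton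
  have h3 : Nontrivial (R ⧸ maximalIdeal R) := Ideal.Quotient.nontrivial_iff.2
    (IsLocalRing.maximalIdeal.isMaximal R).ne_top
  exact not_nontrivial _ h3

theorem not_hasInjectiveDimensionLT_canon : ¬ HasInjectiveDimensionLT (ModuleCat.of R K) n := by
  intro h
  have h1 := HasInjectiveDimensionLT.subsingleton.{u} (ModuleCat.of R K) n n le_rfl
    (ModuleCat.of R (R ⧸ maximalIdeal R))
  have h2 := ext_residue_nontrivial K hf n hcd hR eK
  exact not_nontrivial _ h2

end

end Groth.Agent.Lib.Helper85.Canon
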