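import Groth.Agent.Lib.Helper85.CanonGor
import Groth.Agent.Lib.Helper85.CanonInj

/-!
# Converse: `H^i_m(A) = 0` for `i ≠ d` and `H^d_m(A)` injective imply `A` Gorenstein

* `cdLE_of_self`: if `H^i_I(R) = 0` for all `i > d` (and `cd(R, I) < ∞`) then `cd(R, I) ≤ d`.
* `exists_sep_of_injective`: an injective module containing a nonzero socle element is a
  cogenerator.
* `ext_succ_subsingleton_of_sep`: `Ext^{n+1}(X, K) = 0` for a "canonical pair" w.r.t. an injective
  cogenerator.
* `hasInjectiveDimensionLT_of_H`: the converse statement.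
-/

open CategoryTheory
open scoped Pointwise

namespace Groth.Agent.Lib.Helper85.Canon

open Groth.Agent.Lib.Helper92.LC IsLocalRing InjHull Abelian

universe u

section Cd

variable {R : Type u} [CommRing R] [IsNoetherianRing R]

theorem cdLE_of_self (I : Ideal R) (N d : ℕ) (hN : LocCoh.CdLE R I N)
    (h : ∀ i, d < i → Subsingleton (LocCoh.H I i R)) : LocCoh.CdLE R I d := by
  have key : ∀ (k i : ℕ), d < i → N < i + k → ∀ (M : Type u) [AddCommGroup M] [Module R M]
      [Module.Finite R M], Subsingleton ((localCohomology I i).obj (ModuleCat.of R M)) := by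
    intro k
    induction k with
    | zero =>
      intro i _ hi M _ _ _
      exact hN M i (by omega)
    | succ k ih =>
      intro i hdi hi M _ _ _
      obtain ⟨b, p, hp⟩ := Module.Finite.exists_fin' R M
      have hS := LinearMap.shortExact_shortComplexKer hp
      haveI : Module.Finite R (LinearMap.ker p) := inferInstance
      have h1 : Subsingleton ((localCohomology I i).obj p.shortComplexKer.X₂) :=
        subsingleton_H_free I i (h i hdi) b
      have h2 : Subsingleton ((localCohomology I (i + 1)).obj p.shortComplexKer.X₁) :=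
        ih (i + 1) (by omega) (by omega) (LinearMap.ker p)
      refine ⟨fun a c => ?_⟩
      suffices H : ∀ z : (localCohomology I i).obj p.shortComplexKer.X₃, z = 0 from
        (H a).trans (H c).symm
      intro z
      obtain ⟨y, rfl⟩ := exact₃ I i hS z (Subsingleton.elim _ _)
      rw [Subsingleton.elim y 0, map_zero]
  intro M _ _ i hi
  refine ⟨fun y y' => ?_⟩
  suffices H : ∀ y : (localCohomology I i).obj (ModuleCat.of R M), y = 0 from
    (H y).trans (H y').symm
  intro y
  obtain ⟨N', hN', yN, rfl⟩ := exists_fg_rep I M i y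
  haveI : Module.Finite R N' := Module.Finite.iff_fg.2 hN'
  have := key (N + 1) i hi (by omega) N'
  rw [Subsingleton.elim yN 0, map_zero]

end Cd

section Sep

variable {R : Type u} [CommRing R] [IsLocalRing R]
  {E : Type u} [AddCommGroup E] [Module R E] [Module.Injective R E]

/-- an injective module with a nonzero socle element separates points of every module -/
theorem exists_sep_of_injective (s : E) (hs : s ≠ 0) (hsm : ∀ a ∈ maximalIdeal R, a • s = 0)
    {M : Type u} [AddCommGroup M] [Module R M] (x : M) (hx : x ≠ 0) :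
    ∃ φ : M →ₗ[R] E, φ x ≠ 0 := by
  have hle : maximalIdeal R ≤ LinearMap.ker (LinearMap.toSpanSingleton R E s) := by
    intro a ha
    rw [LinearMap.mem_ker, LinearMap.toSpanSingleton_apply]
    exact hsm a ha
  let f : (R ⧸ maximalIdeal R) →ₗ[R] E :=
    Submodule.liftQ _ (LinearMap.toSpanSingleton R E s) hle
  have hf1 : f (Submodule.Quotient.mk 1) = s := by
    change Submodule.liftQ _ _ _ (Submodule.Quotient.mk 1) = _
    rw [Submodule.liftQ_apply, LinearMap.toSpanSingleton_apply, one_smul]
  let t : R →ₗ[R] M := LinearMap.toSpanSingleton R M x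
  have hker : LinearMap.ker t ≤ maximalIdeal R := by
    apply IsLocalRing.le_maximalIdeal
    intro htop
    have : (1 : R) ∈ LinearMap.ker t := by rw [htop]; trivial
    rw [LinearMap.mem_ker, LinearMap.toSpanSingleton_apply, one_smul] at this
    exact hx this
  let q : (R ⧸ LinearMap.ker t) →ₗ[R] (R ⧸ maximalIdeal R) :=
    Submodule.mapQ (LinearMap.ker t) (maximalIdeal R) LinearMap.id hker
  let e := t.quotKerEquivRange
  let ψ : LinearMap.range t →ₗ[R] E := f ∘ₗ q ∘ₗ e.symm.toLinearMap
  obtain ⟨φ, hφ⟩ := Module.Injective.extension_property R E _ _ (LinearMap.range t).subtype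
    (Submodule.subtype_injective _) ψ
  refine ⟨φ, ?_⟩
  have hx' : x = (LinearMap.range t).subtype ⟨x, ⟨1, by simp [t]⟩⟩ := rfl
  have he : e (Submodule.Quotient.mk 1) = ⟨x, ⟨1, by simp [t]⟩⟩ := by
    apply Subtype.ext
    rw [LinearMap.quotKerEquivRange_apply_mk]
    simp [t]
  rw [hx', ← LinearMap.comp_apply, hφ]
  simp only [ψ, LinearMap.comp_apply, LinearEquiv.coe_coe]
  rw [← he, LinearEquiv.symm_apply_apply]
  have : q (Submodule.Quotient.mk 1) = Submodule.Quotient.mk 1 := rfl
  rw [this, hf1]
  exact hs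

end Sep

section Inj

variable {R : Type u} [CommRing R] [IsNoetherianRing R] [IsLocalRing R]
  {E : Type u} [AddCommGroup E] [Module R E] [Module.Injective R E]
  (K : Type u) [AddCommGroup K] [Module R K]
  (hsep : ∀ (X : Type u) [AddCommGroup X] [Module R X] (x : X), x ≠ 0 →
    ∃ φ : X →ₗ[R] E, φ x ≠ 0)
  (n : ℕ) (hcd : LocCoh.CdLE R (maximalIdeal R) n)
  (hR : ∀ j < n, Subsingleton (LocCoh.H (maximalIdeal R) j R))
  (eK : (K →ₗ[R] E) ≃ₗ[R] LocCoh.H (maximalIdeal R) n R)

include hsep hcd hR eK

/-- `Ext^{n+1}(X, K) = 0` for finite `X` -/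
theorem ext_succ_subsingleton_of_sep (X : Type u) [AddCommGroup X] [Module R X]
    [Module.Finite R X] :
    Subsingleton (Ext.{u} (ModuleCat.of R X) (ModuleCat.of R K) (n + 1)) := by
  obtain ⟨b, p, hp⟩ := Module.Finite.exists_fin' R X
  have hS := LinearMap.shortExact_shortComplexKer hp
  haveI : Projective p.shortComplexKer.X₂ :=
    inferInstanceAs (Projective (ModuleCat.of R (Fin b → R)))
  haveI : Module.Finite R p.shortComplexKer.X₁ :=
    inferInstanceAs (Module.Finite R (LinearMap.ker p))
  haveI : Module.Finite R p.shortComplexKer.X₂ :=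
    inferInstanceAs (Module.Finite R (Fin b → R))
  rcases n with _ | n'
  · -- `n = 0`
    refine ⟨fun a c => ?_⟩
    suffices h0 : ∀ x₃ : Ext.{u} (ModuleCat.of R X) (ModuleCat.of R K) 1, x₃ = 0 from
      (h0 a).trans (h0 c).symm
    intro x₃
    obtain ⟨ψ, rfl⟩ := extδ₀_surjective hS (ModuleCat.of R K) x₃
    rw [← LinearMap.mem_ker, (extδ₀_exact hS (ModuleCat.of R K)).linearMap_ker_eq]
    set res := LinearMap.lcomp R (ModuleCat.of R K) p.shortComplexKer.f.hom with hres
    by_contra hψ
    have hne : (Submodule.Quotient.mk ψ : _ ⧸ LinearMap.range res) ≠ 0 := by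
      rwa [Ne, Submodule.Quotient.mk_eq_zero]
    obtain ⟨φ, hφ⟩ := hsep _ _ hne
    let l : (p.shortComplexKer.X₁ →ₗ[R] K) →ₗ[R] E := φ ∘ₗ (LinearMap.range res).mkQ
    have hl : ∀ χ, l (res χ) = 0 := by
      intro χ
      change φ (Submodule.Quotient.mk (res χ)) = 0
      have hmem : res χ ∈ LinearMap.range res := ⟨χ, rfl⟩
      rw [(Submodule.Quotient.mk_eq_zero _).2 hmem, map_zero]
    let w := (theta (maximalIdeal R) 0 hcd K E eK p.shortComplexKer.X₁).symm l
    have hw : Hmap (maximalIdeal R) 0 p.shortComplexKer.f w = 0 := by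
      apply (theta (maximalIdeal R) 0 hcd K E eK p.shortComplexKer.X₂).injective
      rw [map_zero]
      apply LinearMap.ext
      intro χ
      rw [theta_naturality]
      have : theta (maximalIdeal R) 0 hcd K E eK p.shortComplexKer.X₁ w = l :=
        LinearEquiv.apply_symm_apply _ l
      rw [this]
      exact hl χ
    have hw0 : w = 0 :=
      Hmap_f_zero_injective (maximalIdeal R) hS (hw.trans (map_zero _).symm)
    have hl0 : l = 0 := by
      have := congrArg (theta (maximalIdeal R) 0 hcd K E eK p.shortComplexKer.X₁) hw0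
      rwa [LinearEquiv.apply_symm_apply, map_zero] at this
    apply hφ
    have := LinearMap.congr_fun hl0 ψ
    exact this
  · -- `n ≥ 1`
    have hvanF : Subsingleton ((localCohomology (maximalIdeal R) 0).obj p.shortComplexKer.X₂) :=
      subsingleton_H_free (maximalIdeal R) 0 (hR 0 (Nat.succ_pos n')) b
    have hH0 : Subsingleton ((localCohomology (maximalIdeal R) 0).obj p.shortComplexKer.X₁) :=
      (Hmap_f_zero_injective (maximalIdeal R) hS).subsingleton
    obtain ⟨e⟩ := duality (E := E) K (n' + 1) hcd hR eK (n' + 1) 0 (by omega) (LinearMap.ker p)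
    have h1 : Subsingleton (Ext.{u} (ModuleCat.of R (LinearMap.ker p)) (ModuleCat.of R K) (n' + 1)
        →ₗ[R] E) := e.symm.toEquiv.subsingleton
    have h2 : Subsingleton (Ext.{u} (ModuleCat.of R (LinearMap.ker p)) (ModuleCat.of R K)
        (n' + 1)) := by
      refine ⟨fun a c => ?_⟩
      by_contra hne
      obtain ⟨φ, hφ⟩ := hsep _ (a - c) (sub_ne_zero.2 hne)
      apply hφ
      rw [Subsingleton.elim φ 0]
      rfl
    exact (extδ_surjective hS (ModuleCat.of R K) (n' + 1)).subsingleton

theorem hasInjectiveDimensionLT_of_sep : HasInjectiveDimensionLT (ModuleCat.of R K) (n + 1) := by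
  apply Groth.Agent.Lib.Helper4.InjDim.hasInjectiveDimensionLT_of_ext_quotient
  intro I
  exact ext_succ_subsingleton_of_sep K hsep n hcd hR eK (R ⧸ I)

end Inj

/-- if `H^i_m(A) = 0` for `i ≠ d` and `H^d_m(A)` is injective then `A` has injective dimension
`≤ d` -/
theorem hasInjectiveDimensionLT_of_H (A : Type u) [CommRing A] [IsLocalRing A]
    [IsNoetherianRing A] (d : ℕ)
    (hvan : ∀ i : ℕ, i ≠ d → Subsingleton (LocCoh.H (maximalIdeal A) i A))
    (hinj : Module.Injective A (LocCoh.H (maximalIdeal A) d A)) :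
    HasInjectiveDimensionLT (ModuleCat.of A A) (d + 1) := by
  obtain ⟨N, hN⟩ := Groth.Agent.Lib.Helper67.supportDim_eq_natCast (R := A) (M := A)
  rw [Module.supportDim_self_eq_ringKrullDim] at hN
  have hcdN : LocCoh.CdLE A (maximalIdeal A) N := cdLE_of_ringKrullDim_le _ N (le_of_eq hN)
  have hcd : LocCoh.CdLE A (maximalIdeal A) d :=
    cdLE_of_self (maximalIdeal A) N d hcdN (fun i hi => hvan i (by omega))
  -- nontriviality
  have hne : LocCoh.depth A A ≠ ⊤ := Groth.Agent.Lib.Helper67.depth_ne_top A
  obtain ⟨t, ht⟩ := ENat.ne_top_iff_exists.mp hne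
  have hnt := nontrivial_of_idealDepth_eq (maximalIdeal A) t A
    (Groth.Agent.Lib.Helper67.maximalIdeal_smul_top_ne_top A) ht.symm
  have htd : t = d := by
    by_contra h
    exact not_subsingleton _ (hvan t h)
  subst htd
  obtain ⟨y, hy⟩ := exists_ne (0 : (localCohomology (maximalIdeal A) t).obj (ModuleCat.of A A))
  have hPT : LocCoh.IsPowerTorsion (maximalIdeal A) (LocCoh.H (maximalIdeal A) t A) :=
    fun y => exists_pow_smul_eq_zero (maximalIdeal A) t y
  obtain ⟨a, has, hsoc⟩ := Matlis.exists_smul_mem_socle hPT y hy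
  have hsm : ∀ b ∈ maximalIdeal A, b • (a • y) = 0 :=
    fun b hb => (Submodule.mem_torsionBySet_iff _ _).1 hsoc ⟨b, hb⟩
  exact hasInjectiveDimensionLT_of_sep (E := LocCoh.H (maximalIdeal A) t A) A
    (fun X _ _ x hx => exists_sep_of_injective (a • y) has hsm x hx) t hcd
    (fun j hj => hvan j (by omega)) (LinearMap.ringLmapEquivSelf A A _)

end Groth.Agent.Lib.Helper85.Canon
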