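import Groth.Agent.Lib.Helper85.RegGor
import Groth.Agent.Lib.Helper92.LocCohDepth
import Groth.Agent.Lib.Helper67.Depth

/-!
# Depth in terms of vanishing of local cohomology (numerical forms)
-/

set_option autoImplicit false
set_option linter.style.haveILetI false

namespace Groth.Agent.Lib.Helper85.FLCrit

open CategoryTheory Abelian IsLocalRing Groth.Agent.Lib.Helper92.LC

universe u

section DepthLC

variable (B : Type u) [CommRing B] [IsNoetherianRing B] [IsLocalRing B]
  (N : Type u) [AddCommGroup N] [Module B N] [Module.Finite B N]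

omit [IsNoetherianRing B] [Module.Finite B N] in
theorem depth_eq_top_of_subsingleton [Subsingleton N] : LocCoh.depth B N = ⊤ := by
  unfold LocCoh.depth LocCoh.idealDepth
  rw [if_pos (Subsingleton.elim _ _)]

/-- depth in terms of vanishing of local cohomology -/
theorem le_depth_iff (t : ℕ) :
    (t : ℕ∞) ≤ LocCoh.depth B N ↔
      ∀ j < t, Subsingleton (LocCoh.H (maximalIdeal B) j N) := by
  constructor
  · intro h j hj
    by_cases hN : Nontrivial N
    · exact subsingleton_of_lt_idealDepth (maximalIdeal B) t N
        (Groth.Agent.Lib.Helper67.maximalIdeal_smul_top_ne_top N) h j hj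
    · rw [not_nontrivial_iff_subsingleton] at hN
      exact subsingleton_of_subsingleton (maximalIdeal B) j (ModuleCat.of B N)
  · intro h
    by_contra hlt
    rw [not_le] at hlt
    have hne : LocCoh.depth B N ≠ ⊤ := ne_top_of_lt hlt
    obtain ⟨s, hs⟩ := ENat.ne_top_iff_exists.mp hne
    have hN : Nontrivial N := by
      by_contra hN
      rw [not_nontrivial_iff_subsingleton] at hN
      exact hne (depth_eq_top_of_subsingleton B N)
    have hst : s < t := by
      rw [← hs] at hlt
      exact_mod_cast hlt
    have := nontrivial_of_idealDepth_eq (maximalIdeal B) s N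
      (Groth.Agent.Lib.Helper67.maximalIdeal_smul_top_ne_top N) hs.symm
    exact not_subsingleton _ (h s hst)

/-- `n < depth N + e` iff `H^j(N) = 0` whenever `j + e ≤ n` -/
theorem lt_depth_add_iff (n e : ℕ) :
    (n : ℕ∞) < LocCoh.depth B N + e ↔
      ∀ j : ℕ, j + e ≤ n → Subsingleton (LocCoh.H (maximalIdeal B) j N) := by
  constructor
  · intro h j hj
    have h1 : ((j + 1 : ℕ) : ℕ∞) ≤ LocCoh.depth B N := by
      by_contra hlt
      rw [not_le] at hlt
      have hne : LocCoh.depth B N ≠ ⊤ := ne_top_of_lt hlt
      obtain ⟨s, hs⟩ := ENat.ne_top_iff_exists.mp hne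
      rw [← hs] at hlt h
      have h1 : s < j + 1 := by exact_mod_cast hlt
      have h2 : n < s + e := by exact_mod_cast h
      omega
    exact (le_depth_iff B N (j + 1)).mp h1 j (Nat.lt_succ_self j)
  · intro h
    by_cases hen : n < e
    · calc (n : ℕ∞) < (e : ℕ∞) := by exact_mod_cast hen
        _ ≤ LocCoh.depth B N + e := le_add_self
    · have h1 : ((n + 1 - e : ℕ) : ℕ∞) ≤ LocCoh.depth B N := by
        rw [le_depth_iff]
        intro j hj
        exact h j (by omega)
      calc (n : ℕ∞) < ((n + 1 - e : ℕ) : ℕ∞) + (e : ℕ∞) := by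
            have : n < (n + 1 - e) + e := by omega
            exact_mod_cast this
        _ ≤ LocCoh.depth B N + e := add_le_add_left h1 _

end DepthLC

end Groth.Agent.Lib.Helper85.FLCrit
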