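import Groth.Prelude.Def_Wider
import Mathlib.RingTheory.LocalRing.ResidueField.Ideal
import Mathlib.RingTheory.Length
import Mathlib.RingTheory.Artinian.Ring
import Mathlib.RingTheory.SimpleModule.Basic
import Mathlib.RingTheory.Filtration
import Mathlib.RingTheory.FiniteLength
import Mathlib.Tactic

set_option autoImplicit false
universe u
namespace Groth.Agent.Lib.Helper85.Matlis

open InjHull IsLocalRing

section Basics

variable {R : Type u} [CommRing R] [IsLocalRing R] {E : Type u} [AddCommGroup E] [Module R E]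
  {f : ResidueField R →ₗ[R] E}

instance simpleResidue : IsSimpleModule R (ResidueField R) := by
  change IsSimpleModule R (R ⧸ maximalIdeal R)
  rw [isSimpleModule_iff_isCoatom]
  exact Ideal.isMaximal_def.mp inferInstance

theorem mem_maximalIdeal_smul_residue (a : R) (ha : a ∈ maximalIdeal R) (c : ResidueField R) :
    a • c = 0 := by
  obtain ⟨c, rfl⟩ := Ideal.Quotient.mk_surjective c
  change Ideal.Quotient.mk _ (a * c) = 0
  rw [Ideal.Quotient.eq_zero_iff_mem]
  exact Ideal.mul_mem_right _ _ ha

/-- every nonzero submodule of `E` contains the image of the residue field -/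
theorem range_le_of_ne_bot (hf : IsEssentialInj f) (N : Submodule R E) (hN : N ≠ ⊥) :
    LinearMap.range f ≤ N := by
  have h1 := hf.essential N hN
  have : IsSimpleModule R (LinearMap.range f) :=
    IsSimpleModule.congr (LinearEquiv.ofInjective f hf.injective).symm
  have hat : IsAtom (LinearMap.range f) := isSimpleModule_iff_isAtom.mp inferInstance
  have h2 : N ⊓ LinearMap.range f = LinearMap.range f := by
    rcases hat.le_iff.mp (inf_le_right : N ⊓ LinearMap.range f ≤ LinearMap.range f) with h | h
    · exact absurd h h1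
    · exact h
  rw [← h2]
  exact inf_le_left

theorem f_one_ne_zero (hf : IsEssentialInj f) : f 1 ≠ 0 := by
  intro h
  have := hf.injective (h.trans (map_zero f).symm)
  exact one_ne_zero this

theorem residue_eq_smul_one (c : ResidueField R) : ∃ a : R, c = a • (1 : ResidueField R) := by
  obtain ⟨a, rfl⟩ := Ideal.Quotient.mk_surjective c
  refine ⟨a, ?_⟩
  change _ = Ideal.Quotient.mk _ (a * 1)
  rw [mul_one]

/-- the socle of `E` is the image of the residue field -/
theorem socle_eq_range (hf : IsEssentialInj f) :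
    LocCoh.torsionBy (maximalIdeal R) E = LinearMap.range f := by
  apply le_antisymm
  · intro y hy
    by_cases hy0 : y = 0
    · rw [hy0]; exact zero_mem _
    have hN : Submodule.span R {y} ≠ ⊥ := by
      rw [Ne, Submodule.span_singleton_eq_bot]; exact hy0
    have h1 := range_le_of_ne_bot hf _ hN (LinearMap.mem_range_self f 1)
    obtain ⟨a, ha⟩ := Submodule.mem_span_singleton.mp h1
    have hau : IsUnit a := by
      by_contra hna
      have : a ∈ maximalIdeal R := (IsLocalRing.mem_maximalIdeal a).mpr hna
      have h0 : a • y = 0 := (Submodule.mem_torsionBySet_iff _ y).mp hy ⟨a, this⟩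
      exact f_one_ne_zero hf (ha.symm.trans h0)
    obtain ⟨u, rfl⟩ := hau
    have : y = (↑u⁻¹ : R) • f 1 := by
      rw [← ha, smul_smul, Units.inv_mul, one_smul]
    rw [this]
    exact Submodule.smul_mem _ _ (LinearMap.mem_range_self f 1)
  · rintro _ ⟨c, rfl⟩
    rw [Submodule.mem_torsionBySet_iff]
    rintro ⟨a, ha⟩
    change a • f c = 0
    rw [← map_smul, mem_maximalIdeal_smul_residue a ha, map_zero]

/-- `E` separates points of any module: for `x ≠ 0` there is `φ : M → E` with `φ x ≠ 0`. -/
theorem exists_hom_apply_ne_zero (hf : IsInjectiveHull f) {M : Type u} [AddCommGroup M] [Module R M]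
    (x : M) (hx : x ≠ 0) : ∃ φ : M →ₗ[R] E, φ x ≠ 0 := by
  have := hf.isInjective
  -- the map R → M, 1 ↦ x
  let t : R →ₗ[R] M := LinearMap.toSpanSingleton R M x
  have hker : LinearMap.ker t ≤ maximalIdeal R := by
    apply IsLocalRing.le_maximalIdeal
    intro htop
    have : (1 : R) ∈ LinearMap.ker t := by rw [htop]; trivial
    rw [LinearMap.mem_ker, LinearMap.toSpanSingleton_apply, one_smul] at this
    exact hx this
  -- R/ker → R/m
  let q : (R ⧸ LinearMap.ker t) →ₗ[R] ResidueField R :=
    Submodule.mapQ (LinearMap.ker t) (maximalIdeal R) LinearMap.id hker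
  let e := t.quotKerEquivRange
  let ψ : LinearMap.range t →ₗ[R] E := f ∘ₗ q ∘ₗ e.symm.toLinearMap
  obtain ⟨φ, hφ⟩ := Module.Injective.extension_property R E _ _ (LinearMap.range t).subtype
    (Submodule.subtype_injective _) ψ
  refine ⟨φ, ?_⟩
  have hx' : x = (LinearMap.range t).subtype ⟨x, ⟨1, by simp [t]⟩⟩ := rfl
  have he : e (Submodule.Quotient.mk 1) = ⟨x, ⟨1, by simp [t]⟩⟩ := by
    apply Subtype.ext
    rw [LinearMap.quotKerEquivRange_apply_mk]
    simp [t]
  rw [hx', ← LinearMap.comp_apply, hφ]
  simp only [ψ, LinearMap.comp_apply, LinearEquiv.coe_coe]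
  rw [← he, LinearEquiv.symm_apply_apply]
  have : q (Submodule.Quotient.mk 1) = 1 := rfl
  rw [this]
  exact f_one_ne_zero hf.toIsEssentialInj

theorem isPowerTorsion [IsNoetherianRing R] (hf : IsEssentialInj f) :
    LocCoh.IsPowerTorsion (maximalIdeal R) E := by
  intro x
  let M : Submodule R E := Submodule.span R {x}
  have hxM : x ∈ M := Submodule.mem_span_singleton_self x
  let N : Submodule R M := Submodule.comap M.subtype (LinearMap.range f)
  obtain ⟨k, hk⟩ := Ideal.exists_pow_inf_eq_pow_smul (maximalIdeal R) N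
  refine ⟨k + 1, ?_⟩
  have h1 := hk (k + 1) (by omega)
  have hmN : maximalIdeal R • N = ⊥ := by
    rw [eq_bot_iff, Submodule.smul_le]
    intro a ha y hy
    obtain ⟨c, hc⟩ := hy
    rw [Submodule.mem_bot]
    apply Subtype.ext
    change a • (y : E) = 0
    rw [show (y : E) = M.subtype y from rfl, ← hc, ← map_smul,
      mem_maximalIdeal_smul_residue a ha, map_zero]
  have h2 : maximalIdeal R ^ (k + 1) • (⊤ : Submodule R M) ⊓ N = ⊥ := by
    rw [h1, eq_bot_iff, ← hmN]
    have : k + 1 - k = 1 := by omega
    rw [this, pow_one]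
    exact Submodule.smul_mono le_rfl inf_le_right
  have h3 : maximalIdeal R ^ (k + 1) • (⊤ : Submodule R M) = ⊥ := by
    by_contra hne
    have hne' : (maximalIdeal R ^ (k + 1) • (⊤ : Submodule R M)).map M.subtype ≠ ⊥ := by
      intro h0
      apply hne
      rw [eq_bot_iff]
      intro y hy
      have : M.subtype y ∈ (⊥ : Submodule R E) := by
        rw [← h0]; exact Submodule.mem_map_of_mem hy
      rw [Submodule.mem_bot] at this ⊢
      exact Subtype.ext this
    have h4 := range_le_of_ne_bot hf _ hne' (LinearMap.mem_range_self f 1)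
    obtain ⟨y, hy, hy1⟩ := h4
    have hyN : y ∈ N := by
      change M.subtype y ∈ LinearMap.range f
      rw [hy1]; exact LinearMap.mem_range_self f 1
    have : y ∈ (⊥ : Submodule R M) := by
      rw [← h2]; exact ⟨hy, hyN⟩
    rw [Submodule.mem_bot] at this
    rw [this, map_zero] at hy1
    exact f_one_ne_zero hf hy1.symm
  intro a ha
  have h5 : a • (⟨x, hxM⟩ : M) ∈ maximalIdeal R ^ (k + 1) • (⊤ : Submodule R M) :=
    Submodule.smul_mem_smul ha trivial
  rw [h3, Submodule.mem_bot] at h5
  exact congrArg Subtype.val h5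

/-- in a power-torsion module every nonzero element has a nonzero multiple in the socle -/
theorem exists_smul_mem_socle {M : Type u} [AddCommGroup M] [Module R M]
    (hM : LocCoh.IsPowerTorsion (maximalIdeal R) M) (x : M) (hx : x ≠ 0) :
    ∃ a : R, a • x ≠ 0 ∧ a • x ∈ LocCoh.torsionBy (maximalIdeal R) M := by
  classical
  have hex := hM x
  have hmin := fun {k : ℕ} (hk : k < Nat.find hex) => Nat.find_min hex hk
  have hspec := Nat.find_spec hex
  set n := Nat.find hex with hn
  rcases Nat.eq_zero_or_pos n with h0 | hpos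
  · exfalso
    rw [h0] at hspec
    have := hspec 1 (by simp)
    rw [one_smul] at this
    exact hx this
  · have h1 := hmin (Nat.sub_one_lt hpos.ne')
    simp only [not_forall] at h1
    obtain ⟨a, ha, hax⟩ := h1
    refine ⟨a, hax, ?_⟩
    rw [Submodule.mem_torsionBySet_iff]
    rintro ⟨b, hb⟩
    change b • a • x = 0
    rw [smul_smul]
    apply hspec
    have : n = 1 + (n - 1) := by omega
    rw [this, pow_add, pow_one]
    exact Ideal.mul_mem_mul hb ha

theorem exists_embedding_pi (hf : IsInjectiveHull f) (M : Type u) [AddCommGroup M] [Module R M]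
    (hM : LocCoh.IsPowerTorsion (maximalIdeal R) M) (n : ℕ)
    [Module.Finite (R ⧸ maximalIdeal R) ↥(LocCoh.torsionBy (maximalIdeal R) M)]
    (hn : Module.finrank (R ⧸ maximalIdeal R) ↥(LocCoh.torsionBy (maximalIdeal R) M) = n) :
    ∃ g : M →ₗ[R] (Fin n → E), Function.Injective g := by
  classical
  have := hf.isInjective
  let S := LocCoh.torsionBy (maximalIdeal R) M
  letI : Field (R ⧸ maximalIdeal R) := Ideal.Quotient.field _
  let b : Module.Basis (Fin n) (R ⧸ maximalIdeal R) S := Module.finBasisOfFinrankEq _ _ hn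
  let f' : (R ⧸ maximalIdeal R) →ₗ[R] E := f
  let h : Fin n → (S →ₗ[R] E) := fun i => f'.comp ((b.coord i).restrictScalars R)
  choose g hg using fun i => Module.Injective.extension_property R E _ _ S.subtype
    (Submodule.subtype_injective _) (h i)
  refine ⟨LinearMap.pi g, ?_⟩
  rw [← LinearMap.ker_eq_bot, eq_bot_iff]
  intro x hx
  rw [Submodule.mem_bot]
  by_contra hx0
  obtain ⟨a, hax, haS⟩ := exists_smul_mem_socle hM x hx0
  rw [LinearMap.mem_ker] at hx
  have h1 : ∀ i, g i (a • x) = 0 := by
    intro i
    rw [map_smul]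
    have := congrFun hx i
    rw [LinearMap.pi_apply] at this
    rw [this, Pi.zero_apply, smul_zero]
  have h2 : ∀ i, b.coord i ⟨a • x, haS⟩ = 0 := by
    intro i
    have h3 : g i (a • x) = h i ⟨a • x, haS⟩ := by
      rw [← hg i]; rfl
    rw [h1 i] at h3
    have h4 : f' (b.coord i ⟨a • x, haS⟩) = 0 := h3.symm
    exact hf.injective (h4.trans (map_zero f).symm)
  have h5 : (⟨a • x, haS⟩ : S) = 0 := by
    apply b.ext_elem
    intro i
    rw [map_zero]
    exact h2 i
  exact hax (congrArg Subtype.val h5)

end Basics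

section FiniteLength

variable {R : Type u} [CommRing R] [IsLocalRing R] {E : Type u} [AddCommGroup E] [Module R E]
  {f : ResidueField R →ₗ[R] E}

theorem length_hom_residue (hf : IsEssentialInj f) :
    Module.length R (ResidueField R →ₗ[R] E) = 1 := by
  let Φ : (ResidueField R →ₗ[R] E) →ₗ[R] E := LinearMap.applyₗ (1 : ResidueField R)
  have hΦ : Function.Injective Φ := by
    rw [← LinearMap.ker_eq_bot, eq_bot_iff]
    intro φ hφ
    rw [Submodule.mem_bot]
    ext c
    obtain ⟨a, rfl⟩ := residue_eq_smul_one c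
    have : φ 1 = 0 := hφ
    rw [map_smul, this, smul_zero, LinearMap.zero_apply]
  have hr : LinearMap.range Φ = LinearMap.range f := by
    apply le_antisymm
    · rintro _ ⟨φ, rfl⟩
      rw [← socle_eq_range hf, Submodule.mem_torsionBySet_iff]
      rintro ⟨a, ha⟩
      change a • φ 1 = 0
      rw [← map_smul, mem_maximalIdeal_smul_residue a ha, map_zero]
    · rintro _ ⟨c, rfl⟩
      obtain ⟨a, rfl⟩ := residue_eq_smul_one c
      refine ⟨a • f, ?_⟩
      change (a • f) 1 = _
      rw [LinearMap.smul_apply, map_smul]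
  have e1 := (LinearEquiv.ofInjective Φ hΦ).length_eq
  have e2 := (LinearEquiv.ofInjective f hf.injective).length_eq
  rw [e1, hr, ← e2]
  exact Module.length_eq_one R _

theorem length_hom_of_simple (hf : IsEssentialInj f) (S : Type u) [AddCommGroup S] [Module R S]
    [IsSimpleModule R S] : Module.length R (S →ₗ[R] E) = 1 := by
  obtain ⟨I, hI, ⟨e⟩⟩ := isSimpleModule_iff_quot_maximal.mp (inferInstance : IsSimpleModule R S)
  have hIm : I = maximalIdeal R := IsLocalRing.eq_maximalIdeal hI
  subst hIm
  have e' : (S →ₗ[R] E) ≃ₗ[R] (ResidueField R →ₗ[R] E) := LinearEquiv.congrLeft E R e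
  rw [e'.length_eq]
  exact length_hom_residue hf

theorem length_hom (hf : IsInjectiveHull f) (M : Type u) [AddCommGroup M] [Module R M]
    (h : IsFiniteLength R M) : Module.length R (M →ₗ[R] E) = Module.length R M := by
  have := hf.isInjective
  induction h with
  | of_subsingleton =>
    rw [Module.length_eq_zero, Module.length_eq_zero]
  | @of_simple_quotient M _ _ N _ hN ih =>
    have h1 := Module.length_eq_add_of_exact N.subtype N.mkQ (Submodule.subtype_injective _)
      (Submodule.mkQ_surjective _) (LinearMap.exact_subtype_mkQ N)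
    let α : ((M ⧸ N) →ₗ[R] E) →ₗ[R] (M →ₗ[R] E) := LinearMap.lcomp R E N.mkQ
    let β : (M →ₗ[R] E) →ₗ[R] (N →ₗ[R] E) := LinearMap.lcomp R E N.subtype
    have hα : Function.Injective α := by
      intro φ ψ hφψ
      apply LinearMap.ext
      intro y
      obtain ⟨y, rfl⟩ := Submodule.mkQ_surjective N y
      exact LinearMap.congr_fun hφψ y
    have hβ : Function.Surjective β := by
      intro ψ
      obtain ⟨φ, hφ⟩ := Module.Injective.extension_property R E _ _ N.subtype
        (Submodule.subtype_injective _) ψ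
      exact ⟨φ, hφ⟩
    have hex : Function.Exact α β := by
      intro φ
      constructor
      · intro hφ
        have hle : N ≤ LinearMap.ker φ := by
          intro y hy
          rw [LinearMap.mem_ker]
          exact LinearMap.congr_fun hφ ⟨y, hy⟩
        exact ⟨N.liftQ φ hle, N.liftQ_mkQ φ hle⟩
      · rintro ⟨ψ, rfl⟩
        apply LinearMap.ext
        intro y
        change ψ (N.mkQ (y : M)) = 0
        rw [Submodule.mkQ_apply, (Submodule.Quotient.mk_eq_zero N).mpr y.2, map_zero]
    have h2 := Module.length_eq_add_of_exact α β hα hβ hex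
    rw [h2, h1, ih, length_hom_of_simple hf.toIsEssentialInj (M ⧸ N), Module.length_eq_one R (M ⧸ N), add_comm]

theorem applyₗ_injective (hf : IsInjectiveHull f) (M : Type u) [AddCommGroup M] [Module R M] :
    Function.Injective (LinearMap.applyₗ : M →ₗ[R] (M →ₗ[R] E) →ₗ[R] E) := by
  rw [← LinearMap.ker_eq_bot, eq_bot_iff]
  intro x hx
  rw [Submodule.mem_bot]
  by_contra hx0
  obtain ⟨φ, hφ⟩ := exists_hom_apply_ne_zero hf x hx0
  apply hφ
  have := LinearMap.congr_fun hx φ
  exact this

theorem applyₗ_bijective_of_isFiniteLength (hf : IsInjectiveHull f) (M : Type u) [AddCommGroup M]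
    [Module R M] (h : IsFiniteLength R M) :
    Function.Bijective (LinearMap.applyₗ : M →ₗ[R] (M →ₗ[R] E) →ₗ[R] E) := by
  refine ⟨applyₗ_injective hf M, ?_⟩
  have h1 := length_hom hf M h
  have hfin : Module.length R M ≠ ⊤ := Module.length_ne_top_iff.mpr h
  have h' : IsFiniteLength R (M →ₗ[R] E) := by
    rw [← Module.length_ne_top_iff, h1]; exact hfin
  have h2 := length_hom hf _ h'
  let ev : M →ₗ[R] (M →ₗ[R] E) →ₗ[R] E := LinearMap.applyₗ
  have h3 := Module.length_eq_add_of_exact ev (LinearMap.range ev).mkQ (applyₗ_injective hf M)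
    (Submodule.mkQ_surjective _) (LinearMap.exact_map_mkQ_range ev)
  rw [h2, h1] at h3
  have h4 : Module.length R (((M →ₗ[R] E) →ₗ[R] E) ⧸ LinearMap.range ev) = 0 := by
    have h5 : Module.length R M + 0 = Module.length R M + Module.length R
        (((M →ₗ[R] E) →ₗ[R] E) ⧸ LinearMap.range ev) := by rw [add_zero]; exact h3
    exact ((ENat.add_right_injective_of_ne_top hfin) h5).symm
  rw [Module.length_eq_zero_iff, Submodule.Quotient.subsingleton_iff] at h4
  exact LinearMap.range_eq_top.mp h4

end FiniteLength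

theorem isFiniteLength_of_artinian {R : Type u} [CommRing R] [IsArtinianRing R] (M : Type u)
    [AddCommGroup M] [Module R M] [Module.Finite R M] : IsFiniteLength R M :=
  isFiniteLength_iff_isNoetherian_isArtinian.mpr ⟨inferInstance, inferInstance⟩

end Groth.Agent.Lib.Helper85.Matlis
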