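import Groth.Agent.Lib.Helper85.CanonDual
import Mathlib.Algebra.Category.ModuleCat.Localization
import Mathlib.Algebra.Module.FinitePresentation
import Mathlib.RingTheory.LocalProperties.Projective
import Mathlib.Algebra.Homology.DerivedCategory.Ext.Map

/-!
# `Ext` of a finite module over a Noetherian ring commutes with localization

`LF S` is Mathlib's exact localization functor `ModuleCat R ⥤ ModuleCat (Localization S)`,
`Φ S : Ext^i_R(M,N) → Ext^i_{S⁻¹R}(S⁻¹M, S⁻¹N)` the induced map.  `main`: for finite `M` over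
Noetherian `R`, every element of the target is `Φ x / s`, and `Φ x = 0` implies `s • x = 0` for
some `s ∈ S`.
-/

set_option autoImplicit false
set_option linter.style.haveILetI false

namespace Groth.Agent.Lib.Helper85.ExtLoc

open CategoryTheory Abelian

universe u

variable {R : Type u} [CommRing R] (S : Submonoid R)

/-- the localization functor -/
noncomputable abbrev LF : ModuleCat.{u} R ⥤ ModuleCat.{u} (Localization S) :=
  ModuleCat.localizedModuleFunctor.{u} S

/-- the comparison map on `Ext` -/
noncomputable def Φ {M N : ModuleCat.{u} R} {i : ℕ} (x : Ext.{u} M N i) :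
    Ext.{u} ((LF S).obj M) ((LF S).obj N) i :=
  x.mapExactFunctor (LF S)

theorem LF_map_apply {M N : ModuleCat.{u} R} (f : M ⟶ N) (y : (LF S).obj M) :
    ((LF S).map f).hom y =
      IsLocalizedModule.map S (M.localizedModuleMkLinearMap S) (N.localizedModuleMkLinearMap S)
        f.hom y := rfl

theorem LF_map_smul_id (r : R) (N : ModuleCat.{u} R) :
    (LF S).map (r • 𝟙 N) = algebraMap R (Localization S) r • 𝟙 ((LF S).obj N) := by
  ext y
  rw [LF_map_apply]
  have : (r • 𝟙 N : N ⟶ N).hom = r • LinearMap.id := rfl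
  rw [this, map_smul, IsLocalizedModule.map_id]
  have key : ∀ z : N.localizedModule S, r • z = algebraMap R (Localization S) r • z :=
    fun z => (algebraMap_smul _ r z).symm
  exact key y

theorem Φ_zero {M N : ModuleCat.{u} R} {i : ℕ} : Φ S (0 : Ext.{u} M N i) = 0 :=
  Ext.mapExactFunctor_zero (LF S) M N i

theorem Φ_add {M N : ModuleCat.{u} R} {i : ℕ} (x y : Ext.{u} M N i) :
    Φ S (x + y) = Φ S x + Φ S y :=
  Ext.mapExactFunctor_add (LF S) M N i x y

theorem Φ_mk₀ {M N : ModuleCat.{u} R} (f : M ⟶ N) : Φ S (Ext.mk₀ f) = Ext.mk₀ ((LF S).map f) :=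
  Ext.mapExactFunctor_mk₀ (LF S) f

theorem Φ_comp {M N P : ModuleCat.{u} R} {a b c : ℕ} (x : Ext.{u} M N a) (y : Ext.{u} N P b)
    (h : a + b = c) : Φ S (x.comp y h) = (Φ S x).comp (Φ S y) h :=
  Ext.mapExactFunctor_comp (LF S) x y h

theorem Φ_extClass {T : ShortComplex (ModuleCat.{u} R)} (hT : T.ShortExact) :
    Φ S hT.extClass = (hT.map_of_exact (LF S)).extClass :=
  Ext.mapExactFunctor_extClass (LF S) hT

theorem Φ_smul {M N : ModuleCat.{u} R} {i : ℕ} (r : R) (x : Ext.{u} M N i) :
    Φ S (r • x) = algebraMap R (Localization S) r • Φ S x := by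
  rw [Ext.smul_eq_comp_mk₀, Φ_comp, Φ_mk₀, LF_map_smul_id, Ext.smul_eq_comp_mk₀]


section Zero

variable [IsNoetherianRing R]

/-- degree zero: maps between localizations come from maps, up to a denominator -/
theorem exists_smul_eq_map {M N : ModuleCat.{u} R} [Module.Finite R M]
    (g : (LF S).obj M ⟶ (LF S).obj N) :
    ∃ s ∈ S, ∃ f : M ⟶ N, algebraMap R (Localization S) s • g = (LF S).map f := by
  haveI : Module.FinitePresentation R M := Module.finitePresentation_of_finite R M
  obtain ⟨⟨f, s⟩, hf⟩ := IsLocalizedModule.surj S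
    (IsLocalizedModule.mapExtendScalars S (M.localizedModuleMkLinearMap S)
      (N.localizedModuleMkLinearMap S) (Localization S)) g.hom
  refine ⟨s.1, s.2, ModuleCat.ofHom f, ?_⟩
  ext y
  have h1 := LinearMap.congr_fun hf y
  rw [LF_map_apply]
  change algebraMap R (Localization S) s.1 • g.hom y = _
  have key : ∀ z : N.localizedModule S, algebraMap R (Localization S) s.1 • z = s.1 • z :=
    fun z => algebraMap_smul _ s.1 z
  exact (key _).trans h1

theorem exists_smul_eq_zero_of_map_eq_zero {M N : ModuleCat.{u} R} [Module.Finite R M]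
    (f : M ⟶ N) (hf : (LF S).map f = 0) : ∃ s ∈ S, s • f = 0 := by
  haveI : Module.FinitePresentation R M := Module.finitePresentation_of_finite R M
  have h1 : IsLocalizedModule.mapExtendScalars S (M.localizedModuleMkLinearMap S)
      (N.localizedModuleMkLinearMap S) (Localization S) f.hom =
      IsLocalizedModule.mapExtendScalars S (M.localizedModuleMkLinearMap S)
      (N.localizedModuleMkLinearMap S) (Localization S) 0 := by
    rw [map_zero]
    exact congrArg ModuleCat.Hom.hom hf
  obtain ⟨s, hs⟩ := IsLocalizedModule.exists_of_eq (S := S) h1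
  refine ⟨s.1, s.2, ?_⟩
  ext m
  have h2 := LinearMap.congr_fun hs m
  rw [smul_zero, LinearMap.zero_apply] at h2
  exact h2

end Zero

theorem projective_LF_obj (P : ModuleCat.{u} R) [Module.Projective R P] :
    Projective ((LF S).obj P) := by
  haveI : Module.Projective (Localization S) (P.localizedModule S) :=
    Module.projective_of_isLocalizedModule S (P.localizedModuleMkLinearMap S)
  exact (IsProjective.iff_projective (R := Localization S) (P.localizedModule S)).mp this


theorem Φ_sub {M N : ModuleCat.{u} R} {i : ℕ} (x y : Ext.{u} M N i) :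
    Φ S (x - y) = Φ S x - Φ S y :=
  map_sub ((LF S).mapExtAddHom M N i) x y

section Main

open Groth.Agent.Lib.Helper85.Canon

variable [IsNoetherianRing R]

/-- `Ext` of a finite module over a Noetherian ring commutes with localization, in elementwise
form -/
theorem main (i : ℕ) : ∀ (M : Type u) [AddCommGroup M] [Module R M] [Module.Finite R M]
    (N : ModuleCat.{u} R),
    (∀ y : Ext.{u} ((LF S).obj (ModuleCat.of R M)) ((LF S).obj N) i, ∃ s ∈ S,
      ∃ x : Ext.{u} (ModuleCat.of R M) N i, algebraMap R (Localization S) s • y = Φ S x) ∧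
    (∀ x : Ext.{u} (ModuleCat.of R M) N i, Φ S x = 0 → ∃ s ∈ S, s • x = 0) := by
  induction i with
  | zero =>
    intro M _ _ _ N
    constructor
    · intro y
      obtain ⟨g, rfl⟩ := (Ext.mk₀_bijective _ _).2 y
      obtain ⟨s, hs, f, hf⟩ := exists_smul_eq_map S (M := ModuleCat.of R M) (N := N) g
      refine ⟨s, hs, Ext.mk₀ f, ?_⟩
      rw [Φ_mk₀, ← hf, Ext.mk₀_smul]
    · intro x hx
      obtain ⟨f, rfl⟩ := (Ext.mk₀_bijective _ _).2 x
      rw [Φ_mk₀] at hx
      have h0 : (LF S).map f = 0 := by
        apply (Ext.mk₀_bijective _ _).1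
        rw [hx, Ext.mk₀_zero]
      obtain ⟨s, hs, hsf⟩ := exists_smul_eq_zero_of_map_eq_zero S (M := ModuleCat.of R M) f h0
      refine ⟨s, hs, ?_⟩
      rw [← Ext.mk₀_smul, hsf, Ext.mk₀_zero]
  | succ i ih =>
    intro M _ _ _ N
    obtain ⟨b, p, hp⟩ := Module.Finite.exists_fin' R M
    have hT := LinearMap.shortExact_shortComplexKer hp
    have hT' := hT.map_of_exact (LF S)
    haveI : Module.Projective R p.shortComplexKer.X₂ :=
      inferInstanceAs (Module.Projective R (Fin b → R))
    haveI : Projective p.shortComplexKer.X₂ :=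
      inferInstanceAs (Projective (ModuleCat.of R (Fin b → R)))
    haveI : Projective (p.shortComplexKer.map (LF S)).X₂ := projective_LF_obj S p.shortComplexKer.X₂
    haveI : Module.Finite R (LinearMap.ker p) := inferInstance
    have ihK := ih (LinearMap.ker p) N
    have ihP := ih (Fin b → R) N
    constructor
    · intro y
      obtain ⟨z, rfl⟩ := extδ_surjective hT' ((LF S).obj N) i y
      obtain ⟨s, hs, x, hx⟩ := ihK.1 z
      refine ⟨s, hs, hT.extClass.comp x (add_comm 1 i), ?_⟩
      have e1 : Φ S (hT.extClass.comp x (add_comm 1 i)) =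
          hT'.extClass.comp (Φ S x) (add_comm 1 i) := by
        rw [Φ_comp, Φ_extClass]
        rfl
      rw [e1, ← hx]
      exact (Ext.comp_smul hT'.extClass z (add_comm 1 i) (algebraMap R (Localization S) s)).symm
    · intro x hx
      obtain ⟨w, rfl⟩ := extδ_surjective hT N i x
      have e1 : Φ S (hT.extClass.comp w (add_comm 1 i)) =
          hT'.extClass.comp (Φ S w) (add_comm 1 i) := by
        rw [Φ_comp, Φ_extClass]
        rfl
      replace hx : hT'.extClass.comp (Φ S w) (add_comm 1 i) = 0 := e1.symm.trans hx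
      obtain ⟨v, hv⟩ := Ext.contravariant_sequence_exact₁ hT' ((LF S).obj N) (Φ S w)
        (add_comm 1 i) hx
      obtain ⟨s, hs, v₀, hv₀⟩ := ihP.1 v
      have h1 : Φ S (s • w - (Ext.mk₀ p.shortComplexKer.f).comp v₀ (zero_add i)) = 0 := by
        have e2 : Φ S ((Ext.mk₀ p.shortComplexKer.f).comp v₀ (zero_add i)) =
            (Ext.mk₀ (p.shortComplexKer.map (LF S)).f).comp (Φ S v₀) (zero_add i) := by
          rw [Φ_comp, Φ_mk₀]
          rfl
        have e3 := Ext.comp_smul (Ext.mk₀ (p.shortComplexKer.map (LF S)).f) v (zero_add i)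
          (algebraMap R (Localization S) s)
        rw [Φ_sub, Φ_smul, e2, ← hv₀, ← hv]
        exact sub_eq_zero.mpr e3.symm
      obtain ⟨s', hs', h2⟩ := ihK.2 _ h1
      refine ⟨s' * s, S.mul_mem hs' hs, ?_⟩
      change (s' * s) • hT.extClass.comp w (add_comm 1 i) = 0
      rw [smul_sub, smul_smul, sub_eq_zero] at h2
      rw [← Ext.comp_smul, h2, Ext.comp_smul, hT.extClass_comp_assoc, smul_zero]

end Main

end Groth.Agent.Lib.Helper85.ExtLoc
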