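import Groth.Agent.Lib.Helper85.GorRing
import Groth.Agent.Lib.Helper43.KoszulH1
import Groth.Agent.Lib.Helper43.SeqFlatBC
import Groth.Agent.Lib.Helper94.RegCancel
import Groth.Agent.S2868

/-!
# Local complete intersections over Gorenstein rings are Gorenstein
-/

set_option autoImplicit false
set_option linter.style.haveILetI false

namespace Groth.Agent.Lib.Helper85.GorLCI

open CategoryTheory IsLocalRing RingTheory.Sequence
open Groth.Agent.Lib.Helper85.GorRing

universe u

/-- `H₁`-regular (ring form) implies vanishing of the first Koszul homology (module form) -/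
theorem koszulH1Zero_of_isH1Regular {R : Type u} [CommRing R] {c : ℕ} (f : Fin c → R)
    (h : CAlgX.IsH1Regular f) : CInt.KoszulH1Zero f R := by
  intro m hm
  have hm' : ∑ i, m i * f i = 0 := by
    rw [← hm]
    exact Finset.sum_congr rfl fun i _ => by rw [smul_eq_mul, mul_comm]
  have := h m hm'
  refine Submodule.span_mono ?_ this
  rintro v ⟨i, j, rfl⟩
  refine ⟨i, j, 1, ?_⟩
  ext t
  simp [Pi.single_apply]

/-- Koszul-regular sequences in the maximal ideal of a Noetherian local ring are regular -/
theorem isWeaklyRegular_of_koszulRegular {R : Type u} [CommRing R] [IsLocalRing R]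
    [IsNoetherianRing R] (l : List R) (h : LCI.IsKoszulRegularSeq R l)
    (hm : ∀ x ∈ l, x ∈ maximalIdeal R) : IsWeaklyRegular R l := by
  have h1 := Groth.Agent.Lib.Helper43.KoszulH1.isH1Regular_of_isKoszulRegularSeq l h
  have h2 := koszulH1Zero_of_isH1Regular _ h1
  have h3 := Groth.Agent.S2868.result l.get (fun i => by
    rw [IsLocalRing.jacobson_eq_maximalIdeal _ bot_ne_top]
    exact hm _ (List.get_mem l i)) R h2
  rwa [List.ofFn_get] at h3

/-- quotient of a Gorenstein local ring by a regular sequence is Gorenstein (abstract surjection) -/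
theorem gor_of_regularSeq_aux (n : ℕ) : ∀ (R R' : Type u) [CommRing R] [CommRing R']
    [LocCoh.IsGorensteinLocalRing R] (rs : List R), rs.length = n → IsWeaklyRegular R rs →
    (∀ x ∈ rs, x ∈ maximalIdeal R) → ∀ (π : R →+* R'), Function.Surjective π →
    RingHom.ker π = Ideal.ofList rs → LocCoh.IsGorensteinLocalRing R' := by
  induction n with
  | zero =>
    intro R R' _ _ _ rs hlen _ _ π hπ hker
    obtain rfl := List.length_eq_zero_iff.mp hlen
    rw [Ideal.ofList_nil] at hker
    have hinj : Function.Injective π := (RingHom.injective_iff_ker_eq_bot π).mpr hker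
    exact gor_of_ringEquiv (RingEquiv.ofBijective π ⟨hinj, hπ⟩)
  | succ n ih =>
    intro R R' _ _ _ rs hlen hreg hm π hπ hker
    obtain ⟨x, rs', rfl⟩ := List.exists_cons_of_length_eq_add_one hlen
    rw [Groth.Agent.Lib.Helper94.RegCancel.isWeaklyRegular_cons_iff_quotient] at hreg
    have hxm : x ∈ maximalIdeal R := hm x (List.mem_cons_self)
    haveI : IsLocalRing (R ⧸ Ideal.span {x}) :=
      Groth.Agent.Lib.Helper85.GorFlat.isLocalRing_quot _
        ((Ideal.span_singleton_le_iff_mem _).mpr hxm)
    haveI : LocCoh.IsGorensteinLocalRing (R ⧸ Ideal.span {x}) :=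
      (Groth.Agent.Lib.Helper85.GorFlat.gorenstein_quot_iff x hxm hreg.1 _ rfl).mpr inferInstance
    have hxker : Ideal.span {x} ≤ RingHom.ker π := by
      rw [hker, Ideal.ofList_cons]
      exact le_sup_left
    refine ih (R ⧸ Ideal.span {x}) R' (rs'.map (Ideal.Quotient.mk (Ideal.span {x}))) ?_ hreg.2 ?_
      (Ideal.Quotient.lift (Ideal.span {x}) π hxker) ?_ ?_
    · rw [List.length_map]
      simpa using hlen
    · intro y hy
      obtain ⟨z, hz, rfl⟩ := List.mem_map.mp hy
      exact (Groth.Agent.Lib.Helper85.GorFlat.mk_mem_maximalIdeal_iff (Ideal.span {x})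
        ((Ideal.span_singleton_le_iff_mem _).mpr hxm) z).mpr (hm z (List.mem_cons_of_mem _ hz))
    · exact Ideal.Quotient.lift_surjective_of_surjective _ _ hπ
    · rw [Ideal.ker_quotient_lift, hker, Ideal.ofList_cons, Ideal.map_sup, Ideal.map_ofList,
        Ideal.map_span, Set.image_singleton, Ideal.Quotient.eq_zero_iff_mem.mpr
          (Ideal.mem_span_singleton_self x)]
      simp

/-- a Koszul-regular ideal is generated by a Koszul-regular sequence in the local ring of any
prime containing it -/
theorem exists_koszulRegular_local {P : Type u} [CommRing P] (I : Ideal P)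
    (hI : LCI.IsKoszulRegularIdeal I) (𝔮 : Ideal P) [𝔮.IsPrime] (hIQ : I ≤ 𝔮) :
    ∃ rs : List (Localization.AtPrime 𝔮), LCI.IsKoszulRegularSeq (Localization.AtPrime 𝔮) rs ∧
      I.map (algebraMap P (Localization.AtPrime 𝔮)) = Ideal.ofList rs := by
  obtain ⟨g, hgQ, l, hl, hspan⟩ := hI ⟨𝔮, inferInstance⟩ hIQ
  have hgu : IsUnit (algebraMap P (Localization.AtPrime 𝔮) g) :=
    IsLocalization.map_units _ (⟨g, hgQ⟩ : 𝔮.primeCompl)
  let ψ : Localization.Away g →+* Localization.AtPrime 𝔮 := IsLocalization.Away.lift g hgu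
  letI : Algebra (Localization.Away g) (Localization.AtPrime 𝔮) := ψ.toAlgebra
  haveI : IsScalarTower P (Localization.Away g) (Localization.AtPrime 𝔮) :=
    IsScalarTower.of_algebraMap_eq (fun x => (IsLocalization.Away.lift_eq g hgu x).symm)
  have hle : Submonoid.powers g ≤ 𝔮.primeCompl := by
    rw [Submonoid.powers_le]
    exact hgQ
  haveI : IsLocalization ((𝔮.primeCompl).map (algebraMap P (Localization.Away g)))
      (Localization.AtPrime 𝔮) :=
    IsLocalization.isLocalization_of_submonoid_le (Localization.Away g)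
      (Localization.AtPrime 𝔮) (Submonoid.powers g) 𝔮.primeCompl hle
  have hψ : ψ.Flat := IsLocalization.flat _ ((𝔮.primeCompl).map
      (algebraMap P (Localization.Away g)))
  refine ⟨l.map ψ, Groth.Agent.Lib.Helper43.SeqFlatBC.koszulRegular_of_flat ψ hψ l hl, ?_⟩
  rw [IsScalarTower.algebraMap_eq P (Localization.Away g) _, ← Ideal.map_map, hspan,
    Ideal.map_span]
  unfold Ideal.ofList
  congr 1
  ext y
  simp only [Set.mem_image, Set.mem_setOf_eq, List.mem_map]
  rfl

/-- **LCI over Gorenstein is Gorenstein** -/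
theorem gorRing_of_isLCI (A B : Type u) [CommRing A] [CommRing B] [Algebra A B]
    (hA : LocCoh.IsGorensteinRing A) (h : LCI.IsLCI A B) : LocCoh.IsGorensteinRing B := by
  obtain ⟨-, n, f, hf, hI⟩ := h
  haveI := hA
  haveI : LocCoh.IsGorensteinRing (MvPolynomial (Fin n) A) := by
    haveI := gorRing_mvPolynomial A (ULift.{u} (Fin n))
    exact gorRing_of_ringEquiv
      (MvPolynomial.renameEquiv A (Equiv.ulift : ULift.{u} (Fin n) ≃ Fin n)).toRingEquiv
  haveI : IsNoetherianRing B := isNoetherianRing_of_surjective _ _ f.toRingHom hf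
  refine { isGorensteinLocalRing_localization := fun Q' _ => ?_ }
  obtain ⟨φ, hφ, hkerφ, -⟩ := exists_loc_surjective f.toRingHom hf (Q'.comap f.toRingHom) Q' rfl
  have hIQ : RingHom.ker f.toRingHom ≤ Q'.comap f.toRingHom := Ideal.comap_mono bot_le
  obtain ⟨g, hgQ, l, hl, hspan⟩ := hI ⟨Q'.comap f.toRingHom, inferInstance⟩ hIQ
  have hgu : IsUnit (algebraMap (MvPolynomial (Fin n) A)
      (Localization.AtPrime (Q'.comap f.toRingHom)) g) :=
    IsLocalization.map_units _ (⟨g, hgQ⟩ : (Q'.comap f.toRingHom).primeCompl)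
  let ψ : Localization.Away g →+* Localization.AtPrime (Q'.comap f.toRingHom) :=
    IsLocalization.Away.lift g hgu
  letI : Algebra (Localization.Away g) (Localization.AtPrime (Q'.comap f.toRingHom)) :=
    ψ.toAlgebra
  haveI : IsScalarTower (MvPolynomial (Fin n) A) (Localization.Away g)
      (Localization.AtPrime (Q'.comap f.toRingHom)) :=
    IsScalarTower.of_algebraMap_eq (fun x => (IsLocalization.Away.lift_eq g hgu x).symm)
  have hle : Submonoid.powers g ≤ (Q'.comap f.toRingHom).primeCompl := by
    rw [Submonoid.powers_le]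
    exact hgQ
  haveI : IsLocalization (((Q'.comap f.toRingHom).primeCompl).map
      (algebraMap (MvPolynomial (Fin n) A) (Localization.Away g)))
      (Localization.AtPrime (Q'.comap f.toRingHom)) :=
    IsLocalization.isLocalization_of_submonoid_le (Localization.Away g)
      (Localization.AtPrime (Q'.comap f.toRingHom)) (Submonoid.powers g)
      (Q'.comap f.toRingHom).primeCompl hle
  have hψ : ψ.Flat := IsLocalization.flat _ (((Q'.comap f.toRingHom).primeCompl).map
      (algebraMap (MvPolynomial (Fin n) A) (Localization.Away g)))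
  have hl' := Groth.Agent.Lib.Helper43.SeqFlatBC.koszulRegular_of_flat ψ hψ l hl
  have hspan' : (RingHom.ker f.toRingHom).map (algebraMap (MvPolynomial (Fin n) A)
      (Localization.AtPrime (Q'.comap f.toRingHom))) = Ideal.ofList (l.map ψ) := by
    rw [IsScalarTower.algebraMap_eq (MvPolynomial (Fin n) A) (Localization.Away g) _,
      ← Ideal.map_map, hspan, Ideal.map_span]
    unfold Ideal.ofList
    congr 1
    ext y
    simp only [Set.mem_image, Set.mem_setOf_eq, List.mem_map]
    rfl
  have hmem : ∀ x ∈ l.map ψ, x ∈ maximalIdeal (Localization.AtPrime (Q'.comap f.toRingHom)) := by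
    intro x hx
    have hx' : x ∈ Ideal.ofList (l.map ψ) := Ideal.subset_span hx
    rw [← hspan'] at hx'
    rw [← Localization.AtPrime.map_eq_maximalIdeal]
    exact Ideal.map_mono hIQ hx'
  haveI := LocCoh.IsGorensteinRing.isGorensteinLocalRing_localization
    (A := MvPolynomial (Fin n) A) (Q'.comap f.toRingHom)
  have hreg := isWeaklyRegular_of_koszulRegular (l.map ψ) hl' hmem
  exact gor_of_regularSeq_aux _ _ _ (l.map ψ) rfl hreg hmem φ hφ (hkerφ.trans hspan')

end Groth.Agent.Lib.Helper85.GorLCI
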