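import Groth.Agent.Lib.Helper85.GorRing
import Mathlib.RingTheory.LocalRing.ResidueField.Fiber
import Mathlib.RingTheory.Flat.Localization

/-!
# Gorenstein property and fibres of flat ring maps
-/

set_option autoImplicit false
set_option linter.style.haveILetI false

namespace Groth.Agent.Lib.Helper85.GorFiber

open CategoryTheory IsLocalRing TensorProduct
open Groth.Agent.Lib.Helper85.GorRing

universe u

section

variable (R S : Type u) [CommRing R] [CommRing S] [Algebra R S] [Module.Flat R S]
  (p : Ideal R) [p.IsPrime]

/-- Gorenstein along `R_p → S_r` in terms of the fibre ring `κ(p) ⊗ S` localized at the prime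
corresponding to `r`. -/
theorem gor_iff_fiber_aux (Q : Ideal (p.Fiber S)) [Q.IsPrime]
    [IsNoetherianRing (Localization.AtPrime p)]
    [IsNoetherianRing (Localization.AtPrime
      (Q.comap (Algebra.TensorProduct.includeRight : S →ₐ[R] p.Fiber S)))]
    [IsNoetherianRing (Localization.AtPrime Q)] :
    LocCoh.IsGorensteinLocalRing (Localization.AtPrime
        (Q.comap (Algebra.TensorProduct.includeRight : S →ₐ[R] p.Fiber S))) ↔
      LocCoh.IsGorensteinLocalRing (Localization.AtPrime p) ∧
        LocCoh.IsGorensteinLocalRing (Localization.AtPrime Q) := by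
  letI := Localization.AtPrime.algebraOfLiesOver p
    (Q.comap (Algebra.TensorProduct.includeRight : S →ₐ[R] p.Fiber S))
  haveI : IsLocalHom (algebraMap (Localization.AtPrime p) (Localization.AtPrime
      (Q.comap (Algebra.TensorProduct.includeRight : S →ₐ[R] p.Fiber S)))) :=
    Localization.isLocalHom_localRingHom _ _ _ _
  let e := Ideal.Fiber.localizationAlgEquivQuotient p Q
  let π : Localization.AtPrime
      (Q.comap (Algebra.TensorProduct.includeRight : S →ₐ[R] p.Fiber S)) →+*
      Localization.AtPrime Q :=
    (e.symm.toRingEquiv.toRingHom).comp (Ideal.Quotient.mk _)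
  have hπ : Function.Surjective π :=
    e.symm.surjective.comp Ideal.Quotient.mk_surjective
  refine gor_iff_fibre _ _ _ π hπ ?_
  have : RingHom.ker π = RingHom.ker (Ideal.Quotient.mk (p.map (algebraMap R (Localization.AtPrime
      (Q.comap (Algebra.TensorProduct.includeRight : S →ₐ[R] p.Fiber S)))))) := by
    ext x
    simp only [RingHom.mem_ker, π, RingHom.comp_apply]
    exact map_eq_zero_iff e.symm.toRingEquiv e.symm.injective
  rw [this, Ideal.mk_ker, ← Localization.AtPrime.map_eq_maximalIdeal, Ideal.map_map,
    ← IsScalarTower.algebraMap_eq]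

theorem exists_fiber_prime (r : Ideal S) [r.IsPrime] (hr : r.comap (algebraMap R S) = p) :
    ∃ Q : PrimeSpectrum (p.Fiber S),
      Q.asIdeal.comap (Algebra.TensorProduct.includeRight : S →ₐ[R] p.Fiber S) = r := by
  let x : PrimeSpectrum.comap (algebraMap R S) ⁻¹' {(⟨p, inferInstance⟩ : PrimeSpectrum R)} :=
    ⟨⟨r, inferInstance⟩, by
      simp only [Set.mem_preimage, Set.mem_singleton_iff]
      exact PrimeSpectrum.ext hr⟩
  refine ⟨PrimeSpectrum.preimageEquivFiber R S ⟨p, inferInstance⟩ x, ?_⟩
  have := (PrimeSpectrum.preimageEquivFiber R S ⟨p, inferInstance⟩).left_inv x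
  exact congrArg (fun y => y.1.asIdeal) this

/-- flat map with Gorenstein fibre over `p`: Gorenstein ascends and descends between `R_p`
and `S_r` for `r` over `p`. -/
theorem gor_iff_of_fiber [IsNoetherianRing R] [IsNoetherianRing S] (r : Ideal S) [r.IsPrime]
    (hr : r.comap (algebraMap R S) = p) [hF : LocCoh.IsGorensteinRing (p.Fiber S)] :
    LocCoh.IsGorensteinLocalRing (Localization.AtPrime r) ↔
      LocCoh.IsGorensteinLocalRing (Localization.AtPrime p) := by
  obtain ⟨Q, hQ⟩ := exists_fiber_prime R S p r hr
  subst hQ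
  haveI : IsNoetherianRing (Localization.AtPrime p) :=
    IsLocalization.isNoetherianRing p.primeCompl _ (inferInstance : IsNoetherianRing R)
  haveI : IsNoetherianRing (Localization.AtPrime
      (Q.asIdeal.comap (Algebra.TensorProduct.includeRight : S →ₐ[R] p.Fiber S))) :=
    IsLocalization.isNoetherianRing (Ideal.primeCompl
      (Q.asIdeal.comap (Algebra.TensorProduct.includeRight : S →ₐ[R] p.Fiber S))) _
      (inferInstance : IsNoetherianRing S)
  haveI := LocCoh.IsGorensteinRing.isGorensteinLocalRing_localization (A := p.Fiber S) Q.asIdeal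
  rw [gor_iff_fiber_aux R S p Q.asIdeal]
  exact ⟨fun h => h.1, fun h => ⟨h, inferInstance⟩⟩

end

end Groth.Agent.Lib.Helper85.GorFiber
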