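import Groth.Agent.Lib.Helper85.GorRing
import Mathlib.RingTheory.TensorProduct.MvPolynomial
import Mathlib.RingTheory.TensorProduct.Quotient
import Mathlib.RingTheory.Localization.BaseChange
import Mathlib.FieldTheory.IntermediateField.Adjoin.Algebra

/-!
# Gorenstein rings under base change along finitely generated field extensions
-/

set_option autoImplicit false
set_option linter.style.haveILetI false

namespace Groth.Agent.Lib.Helper85.GorField

open CategoryTheory IsLocalRing TensorProduct
open Groth.Agent.Lib.Helper85.GorRing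

universe u

/-- the `k`-algebra `K` preserves Gorenstein rings under base change -/
def GorBC (k K : Type u) [Field k] [CommRing K] [Algebra k K] : Prop :=
  ∀ (R : Type u) [CommRing R] [Algebra k R],
    LocCoh.IsGorensteinRing R → LocCoh.IsGorensteinRing (K ⊗[k] R)

variable {k : Type u} [Field k]

theorem gorBC_self : GorBC k k := fun R _ _ _ =>
  gorRing_of_ringEquiv (Algebra.TensorProduct.lid k R).symm.toRingEquiv

variable {K : Type u} [CommRing K] [Algebra k K]

theorem GorBC.of_algEquiv {K' : Type u} [CommRing K'] [Algebra k K'] (e : K ≃ₐ[k] K')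
    (h : GorBC k K) : GorBC k K' := fun R _ _ hR => by
  haveI := h R hR
  exact gorRing_of_ringEquiv (Algebra.TensorProduct.congr e (AlgEquiv.refl (R := k) (A₁ := R))).toRingEquiv

theorem GorBC.mvPolynomial (σ : Type u) [Finite σ] (h : GorBC k K) :
    GorBC k (MvPolynomial σ K) := fun R _ _ hR => by
  haveI := h R hR
  haveI := gorRing_mvPolynomial (K ⊗[k] R) σ
  let e1 := (Algebra.TensorProduct.comm k (MvPolynomial σ K) R).toRingEquiv
  let e2 := (MvPolynomial.rTensorAlgEquiv (R := k) (N := K) (S := R) (σ := σ)).toRingEquiv
  let e3 := (MvPolynomial.mapAlgEquiv σ (Algebra.TensorProduct.comm k R K)).toRingEquiv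
  exact gorRing_of_ringEquiv ((e1.trans e2).trans e3).symm

open Polynomial in
theorem GorBC.polynomial (h : GorBC k K) : GorBC k K[X] :=
  (h.mvPolynomial PUnit.{u+1}).of_algEquiv ((MvPolynomial.pUnitAlgEquiv K).restrictScalars k)

theorem GorBC.quot (h : GorBC k K) (f : K) (hf : IsSMulRegular K f) :
    GorBC k (K ⧸ Ideal.span {f}) := fun R _ _ hR => by
  haveI := h R hR
  let e := (Algebra.TensorProduct.quotientTensorEquiv (R := k) k R K (Ideal.span {f})).toRingEquiv
  have hreg : IsSMulRegular (K ⊗[k] R) (algebraMap K (K ⊗[k] R) f) := IsSMulRegular.of_flat hf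
  have hI : (Ideal.span {f}).map (algebraMap K (K ⊗[k] R)) =
      Ideal.span {algebraMap K (K ⊗[k] R) f} := by
    rw [Ideal.map_span, Set.image_singleton]
  haveI := gorRing_quot _ hreg
  exact gorRing_of_ringEquiv (e.trans (Ideal.quotEquivOfEq hI)).symm

theorem GorBC.localization (h : GorBC k K) (M : Submonoid K) (K' : Type u) [CommRing K']
    [Algebra K K'] [Algebra k K'] [IsScalarTower k K K'] [IsLocalization M K'] :
    GorBC k K' := fun R _ _ hR => by
  haveI := h R hR
  letI : Algebra (K ⊗[k] R) (K' ⊗[k] R) :=
    (Algebra.TensorProduct.map (IsScalarTower.toAlgHom k K K') (AlgHom.id k R)).toRingHom.toAlgebra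
  haveI : IsScalarTower K (K ⊗[k] R) (K' ⊗[k] R) :=
    IsScalarTower.of_algebraMap_eq (fun x => by
      simp [RingHom.algebraMap_toAlgebra])
  haveI := IsLocalization.tensorProduct_tensorProduct k R M K' (by
    ext x
    simp [RingHom.algebraMap_toAlgebra])
  exact gorRing_localization (Algebra.algebraMapSubmonoid (K ⊗[k] R) M) (K' ⊗[k] R)

theorem GorBC.quot_principal [IsDomain K] (h : GorBC k K) (I : Ideal K)
    (hI : Submodule.IsPrincipal I) : GorBC k (K ⧸ I) := by
  obtain ⟨g, rfl⟩ := hI.principal
  by_cases hg : g = 0
  · subst hg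
    have h0 : (⊥ : Ideal K) = Submodule.span K {0} := by simp
    exact h.of_algEquiv ((AlgEquiv.quotientBot k K).symm.trans (Ideal.quotientEquivAlgOfEq k h0))
  · exact h.quot g (isRegular_of_ne_zero hg).left.isSMulRegular

section Step

variable (k)
variable (F E : Type u) [Field F] [Field E] [Algebra k F] [Algebra F E] [Algebra k E]
  [IsScalarTower k F E]

open IntermediateField Polynomial in
open IntermediateField.algebraAdjoinAdjoin in
/-- adjoining one element preserves `GorBC` -/
theorem gorBC_adjoin_simple (x : E) (h : GorBC k F) : GorBC k ↥F⟮x⟯ := by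
  have h1 : GorBC k F[X] := h.polynomial
  have h2 : GorBC k (F[X] ⧸ RingHom.ker (aeval (R := F) x)) :=
    h1.quot_principal _ (IsPrincipalIdealRing.principal _)
  have hker : RingHom.ker (aeval (R := F) x).rangeRestrict = RingHom.ker (aeval (R := F) x) := by
    ext p
    simp only [RingHom.mem_ker]
    constructor
    · intro hp
      have := congrArg Subtype.val hp
      simpa using this
    · intro hp
      apply Subtype.ext
      simpa using hp
  let e1 : (F[X] ⧸ RingHom.ker (aeval (R := F) x)) ≃ₐ[F] (aeval (R := F) x).range :=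
    (Ideal.quotientEquivAlgOfEq F hker.symm).trans
      (Ideal.quotientKerAlgEquivOfSurjective (aeval (R := F) x).rangeRestrict_surjective)
  let e2 : (aeval (R := F) x).range ≃ₐ[F] Algebra.adjoin F {x} :=
    Subalgebra.equivOfEq _ _ (Algebra.adjoin_singleton_eq_range_aeval F x).symm
  have h3 : GorBC k (Algebra.adjoin F {x}) :=
    h2.of_algEquiv ((e1.trans e2).restrictScalars k)
  exact h3.localization (nonZeroDivisors (Algebra.adjoin F {x})) F⟮x⟯

end Step

/-- finitely generated field extensions preserve Gorenstein rings under base change -/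
theorem gorBC_of_fg (k K : Type u) [Field k] [Field K] [Algebra k K]
    (hK : ∃ s : Finset K, IntermediateField.adjoin k (s : Set K) = ⊤) : GorBC k K := by
  obtain ⟨s, hs⟩ := hK
  have key : GorBC k ↥(IntermediateField.adjoin k (s : Set K)) := by
    refine IntermediateField.induction_on_adjoin_finset s (fun L => GorBC k ↥L) ?_ ?_
    · exact gorBC_self.of_algEquiv (IntermediateField.botEquiv k K).symm
    · intro L x _ hL
      have := gorBC_adjoin_simple k ↥L K x hL
      refine this.of_algEquiv ?_
      exact
        { toFun := fun y => ⟨y.1, y.2⟩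
          invFun := fun y => ⟨y.1, y.2⟩
          left_inv := fun _ => rfl
          right_inv := fun _ => rfl
          map_mul' := fun _ _ => rfl
          map_add' := fun _ _ => rfl
          commutes' := fun _ => rfl }
  rw [hs] at key
  exact key.of_algEquiv IntermediateField.topEquiv

end Groth.Agent.Lib.Helper85.GorField
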