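import Groth.Agent.Lib.Helper85.GorSpecialFibre
import Groth.Prelude.Def_Dual3

/-!
# Gorenstein morphisms (`Dual3.IsGorensteinAt`) via local algebra
-/

set_option autoImplicit false
set_option linter.style.haveILetI false

namespace Groth.Agent.Lib.Helper85.GorMor

open CategoryTheory Limits AlgebraicGeometry IsLocalRing
open Groth.Agent.Lib.Helper85.GorRing
open Groth.Agent.Lib.Helper67.FiberStalk

universe u

variable {X S : Scheme.{u}} (f : X ⟶ S)

theorem isGorensteinAt_iff (x : X) :
    Dual3.IsGorensteinAt f x ↔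
      (f.stalkMap x).hom.Flat ∧ LocCoh.IsGorensteinLocalRing (Q f x) := by
  unfold Dual3.IsGorensteinAt
  refine and_congr Iff.rfl ⟨fun h => ?_, fun h => ?_⟩
  · haveI := h
    exact gor_of_ringEquiv (fiberStalkEquiv f x)
  · haveI := h
    exact gor_of_ringEquiv (fiberStalkEquiv f x).symm

/-- flat local homs out of Gorenstein: local-algebra form at a point -/
theorem gor_base_and_fibre_of_flat (x : X) (hfl : (f.stalkMap x).hom.Flat)
    [IsNoetherianRing (S.presheaf.stalk (f x))]
    [LocCoh.IsGorensteinLocalRing (X.presheaf.stalk x)] :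
    LocCoh.IsGorensteinLocalRing (S.presheaf.stalk (f x)) ∧
      LocCoh.IsGorensteinLocalRing (Q f x) := by
  letI : Algebra (S.presheaf.stalk (f x)) (X.presheaf.stalk x) :=
    (f.stalkMap x).hom.toAlgebra
  haveI : Module.Flat (S.presheaf.stalk (f x)) (X.presheaf.stalk x) := hfl
  haveI : IsLocalHom (algebraMap (S.presheaf.stalk (f x)) (X.presheaf.stalk x)) :=
    inferInstanceAs (IsLocalHom (f.stalkMap x).hom)
  exact (Groth.Agent.Lib.Helper85.GorFlat.gor_iff (S.presheaf.stalk (f x))
    (X.presheaf.stalk x)).mp inferInstance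

theorem isNoetherianRing_stalk [IsLocallyNoetherian S] (s : S) :
    IsNoetherianRing (S.presheaf.stalk s) := inferInstance

end Groth.Agent.Lib.Helper85.GorMor
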