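import Groth.Agent.Lib.Helper51.CMAtBC
import Groth.Agent.Lib.Helper85.GorMor
import Groth.Agent.Lib.Helper85.GorFiber
import Groth.Agent.Lib.Helper85.GorField

/-!
# Gorenstein morphisms at a point and base change (mirror of helper51's `CMAtBC`)
-/

set_option autoImplicit false
set_option linter.style.haveILetI false

universe u
open CategoryTheory CategoryTheory.Limits AlgebraicGeometry TensorProduct

namespace Groth.Agent.Lib.Helper85.GorAtBC

open Groth.Agent.Lib.Helper51
open Groth.Agent.Lib.Helper85.GorRing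
open Groth.Agent.Lib.Helper85.GorField

section Ring

theorem gorRing_of_field (K : Type u) [Field K] : LocCoh.IsGorensteinRing K := by
  haveI := gor_of_isField K (Field.toIsField K)
  exact gorRing_of_gorLocal K

/-- tensor product of two field extensions, one of them finitely generated, is Gorenstein -/
theorem gorRing_tensor_of_essFiniteType (k L K : Type u) [Field k] [Field L] [Field K]
    [Algebra k L] [Algebra k K] [Algebra.EssFiniteType k L] :
    LocCoh.IsGorensteinRing (L ⊗[k] K) :=
  gorBC_of_fg k L (IntermediateField.fg_top k L) K (gorRing_of_field K)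

theorem gor_atPrime_tensor_iff (k A K : Type u) [Field k] [CommRing A] [Algebra k A]
    [IsLocalRing A] [IsNoetherianRing A] [Field K] [Algebra k K] [IsNoetherianRing (A ⊗[k] K)]
    (hfib : ∀ (L : Type u) [Field L] [Algebra k L] [Algebra A L] [IsScalarTower k A L],
      Algebra.EssFiniteType A L → LocCoh.IsGorensteinRing (L ⊗[k] K))
    (q : Ideal (A ⊗[k] K)) [q.IsPrime]
    (hq : q.comap (Algebra.TensorProduct.includeLeftRingHom) = IsLocalRing.maximalIdeal A) :
    LocCoh.IsGorensteinLocalRing (Localization.AtPrime q) ↔ LocCoh.IsGorensteinLocalRing A := by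
  have hq' : q.comap (algebraMap A (A ⊗[k] K)) = IsLocalRing.maximalIdeal A := hq
  haveI : LocCoh.IsGorensteinRing ((q.comap (algebraMap A (A ⊗[k] K))).Fiber (A ⊗[k] K)) := by
    have h1 : LocCoh.IsGorensteinRing
        ((q.comap (algebraMap A (A ⊗[k] K))).ResidueField ⊗[k] K) :=
      hfib (q.comap (algebraMap A (A ⊗[k] K))).ResidueField inferInstance
    haveI := h1
    exact gorRing_of_ringEquiv
      (Algebra.TensorProduct.cancelBaseChange k A A
        (q.comap (algebraMap A (A ⊗[k] K))).ResidueField K).symm.toRingEquiv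
  have key := Groth.Agent.Lib.Helper85.GorFiber.gor_iff_of_fiber A (A ⊗[k] K)
    (q.comap (algebraMap A (A ⊗[k] K))) q rfl
  rw [key]
  have hu : ∀ a ∈ (q.comap (algebraMap A (A ⊗[k] K))).primeCompl, IsUnit a := by
    intro a ha
    by_contra hna
    apply ha
    show a ∈ q.comap (algebraMap A (A ⊗[k] K))
    rw [hq']
    exact (IsLocalRing.mem_maximalIdeal a).mpr hna
  have e : A ≃ₐ[A] Localization.AtPrime (q.comap (algebraMap A (A ⊗[k] K))) :=
    IsLocalization.atUnits A _ hu
  exact ⟨fun h => by haveI := h; exact gor_of_ringEquiv e.symm.toRingEquiv,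
    fun h => by haveI := h; exact gor_of_ringEquiv e.toRingEquiv⟩

end Ring

/-- `IsGorensteinAt f x` may be tested on any presentation of the fibre through `x`. -/
theorem isGorensteinAt_iff_of_fiber {X S : Scheme.{u}} (f : X ⟶ S) (x : X) (y : S)
    (w : f.fiber y) (hw : f.fiberι y w = x) :
    Dual3.IsGorensteinAt f x ↔ (f.stalkMap x).hom.Flat ∧
      LocCoh.IsGorensteinLocalRing ((f.fiber y).presheaf.stalk w) := by
  have hy : f x = y := by
    have : f.fiberι y w ∈ f ⁻¹' {y} := by rw [← f.range_fiberι]; exact ⟨w, rfl⟩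
    rw [hw] at this
    exact this
  subst hy
  have : w = f.asFiber x :=
    (f.fiberι _).isEmbedding.injective (hw.trans (f.fiberι_asFiber x).symm)
  subst this
  rfl

/-- Gorensteinness of local rings of a base change `F' = F_K` (general cartesian square). -/
theorem isGor_stalk_iff_of_isPullback {k K : Type u} [Field k] [Field K] [Algebra k K]
    {F F' : Scheme.{u}} (φ : F ⟶ Spec (CommRingCat.of k)) {m : F' ⟶ F}
    {snd : F' ⟶ Spec (CommRingCat.of K)}
    (hP : IsPullback m snd φ (Spec.map (CommRingCat.ofHom (algebraMap k K)))) (w' : F')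
    (hA : IsNoetherianRing (F.presheaf.stalk (m w')))
    (hAK : letI := stalkAlg φ (m w'); IsNoetherianRing (F.presheaf.stalk (m w') ⊗[k] K))
    (hfib : letI := stalkAlg φ (m w');
      ∀ (L : Type u) [Field L] [Algebra k L] [Algebra (F.presheaf.stalk (m w')) L]
      [IsScalarTower k (F.presheaf.stalk (m w')) L],
      Algebra.EssFiniteType (F.presheaf.stalk (m w')) L → LocCoh.IsGorensteinRing (L ⊗[k] K)) :
    LocCoh.IsGorensteinLocalRing (F'.presheaf.stalk w') ↔
      LocCoh.IsGorensteinLocalRing (F.presheaf.stalk (m w')) := by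
  letI := stalkAlg φ (m w')
  have hψ := specMap_stalkMapOf φ (m w')
  have hy : pullback.fst φ (Spec.map (CommRingCat.ofHom (algebraMap k K)))
      (hP.isoPullback.hom w') = m w' := by
    rw [← Scheme.Hom.comp_apply, hP.isoPullback_hom_fst]
  obtain ⟨q, hqp, hq, ⟨E⟩⟩ := exists_prime_ringEquiv_stalk φ (m w') hψ K _ hy
  have key := gor_atPrime_tensor_iff k (F.presheaf.stalk (m w')) K hfib q hq
  rw [← key]
  let E' : F'.presheaf.stalk w' ≃+* Localization.AtPrime q :=
    ((asIso (hP.isoPullback.hom.stalkMap w')).commRingCatIsoToRingEquiv.symm).trans E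
  exact ⟨fun h => by haveI := h; exact gor_of_ringEquiv E',
    fun h => by haveI := h; exact gor_of_ringEquiv E'.symm⟩

/-- Variant: `F` locally of finite type over `k`, `K / k` arbitrary. -/
theorem isGor_stalk_iff_of_isPullback_of_lft {k K : Type u} [Field k] [Field K] [Algebra k K]
    {F F' : Scheme.{u}} (φ : F ⟶ Spec (CommRingCat.of k)) [LocallyOfFiniteType φ] {m : F' ⟶ F}
    {snd : F' ⟶ Spec (CommRingCat.of K)}
    (hP : IsPullback m snd φ (Spec.map (CommRingCat.ofHom (algebraMap k K)))) (w' : F') :
    LocCoh.IsGorensteinLocalRing (F'.presheaf.stalk w') ↔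
      LocCoh.IsGorensteinLocalRing (F.presheaf.stalk (m w')) := by
  letI := stalkAlg φ (m w')
  haveI hess : Algebra.EssFiniteType k (F.presheaf.stalk (m w')) := essFiniteType_stalk φ (m w')
  haveI hN : IsNoetherianRing (F.presheaf.stalk (m w')) :=
    Algebra.EssFiniteType.isNoetherianRing k _
  refine isGor_stalk_iff_of_isPullback φ hP w' hN ?_ ?_
  · haveI : IsNoetherianRing (K ⊗[k] (F.presheaf.stalk (m w'))) :=
      Algebra.EssFiniteType.isNoetherianRing K _
    exact isNoetherianRing_of_ringEquiv _
      (Algebra.TensorProduct.comm k K (F.presheaf.stalk (m w'))).toRingEquiv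
  · intro L _ _ _ _ hL
    haveI : Algebra.EssFiniteType k L :=
      Algebra.EssFiniteType.comp k (F.presheaf.stalk (m w')) L
    exact gorRing_tensor_of_essFiniteType k L K

/-- Variant: `K / k` a finitely generated field extension, local ring of `F` Noetherian. -/
theorem isGor_stalk_iff_of_isPullback_of_essFiniteType {k K : Type u} [Field k] [Field K]
    [Algebra k K] [Algebra.EssFiniteType k K]
    {F F' : Scheme.{u}} (φ : F ⟶ Spec (CommRingCat.of k)) {m : F' ⟶ F}
    {snd : F' ⟶ Spec (CommRingCat.of K)}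
    (hP : IsPullback m snd φ (Spec.map (CommRingCat.ofHom (algebraMap k K)))) (w' : F')
    (hN : IsNoetherianRing (F.presheaf.stalk (m w'))) :
    LocCoh.IsGorensteinLocalRing (F'.presheaf.stalk w') ↔
      LocCoh.IsGorensteinLocalRing (F.presheaf.stalk (m w')) := by
  letI := stalkAlg φ (m w')
  refine isGor_stalk_iff_of_isPullback φ hP w' hN ?_ ?_
  · exact Algebra.EssFiniteType.isNoetherianRing (F.presheaf.stalk (m w')) _
  · intro L _ _ _ _ hL
    haveI := gorRing_tensor_of_essFiniteType k K L
    exact gorRing_of_ringEquiv (Algebra.TensorProduct.comm k K L).toRingEquiv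

section Fibre

variable {X Y X' Y' : Scheme.{u}} {f : X ⟶ Y} {f' : X' ⟶ Y'} {g' : X' ⟶ X} {g : Y' ⟶ Y}

theorem isGor_fiber_stalk_iff_of_lft (hc : IsPullback g' f' f g) [LocallyOfFiniteType f] (y' : Y')
    (w' : f'.fiber y') :
    LocCoh.IsGorensteinLocalRing ((f'.fiber y').presheaf.stalk w') ↔
      LocCoh.IsGorensteinLocalRing
        ((f.fiber (g y')).presheaf.stalk (fiberMapOfIsPullback hc y' w')) := by
  letI algkK : Algebra ↑(Y.residueField (g y')) ↑(Y'.residueField y') :=
    (g.residueFieldMap y').hom.toAlgebra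
  have hP : IsPullback (fiberMapOfIsPullback hc y') (f'.fiberToSpecResidueField y')
      (f.fiberToSpecResidueField (g y'))
      (Spec.map (CommRingCat.ofHom (algebraMap ↑(Y.residueField (g y')) ↑(Y'.residueField y')))) :=
    isPullback_fiberMapOfIsPullback hc y'
  haveI : LocallyOfFiniteType (f.fiberToSpecResidueField (g y')) :=
    MorphismProperty.pullback_snd (P := @LocallyOfFiniteType) _ _ inferInstance
  exact isGor_stalk_iff_of_isPullback_of_lft (k := ↑(Y.residueField (g y')))
    (K := ↑(Y'.residueField y')) (f.fiberToSpecResidueField (g y')) hP w'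

theorem isGor_fiber_stalk_iff_of_lft_base (hc : IsPullback g' f' f g) [LocallyOfFiniteType g]
    (y' : Y') (w' : f'.fiber y')
    (hN : IsNoetherianRing ((f.fiber (g y')).presheaf.stalk (fiberMapOfIsPullback hc y' w'))) :
    LocCoh.IsGorensteinLocalRing ((f'.fiber y').presheaf.stalk w') ↔
      LocCoh.IsGorensteinLocalRing
        ((f.fiber (g y')).presheaf.stalk (fiberMapOfIsPullback hc y' w')) := by
  letI algkK : Algebra ↑(Y.residueField (g y')) ↑(Y'.residueField y') :=
    (g.residueFieldMap y').hom.toAlgebra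
  have hP : IsPullback (fiberMapOfIsPullback hc y') (f'.fiberToSpecResidueField y')
      (f.fiberToSpecResidueField (g y'))
      (Spec.map (CommRingCat.ofHom (algebraMap ↑(Y.residueField (g y')) ↑(Y'.residueField y')))) :=
    isPullback_fiberMapOfIsPullback hc y'
  haveI : Algebra.EssFiniteType ↑(Y.residueField (g y')) ↑(Y'.residueField y') :=
    essFiniteType_residueFieldMap g y'
  exact isGor_stalk_iff_of_isPullback_of_essFiniteType (k := ↑(Y.residueField (g y')))
    (K := ↑(Y'.residueField y')) (f.fiberToSpecResidueField (g y')) hP w' hN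

/-- base change along a locally finite type morphism: Gorenstein part (fibres of `f` locally
Noetherian) -/
theorem gor_fibre_iff_of_lft_base (hc : IsPullback g' f' f g) [LocallyOfFiniteType g]
    (hN : ∀ y : Y, IsLocallyNoetherian (f.fiber y)) (x' : X') :
    LocCoh.IsGorensteinLocalRing ((f'.fiber (f' x')).presheaf.stalk (f'.asFiber x')) ↔
      LocCoh.IsGorensteinLocalRing ((f.fiber (g (f' x'))).presheaf.stalk
        (fiberMapOfIsPullback hc (f' x') (f'.asFiber x'))) := by
  haveI := hN (g (f' x'))
  exact isGor_fiber_stalk_iff_of_lft_base hc (f' x') (f'.asFiber x') inferInstance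

theorem fiberMap_asFiber_fiberι (hc : IsPullback g' f' f g) (x' : X') :
    f.fiberι (g (f' x')) (fiberMapOfIsPullback hc (f' x') (f'.asFiber x')) = g' x' := by
  rw [fiberMapOfIsPullback_fiberι, f'.fiberι_asFiber x']

/-- S3625-type statement -/
theorem isGorensteinAt_baseChange (hc : IsPullback g' f' f g) [LocallyOfFiniteType g]
    (hN : ∀ y : Y, IsLocallyNoetherian (f.fiber y)) (x' : X') :
    (Dual3.IsGorensteinAt f (g' x') → Dual3.IsGorensteinAt f' x') ∧
    ((f.stalkMap (g' x')).hom.Flat → Dual3.IsGorensteinAt f' x' →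
      Dual3.IsGorensteinAt f (g' x')) ∧
    ((g.stalkMap (f' x')).hom.Flat → Dual3.IsGorensteinAt f' x' →
      Dual3.IsGorensteinAt f (g' x')) := by
  have key := gor_fibre_iff_of_lft_base hc hN x'
  have hiff := isGorensteinAt_iff_of_fiber f (g' x') (g (f' x')) _ (fiberMap_asFiber_fiberι hc x')
  refine ⟨fun h => ?_, fun hfl h => ?_, fun hg h => ?_⟩
  · rw [hiff] at h
    exact ⟨Groth.Agent.Lib.Helper51.flat_stalkMap_of_isPullback hc x' h.1, key.mpr h.2⟩
  · rw [hiff]
    exact ⟨hfl, key.mp h.2⟩
  · rw [hiff]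
    exact ⟨Groth.Agent.Lib.Helper51.flat_stalkMap_of_isPullback_descent hc x' hg h.1, key.mp h.2⟩

/-- S3626-type statement -/
theorem isGorensteinAt_baseChange_iff (hc : IsPullback g' f' f g) [Flat f]
    [LocallyOfFiniteType f] (x' : X') :
    Dual3.IsGorensteinAt f' x' ↔ Dual3.IsGorensteinAt f (g' x') := by
  have key := isGor_fiber_stalk_iff_of_lft hc (f' x') (f'.asFiber x')
  have hiff := isGorensteinAt_iff_of_fiber f (g' x') (g (f' x')) _ (fiberMap_asFiber_fiberι hc x')
  haveI : Flat f' := MorphismProperty.of_isPullback (P := @Flat) hc inferInstance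
  rw [hiff]
  exact ⟨fun h => ⟨Flat.stalkMap f (g' x'), key.mp h.2⟩,
    fun h => ⟨Flat.stalkMap f' x', key.mpr h.2⟩⟩

end Fibre

end Groth.Agent.Lib.Helper85.GorAtBC
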