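import Groth.Agent.Lib.Helper85.GorSocle
import Groth.Agent.Lib.Helper67.FlatDepth12
import Groth.Agent.Lib.Helper56.Serre1
import Groth.Agent.Lib.Helper77.FlatDepth2
import Mathlib.RingTheory.Flat.EquationalCriterion
import Mathlib.RingTheory.TensorProduct.Quotient

/-!
# Gorenstein property along flat local homomorphisms

`gor_iff` : for a flat local homomorphism `A → B` of Noetherian local rings with closed fibre
`F = B/m_A B`, `B` is Gorenstein iff `A` and `F` are.
-/

set_option autoImplicit false
set_option linter.style.haveILetI false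

namespace Groth.Agent.Lib.Helper85.GorFlat

open CategoryTheory Abelian IsLocalRing InjHull

universe u

section Quot

variable {R : Type u} [CommRing R] [IsNoetherianRing R] [IsLocalRing R]

/-- Gorenstein is insensitive to quotients by a regular element -/
theorem gorenstein_quot_iff (f : R) (hfm : f ∈ maximalIdeal R) (hf : IsSMulRegular R f)
    (J : Ideal R) (hJ : J = Ideal.span {f}) [IsLocalRing (R ⧸ J)] :
    LocCoh.IsGorensteinLocalRing (R ⧸ J) ↔ LocCoh.IsGorensteinLocalRing R := by
  subst hJ
  constructor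
  · intro h
    obtain ⟨n, hn⟩ := LocCoh.IsGorensteinLocalRing.exists_hasInjectiveDimensionLT
      (A := R ⧸ Ideal.span {f})
    haveI : HasInjectiveDimensionLT (ModuleCat.of (R ⧸ Ideal.span {f}) (R ⧸ Ideal.span {f}))
        (n + 1) := hasInjectiveDimensionLT_of_ge _ n (n + 1) (by omega)
    exact LocCoh.IsGorensteinLocalRing.mk ⟨n + 2,
      Groth.Agent.Lib.Helper4.Gor.hasInjectiveDimensionLT_succ_of_quot f hfm hf n inferInstance⟩
  · intro h
    obtain ⟨n, hn⟩ := LocCoh.IsGorensteinLocalRing.exists_hasInjectiveDimensionLT (A := R)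
    haveI : HasInjectiveDimensionLT (ModuleCat.of R R) (n + 2) :=
      hasInjectiveDimensionLT_of_ge _ n (n + 2) (by omega)
    exact LocCoh.IsGorensteinLocalRing.mk ⟨n + 1,
      Groth.Agent.Lib.Helper4.Gor.hasInjectiveDimensionLT_quot_of_succ f hf n inferInstance⟩

theorem isLocalRing_quot (J : Ideal R) (hJ : J ≤ maximalIdeal R) : IsLocalRing (R ⧸ J) := by
  haveI : Nontrivial (R ⧸ J) := Ideal.Quotient.nontrivial_iff.mpr (fun h => by
    rw [h] at hJ
    exact (IsLocalRing.maximalIdeal.isMaximal R).ne_top (top_le_iff.mp hJ))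
  exact IsLocalRing.of_surjective' (Ideal.Quotient.mk J) Ideal.Quotient.mk_surjective

theorem depth_quot_add_one (f : R) (hfm : f ∈ maximalIdeal R) (hf : IsSMulRegular R f)
    (J : Ideal R) (hJ : J = Ideal.span {f}) [IsLocalRing (R ⧸ J)] :
    LocCoh.depth (R ⧸ J) (R ⧸ J) + 1 = LocCoh.depth R R := by
  subst hJ
  exact Groth.Agent.Lib.Helper4.GorCM.depth_quot_add_one R f hfm hf

end Quot

section Base

variable {A B F : Type u} [CommRing A] [CommRing B] [CommRing F]
  [IsLocalRing A] [IsNoetherianRing A] [IsLocalRing B] [IsNoetherianRing B]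
  [IsLocalRing F] [IsNoetherianRing F]
  [Algebra A B] [IsLocalHom (algebraMap A B)] [Module.Flat A B]
  (π : B →+* F) (hπ : Function.Surjective π)
  (hker : RingHom.ker π = (maximalIdeal A).map (algebraMap A B))

include hker in
omit [IsNoetherianRing A] [IsLocalRing B] [IsNoetherianRing B] [IsLocalRing F]
  [IsNoetherianRing F] [IsLocalHom (algebraMap A B)] in
/-- flatness: the annihilator in `B` of a socle element of `A` is `m_A B` -/
theorem flat_ann (a₀ : A) (h₀ : ∀ a : A, a * a₀ = 0 ↔ a ∈ maximalIdeal A) (b : B) :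
    algebraMap A B a₀ * b = 0 ↔ π b = 0 := by
  constructor
  · intro h
    have hrel : ∑ i : Fin 1, (fun _ => a₀) i • (fun _ => b) i = 0 := by
      simp [Algebra.smul_def, h]
    obtain ⟨k, a, y, hxy, hfa⟩ := Module.Flat.isTrivialRelation_of_sum_smul_eq_zero (R := A)
      (M := B) (f := fun _ : Fin 1 => a₀) (x := fun _ : Fin 1 => b) hrel
    have hb : b = ∑ j, a 0 j • y j := hxy 0
    rw [← RingHom.mem_ker, hker, hb]
    refine Ideal.sum_mem _ fun j _ => ?_
    rw [Algebra.smul_def]
    apply Ideal.mul_mem_right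
    apply Ideal.mem_map_of_mem
    rw [← h₀, mul_comm]
    simpa using hfa j
  · intro h
    have hb : b ∈ (maximalIdeal A).map (algebraMap A B) := by
      rw [← hker]; exact h
    let K : Ideal B :=
      { carrier := {b | algebraMap A B a₀ * b = 0}
        add_mem' := fun {x y} hx hy => by
          change algebraMap A B a₀ * (x + y) = 0
          rw [mul_add, hx, hy, add_zero]
        zero_mem' := mul_zero _
        smul_mem' := fun c x hx => by
          change algebraMap A B a₀ * (c * x) = 0
          rw [mul_left_comm, hx, mul_zero] }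
    have hle : (maximalIdeal A).map (algebraMap A B) ≤ K := by
      rw [Ideal.map_le_iff_le_comap]
      intro a ha
      change algebraMap A B a₀ * algebraMap A B a = 0
      rw [← map_mul, mul_comm, (h₀ a).mpr ha, map_zero]
    exact hle hb

omit [IsLocalRing B] [IsNoetherianRing B] [IsLocalHom (algebraMap A B)] in
/-- flatness: the elements of `B` killed by `m_A` are the multiples of a generator of the socle of
`A` -/
theorem flat_socle (hS : SocleSimple A) (a₀ : A) (ha₀ : a₀ ≠ 0)
    (h₀ : ∀ a : A, a * a₀ = 0 ↔ a ∈ maximalIdeal A) (s : B)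
    (hs : ∀ a ∈ maximalIdeal A, algebraMap A B a * s = 0) :
    ∃ b : B, s = algebraMap A B a₀ * b := by
  obtain ⟨r, g, hg⟩ : ∃ (r : ℕ) (g : Fin r → A),
      Submodule.span A (Set.range g) = maximalIdeal A :=
    Submodule.fg_iff_exists_fin_generating_family.mp (IsNoetherian.noetherian (maximalIdeal A))
  let fK : (Fin r → A) →ₗ[A] A := Fintype.linearCombination A g
  let x : A →ₗ[A] B := LinearMap.toSpanSingleton A B s
  have hrange : LinearMap.range fK = maximalIdeal A := by
    rw [Fintype.range_linearCombination, hg]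
  have hx : x ∘ₗ fK = 0 := by
    apply LinearMap.ext
    intro c
    have hc : fK c ∈ maximalIdeal A := by
      rw [← hrange]; exact LinearMap.mem_range_self fK c
    change (fK c) • s = 0
    rw [Algebra.smul_def]
    exact hs _ hc
  obtain ⟨k, α, y, hxy, hαf⟩ := Module.Flat.exists_factorization_of_comp_eq_zero_of_free hx
  have hv : ∀ a ∈ maximalIdeal A, ∀ j, a * α 1 j = 0 := by
    intro a ha j
    rw [← hrange] at ha
    obtain ⟨c, rfl⟩ := ha
    have h1 : α (fK c) = 0 := LinearMap.congr_fun hαf c
    have h2 : α (fK c) = fK c • α 1 := by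
      conv_lhs => rw [← mul_one (fK c), ← smul_eq_mul, map_smul]
    rw [h2] at h1
    have := DFunLike.congr_fun h1 j
    simpa using this
  have hsoc : ∀ a ∈ maximalIdeal A, a * a₀ = 0 := fun a ha => (h₀ a).mpr ha
  have hex : ∀ j, ∃ ρ : A, α 1 j = ρ * a₀ := fun j =>
    hS a₀ (α 1 j) hsoc (fun a ha => hv a ha j) ha₀
  choose ρ hρ using hex
  refine ⟨∑ j, ρ j • y (Finsupp.single j 1), ?_⟩
  have h3 : s = y (α 1) := by
    have := LinearMap.congr_fun hxy 1
    rw [LinearMap.toSpanSingleton_apply, one_smul] at this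
    exact this
  rw [h3, ← Finsupp.univ_sum_single (α 1), map_sum, Finset.mul_sum]
  refine Finset.sum_congr rfl fun j _ => ?_
  rw [← Finsupp.smul_single_one, map_smul, hρ j, Algebra.smul_def, Algebra.smul_def, map_mul]
  ring

include hker in
omit [IsNoetherianRing A] [IsLocalRing B] [IsNoetherianRing B] [IsLocalRing F]
  [IsNoetherianRing F] [IsLocalHom (algebraMap A B)] [Module.Flat A B] in
theorem mul_eq_zero_of_socle (a₁ : A) (h₁ : ∀ a ∈ maximalIdeal A, a * a₁ = 0) (b : B)
    (hb : π b = 0) : algebraMap A B a₁ * b = 0 := by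
  have hb' : b ∈ (maximalIdeal A).map (algebraMap A B) := by
    rw [← hker]; exact hb
  let K : Ideal B :=
    { carrier := {b | algebraMap A B a₁ * b = 0}
      add_mem' := fun {x y} hx hy => by
        change algebraMap A B a₁ * (x + y) = 0
        rw [mul_add, hx, hy, add_zero]
      zero_mem' := mul_zero _
      smul_mem' := fun c x hx => by
        change algebraMap A B a₁ * (c * x) = 0
        rw [mul_left_comm, hx, mul_zero] }
  have hle : (maximalIdeal A).map (algebraMap A B) ≤ K := by
    rw [Ideal.map_le_iff_le_comap]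
    intro a ha
    change algebraMap A B a₁ * algebraMap A B a = 0
    rw [← map_mul, mul_comm, h₁ a ha, map_zero]
  exact hle hb'

omit [IsNoetherianRing A] in
theorem ann_socle_eq (a₁ : A) (hne : a₁ ≠ 0) (h₁ : ∀ a ∈ maximalIdeal A, a * a₁ = 0) (a : A) :
    a * a₁ = 0 ↔ a ∈ maximalIdeal A := by
  refine ⟨fun h => ?_, h₁ a⟩
  by_contra hu
  have hunit : IsUnit a := by
    by_contra h'
    exact hu h'
  obtain ⟨u, rfl⟩ := hunit
  exact hne (by rwa [Units.mul_right_eq_zero] at h)

include hπ in
omit [IsNoetherianRing B] [IsNoetherianRing F] [IsLocalRing A] [IsNoetherianRing A]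
  [Algebra A B] [IsLocalHom (algebraMap A B)] [Module.Flat A B] in
theorem pi_mem_maximalIdeal (c : B) (hc : c ∈ maximalIdeal B) : π c ∈ maximalIdeal F := by
  haveI : IsLocalHom π := IsLocalHom.of_surjective π hπ
  exact map_nonunit π c hc

include hπ in
omit [IsNoetherianRing B] [IsNoetherianRing F] [IsLocalRing A] [IsNoetherianRing A]
  [Algebra A B] [IsLocalHom (algebraMap A B)] [Module.Flat A B] in
theorem exists_lift_maximalIdeal (c' : F) (hc : c' ∈ maximalIdeal F) :
    ∃ c ∈ maximalIdeal B, π c = c' := by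
  obtain ⟨c, rfl⟩ := hπ c'
  refine ⟨c, ?_, rfl⟩
  by_contra hu
  have hunit : IsUnit c := by
    by_contra h'
    exact hu h'
  exact hc (hunit.map π)

include hπ hker in
/-- the socle of `B` is simple when those of `A` and of the fibre are -/
theorem socleSimple_top (hSA : SocleSimple A) (hSF : SocleSimple F)
    (hdA : LocCoh.depth A A = 0) : SocleSimple B := by
  obtain ⟨a₀, ha₀, h₀⟩ := exists_socle_ne_zero A hdA
  intro s1 s2 h1 h2 hne
  have hsm : ∀ s : B, (∀ c ∈ maximalIdeal B, c * s = 0) →
      ∀ a ∈ maximalIdeal A, algebraMap A B a * s = 0 :=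
    fun s hs a ha => hs _ (map_nonunit (algebraMap A B) a ha)
  obtain ⟨b1, hb1⟩ := flat_socle hSA a₀ ha₀ h₀ s1 (hsm s1 h1)
  obtain ⟨b2, hb2⟩ := flat_socle hSA a₀ ha₀ h₀ s2 (hsm s2 h2)
  have hπb1 : π b1 ≠ 0 := by
    intro h
    apply hne
    rw [hb1]
    exact (flat_ann π hker a₀ h₀ b1).mpr h
  have hsocF : ∀ (s b : B), s = algebraMap A B a₀ * b → (∀ c ∈ maximalIdeal B, c * s = 0) →
      ∀ c' ∈ maximalIdeal F, c' * π b = 0 := by
    intro s b hsb hs c' hc'
    obtain ⟨c, hc, rfl⟩ := exists_lift_maximalIdeal π hπ c' hc'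
    rw [← map_mul]
    apply (flat_ann π hker a₀ h₀ (c * b)).mp
    rw [mul_left_comm, ← hsb]
    exact hs c hc
  obtain ⟨e', he'⟩ := hSF (π b1) (π b2) (hsocF s1 b1 hb1 h1) (hsocF s2 b2 hb2 h2) hπb1
  obtain ⟨e, rfl⟩ := hπ e'
  refine ⟨e, ?_⟩
  have h3 : π (b2 - e * b1) = 0 := by rw [map_sub, map_mul, he', sub_self]
  have h4 := (flat_ann π hker a₀ h₀ (b2 - e * b1)).mpr h3
  rw [mul_sub, sub_eq_zero] at h4
  rw [hb2, hb1, h4]
  ring

include hπ hker in
/-- the socles of `A` and of the fibre are simple when that of `B` is -/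
theorem socleSimple_bot_and_fibre (hSB : SocleSimple B) (hdA : LocCoh.depth A A = 0)
    (hdF : LocCoh.depth F F = 0) : SocleSimple A ∧ SocleSimple F := by
  obtain ⟨a₀, ha₀, h₀⟩ := exists_socle_ne_zero A hdA
  obtain ⟨t', ht', h₀'⟩ := exists_socle_ne_zero F hdF
  obtain ⟨t, rfl⟩ := hπ t'
  -- elements `φ(a) b` with `a` in the socle of `A` and `π b` in the socle of `F` are socle elements
  have hsocB : ∀ (a₁ : A) (b : B), (∀ a ∈ maximalIdeal A, a * a₁ = 0) →
      (∀ c' ∈ maximalIdeal F, c' * π b = 0) →
      ∀ c ∈ maximalIdeal B, c * (algebraMap A B a₁ * b) = 0 := by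
    intro a₁ b h₁ hb c hc
    rw [mul_left_comm]
    apply mul_eq_zero_of_socle π hker a₁ h₁
    rw [map_mul]
    exact hb _ (pi_mem_maximalIdeal π hπ c hc)
  constructor
  · intro a1 a2 h1 h2 hne
    by_contra hcon
    rw [not_exists] at hcon
    have hs1 := hsocB a1 t h1 (fun c' hc' => (h₀' c').mpr hc')
    have hs2 := hsocB a2 t h2 (fun c' hc' => (h₀' c').mpr hc')
    have hne1 : algebraMap A B a1 * t ≠ 0 := by
      intro h
      exact ht' ((flat_ann π hker a1 (ann_socle_eq a1 hne h1) t).mp h)
    obtain ⟨e, he⟩ := hSB _ _ hs1 hs2 hne1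
    have hrel : ∑ i : Fin 2, (![a2, a1] : Fin 2 → A) i • (![t, -(e * t)] : Fin 2 → B) i = 0 := by
      rw [Fin.sum_univ_two]
      simp only [Matrix.cons_val_zero, Matrix.cons_val_one, Algebra.smul_def]
      rw [he]
      ring
    obtain ⟨k, α, y, hxy, hfa⟩ := Module.Flat.isTrivialRelation_of_sum_smul_eq_zero (R := A)
      (M := B) (f := (![a2, a1] : Fin 2 → A)) (x := (![t, -(e * t)] : Fin 2 → B)) hrel
    have hα : ∀ j, α 0 j ∈ maximalIdeal A := by
      intro j
      by_contra hu
      have hunit : IsUnit (α 0 j) := by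
        by_contra h'
        exact hu h'
      obtain ⟨u, hu'⟩ := hunit
      have h5 := hfa j
      rw [Fin.sum_univ_two] at h5
      simp only [Matrix.cons_val_zero, Matrix.cons_val_one] at h5
      apply hcon (-(↑u⁻¹ * α 1 j))
      have h6 : a2 * (u : A) = -(a1 * α 1 j) := by
        rw [hu']
        exact eq_neg_of_add_eq_zero_left h5
      calc a2 = a2 * (u : A) * (↑u⁻¹ : A) := by rw [mul_assoc, Units.mul_inv, mul_one]
        _ = -(↑u⁻¹ * α 1 j) * a1 := by rw [h6]; ring
    have ht0 : t ∈ (maximalIdeal A).map (algebraMap A B) := by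
      have := hxy 0
      simp only [Matrix.cons_val_zero] at this
      rw [this]
      refine Ideal.sum_mem _ fun j _ => ?_
      rw [Algebra.smul_def]
      exact Ideal.mul_mem_right _ _ (Ideal.mem_map_of_mem _ (hα j))
    apply ht'
    rw [← hker] at ht0
    exact ht0
  · intro s1' s2' h1 h2 hne
    obtain ⟨b1, rfl⟩ := hπ s1'
    obtain ⟨b2, rfl⟩ := hπ s2'
    have hsoc0 : ∀ a ∈ maximalIdeal A, a * a₀ = 0 := fun a ha => (h₀ a).mpr ha
    have hs1 := hsocB a₀ b1 hsoc0 h1
    have hs2 := hsocB a₀ b2 hsoc0 h2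
    have hne1 : algebraMap A B a₀ * b1 ≠ 0 := by
      intro h
      exact hne ((flat_ann π hker a₀ h₀ b1).mp h)
    obtain ⟨e, he⟩ := hSB _ _ hs1 hs2 hne1
    refine ⟨π e, ?_⟩
    have h3 : algebraMap A B a₀ * (b2 - e * b1) = 0 := by
      rw [mul_sub, he]
      ring
    have h4 := (flat_ann π hker a₀ h₀ _).mp h3
    rw [map_sub, map_mul, sub_eq_zero] at h4
    exact h4

include hπ hker in
omit [IsLocalRing F] [IsNoetherianRing F] in
theorem dim_eq_add : ringKrullDim B = ringKrullDim A + ringKrullDim F := by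
  rw [Groth.Agent.Lib.Helper67.ringKrullDim_eq_add_fibre_of_flat (R := A) (S := B), ← hker,
    ringKrullDim_eq_of_ringEquiv (RingHom.quotientKerEquivOfSurjective hπ)]

include hπ hker in
/-- `B` has depth zero when `A` and the fibre do -/
theorem depth_top_eq_zero (hdA : LocCoh.depth A A = 0) (hdF : LocCoh.depth F F = 0) :
    LocCoh.depth B B = 0 := by
  obtain ⟨a₀, ha₀, h₀⟩ := exists_socle_ne_zero A hdA
  obtain ⟨t', ht', h₀'⟩ := exists_socle_ne_zero F hdF
  obtain ⟨t, rfl⟩ := hπ t'
  rw [Groth.Agent.Lib.Helper67.depth_eq_zero_iff]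
  change IsAssociatedPrime (maximalIdeal B) B
  rw [isAssociatedPrime_iff]
  refine ⟨(IsLocalRing.maximalIdeal.isMaximal B).isPrime, algebraMap A B a₀ * t, ?_⟩
  have hne : algebraMap A B a₀ * t ≠ 0 := fun h => ht' ((flat_ann π hker a₀ h₀ t).mp h)
  ext c
  rw [Submodule.mem_colon_singleton, Submodule.mem_bot, smul_eq_mul]
  constructor
  · intro hc
    rw [mul_left_comm]
    apply mul_eq_zero_of_socle π hker a₀ (fun a ha => (h₀ a).mpr ha)
    rw [map_mul]
    exact (h₀' _).mpr (pi_mem_maximalIdeal π hπ c hc)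
  · intro h
    by_contra hu
    have hunit : IsUnit c := by
      by_contra h'
      exact hu h'
    exact hne (hunit.mul_right_eq_zero.mp h)

include hπ hker in
/-- the base case: `A` and the fibre of depth zero -/
theorem gor_iff_base (hdA : LocCoh.depth A A = 0) (hdF : LocCoh.depth F F = 0) :
    LocCoh.IsGorensteinLocalRing B ↔
      LocCoh.IsGorensteinLocalRing A ∧ LocCoh.IsGorensteinLocalRing F := by
  have hdim := dim_eq_add π hπ hker
  constructor
  · intro hB
    have hdB := depth_top_eq_zero π hπ hker hdA hdF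
    have hSB := socleSimple_of_gorenstein B hdB
    have hB0 := ringKrullDim_eq_zero_of_gorenstein_of_depth_zero B hdB
    obtain ⟨hSA, hSF⟩ := socleSimple_bot_and_fibre π hπ hker hSB hdA hdF
    obtain ⟨kA, hkA⟩ := Groth.Agent.Lib.Helper77.FlatDepth.exists_nat_dim A
    obtain ⟨kF, hkF⟩ := Groth.Agent.Lib.Helper77.FlatDepth.exists_nat_dim F
    rw [hB0, hkA, hkF] at hdim
    have h0 : (0 : ℕ) = kA + kF := by exact_mod_cast hdim
    have hA0 : ringKrullDim A = 0 := by
      rw [hkA]
      have : kA = 0 := by omega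
      rw [this]; rfl
    have hF0 : ringKrullDim F = 0 := by
      rw [hkF]
      have : kF = 0 := by omega
      rw [this]; rfl
    exact ⟨gorenstein_of_socleSimple A hA0 hSA, gorenstein_of_socleSimple F hF0 hSF⟩
  · rintro ⟨hA, hF⟩
    have hSA := socleSimple_of_gorenstein A hdA
    have hSF := socleSimple_of_gorenstein F hdF
    have hA0 := ringKrullDim_eq_zero_of_gorenstein_of_depth_zero A hdA
    have hF0 := ringKrullDim_eq_zero_of_gorenstein_of_depth_zero F hdF
    rw [hA0, hF0, add_zero] at hdim
    exact gorenstein_of_socleSimple B hdim (socleSimple_top π hπ hker hSA hSF hdA)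

end Base

section StepA

variable {A B F : Type u} [CommRing A] [CommRing B] [CommRing F]
  [IsLocalRing A] [IsLocalRing B] [Algebra A B] [IsLocalHom (algebraMap A B)]
  (π : B →+* F) (hπ : Function.Surjective π)
  (hker : RingHom.ker π = (maximalIdeal A).map (algebraMap A B))
  (I : Ideal A) (hI : I ≤ maximalIdeal A)

include hI in
omit [IsLocalHom (algebraMap A B)] [IsLocalRing B] in
theorem mk_mem_maximalIdeal_iff [IsLocalRing (A ⧸ I)] (a : A) :
    Ideal.Quotient.mk I a ∈ maximalIdeal (A ⧸ I) ↔ a ∈ maximalIdeal A := by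
  haveI : IsLocalHom (Ideal.Quotient.mk I) :=
    IsLocalHom.of_surjective _ Ideal.Quotient.mk_surjective
  constructor
  · intro h
    by_contra hu
    have hunit : IsUnit a := by
      by_contra h'
      exact hu h'
    exact h (hunit.map (Ideal.Quotient.mk I))
  · intro h
    exact map_nonunit (Ideal.Quotient.mk I) a h

include hI in
theorem map_le_maximalIdeal : I.map (algebraMap A B) ≤ maximalIdeal B := by
  rw [Ideal.map_le_iff_le_comap]
  intro a ha
  exact map_nonunit (algebraMap A B) a (hI ha)

include hI in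
theorem isLocalHom_quot [IsLocalRing (A ⧸ I)] [IsLocalRing (B ⧸ I.map (algebraMap A B))] :
    IsLocalHom (algebraMap (A ⧸ I) (B ⧸ I.map (algebraMap A B))) := by
  refine ⟨fun a' ha' => ?_⟩
  obtain ⟨a, rfl⟩ := Ideal.Quotient.mk_surjective a'
  haveI : IsLocalHom (Ideal.Quotient.mk (I.map (algebraMap A B))) :=
    IsLocalHom.of_surjective _ Ideal.Quotient.mk_surjective
  have h1 : IsUnit (Ideal.Quotient.mk (I.map (algebraMap A B)) (algebraMap A B a)) := ha'
  have h2 : IsUnit (algebraMap A B a) := isUnit_of_map_unit _ _ h1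
  have h3 : IsUnit a := isUnit_of_map_unit (algebraMap A B) a h2
  exact h3.map _

omit [IsLocalRing A] [IsLocalRing B] [IsLocalHom (algebraMap A B)] in
theorem flat_quot [Module.Flat A B] : Module.Flat (A ⧸ I) (B ⧸ I.map (algebraMap A B)) :=
  Module.Flat.of_linearEquiv
    (Algebra.TensorProduct.quotIdealMapEquivQuotTensor B I).toLinearEquiv

include hI hker in
omit [IsLocalRing B] [IsLocalHom (algebraMap A B)] in
theorem ker_lift_eq [IsLocalRing (A ⧸ I)]
    (h : ∀ b ∈ I.map (algebraMap A B), π b = 0) :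
    RingHom.ker (Ideal.Quotient.lift (I.map (algebraMap A B)) π h) =
      (maximalIdeal (A ⧸ I)).map (algebraMap (A ⧸ I) (B ⧸ I.map (algebraMap A B))) := by
  have hcomp : (algebraMap (A ⧸ I) (B ⧸ I.map (algebraMap A B))).comp (Ideal.Quotient.mk I) =
      (Ideal.Quotient.mk (I.map (algebraMap A B))).comp (algebraMap A B) := rfl
  apply le_antisymm
  · intro b' hb'
    obtain ⟨b, rfl⟩ := Ideal.Quotient.mk_surjective b'
    rw [RingHom.mem_ker, Ideal.Quotient.lift_mk] at hb'
    have hb : b ∈ (maximalIdeal A).map (algebraMap A B) := by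
      rw [← hker]; exact hb'
    have h1 : Ideal.Quotient.mk (I.map (algebraMap A B)) b ∈
        ((maximalIdeal A).map (algebraMap A B)).map (Ideal.Quotient.mk (I.map (algebraMap A B))) :=
      Ideal.mem_map_of_mem _ hb
    rw [Ideal.map_map, ← hcomp, ← Ideal.map_map] at h1
    refine Ideal.map_mono ?_ h1
    rw [Ideal.map_le_iff_le_comap]
    intro a ha
    exact (mk_mem_maximalIdeal_iff I hI a).mpr ha
  · rw [Ideal.map_le_iff_le_comap]
    intro a' ha'
    obtain ⟨a, rfl⟩ := Ideal.Quotient.mk_surjective a'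
    have ha : a ∈ maximalIdeal A := (mk_mem_maximalIdeal_iff I hI a).mp ha'
    rw [Ideal.mem_comap, RingHom.mem_ker]
    change Ideal.Quotient.lift _ π h (Ideal.Quotient.mk _ (algebraMap A B a)) = 0
    rw [Ideal.Quotient.lift_mk, ← RingHom.mem_ker, hker]
    exact Ideal.mem_map_of_mem _ ha

end StepA

section StepB

open scoped Pointwise

variable {A B F : Type u} [CommRing A] [CommRing B] [CommRing F]
  [IsLocalRing A] [IsNoetherianRing A] [IsLocalRing B] [IsNoetherianRing B]
  [Algebra A B] [IsLocalHom (algebraMap A B)] [Module.Flat A B]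
  (π : B →+* F) (hπ : Function.Surjective π)
  (hker : RingHom.ker π = (maximalIdeal A).map (algebraMap A B))
  (y : B)

include hker in
/-- an element of `B` which is regular on the closed fibre is regular on `B`, with flat quotient -/
theorem regular_and_flat_of_fibre (hy : IsSMulRegular F (π y)) :
    IsSMulRegular B y ∧ Module.Flat A (B ⧸ Ideal.span {y}) := by
  have hy' : IsSMulRegular (B ⧸ (maximalIdeal A).map (algebraMap A B) • (⊤ : Submodule B B)) y := by
    rw [isSMulRegular_iff_right_eq_zero_of_smul]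
    intro z hz
    obtain ⟨b, rfl⟩ := Submodule.Quotient.mk_surjective _ z
    rw [← Submodule.Quotient.mk_smul, Submodule.Quotient.mk_eq_zero, smul_eq_mul,
      Ideal.mul_top, smul_eq_mul, ← hker, RingHom.mem_ker, map_mul] at hz
    rw [Submodule.Quotient.mk_eq_zero, smul_eq_mul, Ideal.mul_top, ← hker, RingHom.mem_ker]
    exact hy.right_eq_zero_of_smul hz
  obtain ⟨h1, h2⟩ := Groth.Agent.Lib.Helper67.isSMulRegular_of_fibre (R := A) (S := B) B y hy'
  refine ⟨h1, ?_⟩
  haveI := h2
  exact Module.Flat.of_linearEquiv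
    ((Submodule.quotEquivOfEq (Ideal.span {y}) (y • (⊤ : Submodule B B))
      (by simp [← Submodule.ideal_span_singleton_smul])).restrictScalars A)

omit [IsNoetherianRing A] [IsNoetherianRing B] [Module.Flat A B] in
theorem isLocalHom_quotB [IsLocalRing (B ⧸ Ideal.span {y})] :
    IsLocalHom (algebraMap A (B ⧸ Ideal.span {y})) := by
  refine ⟨fun a ha => ?_⟩
  haveI : IsLocalHom (Ideal.Quotient.mk (Ideal.span {y})) :=
    IsLocalHom.of_surjective _ Ideal.Quotient.mk_surjective
  have h1 : IsUnit (Ideal.Quotient.mk (Ideal.span {y}) (algebraMap A B a)) := ha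
  have h2 : IsUnit (algebraMap A B a) := isUnit_of_map_unit _ _ h1
  exact isUnit_of_map_unit (algebraMap A B) a h2

include hπ hker in
omit [IsLocalRing B] [IsNoetherianRing A] [IsNoetherianRing B] [IsLocalHom (algebraMap A B)]
  [Module.Flat A B] in
theorem ker_quotientMap_eq (h : Ideal.span {y} ≤ (Ideal.span {π y}).comap π) :
    RingHom.ker (Ideal.quotientMap (Ideal.span {π y}) π h) =
      (maximalIdeal A).map (algebraMap A (B ⧸ Ideal.span {y})) := by
  have hcomp : algebraMap A (B ⧸ Ideal.span {y}) =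
      (Ideal.Quotient.mk (Ideal.span {y})).comp (algebraMap A B) := rfl
  apply le_antisymm
  · intro b' hb'
    obtain ⟨b, rfl⟩ := Ideal.Quotient.mk_surjective b'
    rw [RingHom.mem_ker, Ideal.quotientMap_mk, Ideal.Quotient.eq_zero_iff_mem,
      Ideal.mem_span_singleton'] at hb'
    obtain ⟨c', hc'⟩ := hb'
    obtain ⟨c, rfl⟩ := hπ c'
    have h1 : b - c * y ∈ (maximalIdeal A).map (algebraMap A B) := by
      rw [← hker, RingHom.mem_ker, map_sub, map_mul, hc', sub_self]
    have h2 : Ideal.Quotient.mk (Ideal.span {y}) b =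
        Ideal.Quotient.mk (Ideal.span {y}) (b - c * y) := by
      rw [map_sub, sub_eq_self.mpr]
      rw [Ideal.Quotient.eq_zero_iff_mem]
      exact Ideal.mul_mem_left _ _ (Ideal.mem_span_singleton_self y)
    rw [h2, hcomp, ← Ideal.map_map]
    exact Ideal.mem_map_of_mem _ h1
  · rw [Ideal.map_le_iff_le_comap]
    intro a ha
    rw [Ideal.mem_comap, RingHom.mem_ker, hcomp, RingHom.comp_apply, Ideal.quotientMap_mk]
    have : π (algebraMap A B a) = 0 := by
      rw [← RingHom.mem_ker, hker]
      exact Ideal.mem_map_of_mem _ ha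
    rw [this, map_zero]

end StepB

section Main

theorem exists_regular_of_depth_ne_zero (R : Type u) [CommRing R] [IsLocalRing R]
    [IsNoetherianRing R] (h : LocCoh.depth R R ≠ 0) :
    ∃ x ∈ maximalIdeal R, IsSMulRegular R x := by
  by_contra hcon
  push Not at hcon
  apply h
  unfold LocCoh.depth
  rw [Groth.Agent.Lib.Helper67.idealDepth_eq_zero_iff_forall]
  exact ⟨Groth.Agent.Lib.Helper67.maximalIdeal_smul_top_ne_top R, hcon⟩

theorem gor_iff_aux (N : ℕ) : ∀ (A B F : Type u) [CommRing A] [CommRing B] [CommRing F]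
    [IsLocalRing A] [IsNoetherianRing A] [IsLocalRing B] [IsNoetherianRing B]
    [IsLocalRing F] [IsNoetherianRing F]
    [Algebra A B] [IsLocalHom (algebraMap A B)] [Module.Flat A B]
    (π : B →+* F) (_ : Function.Surjective π)
    (_ : RingHom.ker π = (maximalIdeal A).map (algebraMap A B)),
    LocCoh.depth B B = N →
    (LocCoh.IsGorensteinLocalRing B ↔
      LocCoh.IsGorensteinLocalRing A ∧ LocCoh.IsGorensteinLocalRing F) := by
  induction N using Nat.strong_induction_on with
  | _ N ih =>
    intro A B F _ _ _ _ _ _ _ _ _ _ _ _ π hπ hker hdB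
    by_cases hdA : LocCoh.depth A A = 0
    · by_cases hdF : LocCoh.depth F F = 0
      · exact gor_iff_base π hπ hker hdA hdF
      · -- step B
        obtain ⟨y', hy'm, hy'⟩ := exists_regular_of_depth_ne_zero F hdF
        obtain ⟨y, hym, rfl⟩ := exists_lift_maximalIdeal π hπ y' hy'm
        obtain ⟨hyB, hflat⟩ := regular_and_flat_of_fibre π hker y hy'
        haveI := hflat
        haveI : IsLocalRing (B ⧸ Ideal.span {y}) :=
          isLocalRing_quot _ ((Ideal.span_singleton_le_iff_mem _).mpr hym)
        haveI : IsLocalRing (F ⧸ Ideal.span {π y}) :=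
          isLocalRing_quot _ ((Ideal.span_singleton_le_iff_mem _).mpr hy'm)
        haveI := isLocalHom_quotB (A := A) y
        have h0 : Ideal.span {y} ≤ (Ideal.span {π y}).comap π := by
          rw [Ideal.span_singleton_le_iff_mem, Ideal.mem_comap]
          exact Ideal.mem_span_singleton_self _
        have hker' := ker_quotientMap_eq π hπ hker y h0
        have hπ' : Function.Surjective (Ideal.quotientMap (Ideal.span {π y}) π h0) :=
          Ideal.quotientMap_surjective hπ
        have hd' := depth_quot_add_one y hym hyB (Ideal.span {y}) rfl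
        obtain ⟨N', hN'⟩ := ENat.ne_top_iff_exists.mp
          (Groth.Agent.Lib.Helper67.depth_ne_top (R := B ⧸ Ideal.span {y}) (B ⧸ Ideal.span {y}))
        have hlt : N' < N := by
          rw [← hN', hdB] at hd'
          have : N' + 1 = N := by exact_mod_cast hd'
          omega
        have key := ih N' hlt A (B ⧸ Ideal.span {y}) (F ⧸ Ideal.span {π y})
          (Ideal.quotientMap (Ideal.span {π y}) π h0) hπ' hker' hN'.symm
        rw [← gorenstein_quot_iff y hym hyB _ rfl, ← gorenstein_quot_iff (π y) hy'm hy' _ rfl]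
        exact key
    · -- step A
      obtain ⟨x, hxm, hx⟩ := exists_regular_of_depth_ne_zero A hdA
      have hI : Ideal.span {x} ≤ maximalIdeal A := (Ideal.span_singleton_le_iff_mem _).mpr hxm
      have hIB : (Ideal.span {x}).map (algebraMap A B) = Ideal.span {algebraMap A B x} := by
        rw [Ideal.map_span, Set.image_singleton]
      haveI : IsLocalRing (A ⧸ Ideal.span {x}) := isLocalRing_quot _ hI
      haveI : IsLocalRing (B ⧸ (Ideal.span {x}).map (algebraMap A B)) :=
        isLocalRing_quot _ (map_le_maximalIdeal (Ideal.span {x}) hI)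
      haveI := isLocalHom_quot (B := B) (Ideal.span {x}) hI
      haveI := flat_quot (B := B) (Ideal.span {x})
      have hxB : IsSMulRegular B (algebraMap A B x) := IsSMulRegular.of_flat hx
      have hxBm : algebraMap A B x ∈ maximalIdeal B := map_nonunit _ _ hxm
      have h0 : ∀ b ∈ (Ideal.span {x}).map (algebraMap A B), π b = 0 := fun b hb => by
        rw [← RingHom.mem_ker, hker]
        exact Ideal.map_mono hI hb
      have hker' := ker_lift_eq π hker (Ideal.span {x}) hI h0
      have hπ' : Function.Surjective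
          (Ideal.Quotient.lift ((Ideal.span {x}).map (algebraMap A B)) π h0) :=
        Ideal.Quotient.lift_surjective_of_surjective _ _ hπ
      have hd' := depth_quot_add_one (algebraMap A B x) hxBm hxB
        ((Ideal.span {x}).map (algebraMap A B)) hIB
      obtain ⟨N', hN'⟩ := ENat.ne_top_iff_exists.mp
        (Groth.Agent.Lib.Helper67.depth_ne_top
          (R := B ⧸ (Ideal.span {x}).map (algebraMap A B))
          (B ⧸ (Ideal.span {x}).map (algebraMap A B)))
      have hlt : N' < N := by
        rw [← hN', hdB] at hd'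
        have : N' + 1 = N := by exact_mod_cast hd'
        omega
      have key := ih N' hlt (A ⧸ Ideal.span {x}) (B ⧸ (Ideal.span {x}).map (algebraMap A B)) F
        (Ideal.Quotient.lift ((Ideal.span {x}).map (algebraMap A B)) π h0) hπ' hker' hN'.symm
      rw [← gorenstein_quot_iff (algebraMap A B x) hxBm hxB _ hIB,
        ← gorenstein_quot_iff x hxm hx _ rfl]
      exact key

/-- **Gorenstein along flat local homomorphisms** -/
theorem gor_iff (A B : Type u) [CommRing A] [CommRing B]
    [IsLocalRing A] [IsNoetherianRing A] [IsLocalRing B] [IsNoetherianRing B]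
    [Algebra A B] [IsLocalHom (algebraMap A B)] [Module.Flat A B] :
    LocCoh.IsGorensteinLocalRing B ↔
      LocCoh.IsGorensteinLocalRing A ∧
        LocCoh.IsGorensteinLocalRing (B ⧸ (maximalIdeal A).map (algebraMap A B)) := by
  haveI : IsLocalRing (B ⧸ (maximalIdeal A).map (algebraMap A B)) :=
    isLocalRing_quot _ (map_le_maximalIdeal (maximalIdeal A) le_rfl)
  obtain ⟨N, hN⟩ := ENat.ne_top_iff_exists.mp
    (Groth.Agent.Lib.Helper67.depth_ne_top (R := B) B)
  exact gor_iff_aux N A B (B ⧸ (maximalIdeal A).map (algebraMap A B))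
    (Ideal.Quotient.mk _) Ideal.Quotient.mk_surjective Ideal.mk_ker hN.symm

end Main

end Groth.Agent.Lib.Helper85.GorFlat
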