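import Groth.Prelude.Def_Wider
import Mathlib.Algebra.Category.ModuleCat.EnoughInjectives
import Mathlib.Algebra.Category.ModuleCat.Injective
import Mathlib.LinearAlgebra.Projection
import Mathlib.Order.Zorn
import Mathlib.Tactic

set_option autoImplicit false
universe u
namespace Groth.Agent.Lib.Helper85.Hull

open InjHull

section Ess

variable {R : Type u} [CommRing R] {I : Type u} [AddCommGroup I] [Module R I]

/-- `K` is essential in `N` (elementwise form) -/
def EssIn (K N : Submodule R I) : Prop :=
  ∀ x ∈ N, x ≠ 0 → ∃ r : R, r • x ≠ 0 ∧ r • x ∈ K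

theorem EssIn.trans {K N P : Submodule R I} (h1 : EssIn K N) (h2 : EssIn N P) : EssIn K P := by
  intro x hx hx0
  obtain ⟨r, hr0, hrN⟩ := h2 x hx hx0
  obtain ⟨s, hs0, hsK⟩ := h1 _ hrN hr0
  exact ⟨s * r, by rwa [mul_smul], by rwa [mul_smul]⟩

theorem essIn_self (K : Submodule R I) : EssIn K K :=
  fun x hx hx0 => ⟨1, by rwa [one_smul], by rwa [one_smul]⟩

/-- a maximal essential extension of `K` inside `I` -/
theorem exists_maximal_ess (K : Submodule R I) :
    ∃ E : Submodule R I, K ≤ E ∧ EssIn K E ∧
      ∀ E' : Submodule R I, E ≤ E' → EssIn K E' → E' = E := by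
  obtain ⟨E, hE⟩ := zorn_le₀ {N : Submodule R I | K ≤ N ∧ EssIn K N} (by
    intro c hc hchain
    rcases c.eq_empty_or_nonempty with rfl | hne
    · exact ⟨K, ⟨le_rfl, essIn_self K⟩, by simp⟩
    · refine ⟨sSup c, ⟨?_, ?_⟩, fun z hz => le_sSup hz⟩
      · obtain ⟨N, hN⟩ := hne
        exact (hc hN).1.trans (le_sSup hN)
      · intro x hx hx0
        obtain ⟨N, hN, hxN⟩ := (Submodule.mem_sSup_of_directed hne hchain.directedOn).mp hx
        exact (hc hN).2 x hxN hx0)
  refine ⟨E, hE.prop.1, hE.prop.2, fun E' hle hess => ?_⟩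
  exact le_antisymm (hE.le_of_ge ⟨hE.prop.1.trans hle, hess⟩ hle) hle

theorem exists_maximal_disjoint (E : Submodule R I) :
    ∃ N : Submodule R I, Disjoint N E ∧ ∀ N' : Submodule R I, N ≤ N' → Disjoint N' E → N' = N := by
  obtain ⟨N, hN⟩ := zorn_le₀ {N : Submodule R I | Disjoint N E} (by
    intro c hc hchain
    rcases c.eq_empty_or_nonempty with rfl | hne
    · exact ⟨⊥, disjoint_bot_left, by simp⟩
    · refine ⟨sSup c, ?_, fun z hz => le_sSup hz⟩
      change Disjoint (sSup c) E
      rw [Submodule.disjoint_def]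
      intro x hx hxE
      obtain ⟨N, hN, hxN⟩ := (Submodule.mem_sSup_of_directed hne hchain.directedOn).mp hx
      exact (Submodule.disjoint_def.mp (hc hN)) x hxN hxE)
  exact ⟨N, hN.prop, fun N' hle hd => le_antisymm (hN.le_of_ge hd hle) hle⟩

/-- a maximal essential extension inside an injective module is a direct summand -/
theorem exists_isCompl_of_maximal_ess [Module.Injective R I] (K E : Submodule R I)
    (hess : EssIn K E) (hmax : ∀ E' : Submodule R I, E ≤ E' → EssIn K E' → E' = E) :
    ∃ N : Submodule R I, IsCompl E N := by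
  obtain ⟨N, hdisj, hNmax⟩ := exists_maximal_disjoint E
  have hdisj' := Submodule.disjoint_def.mp hdisj
  let q : I →ₗ[R] I ⧸ N := N.mkQ
  let qE : E →ₗ[R] I ⧸ N := q ∘ₗ E.subtype
  have hqE : Function.Injective qE := by
    rw [← LinearMap.ker_eq_bot, eq_bot_iff]
    intro e he
    rw [LinearMap.mem_ker] at he
    have h1 : (e : I) ∈ N := by
      rw [← Submodule.Quotient.mk_eq_zero N]
      exact he
    rw [Submodule.mem_bot]
    exact Subtype.ext (hdisj' _ h1 e.2)
  obtain ⟨h, hh⟩ := Module.Injective.extension_property R I _ _ qE hqE E.subtype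
  have hhq : ∀ e : E, h (q e) = e := fun e => LinearMap.congr_fun hh e
  -- Claim A
  have claimA : ∀ y : I, y ∉ N → ∃ (r : R) (e : E), e ≠ 0 ∧ r • q y = q e := by
    intro y hy
    have hlt : N < N ⊔ Submodule.span R {y} := by
      refine lt_of_le_of_ne le_sup_left ?_
      intro heq
      apply hy
      rw [heq]
      exact Submodule.mem_sup_right (Submodule.mem_span_singleton_self y)
    have hnd : ¬ Disjoint (N ⊔ Submodule.span R {y}) E := by
      intro hd
      exact hlt.ne (hNmax _ le_sup_left hd).symm
    rw [Submodule.disjoint_def] at hnd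
    simp only [not_forall] at hnd
    obtain ⟨e, heN, heE, he0⟩ := hnd
    obtain ⟨n, hn, z, hz, rfl⟩ := Submodule.mem_sup.mp heN
    obtain ⟨r, rfl⟩ := Submodule.mem_span_singleton.mp hz
    refine ⟨r, ⟨n + r • y, heE⟩, ?_, ?_⟩
    · intro h0
      exact he0 (congrArg Subtype.val h0)
    · change r • q y = q (n + r • y)
      rw [map_add, map_smul]
      have : q n = 0 := (Submodule.Quotient.mk_eq_zero N).mpr hn
      rw [this, zero_add]
  have hinj : Function.Injective h := by
    rw [← LinearMap.ker_eq_bot, eq_bot_iff]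
    intro ybar hy
    rw [Submodule.mem_bot]
    by_contra hne
    obtain ⟨y, rfl⟩ := N.mkQ_surjective ybar
    have hyN : y ∉ N := by
      intro hyN
      exact hne ((Submodule.Quotient.mk_eq_zero N).mpr hyN)
    obtain ⟨r, e, he0, hre⟩ := claimA y hyN
    rw [LinearMap.mem_ker] at hy
    have h1 : h (r • q y) = 0 := by rw [map_smul]; change r • h (N.mkQ y) = 0; rw [hy, smul_zero]
    rw [hre, hhq] at h1
    exact he0 (Subtype.ext h1)
  have hEP : E ≤ LinearMap.range h := by
    intro e he
    exact ⟨q e, hhq ⟨e, he⟩⟩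
  have hessP : EssIn E (LinearMap.range h) := by
    rintro z ⟨ybar, rfl⟩ hz0
    obtain ⟨y, rfl⟩ := N.mkQ_surjective ybar
    have hyN : y ∉ N := by
      intro hyN
      apply hz0
      have : N.mkQ y = 0 := (Submodule.Quotient.mk_eq_zero N).mpr hyN
      rw [this, map_zero]
    obtain ⟨r, e, he0, hre⟩ := claimA y hyN
    refine ⟨r, ?_, ?_⟩
    · rw [← map_smul]
      change h (r • q y) ≠ 0
      rw [hre, hhq]
      intro h0
      exact he0 (Subtype.ext h0)
    · rw [← map_smul]
      change h (r • q y) ∈ E
      rw [hre, hhq]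
      exact e.2
  have hPE : LinearMap.range h = E := hmax _ hEP (hess.trans hessP)
  refine ⟨N, hdisj.symm, ?_⟩
  rw [codisjoint_iff, eq_top_iff]
  intro y _
  have hmem : h (q y) ∈ E := by rw [← hPE]; exact LinearMap.mem_range_self h _
  have h2 : h (q (h (q y))) = h (q y) := hhq ⟨_, hmem⟩
  have h3 : q (h (q y)) = q y := hinj h2
  have h4 : y - h (q y) ∈ N := by
    rw [← Submodule.Quotient.mk_eq_zero N]
    change q (y - h (q y)) = 0
    rw [map_sub, h3, sub_self]
  have : y = h (q y) + (y - h (q y)) := by abel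
  rw [this]
  exact Submodule.add_mem_sup hmem h4

theorem injective_of_isCompl [Module.Injective R I] (E N : Submodule R I) (hc : IsCompl E N) :
    Module.Injective R E := by
  refine ⟨fun X Y _ _ _ _ f hf g => ?_⟩
  obtain ⟨l, hl⟩ := Module.Injective.extension_property R I _ _ f hf (E.subtype ∘ₗ g)
  refine ⟨(E.projectionOnto N hc) ∘ₗ l, fun x => ?_⟩
  have : l (f x) = (g x : I) := LinearMap.congr_fun hl x
  rw [LinearMap.comp_apply, this, Submodule.projectionOnto_apply_left]

/-- an essential submodule gives an essential injection in the sense of the prelude -/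
theorem isEssentialInj_codRestrict {M : Type u} [AddCommGroup M] [Module R M] (j : M →ₗ[R] I)
    (hj : Function.Injective j) (E : Submodule R I) (hKE : LinearMap.range j ≤ E)
    (hess : EssIn (LinearMap.range j) E) :
    IsEssentialInj (LinearMap.codRestrict E j (fun x => hKE (LinearMap.mem_range_self j x))) := by
  refine ⟨fun a b hab => hj (congrArg Subtype.val hab), ?_⟩
  intro N hN hbot
  apply hN
  rw [eq_bot_iff]
  intro x hx
  rw [Submodule.mem_bot]
  by_contra hx0
  have hx0' : (x : I) ≠ 0 := fun h => hx0 (Subtype.ext h)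
  obtain ⟨r, hr0, ⟨m, hm⟩⟩ := hess x x.2 hx0'
  have h1 : r • x ∈ N ⊓ LinearMap.range (LinearMap.codRestrict E j
      (fun x => hKE (LinearMap.mem_range_self j x))) := by
    refine ⟨N.smul_mem r hx, ⟨m, ?_⟩⟩
    apply Subtype.ext
    exact hm
  rw [hbot, Submodule.mem_bot] at h1
  exact hr0 (congrArg Subtype.val h1)

theorem exists_injectiveHull (M : Type u) [AddCommGroup M] [Module R M] :
    ∃ (E : Type u) (_ : AddCommGroup E) (_ : Module R E) (f : M →ₗ[R] E), IsInjectiveHull f := by
  have : CategoryTheory.EnoughInjectives (ModuleCat.{u} R) := inferInstance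
  let X := CategoryTheory.Injective.under (ModuleCat.of R M)
  have hX : CategoryTheory.Injective (ModuleCat.of R X) :=
    (inferInstance : CategoryTheory.Injective X)
  have hI : Module.Injective R X := Module.injective_module_of_injective_object R X
  let j : M →ₗ[R] X := (CategoryTheory.Injective.ι (ModuleCat.of R M)).hom
  have hj : Function.Injective j :=
    (ModuleCat.mono_iff_injective _).mp (inferInstance : CategoryTheory.Mono
      (CategoryTheory.Injective.ι (ModuleCat.of R M)))
  obtain ⟨E, hKE, hess, hmax⟩ := exists_maximal_ess (LinearMap.range j)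
  obtain ⟨N, hc⟩ := exists_isCompl_of_maximal_ess _ E hess hmax
  have hEinj : Module.Injective R E := injective_of_isCompl E N hc
  exact ⟨E, inferInstance, inferInstance, _,
    { toIsEssentialInj := isEssentialInj_codRestrict j hj E hKE hess
      isInjective := hEinj }⟩

end Ess

end Groth.Agent.Lib.Helper85.Hull
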