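import Groth.Agent.Lib.Helper85.Matlis
import Mathlib.RingTheory.Ideal.KrullsHeightTheorem
import Mathlib.RingTheory.AdicCompletion.Algebra

set_option autoImplicit false
universe u
namespace Groth.Agent.Lib.Helper85.Matlis

open InjHull IsLocalRing

section EndE

variable {R : Type u} [CommRing R] [IsLocalRing R] {E : Type u} [AddCommGroup E] [Module R E]
  {f : ResidueField R →ₗ[R] E}

theorem isFiniteLength_quot_pow [IsNoetherianRing R] (n : ℕ) :
    IsFiniteLength R (R ⧸ maximalIdeal R ^ n) := by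
  rcases Nat.eq_zero_or_pos n with h0 | hpos
  · subst h0
    rw [pow_zero, Ideal.one_eq_top]
    have : Subsingleton (R ⧸ (⊤ : Ideal R)) := Ideal.Quotient.subsingleton_iff.mpr rfl
    exact IsFiniteLength.of_subsingleton
  · have hmin : maximalIdeal R ∈ (maximalIdeal R ^ n).minimalPrimes := by
      refine ⟨⟨inferInstance, Ideal.pow_le_self hpos.ne'⟩, ?_⟩
      rintro q ⟨hq, hle⟩ _
      exact hq.le_of_pow_le hle
    have : IsArtinianRing (R ⧸ maximalIdeal R ^ n) :=
      IsLocalRing.quotient_artinian_of_mem_minimalPrimes_of_isLocalRing _ hmin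
    have : IsArtinian R (R ⧸ maximalIdeal R ^ n) :=
      isArtinian_of_surjective_algebraMap (R := R ⧸ maximalIdeal R ^ n)
        (M := R ⧸ maximalIdeal R ^ n) Ideal.Quotient.mk_surjective
    exact isFiniteLength_iff_isNoetherian_isArtinian.mpr ⟨inferInstance, inferInstance⟩

/-- an element killing `E[J]` lies in `J` -/
theorem mem_of_forall_smul_eq_zero (hf : IsInjectiveHull f) (J : Ideal R) (r : R)
    (h : ∀ e : E, (∀ j ∈ J, j • e = 0) → r • e = 0) : r ∈ J := by
  by_contra hr
  have hne : (Ideal.Quotient.mk J r) ≠ 0 := by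
    rwa [Ne, Ideal.Quotient.eq_zero_iff_mem]
  obtain ⟨φ, hφ⟩ := exists_hom_apply_ne_zero hf (M := R ⧸ J) _ hne
  apply hφ
  have h1 : Ideal.Quotient.mk J r = r • (1 : R ⧸ J) := by
    change _ = Ideal.Quotient.mk J (r * 1)
    rw [mul_one]
  rw [h1, map_smul]
  apply h
  intro j hj
  rw [← map_smul]
  have : j • (1 : R ⧸ J) = 0 := by
    change Ideal.Quotient.mk J (j * 1) = 0
    rw [mul_one, Ideal.Quotient.eq_zero_iff_mem]
    exact hj
  rw [this, map_zero]

/-- every linear map `E[J] → E` is multiplication by a ring element when `R/J` has finite length -/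
theorem exists_smul_of_isFiniteLength (hf : IsInjectiveHull f) (J : Ideal R)
    (hJ : IsFiniteLength R (R ⧸ J)) (ψ : Submodule.torsionBySet R E (J : Set R) →ₗ[R] E) :
    ∃ r : R, ∀ e, ψ e = r • (e : E) := by
  -- Hom(R/J, E) → E[J]
  have hmem : ∀ φ : (R ⧸ J) →ₗ[R] E, φ 1 ∈ Submodule.torsionBySet R E (J : Set R) := by
    intro φ
    rw [Submodule.mem_torsionBySet_iff]
    rintro ⟨j, hj⟩
    change j • φ 1 = 0
    rw [← map_smul]
    have : j • (1 : R ⧸ J) = 0 := by
      change Ideal.Quotient.mk J (j * 1) = 0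
      rw [mul_one, Ideal.Quotient.eq_zero_iff_mem]
      exact hj
    rw [this, map_zero]
  let Ξ : ((R ⧸ J) →ₗ[R] E) →ₗ[R] E :=
    { toFun := fun φ => ψ ⟨φ 1, hmem φ⟩
      map_add' := by
        intro φ φ'
        rw [← map_add]
        rfl
      map_smul' := by
        intro c φ
        rw [RingHom.id_apply, ← map_smul]
        rfl }
  obtain ⟨a, ha⟩ := (applyₗ_bijective_of_isFiniteLength hf (R ⧸ J) hJ).2 Ξ
  obtain ⟨r, rfl⟩ := Ideal.Quotient.mk_surjective a
  refine ⟨r, ?_⟩
  intro e
  have hle : J ≤ LinearMap.ker (LinearMap.toSpanSingleton R E (e : E)) := by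
    intro j hj
    rw [LinearMap.mem_ker, LinearMap.toSpanSingleton_apply]
    exact (Submodule.mem_torsionBySet_iff _ _).mp e.2 ⟨j, hj⟩
  let φe : (R ⧸ J) →ₗ[R] E := Submodule.liftQ J (LinearMap.toSpanSingleton R E (e : E)) hle
  have h1 : φe 1 = (e : E) := by
    change φe (Submodule.Quotient.mk 1) = _
    rw [Submodule.liftQ_apply, LinearMap.toSpanSingleton_apply, one_smul]
  have h2 := LinearMap.congr_fun ha φe
  have h3 : Ξ φe = ψ e := by
    change ψ ⟨φe 1, _⟩ = ψ e
    congr 1
    exact Subtype.ext h1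
  rw [← h3, ← h2]
  change φe (Ideal.Quotient.mk J r) = _
  have : Ideal.Quotient.mk J r = r • (1 : R ⧸ J) := by
    change _ = Ideal.Quotient.mk J (r * 1)
    rw [mul_one]
  rw [this, map_smul, h1]

variable [IsNoetherianRing R]

theorem exists_smul_on_tors (hf : IsInjectiveHull f) (φ : Module.End R E) (n : ℕ) :
    ∃ r : R, ∀ e : E, (∀ a ∈ maximalIdeal R ^ n, a • e = 0) → φ e = r • e := by
  obtain ⟨r, hr⟩ := exists_smul_of_isFiniteLength hf (maximalIdeal R ^ n)
    (isFiniteLength_quot_pow n) (φ ∘ₗ (Submodule.subtype _))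
  refine ⟨r, fun e he => ?_⟩
  have hmem : e ∈ Submodule.torsionBySet R E ((maximalIdeal R ^ n : Ideal R) : Set R) := by
    rw [Submodule.mem_torsionBySet_iff]
    rintro ⟨a, ha⟩
    exact he a ha
  exact hr ⟨e, hmem⟩

noncomputable def thetaFun (hf : IsInjectiveHull f) (n : ℕ) (φ : Module.End R E) :
    R ⧸ maximalIdeal R ^ n :=
  Ideal.Quotient.mk _ (Classical.choose (exists_smul_on_tors hf φ n))

theorem thetaFun_eq (hf : IsInjectiveHull f) (n : ℕ) (φ : Module.End R E) (r : R)
    (hr : ∀ e : E, (∀ a ∈ maximalIdeal R ^ n, a • e = 0) → φ e = r • e) :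
    thetaFun hf n φ = Ideal.Quotient.mk _ r := by
  unfold thetaFun
  rw [Ideal.Quotient.eq]
  apply mem_of_forall_smul_eq_zero hf
  intro e he
  rw [sub_smul, ← Classical.choose_spec (exists_smul_on_tors hf φ n) e he, ← hr e he, sub_self]

theorem thetaFun_spec (hf : IsInjectiveHull f) (n : ℕ) (φ : Module.End R E) :
    ∃ r : R, (∀ e : E, (∀ a ∈ maximalIdeal R ^ n, a • e = 0) → φ e = r • e) ∧
      thetaFun hf n φ = Ideal.Quotient.mk _ r :=
  ⟨_, Classical.choose_spec (exists_smul_on_tors hf φ n), rfl⟩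

noncomputable def theta (hf : IsInjectiveHull f) (n : ℕ) :
    Module.End R E →+* R ⧸ maximalIdeal R ^ n where
  toFun := thetaFun hf n
  map_one' := by
    rw [thetaFun_eq hf n 1 1 (fun e _ => by simp), map_one]
  map_mul' := by
    intro φ ψ
    obtain ⟨r, hr, hr'⟩ := thetaFun_spec hf n φ
    obtain ⟨s, hs, hs'⟩ := thetaFun_spec hf n ψ
    rw [hr', hs', ← map_mul]
    apply thetaFun_eq
    intro e he
    rw [Module.End.mul_apply, hs e he, map_smul, hr e he, smul_smul, mul_comm]
  map_zero' := by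
    rw [thetaFun_eq hf n 0 0 (fun e _ => by simp), map_zero]
  map_add' := by
    intro φ ψ
    obtain ⟨r, hr, hr'⟩ := thetaFun_spec hf n φ
    obtain ⟨s, hs, hs'⟩ := thetaFun_spec hf n ψ
    rw [hr', hs', ← map_add]
    apply thetaFun_eq
    intro e he
    rw [LinearMap.add_apply, hs e he, hr e he, add_smul]

theorem theta_eq (hf : IsInjectiveHull f) (n : ℕ) (φ : Module.End R E) (r : R)
    (hr : ∀ e : E, (∀ a ∈ maximalIdeal R ^ n, a • e = 0) → φ e = r • e) :
    theta hf n φ = Ideal.Quotient.mk _ r := thetaFun_eq hf n φ r hr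

theorem theta_spec (hf : IsInjectiveHull f) (n : ℕ) (φ : Module.End R E) :
    ∃ r : R, (∀ e : E, (∀ a ∈ maximalIdeal R ^ n, a • e = 0) → φ e = r • e) ∧
      theta hf n φ = Ideal.Quotient.mk _ r := thetaFun_spec hf n φ

theorem theta_compat (hf : IsInjectiveHull f) {m n : ℕ} (hle : m ≤ n) :
    (Ideal.Quotient.factorPow (maximalIdeal R) hle).comp (theta hf n) = theta hf m := by
  ext φ
  obtain ⟨r, hr, hr'⟩ := theta_spec hf n φ
  rw [RingHom.comp_apply, hr']
  symm
  rw [theta_eq hf m φ r]
  · rfl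
  · intro e he
    apply hr
    intro a ha
    exact he a (Ideal.pow_le_pow_right hle ha)

/-- the comparison ring map `End(E) → R̂` -/
noncomputable def Theta (hf : IsInjectiveHull f) :
    Module.End R E →+* AdicCompletion (maximalIdeal R) R :=
  AdicCompletion.liftRingHom (maximalIdeal R) (theta hf) (fun hle => theta_compat hf hle)

theorem evalₐ_Theta (hf : IsInjectiveHull f) (n : ℕ) (φ : Module.End R E) :
    AdicCompletion.evalₐ (maximalIdeal R) n (Theta hf φ) = theta hf n φ :=
  AdicCompletion.evalₐ_liftRingHom _ _ _ _ _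

theorem Theta_injective (hf : IsInjectiveHull f) : Function.Injective (Theta hf) := by
  rw [injective_iff_map_eq_zero]
  intro φ hφ
  ext e
  obtain ⟨n, hn⟩ := isPowerTorsion hf.toIsEssentialInj e
  obtain ⟨r, hr, hr'⟩ := theta_spec hf n φ
  have h1 : theta hf n φ = 0 := by
    rw [← evalₐ_Theta, hφ, map_zero]
  rw [hr', Ideal.Quotient.eq_zero_iff_mem] at h1
  rw [hr e hn, hn r h1, LinearMap.zero_apply]

omit [IsNoetherianRing R] in
theorem cauchy_smul_eq (s : AdicCompletion.AdicCauchySequence (maximalIdeal R) R) (e : E) (k j : ℕ) (hkj : k ≤ j)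
    (hk : ∀ a ∈ maximalIdeal R ^ k, a • e = 0) : s j • e = s k • e := by
  have h1 : s k - s j ∈ maximalIdeal R ^ k := by
    have := SModEq.sub_mem.mp (s.property hkj)
    rwa [smul_eq_mul, Ideal.mul_top] at this
  have := hk _ h1
  rw [sub_smul, sub_eq_zero] at this
  exact this.symm

theorem Theta_surjective (hf : IsInjectiveHull f) : Function.Surjective (Theta hf) := by
  intro x
  obtain ⟨s, rfl⟩ := AdicCompletion.mk_surjective _ _ x
  have hpt := isPowerTorsion hf.toIsEssentialInj (E := E)
  choose N hN using hpt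
  -- key: the value is `s j • e` for any `j ≥ N e`
  have key : ∀ (e : E) (j : ℕ), N e ≤ j → s j • e = s (N e) • e :=
    fun e j hj => cauchy_smul_eq s e (N e) j hj (hN e)
  have hmono : ∀ (e : E) (k j : ℕ), k ≤ j → (∀ a ∈ maximalIdeal R ^ k, a • e = 0) →
      ∀ a ∈ maximalIdeal R ^ j, a • e = 0 :=
    fun e k j hkj hk a ha => hk a (Ideal.pow_le_pow_right hkj ha)
  let φ : Module.End R E :=
    { toFun := fun e => s (N e) • e
      map_add' := by
        intro e e'
        set j := max (N (e + e')) (max (N e) (N e')) with hj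
        rw [← key (e + e') j (le_max_left _ _), ← key e j ((le_max_left _ _).trans (le_max_right _ _)),
          ← key e' j ((le_max_right _ _).trans (le_max_right _ _)), smul_add]
      map_smul' := by
        intro c e
        set j := max (N (c • e)) (N e) with hj
        rw [RingHom.id_apply, ← key (c • e) j (le_max_left _ _), ← key e j (le_max_right _ _),
          smul_comm] }
  refine ⟨φ, ?_⟩
  apply AdicCompletion.ext_evalₐ
  intro n
  rw [evalₐ_Theta, AdicCompletion.evalₐ_mk]
  apply theta_eq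
  intro e he
  change s (N e) • e = s n • e
  set j := max n (N e) with hj
  rw [← key e j (le_max_right _ _)]
  exact cauchy_smul_eq s e n j (le_max_left _ _) he

theorem Theta_algebraMap (hf : IsInjectiveHull f) (r : R) :
    Theta hf (algebraMap R (Module.End R E) r) = algebraMap R _ r := by
  apply AdicCompletion.ext_evalₐ
  intro n
  rw [evalₐ_Theta, theta_eq hf n _ r (fun e _ => rfl)]
  exact ((AdicCompletion.evalₐ _ n).commutes r).symm

/-- `End(E) ≃ R̂` -/
noncomputable def endEquiv (hf : IsInjectiveHull f) :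
    Module.End R E ≃ₐ[R] AdicCompletion (maximalIdeal R) R :=
  AlgEquiv.ofBijective { Theta hf with commutes' := Theta_algebraMap hf }
    ⟨Theta_injective hf, Theta_surjective hf⟩

theorem endEquiv_apply (hf : IsInjectiveHull f) (φ : Module.End R E) :
    endEquiv hf φ = Theta hf φ := rfl

end EndE

end Groth.Agent.Lib.Helper85.Matlis
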