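import Mathlib
import Groth.Prelude.Def_CAlg
import Groth.Agent.Lib.Helper67.Depth

/-!
# Reflexivity from depth (EGA/Stacks 0AV?-type lemma)

If `G` is a finite module over a Noetherian ring `A`, reflexive at the primes not containing `I`,
with `depth_I A ≥ 1` and `depth_I G ≥ 2`, then `G` is reflexive.
-/

set_option autoImplicit false
universe u

namespace Groth.Agent.Lib.Helper85.Reflexive

open Module

section Loc

variable {A : Type u} [CommRing A] [IsNoetherianRing A] (p : Ideal A) [p.IsPrime]
  (G : Type u) [AddCommGroup G] [Module A G] [Module.Finite A G]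

/-- localization of the dual -/
noncomputable def locDual : Dual A G →ₗ[A]
    Dual (Localization.AtPrime p) (LocalizedModule p.primeCompl G) :=
  IsLocalizedModule.mapExtendScalars p.primeCompl (LocalizedModule.mkLinearMap p.primeCompl G)
    (Algebra.linearMap A (Localization.AtPrime p)) (Localization.AtPrime p)

instance isLocalizedModule_locDual : IsLocalizedModule p.primeCompl (locDual p G) := by
  have := Module.finitePresentation_of_finite A G
  unfold locDual
  infer_instance

theorem locDual_apply (φ : Dual A G) (x : G) :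
    locDual p G φ (LocalizedModule.mkLinearMap p.primeCompl G x) =
      algebraMap A (Localization.AtPrime p) (φ x) := by
  unfold locDual
  rw [IsLocalizedModule.mapExtendScalars_apply_apply, IsLocalizedModule.map_apply]
  rfl

/-- second localization: double duals -/
noncomputable def locDual2 : Dual A (Dual A G) →ₗ[A]
    Dual (Localization.AtPrime p)
      (Dual (Localization.AtPrime p) (LocalizedModule p.primeCompl G)) :=
  IsLocalizedModule.mapExtendScalars p.primeCompl (locDual p G)
    (Algebra.linearMap A (Localization.AtPrime p)) (Localization.AtPrime p)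

instance isLocalizedModule_locDual2 : IsLocalizedModule p.primeCompl (locDual2 p G) := by
  have := Module.finitePresentation_of_finite A (Dual A G)
  unfold locDual2
  infer_instance

theorem locDual2_apply (ξ : Dual A (Dual A G)) (φ : Dual A G) :
    locDual2 p G ξ (locDual p G φ) = algebraMap A (Localization.AtPrime p) (ξ φ) := by
  unfold locDual2
  rw [IsLocalizedModule.mapExtendScalars_apply_apply, IsLocalizedModule.map_apply]
  rfl

theorem dual_ext {ζ ζ' : Dual (Localization.AtPrime p)
      (Dual (Localization.AtPrime p) (LocalizedModule p.primeCompl G))}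
    (h : ∀ φ : Dual A G, ζ (locDual p G φ) = ζ' (locDual p G φ)) : ζ = ζ' := by
  apply LinearMap.restrictScalars_injective A
  apply IsLocalizedModule.linearMap_ext p.primeCompl (locDual p G)
    (Algebra.linearMap A (Localization.AtPrime p))
  ext φ
  exact h φ

variable [Module.IsReflexive (Localization.AtPrime p) (LocalizedModule p.primeCompl G)]

/-- (a) elements in the kernel of evaluation die at reflexive primes -/
theorem exists_smul_eq_zero (x : G) (hx : ∀ φ : Dual A G, φ x = 0) :
    ∃ s : A, s ∉ p ∧ s • x = 0 := by
  have h1 : ∀ ψ : Dual (Localization.AtPrime p) (LocalizedModule p.primeCompl G),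
      ψ (LocalizedModule.mkLinearMap p.primeCompl G x) = 0 := by
    intro ψ
    obtain ⟨⟨φ, s⟩, hs⟩ := IsLocalizedModule.surj p.primeCompl (locDual p G) ψ
    have h2 := LinearMap.congr_fun hs (LocalizedModule.mkLinearMap p.primeCompl G x)
    rw [locDual_apply, hx, map_zero] at h2
    change (s : A) • ψ (LocalizedModule.mkLinearMap p.primeCompl G x) = 0 at h2
    rw [Algebra.smul_def] at h2
    have hu : IsUnit (algebraMap A (Localization.AtPrime p) (s : A)) :=
      IsLocalization.map_units (Localization.AtPrime p) s
    exact (hu.mul_right_eq_zero).mp h2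
  have h3 : Dual.eval (Localization.AtPrime p) (LocalizedModule p.primeCompl G)
      (LocalizedModule.mkLinearMap p.primeCompl G x) = 0 := by
    ext ψ
    exact h1 ψ
  have h4 := (Module.bijective_dual_eval (Localization.AtPrime p)
    (LocalizedModule p.primeCompl G)).1 (h3.trans (map_zero _).symm)
  obtain ⟨s, hs⟩ := (IsLocalizedModule.eq_zero_iff p.primeCompl
    (LocalizedModule.mkLinearMap p.primeCompl G)).mp h4
  exact ⟨s, s.2, hs⟩

/-- (b) the cokernel of evaluation dies at reflexive primes -/
theorem exists_smul_mem_range (ξ : Dual A (Dual A G)) :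
    ∃ s : A, s ∉ p ∧ s • ξ ∈ LinearMap.range (Dual.eval A G) := by
  obtain ⟨y, hy⟩ := (Module.bijective_dual_eval (Localization.AtPrime p)
    (LocalizedModule p.primeCompl G)).2 (locDual2 p G ξ)
  induction y using LocalizedModule.induction_on with
  | h x t =>
    have hkey : ∀ φ : Dual A G, algebraMap A (Localization.AtPrime p) (φ x) =
        algebraMap A (Localization.AtPrime p) ((t : A) * ξ φ) := by
      intro φ
      have h1 := LinearMap.congr_fun hy (locDual p G φ)
      rw [Dual.eval_apply, locDual2_apply] at h1
      have h2 : (t : A) • LocalizedModule.mk x t =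
          LocalizedModule.mkLinearMap p.primeCompl G x := by
        rw [LocalizedModule.mkLinearMap_apply, LocalizedModule.smul'_mk]
        exact LocalizedModule.mk_cancel t x
      calc algebraMap A (Localization.AtPrime p) (φ x)
          = locDual p G φ (LocalizedModule.mkLinearMap p.primeCompl G x) :=
            (locDual_apply p G φ x).symm
        _ = locDual p G φ ((algebraMap A (Localization.AtPrime p) (t : A)) •
              LocalizedModule.mk x t) := by rw [algebraMap_smul, h2]
        _ = algebraMap A (Localization.AtPrime p) (t : A) •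
              locDual p G φ (LocalizedModule.mk x t) := map_smul _ _ _
        _ = algebraMap A (Localization.AtPrime p) (t : A) *
              algebraMap A (Localization.AtPrime p) (ξ φ) := by rw [h1, smul_eq_mul]
        _ = algebraMap A (Localization.AtPrime p) ((t : A) * ξ φ) := (map_mul _ _ _).symm
    -- ζ = eval x - t • ξ is killed by some u
    have hζ : locDual2 p G (Dual.eval A G x - (t : A) • ξ) = 0 := by
      apply dual_ext
      intro φ
      rw [locDual2_apply, LinearMap.zero_apply, LinearMap.sub_apply, LinearMap.smul_apply,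
        Dual.eval_apply, smul_eq_mul, map_sub, hkey φ, sub_self]
    obtain ⟨u, hu⟩ := (IsLocalizedModule.eq_zero_iff p.primeCompl (locDual2 p G)).mp hζ
    refine ⟨(u : A) * (t : A), (u * t).2, ?_⟩
    refine ⟨(u : A) • x, ?_⟩
    have hu' : (u : A) • (Dual.eval A G x - (t : A) • ξ) = 0 := hu
    rw [smul_sub, sub_eq_zero] at hu'
    rw [map_smul, hu', mul_smul]

end Loc

section Global

variable {A : Type u} [CommRing A] [IsNoetherianRing A]

theorem exists_pow_le_of_forall_prime (I J : Ideal A)
    (h : ∀ P : Ideal A, P.IsPrime → J ≤ P → I ≤ P) : ∃ n : ℕ, I ^ n ≤ J := by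
  apply Ideal.exists_pow_le_of_le_radical_of_fg _ (IsNoetherian.noetherian I)
  rw [Ideal.radical_eq_sInf]
  refine le_sInf ?_
  rintro P ⟨hJP, hP⟩
  exact h P hP hJP

variable (G : Type u) [AddCommGroup G] [Module A G] [Module.Finite A G]

theorem isReflexive_of_subsingleton (R : Type u) [CommRing R] (M : Type u) [AddCommGroup M]
    [Module R M] [Subsingleton M] : Module.IsReflexive R M :=
  ⟨⟨fun a b _ => Subsingleton.elim a b, fun ξ => ⟨0, Subsingleton.elim _ _⟩⟩⟩

/-- kernel of evaluation: killed by a power of `I` -/
theorem exists_pow_smul_eq_zero (I : Ideal A)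
    (hU : ∀ p : PrimeSpectrum A, ¬ I ≤ p.asIdeal →
      Module.IsReflexive (Localization.AtPrime p.asIdeal) (LocalizedModule p.asIdeal.primeCompl G))
    (x : G) (hx : ∀ φ : Dual A G, φ x = 0) : ∃ n : ℕ, ∀ a ∈ I ^ n, a • x = 0 := by
  obtain ⟨n, hn⟩ := exists_pow_le_of_forall_prime I
    (LinearMap.ker (LinearMap.toSpanSingleton A G x)) (by
      intro P hP hJP
      by_contra hIP
      haveI := hP
      haveI := hU ⟨P, hP⟩ hIP
      obtain ⟨s, hsP, hsx⟩ := exists_smul_eq_zero P G x hx
      apply hsP
      apply hJP
      rw [LinearMap.mem_ker, LinearMap.toSpanSingleton_apply]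
      exact hsx)
  refine ⟨n, fun a ha => ?_⟩
  have := hn ha
  rwa [LinearMap.mem_ker, LinearMap.toSpanSingleton_apply] at this

/-- cokernel of evaluation: killed by a power of `I` -/
theorem exists_pow_le_annihilator (I : Ideal A)
    (hU : ∀ p : PrimeSpectrum A, ¬ I ≤ p.asIdeal →
      Module.IsReflexive (Localization.AtPrime p.asIdeal) (LocalizedModule p.asIdeal.primeCompl G)) :
    ∃ n : ℕ, I ^ n ≤ Module.annihilator A
      (Dual A (Dual A G) ⧸ LinearMap.range (Dual.eval A G)) := by
  apply exists_pow_le_of_forall_prime
  intro P hP hJP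
  by_contra hIP
  haveI := hP
  haveI := hU ⟨P, hP⟩ hIP
  have hsupp : (⟨P, hP⟩ : PrimeSpectrum A) ∈
      Module.support A (Dual A (Dual A G) ⧸ LinearMap.range (Dual.eval A G)) :=
    Module.mem_support_iff_of_finite.mpr hJP
  obtain ⟨c, hc⟩ := Module.mem_support_iff'.mp hsupp
  obtain ⟨ξ, rfl⟩ := Submodule.Quotient.mk_surjective _ c
  obtain ⟨s, hsP, hsξ⟩ := exists_smul_mem_range P G ξ
  apply hc s hsP
  rw [← Submodule.Quotient.mk_smul, Submodule.Quotient.mk_eq_zero]
  exact hsξ

theorem isReflexive_of_depth (I : Ideal A) (hA : 1 ≤ LocCoh.idealDepth I A)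
    (hU : ∀ p : PrimeSpectrum A, ¬ I ≤ p.asIdeal →
      Module.IsReflexive (Localization.AtPrime p.asIdeal) (LocalizedModule p.asIdeal.primeCompl G))
    (hG : 2 ≤ LocCoh.idealDepth I G) : Module.IsReflexive A G := by
  by_cases htop : I • (⊤ : Submodule A G) = ⊤
  · -- all primes are reflexive
    have hU' : ∀ p : PrimeSpectrum A, ¬ (⊤ : Ideal A) ≤ p.asIdeal →
        Module.IsReflexive (Localization.AtPrime p.asIdeal)
          (LocalizedModule p.asIdeal.primeCompl G) := by
      intro p _
      by_cases hIp : I ≤ p.asIdeal
      · obtain ⟨r, hr1, hr⟩ := Submodule.exists_sub_one_mem_and_smul_eq_zero_of_fg_of_le_smul I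
          (⊤ : Submodule A G) Module.Finite.fg_top htop.ge
        have hrp : r ∉ p.asIdeal := by
          intro hrp
          apply p.2.ne_top
          rw [Ideal.eq_top_iff_one]
          have := p.asIdeal.sub_mem hrp (hIp hr1)
          simpa using this
        haveI : Subsingleton (LocalizedModule p.asIdeal.primeCompl G) := by
          rw [LocalizedModule.subsingleton_iff]
          intro m
          exact ⟨r, hrp, hr m Submodule.mem_top⟩
        exact isReflexive_of_subsingleton _ _
      · exact hU p hIp
    constructor
    constructor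
    · rw [← LinearMap.ker_eq_bot, eq_bot_iff]
      intro x hx
      obtain ⟨n, hn⟩ := exists_pow_smul_eq_zero G ⊤ hU' x
        (fun φ => LinearMap.congr_fun (LinearMap.mem_ker.mp hx) φ)
      have := hn 1 (by rw [Ideal.top_pow]; trivial)
      rw [one_smul] at this
      rw [this]; exact Submodule.zero_mem _
    · intro ξ
      obtain ⟨n, hn⟩ := exists_pow_le_annihilator G ⊤ hU'
      have h1 : (1 : A) ∈ Module.annihilator A
          (Dual A (Dual A G) ⧸ LinearMap.range (Dual.eval A G)) :=
        hn (by rw [Ideal.top_pow]; trivial)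
      have h2 := Module.mem_annihilator.mp h1 (Submodule.Quotient.mk ξ)
      rw [one_smul, Submodule.Quotient.mk_eq_zero] at h2
      exact h2
  · -- regular elements
    have h1G : 1 ≤ LocCoh.idealDepth I G := le_trans (by norm_num) hG
    obtain ⟨r, hrI, hr⟩ := ((Groth.Agent.Lib.Helper67.one_le_idealDepth_iff I G).mp h1G).resolve_left
      htop
    have htopA : I • (⊤ : Submodule A A) ≠ ⊤ := by
      intro h
      apply htop
      have hI : I = ⊤ := by
        have : I • (⊤ : Submodule A A) = I := by
          rw [smul_eq_mul, Ideal.mul_top]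
        rw [← this, h]
      rw [hI, Submodule.top_smul]
    obtain ⟨r0, hr0I, hr0⟩ :=
      ((Groth.Agent.Lib.Helper67.one_le_idealDepth_iff I A).mp hA).resolve_left htopA
    have hinj : Function.Injective (Dual.eval A G) := by
      rw [← LinearMap.ker_eq_bot, eq_bot_iff]
      intro x hx
      obtain ⟨n, hn⟩ := exists_pow_smul_eq_zero G I hU x
        (fun φ => LinearMap.congr_fun (LinearMap.mem_ker.mp hx) φ)
      have h2 := hn (r ^ n) (Ideal.pow_mem_pow hrI n)
      have h3 : x = 0 := (hr.pow n) (h2.trans (smul_zero _).symm)
      rw [h3]; exact Submodule.zero_mem _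
    refine ⟨⟨hinj, ?_⟩⟩
    -- cokernel
    have hreg2 : IsSMulRegular (Dual A (Dual A G)) r0 := by
      intro ξ ξ' h
      ext φ
      have := LinearMap.congr_fun h φ
      exact hr0 this
    have hd2 : 1 ≤ LocCoh.idealDepth I (Dual A (Dual A G)) :=
      (Groth.Agent.Lib.Helper67.one_le_idealDepth_iff I _).mpr (Or.inr ⟨r0, hr0I, hreg2⟩)
    have hSES := Groth.Agent.Lib.Helper67.idealDepth_right_ge (I := I) G (Dual A (Dual A G))
      (Dual A (Dual A G) ⧸ LinearMap.range (Dual.eval A G)) (Dual.eval A G)
      (LinearMap.range (Dual.eval A G)).mkQ hinj (Submodule.mkQ_surjective _)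
      (LinearMap.exact_map_mkQ_range _)
    have hdC : 1 ≤ LocCoh.idealDepth I
        (Dual A (Dual A G) ⧸ LinearMap.range (Dual.eval A G)) := by
      refine le_trans (le_min hd2 ?_) hSES
      revert hG
      generalize LocCoh.idealDepth I G = d
      induction d using ENat.recTopCoe with
      | top => intro _; simp
      | coe d =>
        intro hG
        have : 2 ≤ d := by exact_mod_cast hG
        have h1 : ((d - 1 : ℕ) : ℕ∞) = (d : ℕ∞) - 1 := by simp
        rw [← h1]
        exact_mod_cast (by omega : 1 ≤ d - 1)
    obtain ⟨n, hn⟩ := exists_pow_le_annihilator G I hU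
    have hsub : Subsingleton (Dual A (Dual A G) ⧸ LinearMap.range (Dual.eval A G)) := by
      rcases (Groth.Agent.Lib.Helper67.one_le_idealDepth_iff I _).mp hdC with h | ⟨r1, hr1I, hr1⟩
      · have hpow : ∀ k : ℕ, (I ^ k) • (⊤ : Submodule A
            (Dual A (Dual A G) ⧸ LinearMap.range (Dual.eval A G))) = ⊤ := by
          intro k
          induction k with
          | zero => rw [pow_zero, Ideal.one_eq_top, Submodule.top_smul]
          | succ k ih => rw [pow_succ, Submodule.mul_smul, h, ih]
        have h2 : (⊤ : Submodule A (Dual A (Dual A G) ⧸ LinearMap.range (Dual.eval A G))) ≤ ⊥ := by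
          rw [← hpow n, Submodule.smul_le]
          intro a ha c _
          rw [Submodule.mem_bot]
          exact Module.mem_annihilator.mp (hn ha) c
        exact ⟨fun a b => by
          have ha : a ∈ (⊥ : Submodule A _) := h2 Submodule.mem_top
          have hb : b ∈ (⊥ : Submodule A _) := h2 Submodule.mem_top
          rw [Submodule.mem_bot] at ha hb
          rw [ha, hb]⟩
      · refine ⟨fun a b => ?_⟩
        have h0 : ∀ c : Dual A (Dual A G) ⧸ LinearMap.range (Dual.eval A G), c = 0 := by
          intro c
          have h2 := Module.mem_annihilator.mp (hn (Ideal.pow_mem_pow hr1I n)) c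
          exact (hr1.pow n) (h2.trans (smul_zero _).symm)
        rw [h0 a, h0 b]
    intro ξ
    have : (Submodule.Quotient.mk ξ : Dual A (Dual A G) ⧸ LinearMap.range (Dual.eval A G)) = 0 :=
      Subsingleton.elim _ _
    rw [Submodule.Quotient.mk_eq_zero] at this
    exact this

end Global

end Groth.Agent.Lib.Helper85.Reflexive
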