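import Mathlib
import Groth.Prelude.Def_W4bk4grossh111Obs

/-!
# Finitely many invariant functions determine the observable hull (helper85)
-/

set_option autoImplicit false
universe u
open CategoryTheory MonoidalCategory CartesianMonoidalCategory MonObj GrpObj AlgebraicGeometry

namespace Groth.Agent.Lib.Helper85.ObsFinset

/-- For a group object `G` over a base `S` with `Γ(G × G)` Noetherian, finitely many functions
invariant under right translation by `i : H ⟶ G` already determine which points `g : T ⟶ G`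
fix all such functions. -/
theorem exists_finset {S : Scheme.{u}} {G H : Over S} [GrpObj G]
    [IsNoetherianRing Γ((G ⊗ G).left, ⊤)] (i : H ⟶ G) :
    ∃ s : Finset Γ(G.left, ⊤), (∀ f ∈ s, AGF.IsRTransInv i f) ∧
      ∀ (T : Over S) (g : T ⟶ G), (∀ f ∈ s, AGF.IsRTransInv g f) →
        ∀ f : Γ(G.left, ⊤), AGF.IsRTransInv i f → AGF.IsRTransInv g f := by
  let D : Γ(G.left, ⊤) → Γ((G ⊗ G).left, ⊤) := fun f =>
    μ[G].left.appTop.hom f - (fst G G).left.appTop.hom f
  have hD : ∀ (T : Over S) (g : T ⟶ G) (f : Γ(G.left, ⊤)),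
      AGF.IsRTransInv g f ↔ (G ◁ g).left.appTop.hom (D f) = 0 := by
    intro T g f
    have e1 : ((G ◁ g) ≫ μ[G]).left.appTop.hom f =
        (G ◁ g).left.appTop.hom (μ[G].left.appTop.hom f) := by
      rw [Over.comp_left, Scheme.Hom.comp_appTop]
      rfl
    have e2 : (fst G T).left.appTop.hom f =
        (G ◁ g).left.appTop.hom ((fst G G).left.appTop.hom f) := by
      rw [← whiskerLeft_fst G g, Over.comp_left, Scheme.Hom.comp_appTop]
      rfl
    unfold AGF.IsRTransInv
    change ((G ◁ g) ≫ μ[G]).left.appTop.hom f = (fst G T).left.appTop.hom f ↔ _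
    rw [e1, e2, map_sub, sub_eq_zero]
  let E : Set Γ(G.left, ⊤) := {f | AGF.IsRTransInv i f}
  have hfg : (Ideal.span (D '' E)).FG := (isNoetherianRing_iff_ideal_fg _).mp inferInstance _
  obtain ⟨s', hs'sub, hs'span⟩ := (Submodule.fg_span_iff_fg_span_finset_subset (D '' E)).mp hfg
  classical
  obtain ⟨s, hsE, hsimg⟩ := Finset.subset_set_image_iff.mp hs'sub
  refine ⟨s, fun f hf => hsE hf, ?_⟩
  intro T g hg f hf
  rw [hD]
  have hle : Ideal.span (D '' E) ≤ RingHom.ker (G ◁ g).left.appTop.hom := by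
    change Submodule.span _ (D '' E) ≤ _
    rw [hs'span]
    change Ideal.span _ ≤ _
    rw [Ideal.span_le]
    intro x hx
    rw [← hsimg] at hx
    obtain ⟨f', hf', rfl⟩ := Finset.mem_image.mp (Finset.mem_coe.mp hx)
    exact (hD T g f').mp (hg f' hf')
  exact hle (Ideal.subset_span ⟨f, hf, rfl⟩)

end Groth.Agent.Lib.Helper85.ObsFinset
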