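import Mathlib
import Groth.Prelude.Def_W4bk4grossh111Obs
import Groth.Agent.Lib.Helper19.Grp.AffinePts

/-!
# `H`-invariant vectors are fixed by the observable hull of `H` (helper85)

Matrix-coefficient argument: for a rational `G`-module `M`, a linear form `l` and a vector `a`,
`fcoef G ρ l a ∈ Γ(G, ⊤)` is the function `x ↦ l (x • a)`.  If `a` is fixed by `H` these functions
are invariant under right translation by `H` (`fcoef_invariant`), so a rational point `g` fixing all
right-`H`-invariant functions satisfies `l (g • a) = l a` for all `l` (`main`).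

Also: `coef` (coefficient of a linear form on `B ⊗ M`), `exists_factor_top` (points of an affine
`k`-scheme factor through the universal point), `coef_rho`.
-/

set_option autoImplicit false
set_option linter.style.haveILetI false
set_option linter.unusedSectionVars false
universe u
open CategoryTheory CategoryTheory.Limits MonoidalCategory CartesianMonoidalCategory MonObj
  AlgebraicGeometry Opposite TopologicalSpace
open scoped TensorProduct
open Groth.Agent.Lib.Helper19.AffinePts

namespace Groth.Agent.Lib.Helper85.ObsHull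

variable {k : Type u} [Field k]

section Coef

variable {M : Type u} [AddCommGroup M] [Module k M] (l : M →ₗ[k] k)

/-- the coefficient `B ⊗ M → B` of a linear form on `M` -/
noncomputable def coef (B : Type u) [CommRing B] [Algebra k B] : B ⊗[k] M →ₗ[B] B :=
  (TensorProduct.AlgebraTensorModule.rid k B B).toLinearMap ∘ₗ l.baseChange B

theorem coef_tmul (B : Type u) [CommRing B] [Algebra k B] (b : B) (m : M) :
    coef l B (b ⊗ₜ m) = l m • b := by
  simp [coef]

theorem coef_Wmap {B B' : Type u} [CommRing B] [Algebra k B] [CommRing B'] [Algebra k B']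
    (φ : B →ₐ[k] B') (x : B ⊗[k] M) : coef l B' (VecGrp.Wmap φ x) = φ (coef l B x) := by
  induction x using TensorProduct.induction_on with
  | zero => simp
  | tmul b m => rw [VecGrp.Wmap_tmul, coef_tmul, coef_tmul, map_smul]
  | add x y hx hy => simp only [map_add, hx, hy]

theorem eq_of_coef_eq (x y : k ⊗[k] M) (h : ∀ l : M →ₗ[k] k, coef l k x = coef l k y) : x = y := by
  have key : ∀ (l : M →ₗ[k] k) (z : k ⊗[k] M), coef l k z = l (TensorProduct.lid k M z) := by
    intro l z
    induction z using TensorProduct.induction_on with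
    | zero => simp
    | tmul b m => rw [coef_tmul, TensorProduct.lid_tmul, map_smul, smul_eq_mul, smul_eq_mul, mul_comm]
    | add x y hx hy => simp only [map_add, hx, hy]
  apply (TensorProduct.lid k M).injective
  rw [← sub_eq_zero]
  apply (Module.forall_dual_apply_eq_zero_iff k _).mp
  intro l
  rw [map_sub, sub_eq_zero, ← key, ← key]
  exact h l

end Coef

section Points

variable (G : Over (Spec (CommRingCat.of k)))

/-- A point of an affine `k`-scheme with values in any `k`-algebra factors through the universal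
point. -/
theorem exists_factor_top [IsAffine G.left] {B : Type u} [CommRing B] [Algebra k B]
    (g : VecGrp.pt k B ⟶ G) :
    letI := algU G ⊤
    ∃ ψ : Γ(G.left, ⊤) →ₐ[k] B, VecGrp.ptMap ψ ≫ gU G (isAffineOpen_top G.left) = g := by
  have hU : IsAffineOpen (⊤ : G.left.Opens) := isAffineOpen_top G.left
  letI := algU G ⊤
  have hr : Set.range g.left.base ⊆ Set.range hU.fromSpec.base := by
    rw [hU.range_fromSpec]
    intro x _
    trivial
  haveI : IsOpenImmersion hU.fromSpec := hU.isOpenImmersion_fromSpec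
  let l : Spec (CommRingCat.of B) ⟶ Spec Γ(G.left, ⊤) := IsOpenImmersion.lift hU.fromSpec g.left hr
  have hl : l ≫ hU.fromSpec = g.left := IsOpenImmersion.lift_fac _ _ _
  let ψ₀ : Γ(G.left, ⊤) ⟶ CommRingCat.of B := Spec.preimage l
  have hψ₀ : Spec.map ψ₀ = l := Spec.map_preimage l
  have hcomm : ψ₀.hom.comp (algebraMap k Γ(G.left, ⊤)) = algebraMap k B := by
    have h1 : Spec.map (CommRingCat.ofHom (ψ₀.hom.comp (algebraMap k Γ(G.left, ⊤)))) =
        Spec.map (CommRingCat.ofHom (algebraMap k B)) := by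
      have h2 : g.left ≫ G.hom = Spec.map (CommRingCat.ofHom (algebraMap k B)) := Over.w g
      rw [← h2, ← hl, Category.assoc, fromSpec_hom G hU, ← hψ₀, ← Spec.map_comp]
      rfl
    have h3 := Spec.map_injective h1
    exact congrArg CommRingCat.Hom.hom h3
  refine ⟨{ ψ₀.hom with commutes' := fun r => RingHom.congr_fun hcomm r }, ?_⟩
  ext1
  change Spec.map _ ≫ hU.fromSpec = g.left
  rw [← hl, ← hψ₀]
  rfl

theorem ev_gU_top [IsAffine G.left] (r : Γ(G.left, ⊤)) :
    letI := algU G ⊤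
    ev G (gU G (isAffineOpen_top G.left)) r = r := by
  letI := algU G ⊤
  rw [ev_gU]
  change (G.left.presheaf.map (𝟙 _)).hom r = r
  rw [G.left.presheaf.map_id]
  rfl

/-- A factorization of a point through the universal point is evaluation. -/
theorem factor_apply [IsAffine G.left] {B : Type u} [CommRing B] [Algebra k B]
    (g : VecGrp.pt k B ⟶ G)
    (ψ : letI := algU G ⊤; Γ(G.left, ⊤) →ₐ[k] B)
    (hψ : letI := algU G ⊤; VecGrp.ptMap ψ ≫ gU G (isAffineOpen_top G.left) = g)
    (r : Γ(G.left, ⊤)) : ψ r = ev G g r := by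
  letI := algU G ⊤
  rw [← hψ, ev_ptMap, ev_gU_top]

theorem ev_comp {X : Over (Spec (CommRingCat.of k))} {B : Type u} [CommRing B] [Algebra k B]
    (x : VecGrp.pt k B ⟶ X) (f : X ⟶ G) (r : Γ(G.left, ⊤)) :
    ev G (x ≫ f) r = ev X x (f.left.appTop.hom r) := by
  rw [ev_apply, ev_apply, Over.comp_left, Scheme.Hom.comp_appTop]
  rfl

end Points

section Main

variable (G : Over (Spec (CommRingCat.of k))) [GrpObj G] [IsAffine G.left]
  {H : Over (Spec (CommRingCat.of k))} [GrpObj H] (i : H ⟶ G)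
  {M : Type u} [AddCommGroup M] [Module k M] (ρ : VecGrp.GMod G M)

/-- the matrix coefficient function `x ↦ l (x • a)` on `G` -/
noncomputable def fcoef (l : M →ₗ[k] k) (a : M) : Γ(G.left, ⊤) :=
  letI := algU G ⊤
  coef l Γ(G.left, ⊤) (ρ.ρ Γ(G.left, ⊤) (gU G (isAffineOpen_top G.left))
    ((1 : Γ(G.left, ⊤)) ⊗ₜ[k] a))

/-- the coefficient of `x • a` is the matrix coefficient function evaluated at `x` -/
theorem coef_rho (l : M →ₗ[k] k) (a : M) {B : Type u} [CommRing B] [Algebra k B]
    (x : VecGrp.pt k B ⟶ G) :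
    coef l B (ρ.ρ B x ((1 : B) ⊗ₜ[k] a)) = ev G x (fcoef G ρ l a) := by
  letI := algU G ⊤
  obtain ⟨ψ, hψ⟩ := exists_factor_top G x
  have h1 : ρ.ρ B x ((1 : B) ⊗ₜ[k] a) = VecGrp.Wmap ψ (ρ.ρ Γ(G.left, ⊤)
      (gU G (isAffineOpen_top G.left)) ((1 : Γ(G.left, ⊤)) ⊗ₜ[k] a)) := by
    rw [← hψ, ρ.naturality ψ, VecGrp.Wmap_tmul, map_one]
  rw [h1, coef_Wmap, factor_apply G x ψ hψ]
  rfl

/-- matrix coefficient functions of an `H`-fixed vector are right `H`-invariant (general form) -/
theorem fcoef_invariant (l : M →ₗ[k] k) (a : M)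
    (ha : ∀ (B : Type u) [CommRing B] [Algebra k B] (h : VecGrp.pt k B ⟶ H),
      ρ.ρ B (h ≫ i) ((1 : B) ⊗ₜ[k] a) = (1 : B) ⊗ₜ[k] a)
    (P : Over (Spec (CommRingCat.of k))) [IsAffine P.left] (m p : P ⟶ G) (q : P ⟶ H)
    (hm : m = p * (q ≫ i)) :
    m.left.appTop.hom (fcoef G ρ l a) = p.left.appTop.hom (fcoef G ρ l a) := by
  letI := algU P ⊤
  have e1 := coef_rho G ρ l a (gU P (isAffineOpen_top P.left) ≫ m)
  have e2 := coef_rho G ρ l a (gU P (isAffineOpen_top P.left) ≫ p)
  rw [ev_comp, ev_gU_top] at e1 e2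
  rw [← e1, ← e2, hm, MonObj.comp_mul, map_mul, LinearEquiv.mul_apply, ← Category.assoc, ha]

theorem main (g : VecGrp.pt k k ⟶ G)
    (hg : ∀ f : Γ(G.left, ⊤), AGF.IsRTransInv i f → AGF.IsRTransInv g f)
    (a : M) (ha : a ∈ ρ.fixedUnder i) [IsAffine H.left] :
    ρ.ρ k g ((1 : k) ⊗ₜ[k] a) = (1 : k) ⊗ₜ[k] a := by
  have ha' : ∀ (B : Type u) [CommRing B] [Algebra k B] (h : VecGrp.pt k B ⟶ H),
      ρ.ρ B (h ≫ i) ((1 : B) ⊗ₜ[k] a) = (1 : B) ⊗ₜ[k] a := ha
  have hinv : ∀ l : M →ₗ[k] k, AGF.IsRTransInv i (fcoef G ρ l a) := by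
    intro l
    have hP : IsAffine (G ⊗ H).left := by rw [Over.tensorObj_left]; infer_instance
    have hwh : G ◁ i = lift (fst G H) (snd G H ≫ i) := by
      ext <;> simp
    exact fcoef_invariant G i ρ l a ha' (G ⊗ H) ((G ◁ i) ≫ μ[G]) (fst G H) (snd G H)
      (by rw [Hom.mul_def, hwh])
  have hone : ρ.ρ k (1 : VecGrp.pt k k ⟶ G) ((1 : k) ⊗ₜ[k] a) = (1 : k) ⊗ₜ[k] a := by
    rw [map_one]
    rfl
  refine (eq_of_coef_eq _ _ fun l => ?_).trans hone
  rw [coef_rho, coef_rho]
  have h3 := hg _ (hinv l)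
  let z : VecGrp.pt k k ⟶ G ⊗ VecGrp.pt k k := lift 1 (𝟙 _)
  have hwh : G ◁ g = lift (fst G (VecGrp.pt k k)) (snd G (VecGrp.pt k k) ≫ g) := by
    ext <;> simp
  have hz1 : z ≫ ((G ◁ g) ≫ μ[G]) = g := by
    rw [hwh, ← Category.assoc, comp_lift, lift_fst, ← Category.assoc, lift_snd,
      Category.id_comp, ← Hom.mul_def, _root_.one_mul]
  have hz2 : z ≫ fst G (VecGrp.pt k k) = 1 := lift_fst _ _
  have h4 : ev (G ⊗ VecGrp.pt k k) z (((G ◁ g) ≫ μ[G]).left.appTop.hom (fcoef G ρ l a)) =
      ev (G ⊗ VecGrp.pt k k) z ((fst G (VecGrp.pt k k)).left.appTop.hom (fcoef G ρ l a)) :=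
    congrArg (ev (G ⊗ VecGrp.pt k k) z) h3
  rw [← ev_comp, ← ev_comp, hz1, hz2] at h4
  exact h4

end Main

end Groth.Agent.Lib.Helper85.ObsHull
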