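import Mathlib
import Groth.Prelude.Def_CAlg
import Groth.Agent.Lib.Helper67.Depth

/-!
# depth of `Hom(X, N)` is at least `min 2 (depth N)`
-/

set_option autoImplicit false
universe u v w

namespace Groth.Agent.Lib.Helper85.HomDepth

open RingTheory.Sequence
open scoped Pointwise

variable {R : Type u} [CommRing R] (J : Ideal R) (X : Type v) [AddCommGroup X] [Module R X]
  (N : Type w) [AddCommGroup N] [Module R N]

theorem isSMulRegular_hom {r : R} (hr : IsSMulRegular N r) : IsSMulRegular (X →ₗ[R] N) r := by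
  intro φ ψ h
  ext x
  exact hr (LinearMap.congr_fun h x)

/-- if `r` is `N`-regular and `φ` takes values in `rN` then `φ = r χ` -/
theorem exists_eq_smul_of_forall_mem {r : R} (hr : IsSMulRegular N r) (φ : X →ₗ[R] N)
    (h : ∀ x, ∃ n : N, φ x = r • n) : ∃ χ : X →ₗ[R] N, φ = r • χ := by
  choose c hc using h
  refine ⟨{ toFun := c, map_add' := ?_, map_smul' := ?_ }, ?_⟩
  · intro x y
    apply hr
    change r • c (x + y) = r • (c x + c y)
    rw [smul_add, ← hc, ← hc, ← hc, map_add]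
  · intro a x
    apply hr
    change r • c (a • x) = r • (a • c x)
    rw [smul_comm r a, ← hc, ← hc, map_smul]
  · ext x
    exact hc x

theorem isWeaklyRegular_hom_pair {r s : R} (h : IsWeaklyRegular N [r, s]) :
    IsWeaklyRegular (X →ₗ[R] N) [r, s] := by
  rw [isWeaklyRegular_cons_iff] at h ⊢
  obtain ⟨hr, h2⟩ := h
  rw [isWeaklyRegular_cons_iff] at h2
  obtain ⟨hs, -⟩ := h2
  refine ⟨isSMulRegular_hom X N hr, ?_⟩
  rw [isWeaklyRegular_cons_iff]
  refine ⟨?_, IsWeaklyRegular.nil _ _⟩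
  change IsSMulRegular ((X →ₗ[R] N) ⧸ (r • (⊤ : Submodule R (X →ₗ[R] N)))) s
  rw [isSMulRegular_quotient_iff_mem_of_smul_mem]
  intro φ hφ
  obtain ⟨ψ, -, hψ⟩ := (Submodule.mem_smul_pointwise_iff_exists _ _ _).mp hφ
  have h3 : ∀ x, ∃ n : N, φ x = r • n := by
    intro x
    have h4 : s • φ x ∈ r • (⊤ : Submodule R N) := by
      have := LinearMap.congr_fun hψ x
      rw [LinearMap.smul_apply, LinearMap.smul_apply] at this
      rw [← this]
      exact Submodule.smul_mem_pointwise_smul _ _ _ Submodule.mem_top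
    have h5 : φ x ∈ r • (⊤ : Submodule R N) :=
      (isSMulRegular_quotient_iff_mem_of_smul_mem _ s).mp hs (φ x) h4
    obtain ⟨n, -, hn⟩ := (Submodule.mem_smul_pointwise_iff_exists _ _ _).mp h5
    exact ⟨n, hn.symm⟩
  obtain ⟨χ, hχ⟩ := exists_eq_smul_of_forall_mem X N hr φ h3
  rw [hχ]
  exact Submodule.smul_mem_pointwise_smul _ _ _ Submodule.mem_top

theorem smul_top_hom_eq_top [Module.Finite R N] (h : J • (⊤ : Submodule R N) = ⊤) :
    J • (⊤ : Submodule R (X →ₗ[R] N)) = ⊤ := by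
  obtain ⟨e, he1, he⟩ := Submodule.exists_sub_one_mem_and_smul_eq_zero_of_fg_of_le_smul J
    (⊤ : Submodule R N) Module.Finite.fg_top h.ge
  rw [eq_top_iff]
  intro φ _
  have h1 : φ = (1 - e) • φ := by
    ext x
    rw [LinearMap.smul_apply, sub_smul, one_smul, he (φ x) Submodule.mem_top, sub_zero]
  rw [h1]
  refine Submodule.smul_mem_smul ?_ Submodule.mem_top
  have : 1 - e = -(e - 1) := by ring
  rw [this]
  exact J.neg_mem he1

theorem two_le_idealDepth_hom [Module.Finite R N] (h : 2 ≤ LocCoh.idealDepth J N) :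
    2 ≤ LocCoh.idealDepth J (X →ₗ[R] N) := by
  have h' : ((2 : ℕ) : ℕ∞) ≤ LocCoh.idealDepth J N := by exact_mod_cast h
  rcases (Groth.Agent.Lib.Helper67.le_idealDepth_iff J N 2).mp h' with h1 | ⟨rs, hlen, hreg, hmem⟩
  · rw [Groth.Agent.Lib.Helper67.idealDepth_eq_top_of_smul_top_eq_top J _
      (smul_top_hom_eq_top J X N h1)]
    exact le_top
  · obtain ⟨r, s, rfl⟩ := List.length_eq_two.mp hlen
    have := (Groth.Agent.Lib.Helper67.le_idealDepth_iff J (X →ₗ[R] N) 2).mpr
      (Or.inr ⟨[r, s], rfl, isWeaklyRegular_hom_pair X N hreg, hmem⟩)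
    exact_mod_cast this

theorem one_le_idealDepth_hom [Module.Finite R N] (h : 1 ≤ LocCoh.idealDepth J N) :
    1 ≤ LocCoh.idealDepth J (X →ₗ[R] N) := by
  rcases (Groth.Agent.Lib.Helper67.one_le_idealDepth_iff J N).mp h with h1 | ⟨r, hr, hreg⟩
  · rw [Groth.Agent.Lib.Helper67.idealDepth_eq_top_of_smul_top_eq_top J _
      (smul_top_hom_eq_top J X N h1)]
    exact le_top
  · exact (Groth.Agent.Lib.Helper67.one_le_idealDepth_iff J _).mpr
      (Or.inr ⟨r, hr, isSMulRegular_hom X N hreg⟩)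

end Groth.Agent.Lib.Helper85.HomDepth
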