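import Groth.Agent.Lib.Helper85.KollarFlat2
import Groth.Agent.Lib.Helper85.Flat
import Groth.Agent.Lib.Helper6.LocalFlat4

/-!
# Kollár's criterion for exact sequences `0 → F → E⁰ → E¹ → G → 0`
-/

set_option autoImplicit false
universe u

namespace Groth.Agent.Lib.Helper85.KollarFlat

open TensorProduct IsLocalRing

section Torsion

variable {B : Type u} [CommRing B] [IsLocalRing B]

/-- a positive-depth hypothesis on a nonzero finite module yields a regular element in `J` -/
theorem exists_regular_of_one_le_depth (J : Ideal B) (N : Type u) [AddCommGroup N] [Module B N]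
    [Module.Finite B N] [Nontrivial N] (h1 : 1 ≤ LocCoh.idealDepth J N) :
    ∃ x ∈ J, IsSMulRegular N x := by
  rcases (Groth.Agent.Lib.Helper67.one_le_idealDepth_iff J _).mp h1 with h | h
  · have hJ : J = ⊤ := by
      by_contra hJ
      have hle : J ≤ maximalIdeal B := IsLocalRing.le_maximalIdeal hJ
      have := Submodule.eq_bot_of_le_smul_of_le_jacobson_bot J
        (⊤ : Submodule B N) Module.Finite.fg_top h.ge
        (hle.trans (IsLocalRing.maximalIdeal_le_jacobson ⊥))
      exact top_ne_bot this
    exact ⟨1, hJ ▸ Submodule.mem_top, IsSMulRegular.one _⟩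
  · exact h

/-- torsion lemma: an element of a module of positive `J`-depth which dies at every prime off
`V(J)` is zero -/
theorem eq_zero_of_forall_prime [IsNoetherianRing B] (J : Ideal B) (N : Type u) [AddCommGroup N]
    [Module B N] [Module.Finite B N] (h1 : 1 ≤ LocCoh.idealDepth J N) (z : N)
    (hz : ∀ q : PrimeSpectrum B, ¬ J ≤ q.asIdeal → ∃ s : B, s ∉ q.asIdeal ∧ s • z = 0) :
    z = 0 := by
  by_cases hsub : Subsingleton N
  · exact Subsingleton.elim _ _
  rw [not_subsingleton_iff_nontrivial] at hsub
  obtain ⟨x, hxJ, hx⟩ := exists_regular_of_one_le_depth J N h1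
  obtain ⟨n, hn⟩ := Groth.Agent.Lib.Helper85.Reflexive.exists_pow_le_of_forall_prime J
    (LinearMap.ker (LinearMap.toSpanSingleton B N z)) (by
      intro P hP hJP
      by_contra hJ
      obtain ⟨s, hs, hsz⟩ := hz ⟨P, hP⟩ hJ
      apply hs
      apply hJP
      rw [LinearMap.mem_ker, LinearMap.toSpanSingleton_apply]
      exact hsz)
  have h2 := hn (Ideal.pow_mem_pow hxJ n)
  rw [LinearMap.mem_ker, LinearMap.toSpanSingleton_apply] at h2
  apply hx.pow n
  change x ^ n • z = x ^ n • 0
  rw [h2, smul_zero]

end Torsion

section Loc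

variable {A B : Type u} [CommRing A] [CommRing B] [Algebra A B]

/-- localisations (at a submonoid of `B`) of `A`-flat `B`-modules are `A`-flat -/
theorem flat_localizedModule (N : Type u) [AddCommGroup N] [Module B N] [Module A N]
    [IsScalarTower A B N] [Module.Flat A N] (T : Submonoid B) :
    Module.Flat A (LocalizedModule T N) := by
  rw [Module.Flat.iff_lTensor_injective']
  intro 𝔞
  exact Groth.Agent.Lib.Helper6.LocalFlat.lTensor_localizedModule_injective T 𝔞.subtype
    (Module.Flat.lTensor_preserves_injective_linearMap _ (Submodule.injective_subtype 𝔞))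

variable {N' N N'' : Type u} [AddCommGroup N'] [Module B N'] [Module A N'] [IsScalarTower A B N']
  [AddCommGroup N] [Module B N] [Module A N] [IsScalarTower A B N]
  [AddCommGroup N''] [Module B N''] [Module A N''] [IsScalarTower A B N'']
  (f : N' →ₗ[B] N) (g : N →ₗ[B] N'') (hf : Function.Injective f) (hfg : Function.Exact f g)
  (hg : Function.Surjective g) (q : Ideal B) [q.IsPrime]
  (hq : Module.Flat A (LocalizedModule q.primeCompl N''))

include hf hfg hg hq

/-- the kernel of a surjection from an `A`-flat module onto a module `A`-flat at `q` is `A`-flat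
at `q` -/
theorem flat_localizedModule_of_exact [Module.Flat A N] :
    Module.Flat A (LocalizedModule q.primeCompl N') := by
  have := flat_localizedModule (A := A) N q.primeCompl
  exact Groth.Agent.Lib.Helper85.flat_of_exact_of_flat
    ((IsLocalizedModule.map q.primeCompl (LocalizedModule.mkLinearMap q.primeCompl N')
      (LocalizedModule.mkLinearMap q.primeCompl N) f).restrictScalars A)
    ((IsLocalizedModule.map q.primeCompl (LocalizedModule.mkLinearMap q.primeCompl N)
      (LocalizedModule.mkLinearMap q.primeCompl N'') g).restrictScalars A)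
    (IsLocalizedModule.map_injective q.primeCompl _ _ f hf)
    (IsLocalizedModule.map_surjective q.primeCompl _ _ g hg)
    (IsLocalizedModule.map_exact q.primeCompl _ _ _ f g hfg)

/-- elements of the kernel of `f ⊗ V` die at primes where the cokernel of `f` is flat -/
theorem exists_smul_eq_zero_of_flat_coker (V : Type u) [AddCommGroup V] [Module A V]
    (z : N' ⊗[A] V) (hz : (f.restrictScalars A).rTensor V z = 0) :
    ∃ s : B, s ∉ q ∧ s • z = 0 := by
  have hinj : Function.Injective (((IsLocalizedModule.map q.primeCompl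
      (LocalizedModule.mkLinearMap q.primeCompl N')
      (LocalizedModule.mkLinearMap q.primeCompl N) f).restrictScalars A).rTensor V) := by
    rw [← LinearMap.lTensor_inj_iff_rTensor_inj]
    exact LinearMap.lTensor_injective_of_exact_of_flat
      ((IsLocalizedModule.map q.primeCompl (LocalizedModule.mkLinearMap q.primeCompl N)
        (LocalizedModule.mkLinearMap q.primeCompl N'') g).restrictScalars A)
      (IsLocalizedModule.map_surjective q.primeCompl _ _ g hg)
      ((IsLocalizedModule.map q.primeCompl (LocalizedModule.mkLinearMap q.primeCompl N')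
        (LocalizedModule.mkLinearMap q.primeCompl N) f).restrictScalars A)
      (IsLocalizedModule.map_injective q.primeCompl _ _ f hf)
      (IsLocalizedModule.map_exact q.primeCompl _ _ _ f g hfg) V
  have hcomm : ((IsLocalizedModule.map q.primeCompl
      (LocalizedModule.mkLinearMap q.primeCompl N')
      (LocalizedModule.mkLinearMap q.primeCompl N) f).restrictScalars A) ∘ₗ
      ((LocalizedModule.mkLinearMap q.primeCompl N').restrictScalars A) =
      ((LocalizedModule.mkLinearMap q.primeCompl N).restrictScalars A) ∘ₗ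
        (f.restrictScalars A) := by
    ext y
    exact IsLocalizedModule.map_apply q.primeCompl _ _ f y
  have h1 : (AlgebraTensorModule.rTensor A V (LocalizedModule.mkLinearMap q.primeCompl N')) z
      = 0 := by
    apply hinj
    rw [map_zero]
    have h2 : (((IsLocalizedModule.map q.primeCompl
        (LocalizedModule.mkLinearMap q.primeCompl N')
        (LocalizedModule.mkLinearMap q.primeCompl N) f).restrictScalars A).rTensor V)
        ((((LocalizedModule.mkLinearMap q.primeCompl N').restrictScalars A).rTensor V) z) =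
        (((LocalizedModule.mkLinearMap q.primeCompl N).restrictScalars A).rTensor V)
          ((f.restrictScalars A).rTensor V z) := by
      rw [← LinearMap.comp_apply, ← LinearMap.comp_apply, ← LinearMap.rTensor_comp,
        ← LinearMap.rTensor_comp, hcomm]
    rw [hz, map_zero] at h2
    exact h2
  obtain ⟨s, hs⟩ := (IsLocalizedModule.eq_zero_iff q.primeCompl
    (AlgebraTensorModule.rTensor A V (LocalizedModule.mkLinearMap q.primeCompl N'))).mp h1
  exact ⟨s, s.2, hs⟩

end Loc

theorem one_le_sub_one {d : ℕ∞} (h : 2 ≤ d) : 1 ≤ d - 1 := by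
  induction d using ENat.recTopCoe with
  | top => simp
  | coe n =>
    have h2 : 2 ≤ n := by exact_mod_cast h
    have : ((1 : ℕ) : ℕ∞) ≤ ((n - 1 : ℕ) : ℕ∞) := by exact_mod_cast (by omega : 1 ≤ n - 1)
    simpa using this

section Coe

variable {A B : Type u} [CommRing A] [CommRing B] [Algebra A B]
  {N' N N'' : Type u} [AddCommGroup N'] [Module B N'] [Module A N'] [IsScalarTower A B N']
  [AddCommGroup N] [Module B N] [Module A N] [IsScalarTower A B N]
  [AddCommGroup N''] [Module B N''] [Module A N''] [IsScalarTower A B N'']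

theorem rTensor_injective_of (f : N' →ₗ[B] N) (V : Type u) [AddCommGroup V] [Module A V]
    (h : Function.Injective ((f.restrictScalars A).rTensor V)) :
    Function.Injective (AlgebraTensorModule.rTensor A V f) := by
  rw [AlgebraTensorModule.coe_rTensor]
  exact h

theorem rTensor_surjective_of (g : N →ₗ[B] N'') (V : Type u) [AddCommGroup V] [Module A V]
    (h : Function.Surjective g) :
    Function.Surjective (AlgebraTensorModule.rTensor A V g) := by
  rw [AlgebraTensorModule.coe_rTensor]
  exact LinearMap.rTensor_surjective V (g := g.restrictScalars A) h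

theorem rTensor_exact_of (f : N' →ₗ[B] N) (g : N →ₗ[B] N'') (V : Type u) [AddCommGroup V]
    [Module A V] (hfg : Function.Exact f g) (hg : Function.Surjective g) :
    Function.Exact (AlgebraTensorModule.rTensor A V f) (AlgebraTensorModule.rTensor A V g) := by
  rw [AlgebraTensorModule.coe_rTensor, AlgebraTensorModule.coe_rTensor]
  exact rTensor_exact V (f := f.restrictScalars A) (g := g.restrictScalars A) hfg hg

end Coe

section Seq

variable {A B : Type u} [CommRing A] [CommRing B] [IsNoetherianRing A] [IsNoetherianRing B]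
  [IsLocalRing A] [IsLocalRing B] [Algebra A B] [IsLocalHom (algebraMap A B)] (J : Ideal B)
  {F E0 E1 G : Type u} [AddCommGroup F] [Module B F] [Module A F] [IsScalarTower A B F]
  [Module.Finite B F]
  [AddCommGroup E0] [Module B E0] [Module A E0] [IsScalarTower A B E0] [Module.Finite B E0]
  [Module.Flat A E0]
  [AddCommGroup E1] [Module B E1] [Module A E1] [IsScalarTower A B E1] [Module.Finite B E1]
  [Module.Flat A E1]
  [AddCommGroup G] [Module B G] [Module A G] [IsScalarTower A B G] [Module.Finite B G]
  (f : F →ₗ[B] E0) (u : E0 →ₗ[B] E1) (v : E1 →ₗ[B] G)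
  (hf : Function.Injective f) (hfu : Function.Exact f u) (huv : Function.Exact u v)
  (hv : Function.Surjective v)

omit [IsNoetherianRing A] [IsNoetherianRing B] [IsLocalRing A] [IsLocalRing B] [Algebra A B]
  [IsLocalHom (algebraMap A B)] [Module A F] [IsScalarTower A B F] [Module.Finite B F]
  [Module A E0] [IsScalarTower A B E0] [Module.Finite B E0] [Module.Flat A E0]
  [Module A E1] [IsScalarTower A B E1] [Module.Finite B E1] [Module.Flat A E1] in
theorem exact_rangeRestrict (hfu : Function.Exact f u) : Function.Exact f u.rangeRestrict := by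
  intro y
  rw [← hfu y]
  constructor
  · intro h
    have := congrArg Subtype.val h
    simpa using this
  · intro h
    apply Subtype.ext
    simpa using h

omit [IsNoetherianRing A] [IsNoetherianRing B] [IsLocalRing A] [IsLocalRing B] [Algebra A B]
  [IsLocalHom (algebraMap A B)]
  [Module A E0] [IsScalarTower A B E0] [Module.Finite B E0] [Module.Flat A E0]
  [Module A E1] [IsScalarTower A B E1] [Module.Finite B E1] [Module.Flat A E1]
  [Module A G] [IsScalarTower A B G] [Module.Finite B G] in
theorem exact_subtype_range (huv : Function.Exact u v) :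
    Function.Exact (LinearMap.range u).subtype v := by
  intro y
  rw [huv y]
  constructor
  · rintro ⟨x, hx⟩
    exact ⟨⟨y, ⟨x, hx⟩⟩, rfl⟩
  · rintro ⟨⟨y', x, hx⟩, rfl⟩
    exact ⟨x, hx⟩

omit [IsNoetherianRing A] [IsNoetherianRing B] [IsLocalRing B] [IsLocalHom (algebraMap A B)] in
theorem depth_fib_eq (N : Type u) [AddCommGroup N] [Module B N] [Module A N]
    [IsScalarTower A B N] :
    LocCoh.idealDepth J (N ⊗[A] (A ⧸ maximalIdeal A)) =
      LocCoh.idealDepth J (EGA4.FibMod A B N) :=
  Groth.Agent.Lib.Helper67.idealDepth_congr J (tensorQuotEquiv B N (maximalIdeal A))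

include hf hfu huv hv

/-- if the closed fibre of `F` has `J`-depth `≥ 2` then `G` is flat -/
theorem flat_of_two_le_depth
    (hGU : ∀ q : PrimeSpectrum B, ¬ J ≤ q.asIdeal →
      Module.Flat A (LocalizedModule q.asIdeal.primeCompl G))
    (h0 : 2 ≤ LocCoh.idealDepth J (EGA4.FibMod A B E0))
    (hF : 2 ≤ LocCoh.idealDepth J (EGA4.FibMod A B F)) : Module.Flat A G := by
  have hex1 := exact_rangeRestrict f u hfu
  have hex2 := exact_subtype_range u v huv
  have hu' : Function.Surjective u.rangeRestrict := u.surjective_rangeRestrict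
  have hι : Function.Injective (LinearMap.range u).subtype := Submodule.injective_subtype _
  have hIq : ∀ q : PrimeSpectrum B, ¬ J ≤ q.asIdeal →
      Module.Flat A (LocalizedModule q.asIdeal.primeCompl ↥(LinearMap.range u)) :=
    fun q hq => flat_localizedModule_of_exact (LinearMap.range u).subtype v hι hex2 hv
      q.asIdeal (hGU q hq)
  have hTF : 2 ≤ LocCoh.idealDepth J (F ⊗[A] (A ⧸ maximalIdeal A)) := by
    rw [depth_fib_eq]; exact hF
  have hTE0 : 2 ≤ LocCoh.idealDepth J (E0 ⊗[A] (A ⧸ maximalIdeal A)) := by
    rw [depth_fib_eq]; exact h0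
  have : Module.Finite B (F ⊗[A] (A ⧸ maximalIdeal A)) :=
    Groth.Agent.Lib.Helper6.LocalFlat.finite_tensor_of_finite A B F _
  have : Module.Finite B (E0 ⊗[A] (A ⧸ maximalIdeal A)) :=
    Groth.Agent.Lib.Helper6.LocalFlat.finite_tensor_of_finite A B E0 _
  have : Module.Finite B (↥(LinearMap.range u) ⊗[A] (A ⧸ maximalIdeal A)) :=
    Groth.Agent.Lib.Helper6.LocalFlat.finite_tensor_of_finite A B _ _
  have ha : Function.Injective ((f.restrictScalars A).rTensor (A ⧸ maximalIdeal A)) := by
    rw [injective_iff_map_eq_zero]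
    intro z hz
    exact eq_zero_of_forall_prime J (F ⊗[A] (A ⧸ maximalIdeal A))
      (le_trans (by norm_num) hTF) z (fun q hq =>
        exists_smul_eq_zero_of_flat_coker f u.rangeRestrict hf hex1 hu' q.asIdeal (hIq q hq)
          (A ⧸ maximalIdeal A) z hz)
  have hb : 1 ≤ LocCoh.idealDepth J (↥(LinearMap.range u) ⊗[A] (A ⧸ maximalIdeal A)) := by
    have h3 := Groth.Agent.Lib.Helper67.idealDepth_right_ge J (F ⊗[A] (A ⧸ maximalIdeal A))
      (E0 ⊗[A] (A ⧸ maximalIdeal A)) (↥(LinearMap.range u) ⊗[A] (A ⧸ maximalIdeal A))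
      (AlgebraTensorModule.rTensor A (A ⧸ maximalIdeal A) f)
      (AlgebraTensorModule.rTensor A (A ⧸ maximalIdeal A) u.rangeRestrict)
      (rTensor_injective_of f _ ha)
      (rTensor_surjective_of u.rangeRestrict _ hu')
      (rTensor_exact_of f u.rangeRestrict _ hex1 hu')
    refine le_trans (le_min (le_trans (by norm_num) hTE0) ?_) h3
    exact one_le_sub_one hTF
  have hc : Function.Injective
      (((LinearMap.range u).subtype.restrictScalars A).rTensor (A ⧸ maximalIdeal A)) := by
    rw [injective_iff_map_eq_zero]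
    intro z hz
    exact eq_zero_of_forall_prime J (↥(LinearMap.range u) ⊗[A] (A ⧸ maximalIdeal A)) hb z
      (fun q hq => exists_smul_eq_zero_of_flat_coker (LinearMap.range u).subtype v hι hex2 hv
        q.asIdeal (hGU q hq) (A ⧸ maximalIdeal A) z hz)
  rw [← LinearMap.lTensor_inj_iff_rTensor_inj] at hc
  have hflat := Groth.Agent.Lib.Helper6.LocalFlat.flat_coker_of_residue B
    ((LinearMap.range u).subtype.restrictScalars A) hc
  have hker : LinearMap.range ((LinearMap.range u).subtype.restrictScalars A) =
      LinearMap.ker (v.restrictScalars A) := by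
    ext y
    rw [LinearMap.mem_ker]
    exact (hex2 y).symm
  exact Module.Flat.of_linearEquiv
    ((Submodule.quotEquivOfEq _ _ hker).trans
      ((v.restrictScalars A).quotKerEquivOfSurjective hv)).symm

/-- if `G` is flat then so is `F` -/
theorem flat_ker_of_flat [Module.Flat A G] : Module.Flat A F := by
  have hex1 := exact_rangeRestrict f u hfu
  have hex2 := exact_subtype_range u v huv
  have hu' : Function.Surjective u.rangeRestrict := u.surjective_rangeRestrict
  have hι : Function.Injective (LinearMap.range u).subtype := Submodule.injective_subtype _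
  have hIflat : Module.Flat A ↥(LinearMap.range u) :=
    Groth.Agent.Lib.Helper85.flat_of_exact_of_flat
      ((LinearMap.range u).subtype.restrictScalars A) (v.restrictScalars A) hι hv hex2
  exact Groth.Agent.Lib.Helper85.flat_of_exact_of_flat
    (f.restrictScalars A) (u.rangeRestrict.restrictScalars A) hf hu' hex1

/-- if `G` is flat then the closed fibre of `F` has `J`-depth `≥ 2` -/
theorem two_le_depth_of_flat [Module.Flat A G]
    (h0 : 2 ≤ LocCoh.idealDepth J (EGA4.FibMod A B E0))
    (h1 : 1 ≤ LocCoh.idealDepth J (EGA4.FibMod A B E1)) :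
    2 ≤ LocCoh.idealDepth J (EGA4.FibMod A B F) := by
  have hex1 := exact_rangeRestrict f u hfu
  have hex2 := exact_subtype_range u v huv
  have hu' : Function.Surjective u.rangeRestrict := u.surjective_rangeRestrict
  have hι : Function.Injective (LinearMap.range u).subtype := Submodule.injective_subtype _
  have hIflat : Module.Flat A ↥(LinearMap.range u) :=
    Groth.Agent.Lib.Helper85.flat_of_exact_of_flat
      ((LinearMap.range u).subtype.restrictScalars A) (v.restrictScalars A) hι hv hex2
  have hTE0 : 2 ≤ LocCoh.idealDepth J (E0 ⊗[A] (A ⧸ maximalIdeal A)) := by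
    rw [depth_fib_eq]; exact h0
  have hTE1 : 1 ≤ LocCoh.idealDepth J (E1 ⊗[A] (A ⧸ maximalIdeal A)) := by
    rw [depth_fib_eq]; exact h1
  have : Module.Finite B (F ⊗[A] (A ⧸ maximalIdeal A)) :=
    Groth.Agent.Lib.Helper6.LocalFlat.finite_tensor_of_finite A B F _
  have : Module.Finite B (E0 ⊗[A] (A ⧸ maximalIdeal A)) :=
    Groth.Agent.Lib.Helper6.LocalFlat.finite_tensor_of_finite A B E0 _
  have : Module.Finite B (E1 ⊗[A] (A ⧸ maximalIdeal A)) :=
    Groth.Agent.Lib.Helper6.LocalFlat.finite_tensor_of_finite A B E1 _
  have : Module.Finite B (G ⊗[A] (A ⧸ maximalIdeal A)) :=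
    Groth.Agent.Lib.Helper6.LocalFlat.finite_tensor_of_finite A B G _
  have : Module.Finite B (↥(LinearMap.range u) ⊗[A] (A ⧸ maximalIdeal A)) :=
    Groth.Agent.Lib.Helper6.LocalFlat.finite_tensor_of_finite A B _ _
  have hc : Function.Injective
      (((LinearMap.range u).subtype.restrictScalars A).rTensor (A ⧸ maximalIdeal A)) := by
    rw [← LinearMap.lTensor_inj_iff_rTensor_inj]
    exact LinearMap.lTensor_injective_of_exact_of_flat (v.restrictScalars A) hv
      ((LinearMap.range u).subtype.restrictScalars A) hι hex2 _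
  have ha : Function.Injective ((f.restrictScalars A).rTensor (A ⧸ maximalIdeal A)) := by
    rw [← LinearMap.lTensor_inj_iff_rTensor_inj]
    exact LinearMap.lTensor_injective_of_exact_of_flat (u.rangeRestrict.restrictScalars A) hu'
      (f.restrictScalars A) hf hex1 _
  have hI1 : 1 ≤ LocCoh.idealDepth J (↥(LinearMap.range u) ⊗[A] (A ⧸ maximalIdeal A)) := by
    have h3 := Groth.Agent.Lib.Helper67.idealDepth_left_ge J
      (↥(LinearMap.range u) ⊗[A] (A ⧸ maximalIdeal A))
      (E1 ⊗[A] (A ⧸ maximalIdeal A)) (G ⊗[A] (A ⧸ maximalIdeal A))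
      (AlgebraTensorModule.rTensor A (A ⧸ maximalIdeal A) (LinearMap.range u).subtype)
      (AlgebraTensorModule.rTensor A (A ⧸ maximalIdeal A) v)
      (rTensor_injective_of _ _ hc)
      (rTensor_surjective_of v _ hv)
      (rTensor_exact_of _ v _ hex2 hv)
    exact le_trans (le_min hTE1 le_add_self) h3
  have h4 := Groth.Agent.Lib.Helper67.idealDepth_left_ge J (F ⊗[A] (A ⧸ maximalIdeal A))
    (E0 ⊗[A] (A ⧸ maximalIdeal A)) (↥(LinearMap.range u) ⊗[A] (A ⧸ maximalIdeal A))
    (AlgebraTensorModule.rTensor A (A ⧸ maximalIdeal A) f)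
    (AlgebraTensorModule.rTensor A (A ⧸ maximalIdeal A) u.rangeRestrict)
    (rTensor_injective_of f _ ha)
    (rTensor_surjective_of u.rangeRestrict _ hu')
    (rTensor_exact_of f u.rangeRestrict _ hex1 hu')
  rw [← depth_fib_eq]
  refine le_trans (le_min hTE0 ?_) h4
  calc (2 : ℕ∞) = 1 + 1 := by norm_num
    _ ≤ _ := by gcongr

end Seq

end Groth.Agent.Lib.Helper85.KollarFlat
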