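import Mathlib
import Groth.Prelude.Def_FlatCA
import Groth.Prelude.Def_EGA4b
import Groth.Agent.Lib.Helper56.FiberLoc

set_option autoImplicit false
set_option linter.style.haveILetI false
universe u
open TensorProduct

namespace Groth.Agent.Lib.Helper85.SmFibBF

theorem trdeg_eq_of_ringHom_bijective {k K L : Type u} [Field k] [Field K] [Field L]
    [Algebra k K] [Algebra k L] (ψ : K →+* L) (hψ : Function.Bijective ψ)
    (hcomp : ψ.comp (algebraMap k K) = algebraMap k L) :
    Algebra.trdeg k K = Algebra.trdeg k L := by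
  let ψa : K →ₐ[k] L := { ψ with commutes' := fun x => RingHom.congr_fun hcomp x }
  exact (AlgEquiv.ofBijective ψa hψ).trdeg_eq

theorem exists_fiber_prime' (A B : Type u) [CommRing A] [CommRing B] [Algebra A B]
    (p : Ideal A) [p.IsPrime] (r : Ideal B) [r.IsPrime] (hr : r.comap (algebraMap A B) = p) :
    ∃ Q : PrimeSpectrum (p.Fiber B),
      Q.asIdeal.comap (Algebra.TensorProduct.includeRight : B →ₐ[A] p.Fiber B) = r := by
  let x : PrimeSpectrum.comap (algebraMap A B) ⁻¹' {(⟨p, inferInstance⟩ : PrimeSpectrum A)} :=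
    ⟨⟨r, inferInstance⟩, by
      simp only [Set.mem_preimage, Set.mem_singleton_iff]
      exact PrimeSpectrum.ext hr⟩
  refine ⟨PrimeSpectrum.preimageEquivFiber A B ⟨p, inferInstance⟩ x, ?_⟩
  have := (PrimeSpectrum.preimageEquivFiber A B ⟨p, inferInstance⟩).left_inv x
  exact congrArg (fun y => y.1.asIdeal) this

theorem exists_fiber_prime_data (A B : Type u) [CommRing A] [CommRing B] [Algebra A B]
    (p : Ideal A) [p.IsPrime] (q : Ideal B) [q.IsPrime] [hq : q.LiesOver p] :
    ∃ (Q : Ideal (p.Fiber B)) (_ : Q.IsPrime),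
      Nonempty (Localization.AtPrime Q ≃+* EGA4.FibLocRing A B q) ∧
      @Algebra.trdeg p.ResidueField q.ResidueField _ _
        (Ideal.ResidueField.mapₐ p q (Algebra.ofId A B) hq.over).toRingHom.toAlgebra =
        Algebra.trdeg p.ResidueField Q.ResidueField := by
  obtain ⟨Q, hQ⟩ := exists_fiber_prime' A B p q hq.over.symm
  subst hQ
  refine ⟨Q.asIdeal, Q.2, ⟨Groth.Agent.Lib.Helper56.fiberLocEquiv A B p Q.asIdeal⟩, ?_⟩
  letI alg : Algebra p.ResidueField
      (Q.asIdeal.comap (Algebra.TensorProduct.includeRight : B →ₐ[A] p.Fiber B)).ResidueField :=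
    (Ideal.ResidueField.mapₐ p _ (Algebra.ofId A B) hq.over).toRingHom.toAlgebra
  let incl : B →+* p.Fiber B := (Algebra.TensorProduct.includeRight : B →ₐ[A] p.Fiber B)
  have hsurj : incl.SurjectiveOnStalks :=
    RingHom.SurjectiveOnStalks.baseChange' (R := A) (S := p.ResidueField) (T := B)
      (Ideal.surjectiveOnStalks_residueField p)
  have hbij := hsurj.residueFieldMap_bijective
    (Q.asIdeal.comap (Algebra.TensorProduct.includeRight : B →ₐ[A] p.Fiber B)) Q.asIdeal rfl
  refine trdeg_eq_of_ringHom_bijective _ hbij ?_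
  apply Ideal.ResidueField.ringHom_ext
  ext a
  simp only [RingHom.comp_apply]
  have e1 : algebraMap p.ResidueField
      (Q.asIdeal.comap (Algebra.TensorProduct.includeRight : B →ₐ[A] p.Fiber B)).ResidueField
      (algebraMap A p.ResidueField a) =
      algebraMap B _ (algebraMap A B a) := by
    exact Ideal.ResidueField.map_algebraMap p _ ((Algebra.ofId A B : A →ₐ[A] B) : A →+* B)
      hq.over a
  rw [e1]
  refine (Ideal.ResidueField.map_algebraMap _ Q.asIdeal incl rfl (algebraMap A B a)).trans ?_
  have e2 : incl (algebraMap A B a) = algebraMap A (p.Fiber B) a :=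
    (Algebra.TensorProduct.includeRight : B →ₐ[A] p.Fiber B).commutes a
  rw [e2, ← IsScalarTower.algebraMap_apply, ← IsScalarTower.algebraMap_apply]

end Groth.Agent.Lib.Helper85.SmFibBF
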