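import Groth.Agent.Lib.Helper85.HullExist
import Mathlib.RingTheory.LocalRing.ResidueField.Ideal
import Mathlib.RingTheory.Ideal.AssociatedPrime.Basic
import Mathlib.Algebra.Module.LocalizedModule.Basic
import Mathlib.RingTheory.Localization.AtPrime.Basic

set_option autoImplicit false
universe u
namespace Groth.Agent.Lib.Helper85.Hull

open InjHull

section Indec

variable {R : Type u} [CommRing R] {E : Type u} [AddCommGroup E] [Module R E]

/-- in an indecomposable injective module every nonzero submodule is essential -/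
theorem essIn_top_of_indecomposable (hE : IsIndecomposable R E) [Module.Injective R E]
    (N : Submodule R E) (hN : N ≠ ⊥) : EssIn N ⊤ := by
  obtain ⟨E₁, hNE, hess, hmax⟩ := exists_maximal_ess N
  obtain ⟨C, hc⟩ := exists_isCompl_of_maximal_ess N E₁ hess hmax
  rcases hE.2 E₁ C hc with h | h
  · exfalso
    apply hN
    rw [eq_bot_iff, ← h]
    exact hNE
  · subst h
    have : E₁ = ⊤ := by
      have := hc.sup_eq_top
      rwa [sup_bot_eq] at this
    rw [← this]
    exact hess

/-- an injective submodule of an indecomposable module is `⊥` or `⊤` -/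
theorem eq_top_of_injective_submodule (hE : IsIndecomposable R E) (S : Submodule R E)
    [Module.Injective R S] (hS : S ≠ ⊥) : S = ⊤ := by
  obtain ⟨ρ, hρ⟩ := Module.Injective.extension_property R S _ _ S.subtype
    (Submodule.subtype_injective _) LinearMap.id
  have hc : IsCompl S (LinearMap.ker ρ) :=
    LinearMap.isCompl_of_proj (fun x => LinearMap.congr_fun hρ x)
  rcases hE.2 S _ hc with h | h
  · exact absurd h hS
  · have := hc.sup_eq_top
    rwa [h, sup_bot_eq] at this

theorem injective_of_linearEquiv {M N : Type u} [AddCommGroup M] [Module R M] [AddCommGroup N]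
    [Module R N] (e : M ≃ₗ[R] N) [Module.Injective R M] : Module.Injective R N := by
  refine ⟨fun X Y _ _ _ _ f hf g => ?_⟩
  obtain ⟨l, hl⟩ := Module.Injective.extension_property R M _ _ f hf (e.symm.toLinearMap ∘ₗ g)
  refine ⟨e.toLinearMap ∘ₗ l, fun x => ?_⟩
  have : l (f x) = e.symm (g x) := LinearMap.congr_fun hl x
  rw [LinearMap.comp_apply, this]
  exact e.apply_symm_apply _

theorem smul_bijective (hE : IsIndecomposable R E) [Module.Injective R E] (p : Ideal R)
    [p.IsPrime] (x : E) (hx : ∀ r : R, r • x = 0 ↔ r ∈ p) (s : R) (hs : s ∉ p) :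
    Function.Bijective (algebraMap R (Module.End R E) s) := by
  have hx0 : x ≠ 0 := by
    intro h0
    have : (1 : R) ∈ p := (hx 1).mp (by rw [h0, smul_zero])
    exact (Ideal.IsPrime.ne_top inferInstance) ((Ideal.eq_top_iff_one p).mpr this)
  have hspan : Submodule.span R {x} ≠ ⊥ := by
    rw [Ne, Submodule.span_singleton_eq_bot]; exact hx0
  have hess := essIn_top_of_indecomposable hE _ hspan
  have hinj : Function.Injective (algebraMap R (Module.End R E) s) := by
    rw [← LinearMap.ker_eq_bot, eq_bot_iff]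
    intro z hz
    rw [Submodule.mem_bot]
    by_contra hz0
    obtain ⟨r, hr0, hrx⟩ := hess z trivial hz0
    obtain ⟨t, ht⟩ := Submodule.mem_span_singleton.mp hrx
    have hsz : s • z = 0 := hz
    have h1 : (s * t) • x = 0 := by
      rw [mul_smul, ht, smul_comm, hsz, smul_zero]
    have h2 : t ∈ p := ((Ideal.IsPrime.mem_or_mem inferInstance ((hx _).mp h1)).resolve_left hs)
    apply hr0
    rw [← ht]
    exact (hx t).mpr h2
  refine ⟨hinj, ?_⟩
  let φ : E →ₗ[R] E := algebraMap R (Module.End R E) s
  have : Module.Injective R (LinearMap.range φ) :=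
    injective_of_linearEquiv (LinearEquiv.ofInjective φ hinj)
  have hne : LinearMap.range φ ≠ ⊥ := by
    intro h0
    have : φ x ∈ (⊥ : Submodule R E) := by rw [← h0]; exact LinearMap.mem_range_self φ x
    rw [Submodule.mem_bot] at this
    exact hs ((hx s).mp this)
  have htop := eq_top_of_injective_submodule hE _ hne
  exact LinearMap.range_eq_top.mp htop

theorem exists_hull_residueField [IsNoetherianRing R] (hE : IsIndecomposable R E)
    [hinj : Module.Injective R E] :
    ∃ (p : Ideal R) (_ : p.IsPrime) (g : p.ResidueField →ₗ[R] E), IsInjectiveHull g := by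
  have := hE.1
  obtain ⟨p, hp⟩ := associatedPrimes.nonempty R E
  obtain ⟨hprime, x, hpx⟩ := isAssociatedPrime_iff.mp hp
  have hx : ∀ r : R, r • x = 0 ↔ r ∈ p := by
    intro r
    rw [hpx, Submodule.mem_colon_singleton, Submodule.mem_bot]
  have hx0 : x ≠ 0 := by
    intro h0
    have : (1 : R) ∈ p := (hx 1).mp (by rw [h0, smul_zero])
    exact hprime.ne_top ((Ideal.eq_top_iff_one p).mpr this)
  have hunit : ∀ s : p.primeCompl, IsUnit (algebraMap R (Module.End R E) s) := fun s =>
    (Module.End.isUnit_iff _).mpr (smul_bijective hE p x hx s s.2)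
  let A := Localization.AtPrime p
  let ℓ : A →ₗ[R] E := IsLocalizedModule.lift p.primeCompl (Algebra.linearMap R A)
    (LinearMap.toSpanSingleton R E x) hunit
  have hℓ : ∀ r : R, ℓ (algebraMap R A r) = r • x := fun r =>
    IsLocalizedModule.lift_apply p.primeCompl (Algebra.linearMap R A)
      (LinearMap.toSpanSingleton R E x) hunit r
  have hsurj : ∀ a : A, ∃ (r : R) (s : p.primeCompl), (s : R) • a = algebraMap R A r := by
    intro a
    obtain ⟨⟨r, s⟩, h⟩ := IsLocalization.surj p.primeCompl a
    exact ⟨r, s, by rw [Algebra.smul_def, mul_comm]; exact h⟩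
  have hker : ∀ a : A, ℓ a = 0 ↔ a ∈ IsLocalRing.maximalIdeal A := by
    intro a
    obtain ⟨r, s, hrs⟩ := hsurj a
    have h1 : (s : R) • ℓ a = r • x := by rw [← map_smul, hrs, hℓ]
    have h2 : a ∈ IsLocalRing.maximalIdeal A ↔ r ∈ p := by
      rw [← IsLocalization.AtPrime.to_map_mem_maximal_iff A p r, ← hrs, Algebra.smul_def]
      exact (Ideal.unit_mul_mem_iff_mem _ (IsLocalization.map_units A s)).symm
    rw [h2, ← hx, ← h1]
    constructor
    · intro h; rw [h, smul_zero]
    · intro h
      exact (smul_bijective hE p x hx s s.2).1 (h.trans (map_zero _).symm)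
  let mR : Submodule R A := (IsLocalRing.maximalIdeal A).restrictScalars R
  have hle : mR ≤ LinearMap.ker ℓ := fun a ha => (hker a).mpr ha
  let g' : (A ⧸ mR) →ₗ[R] E := mR.liftQ ℓ hle
  let eq : (A ⧸ mR) ≃ₗ[R] (A ⧸ IsLocalRing.maximalIdeal A) :=
    Submodule.Quotient.restrictScalarsEquiv R (IsLocalRing.maximalIdeal A)
  let g : p.ResidueField →ₗ[R] E := g' ∘ₗ eq.symm.toLinearMap
  have hg : ∀ a : A, g (IsLocalRing.residue A a) = ℓ a := fun a => rfl
  refine ⟨p, hprime, g, ⟨⟨?_, ?_⟩, hinj⟩⟩
  · rw [← LinearMap.ker_eq_bot, eq_bot_iff]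
    intro abar ha
    obtain ⟨a, rfl⟩ := IsLocalRing.residue_surjective abar
    rw [LinearMap.mem_ker, hg, hker] at ha
    rw [Submodule.mem_bot]
    exact (IsLocalRing.residue_eq_zero_iff a).mpr ha
  · intro N hN hbot
    obtain ⟨y, hyN, hy0⟩ := (Submodule.ne_bot_iff N).mp hN
    have hspan : Submodule.span R {x} ≠ ⊥ := by
      rw [Ne, Submodule.span_singleton_eq_bot]; exact hx0
    obtain ⟨r, hr0, hrx⟩ := essIn_top_of_indecomposable hE _ hspan y trivial hy0
    obtain ⟨t, ht⟩ := Submodule.mem_span_singleton.mp hrx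
    have hmem : r • y ∈ N ⊓ LinearMap.range g := by
      refine ⟨N.smul_mem r hyN, ⟨IsLocalRing.residue A (algebraMap R A t), ?_⟩⟩
      rw [hg, hℓ, ht]
    rw [hbot, Submodule.mem_bot] at hmem
    exact hr0 hmem

end Indec

end Groth.Agent.Lib.Helper85.Hull
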