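import Groth.Agent.Lib.Helper85.Reflexive
import Groth.Agent.Lib.Helper85.HomDepth

/-!
# Reflexivity and localization
-/

set_option autoImplicit false
universe u

namespace Groth.Agent.Lib.Helper85.Reflexive

open Module

section Loc

variable {A : Type u} [CommRing A] [IsNoetherianRing A] (p : Ideal A) [p.IsPrime]
  (G : Type u) [AddCommGroup G] [Module A G] [Module.Finite A G]

theorem eval_comm (x : G) :
    Dual.eval (Localization.AtPrime p) (LocalizedModule p.primeCompl G)
      (LocalizedModule.mkLinearMap p.primeCompl G x) = locDual2 p G (Dual.eval A G x) := by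
  apply dual_ext
  intro φ
  rw [Dual.eval_apply, locDual_apply, locDual2_apply, Dual.eval_apply]

omit [IsNoetherianRing A] [Module.Finite A G] in
theorem smul_mk_self (x : G) (t : p.primeCompl) :
    (t : A) • (LocalizedModule.mk x t : LocalizedModule p.primeCompl G) =
      LocalizedModule.mkLinearMap p.primeCompl G x := by
  rw [LocalizedModule.mkLinearMap_apply, LocalizedModule.smul'_mk]
  exact LocalizedModule.mk_cancel t x

omit [IsNoetherianRing A] [Module.Finite A G] in
theorem smul_injective_loc {M' : Type u} [AddCommGroup M'] [Module A M']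
    [Module (Localization.AtPrime p) M'] [IsScalarTower A (Localization.AtPrime p) M']
    (t : p.primeCompl) {a b : M'} (h : (t : A) • a = (t : A) • b) : a = b := by
  have hu : IsUnit (algebraMap A (Localization.AtPrime p) (t : A)) :=
    IsLocalization.map_units (Localization.AtPrime p) t
  rw [← algebraMap_smul (Localization.AtPrime p) (t : A) a,
    ← algebraMap_smul (Localization.AtPrime p) (t : A) b] at h
  calc a = (↑hu.unit⁻¹ : Localization.AtPrime p) •
        (algebraMap A (Localization.AtPrime p) (t : A) • a) := by
        rw [smul_smul, IsUnit.val_inv_mul, one_smul]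
    _ = (↑hu.unit⁻¹ : Localization.AtPrime p) •
        (algebraMap A (Localization.AtPrime p) (t : A) • b) := by rw [h]
    _ = b := by rw [smul_smul, IsUnit.val_inv_mul, one_smul]

/-- If some `s ∉ p` kills the kernel and the cokernel of `G → G**` then `G_p` is reflexive. -/
theorem isReflexive_localization_of_smul (s : A) (hs : s ∉ p)
    (hK : ∀ x : G, Dual.eval A G x = 0 → s • x = 0)
    (hC : ∀ ξ : Dual A (Dual A G), s • ξ ∈ LinearMap.range (Dual.eval A G)) :
    Module.IsReflexive (Localization.AtPrime p) (LocalizedModule p.primeCompl G) := by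
  constructor
  constructor
  · rw [← LinearMap.ker_eq_bot, eq_bot_iff]
    intro y hy
    rw [LinearMap.mem_ker] at hy
    rw [Submodule.mem_bot]
    induction y using LocalizedModule.induction_on with
    | h x t =>
      have h1 : Dual.eval (Localization.AtPrime p) (LocalizedModule p.primeCompl G)
          (LocalizedModule.mkLinearMap p.primeCompl G x) = 0 := by
        rw [← smul_mk_self p G x t, LinearMap.map_smul_of_tower, hy, smul_zero]
      rw [eval_comm] at h1
      obtain ⟨u, hu⟩ := (IsLocalizedModule.eq_zero_iff p.primeCompl (locDual2 p G)).mp h1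
      have hu' : Dual.eval A G ((u : A) • x) = 0 := by
        rw [map_smul]; exact hu
      have h2 := hK _ hu'
      rw [← LocalizedModule.zero_mk t, LocalizedModule.mk_eq]
      refine ⟨⟨s, hs⟩ * u, ?_⟩
      rw [smul_zero, smul_zero]
      simp only [Submonoid.smul_def, Submonoid.coe_mul]
      rw [mul_smul, smul_comm ((u : A)) ((t : A)) x, smul_comm s ((t : A)) _, h2, smul_zero]
  · intro ζ
    obtain ⟨⟨ξ, s'⟩, hs'⟩ := IsLocalizedModule.surj p.primeCompl (locDual2 p G) ζ
    obtain ⟨x, hx⟩ := hC ξ
    refine ⟨LocalizedModule.mk x (⟨s, hs⟩ * s'), ?_⟩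
    apply smul_injective_loc p (⟨s, hs⟩ * s')
    rw [← LinearMap.map_smul_of_tower, smul_mk_self, eval_comm, hx, map_smul]
    change s • locDual2 p G ξ = (s * (s' : A)) • ζ
    rw [mul_smul]
    congr 1
    exact hs'.symm

theorem isReflexive_localization [Module.IsReflexive A G] :
    Module.IsReflexive (Localization.AtPrime p) (LocalizedModule p.primeCompl G) := by
  apply isReflexive_localization_of_smul p G 1 (by
    intro h; exact (Ideal.ne_top_iff_one p).mp Ideal.IsPrime.ne_top' h)
  · intro x hx
    rw [one_smul]
    exact (Module.bijective_dual_eval A G).1 (hx.trans (map_zero _).symm)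
  · intro ξ
    rw [one_smul]
    exact LinearMap.mem_range.mpr ((Module.bijective_dual_eval A G).2 ξ)

end Loc

end Groth.Agent.Lib.Helper85.Reflexive
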