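import Groth.Agent.Lib.Helper85.GorLCI
import Groth.Agent.Lib.Helper85.GorFiber
import Mathlib.RingTheory.Flat.EquationalCriterion

/-!
# Fibres of flat local complete intersection maps are Gorenstein
-/

set_option autoImplicit false
set_option linter.style.haveILetI false

namespace Groth.Agent.Lib.Helper85.GorLCIFibre

open CategoryTheory IsLocalRing RingTheory.Sequence TensorProduct
open Groth.Agent.Lib.Helper85.GorRing
open Groth.Agent.Lib.Helper43.SeqFlatBC (vecMap vecMap_apply vecMap_smul vecMap_single)

universe u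

/-- `H₁`-regularity passes to `C/JC` when `C/(l)` is flat over the base -/
theorem isH1Regular_quot {A C : Type u} [CommRing A] [CommRing C] [Algebra A C] {c : ℕ}
    (l : Fin c → C) (h : CAlgX.IsH1Regular l)
    [Module.Flat A (C ⧸ Ideal.span (Set.range l))] (J : Ideal A) :
    CAlgX.IsH1Regular (fun i => Ideal.Quotient.mk (J.map (algebraMap A C)) (l i)) := by
  intro a' ha'
  set q := Ideal.Quotient.mk (J.map (algebraMap A C)) with hq
  -- lift
  have hlift : ∀ i, ∃ a : C, q a = a' i := fun i => Ideal.Quotient.mk_surjective (a' i)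
  choose a ha using hlift
  have hmem : ∑ i, a i * l i ∈ J.map (algebraMap A C) := by
    rw [← Ideal.Quotient.eq_zero_iff_mem, map_sum]
    rw [← ha']
    refine Finset.sum_congr rfl fun i _ => ?_
    rw [map_mul, ha i]
  rw [Ideal.map, Ideal.span, Submodule.mem_span_set'] at hmem
  obtain ⟨N, b, g, hbg⟩ := hmem
  have hg : ∀ j, ∃ m : A, m ∈ J ∧ algebraMap A C m = (g j : C) := fun j => by
    obtain ⟨m, hm, hm'⟩ := (g j).2
    exact ⟨m, hm, hm'⟩
  choose m hmJ hm using hg
  -- relation in the flat quotient
  set π := Ideal.Quotient.mk (Ideal.span (Set.range l)) with hπ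
  have hrel : ∑ j, m j • π (b j) = 0 := by
    have : ∑ j, m j • π (b j) = π (∑ i, a i * l i) := by
      rw [← hbg, map_sum]
      refine Finset.sum_congr rfl fun j _ => ?_
      rw [smul_eq_mul, map_mul, ← hm j, Algebra.smul_def]
      rw [mul_comm]
      rfl
    rw [this, map_sum]
    refine Finset.sum_eq_zero fun i _ => ?_
    rw [map_mul]
    have : π (l i) = 0 :=
      Ideal.Quotient.eq_zero_iff_mem.mpr (Ideal.subset_span ⟨i, rfl⟩)
    rw [this, mul_zero]
  obtain ⟨k, α, y, hx, hj⟩ := Module.Flat.isTrivialRelation_of_sum_smul_eq_zero (R := A)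
    (M := C ⧸ Ideal.span (Set.range l)) (f := m) (x := fun j => π (b j)) hrel
  have hylift : ∀ t, ∃ ct : C, π ct = y t := fun t => Ideal.Quotient.mk_surjective (y t)
  choose ct hct using hylift
  have hd : ∀ j, ∃ d : Fin c → C, ∑ i, d i * l i = b j - ∑ t, algebraMap A C (α j t) * ct t := by
    intro j
    have : b j - ∑ t, algebraMap A C (α j t) * ct t ∈ Ideal.span (Set.range l) := by
      rw [← Ideal.Quotient.eq_zero_iff_mem, map_sub, sub_eq_zero]
      have := hx j
      simp only at this
      rw [this, map_sum]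
      refine Finset.sum_congr rfl fun t _ => ?_
      rw [map_mul, hct t, Algebra.smul_def]
      rfl
    exact (Ideal.mem_span_range_iff_exists_fun).mp this
  choose d hd using hd
  -- the correction vector
  set e : Fin c → C := fun i => ∑ j, algebraMap A C (m j) * d j i with he
  have hsum : ∑ i, (a i - e i) * l i = 0 := by
    have h1 : ∑ i, a i * l i = ∑ j, algebraMap A C (m j) * b j := by
      rw [← hbg]
      refine Finset.sum_congr rfl fun j _ => ?_
      rw [smul_eq_mul, hm j, mul_comm]
    have h2 : ∀ j, b j = ∑ i, d j i * l i + ∑ t, algebraMap A C (α j t) * ct t := fun j => by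
      rw [hd j]; ring
    have h3 : ∑ j, algebraMap A C (m j) * ∑ t, algebraMap A C (α j t) * ct t = 0 := by
      simp_rw [Finset.mul_sum]
      rw [Finset.sum_comm]
      refine Finset.sum_eq_zero fun t _ => ?_
      have : ∑ j, algebraMap A C (m j) * (algebraMap A C (α j t) * ct t) =
          algebraMap A C (∑ j, m j * α j t) * ct t := by
        rw [map_sum, Finset.sum_mul]
        refine Finset.sum_congr rfl fun j _ => ?_
        rw [map_mul]; ring
      rw [this]
      have := hj t
      rw [this, map_zero, zero_mul]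
    have h4 : ∑ i, e i * l i = ∑ j, algebraMap A C (m j) * ∑ i, d j i * l i := by
      simp only [he, Finset.sum_mul, Finset.mul_sum]
      rw [Finset.sum_comm]
      refine Finset.sum_congr rfl fun j _ => Finset.sum_congr rfl fun i _ => by ring
    simp_rw [sub_mul]
    rw [Finset.sum_sub_distrib, h1, h4, sub_eq_zero]
    conv_lhs => enter [2, j]; rw [h2 j, mul_add]
    rw [Finset.sum_add_distrib, h3, add_zero]
  have hspan := h (fun i => a i - e i) hsum
  -- push to the quotient
  set T : Set (Fin c → C) := {v | ∃ i j : Fin c, v = Pi.single i (l j) - Pi.single j (l i)} with hT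
  have hΦT : ∀ v ∈ Submodule.span C T, vecMap q c v ∈ Submodule.span (C ⧸ J.map (algebraMap A C))
      {v | ∃ i j : Fin c, v = Pi.single i (q (l j)) - Pi.single j (q (l i))} := by
    intro v hv
    induction hv using Submodule.span_induction with
    | mem v hv =>
      obtain ⟨i, j, rfl⟩ := hv
      apply Submodule.subset_span
      refine ⟨i, j, ?_⟩
      rw [map_sub, vecMap_single, vecMap_single]
    | zero => rw [map_zero]; exact Submodule.zero_mem _
    | add x y _ _ hx hy => rw [map_add]; exact Submodule.add_mem _ hx hy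
    | smul r x _ hx =>
      rw [vecMap_smul]
      exact Submodule.smul_mem _ _ hx
  have := hΦT _ hspan
  have heq : vecMap q c (fun i => a i - e i) = a' := by
    funext i
    rw [vecMap_apply, map_sub, ha i]
    have : q (e i) = 0 := by
      rw [Ideal.Quotient.eq_zero_iff_mem, he]
      refine Ideal.sum_mem _ fun j _ => ?_
      exact Ideal.mul_mem_right _ _ (Ideal.mem_map_of_mem _ (hmJ j))
    rw [this, sub_zero]
  rwa [heq] at this

/-- if the fibre ring `κ(𝔭) ⊗ S` is a Gorenstein ring then `S_r/𝔭S_r` is Gorenstein local for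
every prime `r` over `𝔭` -/
theorem gor_quot_of_fiber (A S : Type u) [CommRing A] [CommRing S] [Algebra A S]
    [Module.Flat A S] (𝔭 : Ideal A) [𝔭.IsPrime] [LocCoh.IsGorensteinRing (𝔭.Fiber S)]
    (r : Ideal S) [r.IsPrime] (hr : r.comap (algebraMap A S) = 𝔭) :
    LocCoh.IsGorensteinLocalRing
      (Localization.AtPrime r ⧸ 𝔭.map (algebraMap A (Localization.AtPrime r))) := by
  obtain ⟨Q, hQ⟩ := Groth.Agent.Lib.Helper85.GorFiber.exists_fiber_prime A S 𝔭 r hr
  subst hQ
  letI := Localization.AtPrime.algebraOfLiesOver 𝔭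
    (Q.asIdeal.comap (Algebra.TensorProduct.includeRight : S →ₐ[A] 𝔭.Fiber S))
  haveI := LocCoh.IsGorensteinRing.isGorensteinLocalRing_localization (A := 𝔭.Fiber S) Q.asIdeal
  exact gor_of_ringEquiv (R := Localization.AtPrime Q.asIdeal)
    (Ideal.Fiber.localizationAlgEquivQuotient 𝔭 Q.asIdeal).toRingEquiv

/-- the fibre rings of a polynomial ring are Gorenstein -/
theorem gorRing_fiber_mvPolynomial (A : Type u) [CommRing A] (n : ℕ) (𝔭 : Ideal A) [𝔭.IsPrime] :
    LocCoh.IsGorensteinRing (𝔭.Fiber (MvPolynomial (Fin n) A)) := by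
  haveI : LocCoh.IsGorensteinRing 𝔭.ResidueField := by
    haveI := gor_of_isField 𝔭.ResidueField (Field.toIsField _)
    exact gorRing_of_gorLocal _
  haveI : LocCoh.IsGorensteinRing (MvPolynomial (Fin n) 𝔭.ResidueField) := by
    haveI := gorRing_mvPolynomial 𝔭.ResidueField (ULift.{u} (Fin n))
    exact gorRing_of_ringEquiv (MvPolynomial.renameEquiv 𝔭.ResidueField
      (Equiv.ulift : ULift.{u} (Fin n) ≃ Fin n)).toRingEquiv
  exact gorRing_of_ringEquiv
    (MvPolynomial.algebraTensorAlgEquiv A 𝔭.ResidueField (σ := Fin n)).symm.toRingEquiv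

open Groth.Agent.Lib.Helper85.GorLCI in
/-- core local statement: `B_r/𝔭B_r` is Gorenstein for a flat lci algebra `B` -/
theorem gor_lci_fibre_local (A B : Type u) [CommRing A] [CommRing B] [Algebra A B]
    [Module.Flat A B] (n : ℕ) (f : MvPolynomial (Fin n) A →ₐ[A] B) (hf : Function.Surjective f)
    (hI : LCI.IsKoszulRegularIdeal (RingHom.ker f.toRingHom))
    (𝔭 : Ideal A) [𝔭.IsPrime] (r : Ideal B) [r.IsPrime] (hr : r.comap (algebraMap A B) = 𝔭) :
    LocCoh.IsGorensteinLocalRing
      (Localization.AtPrime r ⧸ 𝔭.map (algebraMap A (Localization.AtPrime r))) := by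
  obtain ⟨φ, hφ, hkerφ, hφalg⟩ :=
    exists_loc_surjective f.toRingHom hf (r.comap f.toRingHom) r rfl
  have hIQ : RingHom.ker f.toRingHom ≤ r.comap f.toRingHom := Ideal.comap_mono bot_le
  obtain ⟨rs, hrs, hspan⟩ := exists_koszulRegular_local _ hI (r.comap f.toRingHom) hIQ
  -- the local ring `D` of the fibre of the polynomial ring
  have h𝔮₀ : (r.comap f.toRingHom).comap (algebraMap A (MvPolynomial (Fin n) A)) = 𝔭 := by
    rw [Ideal.comap_comap, ← hr]
    congr 1
    ext a
    simp
  haveI := gorRing_fiber_mvPolynomial A n 𝔭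
  haveI hD := gor_quot_of_fiber A (MvPolynomial (Fin n) A) 𝔭 (r.comap f.toRingHom) h𝔮₀
  haveI : IsLocalRing (Localization.AtPrime (r.comap f.toRingHom) ⧸
      𝔭.map (algebraMap A (Localization.AtPrime (r.comap f.toRingHom)))) := hD.toIsLocalRing
  haveI : IsNoetherianRing (Localization.AtPrime (r.comap f.toRingHom) ⧸
      𝔭.map (algebraMap A (Localization.AtPrime (r.comap f.toRingHom)))) := hD.toIsNoetherian
  -- `φ` as an `A`-algebra map
  have hφA : ∀ a : A, φ (algebraMap A (Localization.AtPrime (r.comap f.toRingHom)) a) =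
      algebraMap A (Localization.AtPrime r) a := by
    intro a
    rw [IsScalarTower.algebraMap_apply A (MvPolynomial (Fin n) A)
      (Localization.AtPrime (r.comap f.toRingHom)), hφalg,
      IsScalarTower.algebraMap_apply A B (Localization.AtPrime r)]
    congr 1
    exact f.commutes a
  let φA : Localization.AtPrime (r.comap f.toRingHom) →ₐ[A] Localization.AtPrime r :=
    { φ with commutes' := hφA }
  have hkerA : Ideal.span (Set.range rs.get) = RingHom.ker φA := by
    have h1 : RingHom.ker φA = RingHom.ker φ := rfl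
    rw [h1, hkerφ, hspan]
    unfold Ideal.ofList
    congr 1
    ext y
    simp only [Set.mem_range, Set.mem_setOf_eq, List.mem_iff_get]
  haveI : Module.Flat A (Localization.AtPrime r) := Module.Flat.trans A B _
  haveI : Module.Flat A (Localization.AtPrime (r.comap f.toRingHom) ⧸
      Ideal.span (Set.range rs.get)) :=
    Module.Flat.of_linearEquiv (((Ideal.quotientEquivAlgOfEq A hkerA).trans
      (Ideal.quotientKerAlgEquivOfSurjective (f := φA) hφ)).toLinearEquiv)
  have hH1 := isH1Regular_quot rs.get
    (Groth.Agent.Lib.Helper43.KoszulH1.isH1Regular_of_isKoszulRegularSeq rs hrs) 𝔭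
  have hK := koszulH1Zero_of_isH1Regular _ hH1
  -- elements of `rs` lie in the maximal ideal
  have hmem : ∀ x ∈ rs, x ∈ maximalIdeal (Localization.AtPrime (r.comap f.toRingHom)) := by
    intro x hx
    have hx' : x ∈ Ideal.ofList rs := Ideal.subset_span hx
    rw [← hspan] at hx'
    rw [← Localization.AtPrime.map_eq_maximalIdeal]
    exact Ideal.map_mono hIQ hx'
  have hle𝔭 : 𝔭.map (algebraMap A (Localization.AtPrime (r.comap f.toRingHom))) ≤
      maximalIdeal (Localization.AtPrime (r.comap f.toRingHom)) := by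
    rw [← Localization.AtPrime.map_eq_maximalIdeal,
      IsScalarTower.algebraMap_eq A (MvPolynomial (Fin n) A), ← Ideal.map_map]
    apply Ideal.map_mono
    rw [Ideal.map_le_iff_le_comap, h𝔮₀]
  have hmemD : ∀ i, Ideal.Quotient.mk (𝔭.map (algebraMap A
      (Localization.AtPrime (r.comap f.toRingHom)))) (rs.get i) ∈
      maximalIdeal (Localization.AtPrime (r.comap f.toRingHom) ⧸
        𝔭.map (algebraMap A (Localization.AtPrime (r.comap f.toRingHom)))) :=
    fun i => (Groth.Agent.Lib.Helper85.GorFlat.mk_mem_maximalIdeal_iff _ hle𝔭 _).mpr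
      (hmem _ (List.get_mem rs i))
  have hreg := Groth.Agent.S2868.result
    (fun i => Ideal.Quotient.mk (𝔭.map (algebraMap A
      (Localization.AtPrime (r.comap f.toRingHom)))) (rs.get i))
    (fun i => by
      rw [IsLocalRing.jacobson_eq_maximalIdeal _ bot_ne_top]
      exact hmemD i) _ hK
  -- the surjection onto `B_r/𝔭B_r`
  have hcomap : 𝔭.map (algebraMap A (Localization.AtPrime (r.comap f.toRingHom))) ≤
      (𝔭.map (algebraMap A (Localization.AtPrime r))).comap φ := by
    rw [Ideal.map_le_iff_le_comap]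
    intro a ha
    rw [Ideal.mem_comap, Ideal.mem_comap, hφA]
    exact Ideal.mem_map_of_mem _ ha
  have hmapφ : (𝔭.map (algebraMap A (Localization.AtPrime (r.comap f.toRingHom)))).map φ =
      𝔭.map (algebraMap A (Localization.AtPrime r)) := by
    rw [Ideal.map_map]
    congr 1
    ext a
    exact hφA a
  refine gor_of_regularSeq_aux _ _ _ _ rfl hreg ?_
    (Ideal.quotientMap (𝔭.map (algebraMap A (Localization.AtPrime r))) φ hcomap)
    (Ideal.quotientMap_surjective hφ) ?_
  · intro x hx
    obtain ⟨i, rfl⟩ := (List.mem_ofFn' _ _).mp hx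
    exact hmemD i
  · rw [Ideal.quotientMap, Ideal.ker_quotient_lift]
    have hk : RingHom.ker ((Ideal.Quotient.mk (𝔭.map (algebraMap A (Localization.AtPrime r)))).comp φ)
        = 𝔭.map (algebraMap A (Localization.AtPrime (r.comap f.toRingHom))) ⊔ RingHom.ker φ := by
      rw [← RingHom.comap_ker, Ideal.mk_ker, ← hmapφ, Ideal.comap_map_of_surjective φ hφ,
        ← RingHom.ker_eq_comap_bot]
    rw [hk, Ideal.map_sup, Ideal.map_quotient_self, bot_sup_eq, hkerφ, hspan, Ideal.map_ofList]
    congr 1
    conv_lhs => rw [← List.ofFn_get rs]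
    rw [List.map_ofFn]
    rfl

/-- **fibres of flat lci maps are Gorenstein** -/
theorem gorRing_fibre_of_flat_isLCI (A B : Type u) [CommRing A] [CommRing B] [Algebra A B]
    [Module.Flat A B] (hl : LCI.IsLCI A B) (p : PrimeSpectrum A) :
    LocCoh.IsGorensteinRing (B ⊗[A] p.asIdeal.ResidueField) := by
  obtain ⟨hft, n, f, hf, hI⟩ := hl
  haveI := hft
  haveI : p.asIdeal.IsPrime := p.isPrime
  have key : LocCoh.IsGorensteinRing (p.asIdeal.Fiber B) := by
    haveI : IsNoetherianRing (p.asIdeal.Fiber B) :=
      Algebra.FiniteType.isNoetherianRing p.asIdeal.ResidueField _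
    refine { isGorensteinLocalRing_localization := fun Q _ => ?_ }
    letI := Localization.AtPrime.algebraOfLiesOver p.asIdeal
      (Q.comap (Algebra.TensorProduct.includeRight : B →ₐ[A] p.asIdeal.Fiber B))
    have hr : (Q.comap (Algebra.TensorProduct.includeRight : B →ₐ[A] p.asIdeal.Fiber B)).comap
        (algebraMap A B) = p.asIdeal := by
      have h1 := Ideal.over_def Q p.asIdeal
      rw [Ideal.under_def] at h1
      refine Eq.trans ?_ h1.symm
      ext a
      simp only [Ideal.mem_comap]
      rw [AlgHom.commutes]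
    haveI := gor_lci_fibre_local A B n f hf hI p.asIdeal
      (Q.comap (Algebra.TensorProduct.includeRight : B →ₐ[A] p.asIdeal.Fiber B)) hr
    exact gor_of_ringEquiv (S := Localization.AtPrime Q)
      (Ideal.Fiber.localizationAlgEquivQuotient p.asIdeal Q).symm.toRingEquiv
  haveI := key
  exact gorRing_of_ringEquiv (Algebra.TensorProduct.comm A p.asIdeal.ResidueField B).toRingEquiv

end Groth.Agent.Lib.Helper85.GorLCIFibre
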