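import Groth.Agent.Lib.Helper85.MatlisEnd
import Groth.Agent.S0543

set_option autoImplicit false
universe u
namespace Groth.Agent.Lib.Helper85.Matlis

open InjHull IsLocalRing

section Art

variable {R : Type u} [CommRing R] [IsLocalRing R] {E : Type u} [AddCommGroup E] [Module R E]
  {f : ResidueField R →ₗ[R] E}

/-- annihilator (in `End E`) of a submodule of `E`, as a left ideal -/
def perp (N : Submodule R E) : Submodule (Module.End R E) (Module.End R E) where
  carrier := {φ | ∀ e ∈ N, φ e = 0}
  add_mem' := by
    intro φ ψ hφ hψ e he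
    rw [LinearMap.add_apply, hφ e he, hψ e he, add_zero]
  zero_mem' := fun e _ => rfl
  smul_mem' := by
    intro ψ φ hφ e he
    change (ψ * φ) e = 0
    rw [Module.End.mul_apply, hφ e he, map_zero]

theorem perp_strictAnti (hf : IsInjectiveHull f) : StrictAnti (perp (R := R) (E := E)) := by
  intro N N' hlt
  refine lt_of_le_of_ne (fun φ hφ e he => hφ e (hlt.le he)) ?_
  intro heq
  obtain ⟨x, hxN', hxN⟩ := Set.exists_of_ssubset hlt
  have hne : N.mkQ x ≠ 0 := by
    rw [Ne, Submodule.mkQ_apply, Submodule.Quotient.mk_eq_zero]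
    exact hxN
  obtain ⟨χ, hχ⟩ := exists_hom_apply_ne_zero hf (N.mkQ x) hne
  have h1 : χ ∘ₗ N.mkQ ∈ perp N := by
    intro e he
    rw [LinearMap.comp_apply, Submodule.mkQ_apply, (Submodule.Quotient.mk_eq_zero N).mpr he,
      map_zero]
  rw [← heq] at h1
  exact hχ (h1 x hxN')

theorem isArtinian_hull [IsNoetherianRing R] (hf : IsInjectiveHull f) : IsArtinian R E := by
  have h0 : IsNoetherianRing (AdicCompletion (maximalIdeal R) R) :=
    Groth.Agent.S0543.result R (maximalIdeal R)
  have hN : IsNoetherianRing (Module.End R E) :=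
    isNoetherianRing_of_ringEquiv _ (endEquiv hf).symm.toRingEquiv
  have : WellFoundedGT (Submodule (Module.End R E) (Module.End R E)) := isNoetherian_iff'.mp hN
  exact (perp_strictAnti hf).wellFoundedLT

end Art

end Groth.Agent.Lib.Helper85.Matlis
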