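import Groth.Agent.Lib.Helper85.CanonGor
import Groth.Agent.Lib.Helper85.HullIndec
import Groth.Agent.Lib.Helper85.HullExist
import Groth.Agent.Lib.Helper4.GorCM
import Groth.Agent.Lib.Helper4.Gor

/-!
# Gorenstein local rings of depth zero and their socles; reduction modulo a regular element
-/

set_option autoImplicit false
set_option linter.style.haveILetI false

namespace Groth.Agent.Lib.Helper85.GorFlat

open CategoryTheory Abelian IsLocalRing InjHull

universe u

section Socle

variable (R : Type u) [CommRing R] [IsNoetherianRing R] [IsLocalRing R]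

/-- the socle of `R` is at most one-dimensional -/
def SocleSimple : Prop :=
  ∀ s1 s2 : R, (∀ a ∈ maximalIdeal R, a * s1 = 0) → (∀ a ∈ maximalIdeal R, a * s2 = 0) →
    s1 ≠ 0 → ∃ a : R, s2 = a * s1

omit [IsNoetherianRing R] in
theorem socleSimple_of_injective [Module.Injective R R] : SocleSimple R := by
  intro s1 s2 h1 h2 hne
  have hle : ∀ s : R, (∀ a ∈ maximalIdeal R, a * s = 0) →
      maximalIdeal R ≤ LinearMap.ker (LinearMap.toSpanSingleton R R s) := by
    intro s hs a ha
    rw [LinearMap.mem_ker, LinearMap.toSpanSingleton_apply, smul_eq_mul]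
    exact hs a ha
  let ι1 : (R ⧸ maximalIdeal R) →ₗ[R] R :=
    Submodule.liftQ _ (LinearMap.toSpanSingleton R R s1) (hle s1 h1)
  let ι2 : (R ⧸ maximalIdeal R) →ₗ[R] R :=
    Submodule.liftQ _ (LinearMap.toSpanSingleton R R s2) (hle s2 h2)
  have hι1 : ι1 (Submodule.Quotient.mk 1) = s1 := by
    change Submodule.liftQ _ _ _ (Submodule.Quotient.mk 1) = _
    rw [Submodule.liftQ_apply, LinearMap.toSpanSingleton_apply, one_smul]
  have hι2 : ι2 (Submodule.Quotient.mk 1) = s2 := by
    change Submodule.liftQ _ _ _ (Submodule.Quotient.mk 1) = _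
    rw [Submodule.liftQ_apply, LinearMap.toSpanSingleton_apply, one_smul]
  have hker : LinearMap.ker (LinearMap.toSpanSingleton R R s1) = maximalIdeal R := by
    refine ((IsLocalRing.maximalIdeal.isMaximal R).eq_of_le ?_ (hle s1 h1)).symm
    intro htop
    apply hne
    have h1' : (1 : R) ∈ LinearMap.ker (LinearMap.toSpanSingleton R R s1) := by
      rw [htop]; exact Submodule.mem_top
    rw [LinearMap.mem_ker, LinearMap.toSpanSingleton_apply, one_smul] at h1'
    exact h1'
  have hι1inj : Function.Injective ι1 := by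
    rw [← LinearMap.ker_eq_bot, Submodule.ker_liftQ, hker]
    simp
  obtain ⟨φ, hφ⟩ := Module.Injective.extension_property R R _ _ ι1 hι1inj ι2
  refine ⟨φ 1, ?_⟩
  have h3 : φ s1 = s2 := by
    rw [← hι1, ← hι2]
    exact LinearMap.congr_fun hφ _
  rw [← h3]
  have : s1 = s1 • (1 : R) := by rw [smul_eq_mul, mul_one]
  conv_lhs => rw [this, map_smul, smul_eq_mul, mul_comm]

theorem injective_of_gorenstein_of_depth_zero [LocCoh.IsGorensteinLocalRing R]
    (hd : LocCoh.depth R R = 0) : Module.Injective R R := by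
  have h1 := Groth.Agent.Lib.Helper4.GorCM.hasInjectiveDimensionLT_one_of_depth_zero R
    (LocCoh.IsGorensteinLocalRing.exists_hasInjectiveDimensionLT (A := R)) hd
  have h2 : Injective (ModuleCat.of R R) := injective_iff_hasInjectiveDimensionLT_one.mpr h1
  exact Module.injective_module_of_injective_object R R

theorem ringKrullDim_eq_zero_of_gorenstein_of_depth_zero [LocCoh.IsGorensteinLocalRing R]
    (hd : LocCoh.depth R R = 0) : ringKrullDim R = 0 :=
  Groth.Agent.Lib.Helper4.GorCM.ringKrullDim_eq_zero_of_injective R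
    (Groth.Agent.Lib.Helper4.GorCM.hasInjectiveDimensionLT_one_of_depth_zero R
      (LocCoh.IsGorensteinLocalRing.exists_hasInjectiveDimensionLT (A := R)) hd)

theorem socleSimple_of_gorenstein [LocCoh.IsGorensteinLocalRing R]
    (hd : LocCoh.depth R R = 0) : SocleSimple R := by
  haveI := injective_of_gorenstein_of_depth_zero R hd
  exact socleSimple_of_injective R

/-- a nonzero socle element of a ring of depth zero -/
theorem exists_socle_ne_zero (hd : LocCoh.depth R R = 0) :
    ∃ s : R, s ≠ 0 ∧ ∀ a : R, a * s = 0 ↔ a ∈ maximalIdeal R := by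
  have hass := (Groth.Agent.Lib.Helper67.depth_eq_zero_iff R).mp hd
  obtain ⟨hp, x, hx⟩ := isAssociatedPrime_iff.mp hass
  refine ⟨x, ?_, fun a => ?_⟩
  · rintro rfl
    apply hp.ne_top
    rw [hx, eq_top_iff]
    intro a _
    rw [Submodule.mem_colon_singleton, smul_zero]
    exact Submodule.zero_mem _
  · rw [hx, Submodule.mem_colon_singleton, Submodule.mem_bot, smul_eq_mul]

/-- an Artinian local ring with simple socle is Gorenstein -/
theorem gorenstein_of_socleSimple (hdim : ringKrullDim R = 0) (h : SocleSimple R) :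
    LocCoh.IsGorensteinLocalRing R := by
  obtain ⟨E, _, _, f, hf⟩ := Groth.Agent.Lib.Helper85.Hull.exists_injectiveHull
    (R := R) (ResidueField R)
  haveI := hf.isInjective
  haveI : Ring.KrullDimLE 0 R := by
    rw [Ring.KrullDimLE, Order.krullDimLE_iff]
    exact le_of_eq hdim
  haveI : IsArtinianRing R := IsNoetherianRing.isArtinianRing_of_krullDimLE_zero
  have hfl : IsFiniteLength R (R ⧸ (⊥ : Ideal R)) :=
    isFiniteLength_iff_isNoetherian_isArtinian.mpr ⟨inferInstance, inferInstance⟩
  obtain ⟨e⟩ := Groth.Agent.Lib.Helper85.Canon.equiv_torsion_of_socle hf (⊥ : Ideal R) hfl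
    bot_ne_top (by
      intro s1 s2 h1 h2 hne
      obtain ⟨r1, rfl⟩ := Ideal.Quotient.mk_surjective s1
      obtain ⟨r2, rfl⟩ := Ideal.Quotient.mk_surjective s2
      have hz : ∀ r : R, Ideal.Quotient.mk (⊥ : Ideal R) r = 0 → r = 0 := fun r hr => by
        rwa [Ideal.Quotient.eq_zero_iff_mem, Ideal.mem_bot] at hr
      obtain ⟨a, ha⟩ := h r1 r2
        (fun a ha => hz _ (by rw [map_mul]; exact h1 a ha))
        (fun a ha => hz _ (by rw [map_mul]; exact h2 a ha))
        (fun h0 => hne (by rw [h0, map_zero]))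
      exact ⟨a, by rw [ha, map_mul]; rfl⟩)
  have htop : Submodule.torsionBySet R E ((⊥ : Ideal R) : Set R) = ⊤ := by
    rw [eq_top_iff]
    intro x _
    rw [Submodule.mem_torsionBySet_iff]
    rintro ⟨a, ha⟩
    have : a = 0 := ha
    change a • x = 0
    rw [this, zero_smul]
  let e' : E ≃ₗ[R] R :=
    ((LinearEquiv.ofTop _ htop).symm.trans e.symm).trans (Submodule.quotEquivOfEqBot ⊥ rfl)
  haveI : Module.Injective R R := Groth.Agent.Lib.Helper85.Hull.injective_of_linearEquiv e'
  have h2 : Injective (ModuleCat.of R R) := Module.injective_object_of_injective_module R R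
  exact LocCoh.IsGorensteinLocalRing.mk ⟨1, injective_iff_hasInjectiveDimensionLT_one.mp h2⟩

end Socle

end Groth.Agent.Lib.Helper85.GorFlat
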