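import Groth.Agent.Lib.Helper85.CanonQuot

/-!
# Local duality over a Gorenstein local ring and over its homomorphic images
-/

set_option autoImplicit false
set_option linter.style.haveILetI false

namespace Groth.Agent.Lib.Helper85.CanonQuot

open IsLocalRing InjHull CategoryTheory Groth.Agent.Lib.Helper92.LC

universe u

/-- local duality over a Gorenstein local ring -/
theorem gor_duality (R' : Type u) [CommRing R'] [LocCoh.IsGorensteinLocalRing R'] (d : ℕ)
    (hdim : ringKrullDim R' = d) {E' : Type u} [AddCommGroup E'] [Module R' E']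
    {f' : ResidueField R' →ₗ[R'] E'} (hf' : IsInjectiveHull f') (k j : ℕ) (hkj : k + j = d)
    (Y : Type u) [AddCommGroup Y] [Module R' Y] [Module.Finite R' Y] :
    Nonempty (LocCoh.H (maximalIdeal R') j Y ≃ₗ[R']
      (Abelian.Ext.{u} (ModuleCat.of R' Y) (ModuleCat.of R' R') k →ₗ[R'] E')) := by
  haveI := Groth.Agent.Lib.Helper4.GorCM.isCohenMacaulayLocalRing_of_gorenstein R'
  obtain ⟨eG⟩ := Canon.gor_top_equiv R' d hdim hf'
  let eK' : (R' →ₗ[R'] E') ≃ₗ[R'] LocCoh.H (maximalIdeal R') d R' :=
    (LinearMap.ringLmapEquivSelf R' R' E').trans eG.symm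
  have hcd : LocCoh.CdLE R' (maximalIdeal R') d := cdLE_of_ringKrullDim_le _ d (le_of_eq hdim)
  have hN := Canon.LCCM.self_of_CM R' d hdim
  haveI := hf'.isInjective
  exact Canon.duality (E := E') R' d hcd hN.2 eK' k j hkj Y

section Quot

variable (A : Type u) [CommRing A] [IsNoetherianRing A] [IsLocalRing A]
  {E : Type u} [AddCommGroup E] [Module A E] {f : ResidueField A →ₗ[A] E}
  (R' : Type u) [CommRing R'] [LocCoh.IsGorensteinLocalRing R'] [Algebra R' A]

omit [IsNoetherianRing A] [IsLocalRing A] [LocCoh.IsGorensteinLocalRing R'] in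
theorem ext_kill (M : Type u) [AddCommGroup M] [Module A M]
    [Module R' M] [IsScalarTower R' A M] (N : ModuleCat.{u} R') (k : ℕ) :
    ∀ r : R', algebraMap R' A r = 0 →
      ∀ x : Abelian.Ext.{u} (ModuleCat.of R' M) N k, r • x = 0 := by
  intro r hr x
  refine ext_smul_eq_zero _ _ r ?_ k x
  intro m
  change r • (m : M) = 0
  rw [← algebraMap_smul A r m, hr, zero_smul]

/-- local duality over a homomorphic image `A` of a Gorenstein local ring `R'` of dimension `d`:
`H^i_m(M)` is the Matlis dual of `Ext^{d-i}_{R'}(M, R')`, regarded as an `A`-module -/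
theorem duality_quot (hf : IsInjectiveHull f) (hg : Function.Surjective (algebraMap R' A))
    (d : ℕ) (hdim : ringKrullDim R' = d) (M : Type u) [AddCommGroup M] [Module A M]
    [Module R' M] [IsScalarTower R' A M] [Module.Finite A M] (k i : ℕ) (hki : k + i = d) :
    letI := modOfSurj hg (Abelian.Ext.{u} (ModuleCat.of R' M) (ModuleCat.of R' R') k)
      (ext_kill A R' M _ k)
    Nonempty ((Abelian.Ext.{u} (ModuleCat.of R' M) (ModuleCat.of R' R') k →ₗ[A] E) ≃ₗ[A]
      LocCoh.H (maximalIdeal A) i M) := by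
  obtain ⟨E', _, _, f', hf'⟩ := Hull.exists_injectiveHull (R := R') (ResidueField R')
  letI : Module R' E := Module.compHom E (algebraMap R' A)
  haveI : IsScalarTower R' A E := IsScalarTower.of_algebraMap_smul (fun r x => rfl)
  obtain ⟨h, hh⟩ := exists_hull_embedding hg hf.toIsEssentialInj hf'
  haveI := hf.isInjective
  haveI : Module.Finite R' A := Module.Finite.of_surjective (Algebra.linearMap R' A) hg
  haveI : Module.Finite R' M := Module.Finite.trans A M
  obtain ⟨D⟩ := gor_duality R' d hdim hf' k i hki M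
  letI : Module A (Abelian.Ext.{u} (ModuleCat.of R' M) (ModuleCat.of R' R') k) :=
    modOfSurj hg _ (ext_kill A R' M _ k)
  haveI : IsScalarTower R' A (Abelian.Ext.{u} (ModuleCat.of R' M) (ModuleCat.of R' R') k) :=
    modOfSurj_tower hg _ (ext_kill A R' M _ k)
  have hmap : (maximalIdeal R').map (algebraMap R' A) = maximalIdeal A :=
    map_maximalIdeal_of_surjective _ hg
  obtain ⟨φ, hφ⟩ : ∃ φ : LocCoh.H (maximalIdeal A) i M ≃+ LocCoh.H (maximalIdeal R') i M,
      ∀ (r : R') (x : LocCoh.H (maximalIdeal A) i M), φ (algebraMap R' A r • x) = r • φ x := by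
    rw [← hmap]
    exact Helper98.CechRestrict.lc_restrict (R := R') (R' := A) (maximalIdeal R') M i
  let Φ : (Abelian.Ext.{u} (ModuleCat.of R' M) (ModuleCat.of R' R') k →ₗ[A] E) ≃+
      (Abelian.Ext.{u} (ModuleCat.of R' M) (ModuleCat.of R' R') k →ₗ[R'] E') :=
    AddEquiv.ofBijective (compHull (R := A) h _) (compHull_bijective hg h hh _)
  let Ψ : (Abelian.Ext.{u} (ModuleCat.of R' M) (ModuleCat.of R' R') k →ₗ[A] E) ≃+
      LocCoh.H (maximalIdeal A) i M :=
    Φ.trans (D.symm.toAddEquiv.trans φ.symm)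
  refine ⟨Ψ.toLinearEquiv ?_⟩
  intro r ψ
  obtain ⟨r', rfl⟩ := hg r
  change φ.symm (D.symm (compHull (R := A) h _ (algebraMap R' A r' • ψ))) =
    algebraMap R' A r' • φ.symm (D.symm (compHull (R := A) h _ ψ))
  rw [compHull_smul, map_smul]
  apply φ.injective
  rw [hφ, AddEquiv.apply_symm_apply, AddEquiv.apply_symm_apply]

end Quot

end Groth.Agent.Lib.Helper85.CanonQuot
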