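import Groth.Agent.Lib.Helper85.ZClosedMain
import Mathlib.RingTheory.KrullDimension.Module
import Mathlib.RingTheory.Ideal.Height

set_option autoImplicit false
universe u

namespace Groth.Agent.Lib.Helper85.ZClosed

theorem sk1 (h d : ℕ∞) : min 1 h ≤ d ↔ (1 ≤ h → 1 ≤ d) := by
  rw [min_le_iff]
  induction h using ENat.recTopCoe with
  | top =>
    simp only [le_top, forall_const, top_le_iff]
    constructor
    · rintro (h2 | h2)
      · exact h2
      · rw [h2]; exact le_top
    · exact fun h => Or.inl h
  | coe h =>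
    induction d using ENat.recTopCoe with
    | top => simp
    | coe d =>
      norm_cast
      omega

theorem sk2 (h d : ℕ∞) : min 2 h ≤ d ↔ (2 ≤ h → 2 ≤ d) ∧ (1 ≤ h → 1 ≤ d) := by
  rw [min_le_iff]
  induction h using ENat.recTopCoe with
  | top =>
    simp only [le_top, forall_const, top_le_iff]
    constructor
    · rintro (h2 | h2)
      · exact ⟨h2, le_trans (by norm_num) h2⟩
      · rw [h2]; exact ⟨le_top, le_top⟩
    · exact fun h => Or.inl h.1
  | coe h =>
    induction d using ENat.recTopCoe with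
    | top => simp
    | coe d =>
      norm_cast
      omega

variable {A : Type u} [CommRing A] {M : Type u} [AddCommGroup M] [Module A M]

theorem support_localizedModule_eq_univ (hsupp : Module.support A M = Set.univ) (p : Ideal A)
    [p.IsPrime] :
    Module.support (Localization.AtPrime p) (LocalizedModule p.primeCompl M) = Set.univ := by
  rw [Set.eq_univ_iff_forall]
  intro q'
  let q : PrimeSpectrum A := PrimeSpectrum.comap (algebraMap A (Localization.AtPrime p)) q'
  have hq : q ∈ Module.support A M := by rw [hsupp]; trivial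
  have hqp : q.asIdeal ≤ p := by
    intro a ha
    by_contra hap
    have hu : IsUnit (algebraMap A (Localization.AtPrime p) a) :=
      IsLocalization.map_units (Localization.AtPrime p) (⟨a, hap⟩ : p.primeCompl)
    exact q'.2.ne_top (Ideal.eq_top_of_isUnit_mem _ ha hu)
  rw [Module.mem_support_iff'] at hq ⊢
  obtain ⟨m, hm⟩ := hq
  refine ⟨LocalizedModule.mk m 1, ?_⟩
  intro ρ hρ h0
  obtain ⟨⟨r, s⟩, rfl⟩ := IsLocalization.mk'_surjective p.primeCompl ρ
  simp only at hρ h0
  have hr : r ∉ q.asIdeal := by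
    intro hr
    apply hρ
    have : algebraMap A (Localization.AtPrime p) r ∈ q'.asIdeal := hr
    rw [← IsLocalization.mk'_spec (Localization.AtPrime p) r s] at this
    exact (q'.2.mem_or_mem this).resolve_right (fun hs =>
      q'.2.ne_top (Ideal.eq_top_of_isUnit_mem _ hs (IsLocalization.map_units _ s)))
  -- ρ • mk m 1 = mk (r • m) s
  have h1 : (algebraMap A (Localization.AtPrime p) s) • (IsLocalization.mk' (Localization.AtPrime p) r s •
      (LocalizedModule.mk m 1 : LocalizedModule p.primeCompl M)) = 0 := by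
    rw [h0, smul_zero]
  rw [← mul_smul, mul_comm, IsLocalization.mk'_spec, algebraMap_smul, LocalizedModule.smul'_mk,
    ← LocalizedModule.zero_mk 1, LocalizedModule.mk_eq] at h1
  obtain ⟨t, ht⟩ := h1
  simp only [one_smul, smul_zero, Submonoid.smul_def] at ht
  rw [← mul_smul] at ht
  exact hm ((t : A) * r) (fun hmem => (q.2.mem_or_mem hmem).elim (fun h => t.2 (hqp h)) hr) ht

theorem supportDim_localization_eq_height (hsupp : Module.support A M = Set.univ) (p : Ideal A)
    [p.IsPrime] :
    Module.supportDim (Localization.AtPrime p) (LocalizedModule p.primeCompl M) =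
      (p.height : WithBot ℕ∞) := by
  rw [Module.supportDim, support_localizedModule_eq_univ hsupp p,
    ← IsLocalization.AtPrime.ringKrullDim_eq_height p (Localization.AtPrime p)]
  exact Order.krullDim_eq_of_orderIso (OrderIso.Set.univ)

theorem hasSk_iff (hsupp : Module.support A M = Set.univ) (k : ℕ) :
    LocCoh.HasSk k A M ↔ ∀ (p : Ideal A) [p.IsPrime],
      min (k : ℕ∞) p.height ≤
        LocCoh.depth (Localization.AtPrime p) (LocalizedModule p.primeCompl M) := by
  unfold LocCoh.HasSk
  refine forall_congr' fun p => forall_congr' fun hp => ?_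
  rw [supportDim_localization_eq_height hsupp p]
  have e : ((k : ℕ) : WithBot ℕ∞) = (((k : ℕ) : ℕ∞) : WithBot ℕ∞) := rfl
  rw [e, ← WithBot.coe_min, WithBot.coe_le_coe]

theorem stable_Zge (n : ℕ) : StableUnderSpecialization (EGA4.Zge A n) := by
  intro p q hpq hp
  have hle : p.asIdeal ≤ q.asIdeal := (PrimeSpectrum.le_iff_specializes p q).mpr hpq
  exact le_trans hp (Ideal.height_mono hle)

variable [IsNoetherianRing A]

theorem isPureAlong_iff_depth [Module.Finite A M] (Z : Set (PrimeSpectrum A))
    (hZ : StableUnderSpecialization Z) :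
    EGA4.IsPureAlong Z M ↔ ∀ p : PrimeSpectrum A, p ∈ Z →
      (1 : ℕ∞) ≤ LocCoh.depth (Localization.AtPrime p.asIdeal)
        (LocalizedModule p.asIdeal.primeCompl M) := by
  rw [isPureAlong_iff_ass Z hZ]
  constructor
  · intro h p hpZ
    rw [Order.one_le_iff_pos, pos_iff_ne_zero]
    intro h0
    exact h p ((mem_ass_iff_depth_eq_zero p.asIdeal).mpr h0) hpZ
  · intro h p hp hpZ
    have h1 := h p hpZ
    rw [(mem_ass_iff_depth_eq_zero p.asIdeal).mp hp] at h1
    simp at h1


/-- S2721. -/
theorem hasSk_one_two_iff [Module.Finite A M] (hsupp : Module.support A M = Set.univ) :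
    (LocCoh.HasSk 1 A M ↔ EGA4.IsPureAlong (EGA4.Zge A 1) M) ∧
      (LocCoh.HasSk 2 A M ↔
        (EGA4.IsClosedAlong (EGA4.Zge A 2) M ∧ EGA4.IsPureAlong (EGA4.Zge A 1) M)) := by
  rw [hasSk_iff hsupp, hasSk_iff hsupp, isPureAlong_iff_depth _ (stable_Zge 1),
    isClosedAlong_iff_depth _ (stable_Zge 2)]
  constructor
  · constructor
    · intro h p hp
      exact (sk1 _ _).mp (h p.asIdeal) hp
    · intro h p hp
      exact (sk1 _ _).mpr (fun h1 => h ⟨p, hp⟩ h1)
  · constructor
    · intro h
      exact ⟨fun p hp => ((sk2 _ _).mp (h p.asIdeal)).1 hp,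
        fun p hp => ((sk2 _ _).mp (h p.asIdeal)).2 hp⟩
    · rintro ⟨h2, h1⟩ p hp
      exact (sk2 _ _).mpr ⟨fun h => h2 ⟨p, hp⟩ h, fun h => h1 ⟨p, hp⟩ h⟩

end Groth.Agent.Lib.Helper85.ZClosed
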