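import Mathlib

set_option autoImplicit false
set_option linter.style.haveILetI false
universe u
open IsLocalRing TensorProduct

namespace Groth.Agent.Lib.Helper85.Cyc1941MULTALG

variable {A T : Type u} [CommRing A] [IsLocalRing A] [CommRing T] [Algebra A T]

theorem comap_eq_maximalIdeal [Module.Finite A T] (n : MaximalSpectrum T) :
    n.asIdeal.comap (algebraMap A T) = maximalIdeal A := by
  haveI := n.isMaximal
  haveI : Algebra.IsIntegral A T := Algebra.IsIntegral.of_finite A T
  have : (n.asIdeal.comap (algebraMap A T)).IsMaximal :=
    Ideal.isMaximal_comap_of_isIntegral_of_isMaximal n.asIdeal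
  exact IsLocalRing.eq_maximalIdeal this

theorem isLocalHom_algebraMap [Module.Finite A T] (n : MaximalSpectrum T) :
    haveI := n.isMaximal
    IsLocalHom (algebraMap A (Localization.AtPrime n.asIdeal)) := by
  haveI := n.isMaximal
  refine ⟨fun a ha => ?_⟩
  by_contra hna
  have h1 : a ∈ maximalIdeal A := (mem_maximalIdeal a).mpr hna
  rw [← comap_eq_maximalIdeal n, Ideal.mem_comap] at h1
  have h2 : algebraMap T (Localization.AtPrime n.asIdeal) (algebraMap A T a) ∈
      maximalIdeal (Localization.AtPrime n.asIdeal) :=
    (IsLocalization.AtPrime.to_map_mem_maximal_iff (Localization.AtPrime n.asIdeal) n.asIdeal _).mpr h1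
  rw [← IsScalarTower.algebraMap_apply] at h2
  exact (mem_maximalIdeal _).mp h2 ha


theorem length_localization_eq_top [Module.Finite A T] [Module.Free A T]
    (h : Module.length A A = ⊤) (n : MaximalSpectrum T) :
    Module.length (Localization.AtPrime n.asIdeal) (Localization.AtPrime n.asIdeal) = ⊤ := by
  have hl := isLocalHom_algebraMap (A := A) n
  haveI := hl
  haveI : Module.Flat A (Localization.AtPrime n.asIdeal) :=
    Module.Flat.trans A T (Localization.AtPrime n.asIdeal)
  have h1 := IsLocalRing.length_baseChange A (Localization.AtPrime n.asIdeal) A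
  rw [(TensorProduct.AlgebraTensorModule.rid A (Localization.AtPrime n.asIdeal)
    (Localization.AtPrime n.asIdeal)).length_eq, h] at h1
  have hne : (maximalIdeal A).map (algebraMap A (Localization.AtPrime n.asIdeal)) ≠ ⊤ := by
    intro htop
    have hle : (maximalIdeal A).map (algebraMap A (Localization.AtPrime n.asIdeal)) ≤
        maximalIdeal (Localization.AtPrime n.asIdeal) :=
      ((IsLocalRing.local_hom_TFAE (algebraMap A (Localization.AtPrime n.asIdeal))).out 0 2).mp hl
    rw [htop] at hle
    exact (maximalIdeal.isMaximal _).ne_top (top_le_iff.mp hle)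
  haveI : Nontrivial (Localization.AtPrime n.asIdeal ⧸
      (maximalIdeal A).map (algebraMap A (Localization.AtPrime n.asIdeal))) :=
    Ideal.Quotient.nontrivial_iff.mpr hne
  have hpos : Module.length (Localization.AtPrime n.asIdeal) (Localization.AtPrime n.asIdeal ⧸
      (maximalIdeal A).map (algebraMap A (Localization.AtPrime n.asIdeal))) ≠ 0 :=
    (Module.length_pos).ne'
  rw [h1, ENat.top_mul hpos]


/-- `ℓ_A(T_n) = ℓ_{T_n}(T_n) · ℓ_A(T/n)` -/
theorem length_localization [Module.Finite A T] (n : MaximalSpectrum T) :
    Module.length A (Localization.AtPrime n.asIdeal) =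
      Module.length (Localization.AtPrime n.asIdeal) (Localization.AtPrime n.asIdeal) *
        Module.length A (T ⧸ n.asIdeal) := by
  haveI := n.isMaximal
  have hl := isLocalHom_algebraMap (A := A) n
  haveI := hl
  rw [IsLocalRing.length_restrictScalars A (Localization.AtPrime n.asIdeal)
    (Localization.AtPrime n.asIdeal)]
  congr 1
  -- `ℓ_{κ(A)}(κ(T_n)) = ℓ_A(κ(T_n)) = ℓ_A(T/n)`
  rw [← Module.length_eq_of_surjective (S := A) (R := ResidueField A)
    (M := ResidueField (Localization.AtPrime n.asIdeal)) (residue_surjective (R := A))]
  have hb := Ideal.bijective_algebraMap_quotient_residueField n.asIdeal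
  let e : (T ⧸ n.asIdeal) ≃ₗ[A] n.asIdeal.ResidueField :=
    LinearEquiv.ofBijective
      ((IsScalarTower.toAlgHom A (T ⧸ n.asIdeal) n.asIdeal.ResidueField).toLinearMap) hb
  exact e.length_eq.symm


/-- pure algebra core of MULT -/
theorem sum_length_localization_eq [Module.Finite A T] [Module.Free A T] :
    ∑ᶠ n : MaximalSpectrum T,
      ((Module.length (Localization.AtPrime n.asIdeal) (Localization.AtPrime n.asIdeal)).toNat : ℤ) *
        ((Module.length A (T ⧸ n.asIdeal)).toNat : ℤ) =
      (Module.finrank A T : ℤ) * ((Module.length A A).toNat : ℤ) := by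
  classical
  by_cases h : Module.length A A = ⊤
  · rw [h, ENat.toNat_top, Nat.cast_zero, mul_zero]
    apply finsum_eq_zero_of_forall_eq_zero
    intro n
    rw [length_localization_eq_top h n, ENat.toNat_top, Nat.cast_zero, zero_mul]
  · -- Artinian case
    have hfl : IsFiniteLength A A := Module.length_ne_top_iff.mp h
    haveI : IsArtinianRing A := (isFiniteLength_iff_isNoetherian_isArtinian.mp hfl).2
    haveI : IsArtinianRing T := IsArtinianRing.of_finite A T
    haveI : Fintype (MaximalSpectrum T) := Fintype.ofFinite _
    rw [finsum_eq_sum_of_fintype]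
    have h1 : Module.length A T = Module.finrank A T * Module.length A A :=
      Module.length_of_free_of_finite A T
    have h2 : Module.length A T =
        ∑ n : MaximalSpectrum T, Module.length A (Localization.AtPrime n.asIdeal) := by
      rw [← Module.length_pi_of_fintype]
      exact ((MaximalSpectrum.toPiLocalizationEquiv T).restrictScalars A).toLinearEquiv.length_eq
    have h3 : (Module.finrank A T : ℕ∞) * Module.length A A =
        ∑ n : MaximalSpectrum T,
          Module.length (Localization.AtPrime n.asIdeal) (Localization.AtPrime n.asIdeal) *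
            Module.length A (T ⧸ n.asIdeal) := by
      rw [← h1, h2]
      exact Finset.sum_congr rfl fun n _ => length_localization n
    have hne : (Module.finrank A T : ℕ∞) * Module.length A A ≠ ⊤ :=
      WithTop.mul_ne_top (ENat.natCast_ne_top _) h
    have hterm : ∀ n : MaximalSpectrum T,
        Module.length (Localization.AtPrime n.asIdeal) (Localization.AtPrime n.asIdeal) *
            Module.length A (T ⧸ n.asIdeal) ≠ ⊤ := by
      intro n htop
      apply hne
      rw [h3]
      exact top_unique (htop ▸ Finset.single_le_sum (f := fun n : MaximalSpectrum T =>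
        Module.length (Localization.AtPrime n.asIdeal) (Localization.AtPrime n.asIdeal) *
            Module.length A (T ⧸ n.asIdeal)) (fun _ _ => zero_le) (Finset.mem_univ n))
    have h4 : ((Module.finrank A T * (Module.length A A).toNat : ℕ) : ℕ∞) =
        ((∑ n : MaximalSpectrum T,
          (Module.length (Localization.AtPrime n.asIdeal) (Localization.AtPrime n.asIdeal)).toNat *
            (Module.length A (T ⧸ n.asIdeal)).toNat : ℕ) : ℕ∞) := by
      rw [Nat.cast_sum, Nat.cast_mul, ENat.natCast_toNat h, h3]
      refine Finset.sum_congr rfl fun n _ => ?_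
      rw [← ENat.toNat_mul, ENat.natCast_toNat (hterm n)]
    have h5 := ENat.natCast_inj.mp h4
    have h6 := congrArg (fun m : ℕ => (m : ℤ)) h5
    simp only [Nat.cast_mul, Nat.cast_sum] at h6
    exact h6.symm

end Groth.Agent.Lib.Helper85.Cyc1941MULTALG
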