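import Mathlib
import Groth.Prelude.Def_ARSys
import Groth.Prelude.Def_DerCA

/-!
# Inverse systems of Artinian modules

* `S X n`: the stable image in `X_n`.
* `exists_stable`: the images `X_m → X_n` equal the stable image for `m ≫ 0` (Artinian terms).
* `exists_family`: an element of the stable image extends to a compatible family.
* `isEssConstant`: if `H → lim X_n` is bijective (`H` and the `X_n` Artinian) then the system is
  essentially constant with value `H`.
-/

set_option autoImplicit false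

universe u

open CategoryTheory Opposite

namespace Groth.Agent.Lib.Helper85.ArtSys

variable {A : Type u} [CommRing A] (X : ARSys.PS (ModuleCat.{u} A))

/-- transition maps as linear maps -/
noncomputable abbrev t {n m : ℕ} (h : n ≤ m) : X.obj (op m) →ₗ[A] X.obj (op n) :=
  (ARSys.tr X h).hom

theorem t_comp {n m k : ℕ} (h : n ≤ m) (h' : m ≤ k) (z : X.obj (op k)) :
    t X h (t X h' z) = t X (h.trans h') z := by
  have hcomp : ARSys.tr X (h.trans h') = ARSys.tr X h' ≫ ARSys.tr X h := by
    unfold ARSys.tr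
    rw [← X.map_comp]
    congr 1
  change _ = (ARSys.tr X (h.trans h')).hom z
  rw [hcomp]
  rfl

theorem t_refl (n : ℕ) (z : X.obj (op n)) : t X (le_refl n) z = z := by
  have h1 : ARSys.tr X (le_refl n) = 𝟙 _ := by
    unfold ARSys.tr
    have : (homOfLE (le_refl n)).op = 𝟙 (op n) := rfl
    rw [this, X.map_id]
  change (ARSys.tr X (le_refl n)).hom z = z
  rw [h1]
  rfl

/-- the stable image -/
noncomputable def S (n : ℕ) : Submodule A (X.obj (op n)) := ⨅ (m : ℕ) (h : n ≤ m), LinearMap.range (t X h)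

theorem mem_S_iff {n : ℕ} (z : X.obj (op n)) :
    z ∈ S X n ↔ ∀ (m : ℕ) (h : n ≤ m), z ∈ LinearMap.range (t X h) := by
  unfold S
  simp only [Submodule.mem_iInf]

theorem range_anti {n m m' : ℕ} (h : n ≤ m) (h' : m ≤ m') :
    LinearMap.range (t X (h.trans h')) ≤ LinearMap.range (t X h) := by
  rintro _ ⟨x, rfl⟩
  exact ⟨t X h' x, t_comp X h h' x⟩

theorem t_mem_S {n m : ℕ} (h : n ≤ m) (z : X.obj (op m)) (hz : z ∈ S X m) : t X h z ∈ S X n := by
  rw [mem_S_iff] at hz ⊢
  intro k hk
  obtain ⟨w, rfl⟩ := hz (max k m) (le_max_right k m)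
  refine ⟨t X (le_max_left k m) w, ?_⟩
  rw [t_comp, t_comp]

theorem exists_stable (hX : ∀ n : ℕ, IsArtinian A (X.obj (op n))) (n : ℕ) :
    ∃ N : ℕ, n ≤ N ∧ ∀ (m : ℕ) (h : n ≤ m), N ≤ m → LinearMap.range (t X h) = S X n := by
  haveI := hX n
  let F : ℕ →o (Submodule A (X.obj (op n)))ᵒᵈ :=
    { toFun := fun s => OrderDual.toDual (LinearMap.range (t X (Nat.le_add_right n s)))
      monotone' := by
        intro s s' hss
        change LinearMap.range (t X (Nat.le_add_right n s')) ≤
          LinearMap.range (t X (Nat.le_add_right n s))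
        exact range_anti X (Nat.le_add_right n s) (Nat.add_le_add_left hss n) }
  obtain ⟨r, hr⟩ := IsArtinian.monotone_stabilizes F
  have hr' : ∀ s, r ≤ s → LinearMap.range (t X (Nat.le_add_right n r)) =
      LinearMap.range (t X (Nat.le_add_right n s)) := fun s hs => congrArg OrderDual.ofDual (hr s hs)
  have hS : S X n = LinearMap.range (t X (Nat.le_add_right n r)) := by
    apply le_antisymm
    · intro z hz
      exact (mem_S_iff X z).1 hz _ _
    · intro z hz
      rw [mem_S_iff]
      intro m hm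
      obtain ⟨s, rfl⟩ : ∃ s, m = n + s := ⟨m - n, by omega⟩
      rcases le_total r s with h | h
      · rw [← hr' s h]; exact hz
      · exact range_anti X (Nat.le_add_right n s) (Nat.add_le_add_left h n) hz
  refine ⟨n + r, Nat.le_add_right n r, ?_⟩
  intro m hm hNm
  obtain ⟨s, rfl⟩ : ∃ s, m = n + s := ⟨m - n, by omega⟩
  rw [hS]
  exact (hr' s (by omega)).symm

theorem exists_lift_S (hX : ∀ n : ℕ, IsArtinian A (X.obj (op n))) (n : ℕ) (y : X.obj (op n))
    (hy : y ∈ S X n) : ∃ y' : X.obj (op (n + 1)), y' ∈ S X (n + 1) ∧ t X (Nat.le_succ n) y' = y := by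
  obtain ⟨N, hN, hst⟩ := exists_stable X hX (n + 1)
  obtain ⟨w, rfl⟩ := (mem_S_iff X y).1 hy N ((Nat.le_succ n).trans hN)
  refine ⟨t X hN w, ?_, ?_⟩
  · rw [← hst N hN le_rfl]
    exact ⟨w, rfl⟩
  · rw [t_comp]

theorem exists_family (hX : ∀ n : ℕ, IsArtinian A (X.obj (op n))) (n : ℕ) (y : X.obj (op n))
    (hy : y ∈ S X n) :
    ∃ fam : ∀ m : ℕ, X.obj (op m), (∀ (m m' : ℕ) (h : m ≤ m'), t X h (fam m') = fam m) ∧
      fam n = y := by
  classical
  let g : ∀ k : ℕ, {z : X.obj (op (n + k)) // z ∈ S X (n + k)} := fun k =>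
    Nat.rec (motive := fun k => {z : X.obj (op (n + k)) // z ∈ S X (n + k)}) ⟨y, hy⟩
      (fun k gk => ⟨Classical.choose (exists_lift_S X hX (n + k) gk.1 gk.2),
        (Classical.choose_spec (exists_lift_S X hX (n + k) gk.1 gk.2)).1⟩) k
  have hg : ∀ k, t X (Nat.le_succ (n + k)) (g (k + 1)).1 = (g k).1 := fun k =>
    (Classical.choose_spec (exists_lift_S X hX (n + k) (g k).1 (g k).2)).2
  have hg' : ∀ (k k' : ℕ) (h : k ≤ k'), t X (Nat.add_le_add_left h n) (g k').1 = (g k).1 := by
    intro k k' h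
    induction k', h using Nat.le_induction with
    | base => exact t_refl X _ _
    | succ k' hk ih =>
      rw [← ih, ← hg k', t_comp]
  refine ⟨fun m => t X (Nat.le_add_left m n) (g m).1, ?_, ?_⟩
  · intro m m' h
    change t X h (t X (Nat.le_add_left m' n) (g m').1) = t X (Nat.le_add_left m n) (g m).1
    rw [← hg' m m' h, t_comp, t_comp]
  · change t X (Nat.le_add_left n n) (g n).1 = y
    exact hg' 0 n (Nat.zero_le n)

/-- essential constancy from bijectivity onto the limit -/
theorem isEssConstant (H : ModuleCat.{u} A) (Hc : (Functor.const ℕᵒᵖ).obj H ⟶ X)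
    (hX : ∀ n : ℕ, IsArtinian A (X.obj (op n))) (hH : IsArtinian A H)
    (hinj : ∀ x : H, (∀ n : ℕ, (Hc.app (op n)).hom x = 0) → x = 0)
    (hsurj : ∀ y : (∀ n : ℕ, X.obj (op n)), (∀ (n m : ℕ) (h : n ≤ m), t X h (y m) = y n) →
      ∃ x : H, ∀ n : ℕ, (Hc.app (op n)).hom x = y n) :
    DerCA.IsEssConstant X H Hc := by
  have hnat : ∀ (n m : ℕ) (h : n ≤ m) (x : H),
      t X h ((Hc.app (op m)).hom x) = (Hc.app (op n)).hom x := by
    intro n m h x
    have := Hc.naturality (homOfLE h).op
    have h2 := congrArg (fun φ => φ.hom x) this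
    simp only [Functor.const_obj_obj, Functor.const_obj_map] at h2
    exact h2.symm
  -- (a) injectivity
  obtain ⟨i1, hi1⟩ : ∃ i1 : ℕ, Function.Injective (Hc.app (op i1)).hom := by
    let F : ℕ →o (Submodule A H)ᵒᵈ :=
      { toFun := fun n => OrderDual.toDual (LinearMap.ker (Hc.app (op n)).hom)
        monotone' := by
          intro n m hnm
          change LinearMap.ker (Hc.app (op m)).hom ≤ LinearMap.ker (Hc.app (op n)).hom
          intro x hx
          rw [LinearMap.mem_ker] at hx ⊢
          rw [← hnat n m hnm x, hx, map_zero] }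
    obtain ⟨r, hr⟩ := IsArtinian.monotone_stabilizes F
    have hr' : ∀ m, r ≤ m → LinearMap.ker (Hc.app (op r)).hom = LinearMap.ker (Hc.app (op m)).hom :=
      fun m hm => congrArg OrderDual.ofDual (hr m hm)
    refine ⟨r, ?_⟩
    rw [← LinearMap.ker_eq_bot, eq_bot_iff]
    intro x hx
    rw [Submodule.mem_bot]
    apply hinj
    intro n
    rcases le_total r n with h | h
    · have : x ∈ LinearMap.ker (Hc.app (op n)).hom := by rw [← hr' n h]; exact hx
      exact this
    · rw [← hnat n r h x, LinearMap.mem_ker.1 hx, map_zero]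
  -- (b) ranges
  have hrange : ∀ n : ℕ, LinearMap.range (Hc.app (op n)).hom = S X n := by
    intro n
    apply le_antisymm
    · rintro _ ⟨x, rfl⟩
      rw [mem_S_iff]
      intro m hm
      exact ⟨(Hc.app (op m)).hom x, hnat n m hm x⟩
    · intro y hy
      obtain ⟨fam, hfam, hn⟩ := exists_family X hX n y hy
      obtain ⟨x, hx⟩ := hsurj fam hfam
      exact ⟨x, (hx n).trans hn⟩
  -- (c) the retraction
  obtain ⟨i0, hi0, hst⟩ := exists_stable X hX i1
  have hmem : ∀ z : X.obj (op i0), t X hi0 z ∈ LinearMap.range (Hc.app (op i1)).hom := by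
    intro z
    rw [hrange i1, ← hst i0 hi0 le_rfl]
    exact ⟨z, rfl⟩
  let e := LinearEquiv.ofInjective (Hc.app (op i1)).hom hi1
  let sl : X.obj (op i0) →ₗ[A] H :=
    e.symm.toLinearMap ∘ₗ (LinearMap.codRestrict _ (t X hi0) hmem)
  have hsl : ∀ z : X.obj (op i0), (Hc.app (op i1)).hom (sl z) = t X hi0 z := by
    intro z
    have := e.apply_symm_apply (LinearMap.codRestrict _ (t X hi0) hmem z)
    exact congrArg Subtype.val this
  have hsc : ∀ x : H, sl ((Hc.app (op i0)).hom x) = x := by
    intro x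
    apply hi1
    rw [hsl, hnat]
  refine ⟨i0, ModuleCat.ofHom sl, ?_, ?_⟩
  · apply ModuleCat.hom_ext
    apply LinearMap.ext
    intro x
    exact hsc x
  · intro j
    obtain ⟨k, hk, hstk⟩ := exists_stable X hX (max i0 j)
    refine ⟨k, (le_max_left i0 j).trans hk, (le_max_right i0 j).trans hk, ?_⟩
    apply ModuleCat.hom_ext
    apply LinearMap.ext
    intro z
    have hz : t X hk z ∈ LinearMap.range (Hc.app (op (max i0 j))).hom := by
      rw [hrange, ← hstk k hk le_rfl]
      exact ⟨z, rfl⟩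
    obtain ⟨x, hx⟩ := hz
    change t X ((le_max_right i0 j).trans hk) z =
      (Hc.app (op j)).hom (sl (t X ((le_max_left i0 j).trans hk) z))
    rw [← t_comp X (le_max_right i0 j) hk, ← t_comp X (le_max_left i0 j) hk, ← hx, hnat, hnat, hsc]

end Groth.Agent.Lib.Helper85.ArtSys
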