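import Mathlib

/-!
# Base change of injective modules along flat maps with `pB_q = qB_q`

An elementary proof (Baer's criterion + Noetherian induction on the contraction of a prime) that
`B ⊗[A] I` is an injective `B`-module for `I` an injective `A`-module, when `A → B` is a flat map of
Noetherian rings such that `p B_q = q B_q` for every prime `q` of `B` with contraction `p`.
-/

set_option autoImplicit false
universe u

namespace Groth.Agent.Lib.Helper85.BaerBC

open TensorProduct

section Baer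

variable {B : Type u} [CommRing B] (N : Type u) [AddCommGroup N] [Module B N]

/-- every linear map from the ideal `𝔟` to `N` is multiplication by an element of `N` -/
def BaerAt (𝔟 : Ideal B) : Prop :=
  ∀ g : 𝔟 →ₗ[B] N, ∃ n : N, ∀ x : 𝔟, g x = (x : B) • n

variable {N}

theorem baer_of_forall (h : ∀ 𝔟 : Ideal B, BaerAt N 𝔟) : Module.Baer B N := by
  intro I g
  obtain ⟨n, hn⟩ := h I g
  refine ⟨LinearMap.toSpanSingleton B N n, fun x mem => ?_⟩
  rw [LinearMap.toSpanSingleton_apply]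
  exact (hn ⟨x, mem⟩).symm

/-- the map `𝔟 × B → B`, `(a, b) ↦ a + b x` -/
noncomputable def adj (𝔟 : Ideal B) (x : B) : (𝔟 × B) →ₗ[B] B :=
  (Submodule.subtype 𝔟).coprod (LinearMap.toSpanSingleton B B x)

theorem adj_apply (𝔟 : Ideal B) (x : B) (a : 𝔟) (b : B) : adj 𝔟 x (a, b) = (a : B) + b * x := by
  simp [adj]

theorem le_range_adj (𝔟 : Ideal B) (x : B) : 𝔟 ≤ LinearMap.range (adj 𝔟 x) := by
  intro a ha
  exact ⟨(⟨a, ha⟩, 0), by simp [adj_apply]⟩

theorem mem_range_adj (𝔟 : Ideal B) (x : B) : x ∈ LinearMap.range (adj 𝔟 x) :=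
  ⟨(0, 1), by simp [adj_apply]⟩

/-- extension of a linear map on `𝔟` to `𝔟 + xB`, given a compatible value at `x` -/
theorem exists_extension_adj (𝔟 : Ideal B) (x : B) (g : 𝔟 →ₗ[B] N) (n₁ : N)
    (h : ∀ (b : B) (hb : b * x ∈ 𝔟), g ⟨b * x, hb⟩ = b • n₁) :
    ∃ g' : (LinearMap.range (adj 𝔟 x) : Ideal B) →ₗ[B] N,
      ∀ (a : B) (ha : a ∈ 𝔟), g' ⟨a, le_range_adj 𝔟 x ha⟩ = g ⟨a, ha⟩ := by
  let G : (𝔟 × B) →ₗ[B] N := g.coprod (LinearMap.toSpanSingleton B N n₁)
  have hG : ∀ (a : 𝔟) (b : B), G (a, b) = g a + b • n₁ := by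
    intro a b
    simp [G]
  have hker : LinearMap.ker (adj 𝔟 x) ≤ LinearMap.ker G := by
    rintro ⟨a, b⟩ hab
    rw [LinearMap.mem_ker, adj_apply] at hab
    rw [LinearMap.mem_ker, hG]
    have hb : (-b) * x ∈ 𝔟 := by
      have : (-b) * x = (a : B) := by linear_combination (-1 : B) * hab
      rw [this]; exact a.2
    have h1 := h (-b) hb
    have h2 : (⟨(-b) * x, hb⟩ : 𝔟) = a := by
      apply Subtype.ext
      show (-b) * x = (a : B)
      linear_combination (-1 : B) * hab
    rw [h2] at h1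
    rw [h1, neg_smul, neg_add_cancel]
  let e := LinearMap.quotKerEquivRange (adj 𝔟 x)
  refine ⟨(Submodule.liftQ _ G hker) ∘ₗ e.symm.toLinearMap, fun a ha => ?_⟩
  have h3 : e.symm ⟨a, le_range_adj 𝔟 x ha⟩ =
      Submodule.Quotient.mk ((⟨a, ha⟩, 0) : 𝔟 × B) := by
    rw [LinearEquiv.symm_apply_eq]
    apply Subtype.ext
    rw [LinearMap.quotKerEquivRange_apply_mk]
    simp [adj_apply]
  rw [LinearMap.comp_apply, LinearEquiv.coe_coe, h3, Submodule.liftQ_apply, hG, zero_smul,
    add_zero]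

theorem baerAt_top : BaerAt N (⊤ : Ideal B) := by
  intro g
  refine ⟨g ⟨1, Submodule.mem_top⟩, fun x => ?_⟩
  rw [← map_smul]
  congr 1
  apply Subtype.ext
  simp

/-- Baer's condition for all primes containing `𝔟₀` implies it for all ideals containing `𝔟₀` -/
theorem baerAt_of_primes [IsNoetherianRing B] (𝔟₀ : Ideal B)
    (h : ∀ q : Ideal B, q.IsPrime → 𝔟₀ ≤ q → BaerAt N q) :
    ∀ 𝔟 : Ideal B, 𝔟₀ ≤ 𝔟 → BaerAt N 𝔟 := by
  by_contra hcon
  push_neg at hcon
  obtain ⟨𝔠, h𝔠⟩ := hcon
  obtain ⟨𝔟, ⟨h𝔟0, h𝔟⟩, hmax⟩ := set_has_maximal_iff_noetherian.mpr ‹IsNoetherianRing B›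
    {𝔟 : Ideal B | 𝔟₀ ≤ 𝔟 ∧ ¬ BaerAt N 𝔟} ⟨𝔠, h𝔠⟩
  have hne : 𝔟 ≠ ⊤ := fun ht => h𝔟 (ht ▸ baerAt_top)
  haveI : Nontrivial (B ⧸ 𝔟) := Ideal.Quotient.nontrivial_iff.mpr hne
  obtain ⟨q, hq⟩ := associatedPrimes.nonempty B (B ⧸ 𝔟)
  obtain ⟨hqp, ybar, hqy⟩ := (isAssociatedPrime_iff).mp hq
  obtain ⟨y, rfl⟩ := Ideal.Quotient.mk_surjective ybar
  have hmemq : ∀ b : B, b ∈ q ↔ b * y ∈ 𝔟 := by
    intro b
    rw [hqy, Submodule.mem_colon_singleton, Submodule.mem_bot, ← Ideal.Quotient.eq_zero_iff_mem,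
      map_mul]
    rfl
  have hy : y ∉ 𝔟 := by
    intro hy
    apply hqp.ne_top
    rw [Ideal.eq_top_iff_one, hmemq, one_mul]
    exact hy
  have h𝔟q : 𝔟 ≤ q := fun b hb => (hmemq b).mpr (Ideal.mul_mem_right _ _ hb)
  apply h𝔟
  intro g
  let gq : q →ₗ[B] N := g ∘ₗ LinearMap.codRestrict 𝔟
    ((LinearMap.toSpanSingleton B B y) ∘ₗ (Submodule.subtype q))
    (fun b => by
      show (LinearMap.toSpanSingleton B B y) (b : B) ∈ 𝔟
      rw [LinearMap.toSpanSingleton_apply, smul_eq_mul]
      exact (hmemq b).mp b.2)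
  obtain ⟨n₁, hn₁⟩ := h q hqp (h𝔟0.trans h𝔟q) gq
  obtain ⟨g', hg'⟩ := exists_extension_adj 𝔟 y g n₁ (fun b hb => by
    have := hn₁ ⟨b, (hmemq b).mpr hb⟩
    rw [← this]
    show g _ = g _
    congr 1)
  have hlt : 𝔟 < LinearMap.range (adj 𝔟 y) :=
    lt_of_le_of_ne (le_range_adj 𝔟 y) (fun heq => hy (heq ▸ mem_range_adj 𝔟 y))
  have hB' : BaerAt N (LinearMap.range (adj 𝔟 y) : Ideal B) := by
    by_contra hnb
    exact hmax _ ⟨h𝔟0.trans (le_range_adj 𝔟 y), hnb⟩ hlt
  obtain ⟨n, hn⟩ := hB' g'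
  refine ⟨n, fun a => ?_⟩
  have := hn ⟨a, le_range_adj 𝔟 y a.2⟩
  rw [hg' a a.2] at this
  exact this

end Baer

section Syz

variable {A : Type u} [CommRing A] (I : Type u) [AddCommGroup I] [Module A I]
  {r m : ℕ} (a : Fin r → A) (σ : Fin m → (Fin r → A))

/-- `e ↦ (a_i e)_i` -/
noncomputable def fMap : I →ₗ[A] (Fin r → I) :=
  LinearMap.pi (fun i => a i • LinearMap.id)

/-- `(e_i) ↦ (∑ σ_{k,i} e_i)_k` -/
noncomputable def gMap : (Fin r → I) →ₗ[A] (Fin m → I) :=
  LinearMap.pi (fun k => ∑ i, σ k i • LinearMap.proj i)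

theorem fMap_apply (e : I) (i : Fin r) : fMap I a e i = a i • e := by
  simp [fMap]

theorem gMap_apply (e : Fin r → I) (k : Fin m) : gMap I σ e k = ∑ i, σ k i • e i := by
  simp [gMap]

omit I in
theorem syz_sum
    (hσ : Submodule.span A (Set.range σ) = LinearMap.ker (Fintype.linearCombination A a))
    (k : Fin m) : ∑ i, σ k i * a i = 0 := by
  have : σ k ∈ LinearMap.ker (Fintype.linearCombination A a) := by
    rw [← hσ]; exact Submodule.subset_span ⟨k, rfl⟩
  rw [LinearMap.mem_ker, Fintype.linearCombination_apply] at this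
  simpa [smul_eq_mul] using this

variable [Module.Injective A I]

theorem exact_fMap_gMap
    (hσ : Submodule.span A (Set.range σ) = LinearMap.ker (Fintype.linearCombination A a)) :
    Function.Exact (fMap I a) (gMap I σ) := by
  have hσk : ∀ k, ∑ i, σ k i * a i = 0 := syz_sum a σ hσ
  intro e
  constructor
  · intro he
    -- the map `c ↦ ∑ c_i e_i` kills the syzygies
    let ψ₀ : (Fin r → A) →ₗ[A] I := Fintype.linearCombination A e
    have hker : LinearMap.ker (Fintype.linearCombination A a) ≤ LinearMap.ker ψ₀ := by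
      rw [← hσ, Submodule.span_le]
      rintro _ ⟨k, rfl⟩
      rw [SetLike.mem_coe, LinearMap.mem_ker, Fintype.linearCombination_apply]
      have := congrFun he k
      rw [gMap_apply] at this
      exact this
    let eq := LinearMap.quotKerEquivRange (Fintype.linearCombination A a)
    let ψ : (LinearMap.range (Fintype.linearCombination A a) : Ideal A) →ₗ[A] I :=
      (Submodule.liftQ _ ψ₀ hker) ∘ₗ eq.symm.toLinearMap
    obtain ⟨ψ', hψ'⟩ := Module.Baer.of_injective (inferInstance : Module.Injective A I) _ ψ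
    refine ⟨ψ' 1, ?_⟩
    ext i
    rw [fMap_apply, ← map_smul, smul_eq_mul, mul_one]
    have hmem : a i ∈ LinearMap.range (Fintype.linearCombination A a) :=
      ⟨Pi.single i 1, by rw [Fintype.linearCombination_apply_single, one_smul]⟩
    rw [hψ' (a i) hmem]
    have h3 : eq.symm ⟨a i, hmem⟩ = Submodule.Quotient.mk (Pi.single i (1 : A)) := by
      rw [LinearEquiv.symm_apply_eq]
      apply Subtype.ext
      rw [LinearMap.quotKerEquivRange_apply_mk, Fintype.linearCombination_apply_single, one_smul]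
    show (Submodule.liftQ _ ψ₀ hker) (eq.symm ⟨a i, hmem⟩) = e i
    rw [h3, Submodule.liftQ_apply]
    show Fintype.linearCombination A e (Pi.single i 1) = e i
    rw [Fintype.linearCombination_apply_single, one_smul]
  · rintro ⟨e₀, rfl⟩
    ext k
    rw [gMap_apply, Pi.zero_apply]
    simp_rw [fMap_apply, smul_smul]
    rw [← Finset.sum_smul, hσk k, zero_smul]

end Syz

section Ext

variable {A B : Type u} [CommRing A] [CommRing B] [Algebra A B]
  (I : Type u) [AddCommGroup I] [Module A I]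

theorem piRight_lTensor_fMap {r : ℕ} (a : Fin r → A) (n : B ⊗[A] I) (i : Fin r) :
    TensorProduct.piRight A B B (fun _ : Fin r => I) ((fMap I a).lTensor B n) i = a i • n := by
  induction n using TensorProduct.induction_on with
  | zero => simp
  | tmul b e =>
    rw [LinearMap.lTensor_tmul, TensorProduct.piRight_apply, TensorProduct.piRightHom_tmul]
    show b ⊗ₜ[A] (fMap I a e i) = _
    rw [fMap_apply, TensorProduct.tmul_smul]
  | add x y hx hy =>
    rw [map_add, map_add, Pi.add_apply, hx, hy, smul_add]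

theorem piRight_lTensor_gMap {r m : ℕ} (σ : Fin m → (Fin r → A)) (Y : B ⊗[A] (Fin r → I))
    (k : Fin m) :
    TensorProduct.piRight A B B (fun _ : Fin m => I) ((gMap I σ).lTensor B Y) k =
      ∑ i, σ k i • (TensorProduct.piRight A B B (fun _ : Fin r => I) Y i) := by
  induction Y using TensorProduct.induction_on with
  | zero => simp
  | tmul b e =>
    rw [LinearMap.lTensor_tmul, TensorProduct.piRight_apply, TensorProduct.piRightHom_tmul]
    show b ⊗ₜ[A] (gMap I σ e k) = _
    rw [gMap_apply, TensorProduct.tmul_sum]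
    refine Finset.sum_congr rfl fun i _ => ?_
    rw [TensorProduct.piRight_apply, TensorProduct.piRightHom_tmul, TensorProduct.tmul_smul]
  | add x y hx hy =>
    rw [map_add, map_add, Pi.add_apply, hx, hy, ← Finset.sum_add_distrib]
    refine Finset.sum_congr rfl fun i _ => ?_
    rw [map_add, Pi.add_apply, smul_add]

variable [IsNoetherianRing A] [Module.Flat A B] [Module.Injective A I]

/-- Baer's condition for `B ⊗ I` at extended ideals -/
theorem baerAt_map (𝔞 : Ideal A) : BaerAt (B ⊗[A] I) (𝔞.map (algebraMap A B)) := by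
  obtain ⟨r, a, ha⟩ := Submodule.fg_iff_exists_fin_generating_family.mp
    (IsNoetherian.noetherian 𝔞)
  have hsyz : (LinearMap.ker (Fintype.linearCombination A a)).FG := IsNoetherian.noetherian _
  obtain ⟨m, σ, hσ⟩ := Submodule.fg_iff_exists_fin_generating_family.mp hsyz
  have hex := Module.Flat.lTensor_exact B (exact_fMap_gMap I a σ hσ)
  intro φ
  have hEq : 𝔞.map (algebraMap A B) =
      Ideal.span (Set.range (fun i => algebraMap A B (a i))) := by
    rw [← ha, Ideal.map_span, ← Set.range_comp]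
    rfl
  have hgen : ∀ i, algebraMap A B (a i) ∈ 𝔞.map (algebraMap A B) := fun i => by
    rw [hEq]; exact Ideal.subset_span ⟨i, rfl⟩
  let y : Fin r → B ⊗[A] I := fun i => φ ⟨algebraMap A B (a i), hgen i⟩
  let Y := (TensorProduct.piRight A B B (fun _ : Fin r => I)).symm y
  have hY : (gMap I σ).lTensor B Y = 0 := by
    apply (TensorProduct.piRight A B B (fun _ : Fin m => I)).injective
    ext k
    rw [piRight_lTensor_gMap, LinearEquiv.apply_symm_apply, map_zero, Pi.zero_apply]
    have h1 : ∀ i, σ k i • y i =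
        φ (algebraMap A B (σ k i) • ⟨algebraMap A B (a i), hgen i⟩) := by
      intro i
      rw [map_smul, algebraMap_smul]
    simp_rw [h1]
    rw [← map_sum]
    have h2 : (∑ i, algebraMap A B (σ k i) •
        (⟨algebraMap A B (a i), hgen i⟩ : 𝔞.map (algebraMap A B))) = 0 := by
      apply Subtype.ext
      rw [Submodule.coe_sum, Submodule.coe_zero]
      simp_rw [Submodule.coe_smul, smul_eq_mul, ← map_mul]
      rw [← map_sum, syz_sum a σ hσ k, map_zero]
    rw [h2, map_zero]
  obtain ⟨n₀, hn₀⟩ := (hex Y).mp hY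
  have hy : ∀ i, y i = a i • n₀ := by
    intro i
    rw [← piRight_lTensor_fMap, hn₀, LinearEquiv.apply_symm_apply]
  refine ⟨n₀, ?_⟩
  have key : ∀ (x : B) (hx : x ∈ Ideal.span (Set.range (fun i => algebraMap A B (a i))))
      (hx' : x ∈ 𝔞.map (algebraMap A B)), φ ⟨x, hx'⟩ = x • n₀ := by
    intro x hx
    induction hx using Submodule.span_induction with
    | mem x hx =>
      obtain ⟨i, rfl⟩ := hx
      intro hx'
      show y i = _
      rw [hy, algebraMap_smul]
    | zero =>
      intro hx'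
      rw [zero_smul]
      exact map_zero φ
    | add x z hx hz ihx ihz =>
      intro hx'
      have hx2 : x ∈ 𝔞.map (algebraMap A B) := hEq ▸ hx
      have hz2 : z ∈ 𝔞.map (algebraMap A B) := hEq ▸ hz
      have : (⟨x + z, hx'⟩ : 𝔞.map (algebraMap A B)) = ⟨x, hx2⟩ + ⟨z, hz2⟩ := rfl
      rw [this, map_add, ihx hx2, ihz hz2, add_smul]
    | smul c x hx ihx =>
      intro hx'
      have hx2 : x ∈ 𝔞.map (algebraMap A B) := hEq ▸ hx
      have : (⟨c • x, hx'⟩ : 𝔞.map (algebraMap A B)) = c • ⟨x, hx2⟩ := rfl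
      rw [this, map_smul, ihx hx2, smul_smul, smul_eq_mul]
  intro x
  exact key x (hEq ▸ x.2) x.2

end Ext

section Main

variable {A B : Type u} [CommRing A] [CommRing B] [Algebra A B]

/-- the condition `p B_q = q B_q` at a prime `q` of `B` -/
def FibreField (q : Ideal B) [q.IsPrime] : Prop :=
  Ideal.map (algebraMap B (Localization.AtPrime q))
    ((q.comap (algebraMap A B)).map (algebraMap A B)) =
      IsLocalRing.maximalIdeal (Localization.AtPrime q)

theorem exists_mul_mem_of_mem (q : Ideal B) [q.IsPrime] (hq : FibreField (A := A) q) (x : B)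
    (hx : x ∈ q) :
    ∃ s : B, s ∉ q ∧ s * x ∈ (q.comap (algebraMap A B)).map (algebraMap A B) := by
  have h1 : algebraMap B (Localization.AtPrime q) x ∈
      IsLocalRing.maximalIdeal (Localization.AtPrime q) :=
    (IsLocalization.AtPrime.to_map_mem_maximal_iff _ q x).mpr hx
  rw [← hq, IsLocalization.algebraMap_mem_map_algebraMap_iff q.primeCompl] at h1
  obtain ⟨m, hm, hmx⟩ := h1
  exact ⟨m, hm, hmx⟩

theorem exists_mul_mem [IsNoetherianRing B] (q : Ideal B) [hqp : q.IsPrime]
    (hq : FibreField (A := A) q) :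
    ∃ s : B, s ∉ q ∧ ∀ x ∈ q, s * x ∈ (q.comap (algebraMap A B)).map (algebraMap A B) := by
  obtain ⟨T, hT⟩ := (IsNoetherian.noetherian q : q.FG)
  have hTq : ∀ t ∈ T, t ∈ q := fun t ht => hT ▸ Submodule.subset_span ht
  have hx := exists_mul_mem_of_mem q hq
  choose! sfun hs1 hs2 using hx
  refine ⟨∏ t ∈ T, sfun t, ?_, ?_⟩
  · intro hmem
    obtain ⟨t, ht, htq⟩ := (Ideal.IsPrime.prod_mem_iff (hp := hqp)).mp hmem
    exact hs1 t (hTq t ht) htq
  · intro x hxq
    rw [← hT] at hxq
    induction hxq using Submodule.span_induction with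
    | mem t ht =>
      obtain ⟨c, hc⟩ := Finset.dvd_prod_of_mem sfun ht
      rw [hc, mul_comm (sfun t) c, mul_assoc]
      exact Ideal.mul_mem_left _ _ (hs2 t (hTq t ht))
    | zero => rw [mul_zero]; exact zero_mem _
    | add x z _ _ ihx ihz => rw [mul_add]; exact add_mem ihx ihz
    | smul c x _ ihx =>
      rw [smul_eq_mul, mul_left_comm]
      exact Ideal.mul_mem_left _ _ ihx

theorem le_of_comap_eq (q q' : Ideal B) [hqp : q.IsPrime] [q'.IsPrime] (hle : q ≤ q')
    (hc : q'.comap (algebraMap A B) = q.comap (algebraMap A B))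
    (hq' : FibreField (A := A) q') : q' ≤ q := by
  intro y hy
  obtain ⟨t, ht, hty⟩ := exists_mul_mem_of_mem q' hq' y hy
  rw [hc] at hty
  have h1 : t * y ∈ q := Ideal.map_comap_le hty
  rcases hqp.mem_or_mem h1 with h2 | h2
  · exact absurd (hle h2) ht
  · exact h2

variable [IsNoetherianRing A] [IsNoetherianRing B] [Module.Flat A B]
  (h : ∀ (q : Ideal B) [q.IsPrime], FibreField (A := A) q)
  (I : Type u) [AddCommGroup I] [Module A I] [Module.Injective A I]

include h in
theorem baerAt_prime : ∀ (p : Ideal A) (q : Ideal B) [q.IsPrime],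
    q.comap (algebraMap A B) = p → BaerAt (B ⊗[A] I) q := by
  intro p
  induction p using WellFoundedGT.induction with
  | ind p ih =>
    intro q hqp hqc
    intro φ
    have hpq : p.map (algebraMap A B) ≤ q := Ideal.map_le_iff_le_comap.mpr hqc.ge
    -- Step 1: normalise on `pB`
    obtain ⟨n₀, hn₀⟩ := baerAt_map (B := B) I p (φ ∘ₗ Submodule.inclusion hpq)
    let φ₁ : q →ₗ[B] (B ⊗[A] I) :=
      φ - (LinearMap.toSpanSingleton B (B ⊗[A] I) n₀) ∘ₗ (Submodule.subtype q)
    have hφ₁ : ∀ x : q, φ₁ x = φ x - (x : B) • n₀ := fun x => by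
      simp [φ₁, LinearMap.toSpanSingleton_apply]
    have hφ₁0 : ∀ (x : B) (hx : x ∈ q), x ∈ p.map (algebraMap A B) → φ₁ ⟨x, hx⟩ = 0 := by
      intro x hx hxp
      rw [hφ₁]
      have := hn₀ ⟨x, hxp⟩
      rw [LinearMap.comp_apply] at this
      have h2 : Submodule.inclusion hpq ⟨x, hxp⟩ = ⟨x, hx⟩ := rfl
      rw [h2] at this
      rw [this, sub_self]
    -- Step 2
    obtain ⟨s, hsq, hs⟩ := exists_mul_mem q (h q)
    rw [hqc] at hs
    -- Step 3
    obtain ⟨g', hg'⟩ := exists_extension_adj q s φ₁ 0 (fun b hb => by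
      rw [smul_zero]
      apply hφ₁0
      have hbq : b ∈ q := (hqp.mem_or_mem hb).resolve_right hsq
      rw [mul_comm]
      exact hs b hbq)
    -- Step 4
    have hB : BaerAt (B ⊗[A] I) (LinearMap.range (adj q s) : Ideal B) := by
      refine baerAt_of_primes _ (fun q' hq'p hq'le => ?_) _ le_rfl
      have hqq' : q ≤ q' := (le_range_adj q s).trans hq'le
      have hsq' : s ∈ q' := hq'le (mem_range_adj q s)
      have hle : p ≤ q'.comap (algebraMap A B) := hqc ▸ Ideal.comap_mono hqq'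
      have hne : p ≠ q'.comap (algebraMap A B) := by
        intro heq
        have := le_of_comap_eq q q' hqq' (by rw [hqc, ← heq]) (h q')
        exact hsq (this hsq')
      exact ih _ (lt_of_le_of_ne hle hne) q' rfl
    -- Step 5
    obtain ⟨n₁, hn₁⟩ := hB g'
    refine ⟨n₀ + n₁, fun x => ?_⟩
    have h3 := hn₁ ⟨x, le_range_adj q s x.2⟩
    rw [hg' x x.2, hφ₁] at h3
    rw [smul_add, ← h3]
    abel

include h in
/-- `B ⊗[A] I` is an injective `B`-module -/
theorem injective_baseChange : Module.Injective B (B ⊗[A] I) :=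
  Module.Baer.injective (baer_of_forall (fun 𝔟 =>
    baerAt_of_primes ⊥ (fun q hq _ => by
      haveI := hq
      exact baerAt_prime h I _ q rfl) 𝔟 bot_le))

end Main

end Groth.Agent.Lib.Helper85.BaerBC
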