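import Groth.Agent.Lib.Helper85.CanonS2
import Groth.Agent.Lib.Helper92.LocCohNonVan

/-!
# Associated primes of a canonical module and regularity of systems of parameters

General Noetherian local ring `R` of dimension `n`, `K` with `Hom(K, E) ≃ H^n_m(R)`.
* `ass_canon_subset`: `p ∈ Ass K → dim R/p = n`.
* `ass_canon_supset`: the converse, given non-vanishing of `H^n_m(R/p)`.
* `supportDim_le_of_sop`: a finite module killed by the first `k` elements of a system of
  parameters has dimension `≤ n - k`.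
* `isSMulRegular_of_kills`, `isSMulRegular_quot_of_kills`: regularity on `K`.
-/

open CategoryTheory
open scoped Pointwise

namespace Groth.Agent.Lib.Helper85.Canon

open Groth.Agent.Lib.Helper92.LC IsLocalRing InjHull Abelian

universe u

section Dim

variable {R : Type u} [CommRing R] [IsNoetherianRing R] [IsLocalRing R]

theorem withBot_lt_of_add_one_le (a : WithBot ℕ∞) (n : ℕ) (h : a + 1 ≤ (n : WithBot ℕ∞)) :
    a < (n : WithBot ℕ∞) := by
  induction a using WithBot.recBotCoe with
  | bot => exact WithBot.bot_lt_coe _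
  | coe t =>
    induction t using ENat.recTopCoe with
    | top =>
      exfalso
      have h1 : (((⊤ : ℕ∞) + 1 : ℕ∞) : WithBot ℕ∞) ≤ ((n : ℕ∞) : WithBot ℕ∞) := by
        exact_mod_cast h
      rw [top_add] at h1
      have := WithBot.coe_le_coe.1 h1
      simp at this
    | coe m =>
      have h' : (((m + 1 : ℕ) : ℕ∞) : WithBot ℕ∞) ≤ (((n : ℕ) : ℕ∞) : WithBot ℕ∞) := by
        exact_mod_cast h
      have h2 : m + 1 ≤ n := by exact_mod_cast WithBot.coe_le_coe.1 h'
      exact_mod_cast (by omega : m < n)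

/-- `dim R/(p + y) < dim R/p` for `y ∉ p` -/
theorem supportDim_quotient_sup_lt (p : Ideal R) [p.IsPrime] (y : R) (hy : y ∉ p) (n : ℕ)
    (hn : ringKrullDim (R ⧸ p) = n) :
    Module.supportDim R (R ⧸ (p ⊔ Ideal.span {y})) < (n : WithBot ℕ∞) := by
  rw [Module.supportDim_quotient_eq_ringKrullDim]
  apply withBot_lt_of_add_one_le
  rw [← hn, ← ringKrullDim_eq_of_ringEquiv (DoubleQuot.quotQuotEquivQuotSup p (Ideal.span {y})),
    Ideal.map_span, Set.image_singleton]
  apply ringKrullDim_quotient_succ_le_of_nonZeroDivisor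
  apply mem_nonZeroDivisors_of_ne_zero
  rwa [Ne, Ideal.Quotient.eq_zero_iff_mem]

/-- a finite module killed by an ideal whose radical contains `m` has dimension `≤ 0` -/
theorem supportDim_le_zero_of_le_annihilator (N : Type u) [AddCommGroup N] [Module R N]
    [Module.Finite R N] (J : Ideal R) (hJ : maximalIdeal R ≤ J.radical)
    (hkill : J ≤ Module.annihilator R N) : Module.supportDim R N ≤ 0 := by
  rw [Module.supportDim_eq_ringKrullDim_quotient_annihilator]
  refine (ringKrullDim_le_of_surjective (Ideal.Quotient.factor hkill)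
    (Ideal.Quotient.factor_surjective hkill)).trans ?_
  rw [ringKrullDim_quotient]
  have : Subsingleton (PrimeSpectrum.zeroLocus (R := R) (J : Set R)) := by
    refine ⟨fun a b => ?_⟩
    have key : ∀ c : PrimeSpectrum.zeroLocus (R := R) (J : Set R),
        c.1.asIdeal = maximalIdeal R := by
      intro c
      have h1 : J ≤ c.1.asIdeal := c.2
      have h2 : maximalIdeal R ≤ c.1.asIdeal :=
        hJ.trans (c.1.isPrime.radical_le_iff.2 h1)
      exact le_antisymm (IsLocalRing.le_maximalIdeal c.1.isPrime.ne_top) h2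
    apply Subtype.ext
    apply PrimeSpectrum.ext
    rw [key a, key b]
  exact Order.krullDim_nonpos_of_subsingleton

/-- a finite module killed by the first `k` elements of a system of parameters has dimension
`≤ n - k` -/
theorem supportDim_le_of_sop (n : ℕ) (a : Fin n → R) (ha : ∀ i, a i ∈ maximalIdeal R)
    (hsop : maximalIdeal R ≤ (Ideal.span (Set.range a)).radical) (k : ℕ) (hk : k ≤ n)
    (N : Type u) [AddCommGroup N] [Module R N] [Module.Finite R N]
    (hkill : ∀ (i : Fin n), (i : ℕ) < k → ∀ y : N, a i • y = 0) :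
    Module.supportDim R N ≤ ((n - k : ℕ) : WithBot ℕ∞) := by
  let rs : List R := List.ofFn (fun j : Fin (n - k) => a ⟨k + j, by omega⟩)
  have hmem : ∀ r ∈ rs, r ∈ maximalIdeal R := by
    intro r hr
    obtain ⟨j, rfl⟩ := (List.mem_ofFn' _ _).1 hr
    exact ha _
  have h1 := Groth.Agent.Lib.Helper67.supportDim_le_supportDim_quot_ofList_add_length rs N hmem
  have hlen : rs.length = n - k := List.length_ofFn
  have h0 : Module.supportDim R (N ⧸ Ideal.ofList rs • (⊤ : Submodule R N)) ≤ 0 := by
    apply supportDim_le_zero_of_le_annihilator _ (Ideal.span (Set.range a)) hsop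
    rw [Ideal.span_le]
    rintro _ ⟨i, rfl⟩
    rw [SetLike.mem_coe, Module.mem_annihilator]
    intro y
    obtain ⟨y', rfl⟩ := Submodule.Quotient.mk_surjective _ y
    rw [← Submodule.Quotient.mk_smul]
    by_cases hik : (i : ℕ) < k
    · rw [hkill i hik, Submodule.Quotient.mk_zero]
    · rw [Submodule.Quotient.mk_eq_zero]
      apply Submodule.smul_mem_smul _ Submodule.mem_top
      apply Ideal.subset_span
      change a i ∈ rs
      rw [List.mem_ofFn']
      refine ⟨⟨i - k, by omega⟩, ?_⟩
      change a ⟨k + (i - k), _⟩ = a i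
      congr 1
      apply Fin.ext
      change k + (i - k) = i
      omega
  calc Module.supportDim R N
      ≤ Module.supportDim R (N ⧸ Ideal.ofList rs • (⊤ : Submodule R N)) + rs.length := h1
    _ ≤ 0 + ((n - k : ℕ) : WithBot ℕ∞) := add_le_add h0 (le_of_eq (by rw [hlen]))
    _ = ((n - k : ℕ) : WithBot ℕ∞) := zero_add _

end Dim

section Ass

variable {R : Type u} [CommRing R] [IsNoetherianRing R] [IsLocalRing R]
  {E : Type u} [AddCommGroup E] [Module R E] {f : ResidueField R →ₗ[R] E}
  (K : Type u) [AddCommGroup K] [Module R K]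
  (hf : IsInjectiveHull f) (n : ℕ) (hcd : LocCoh.CdLE R (maximalIdeal R) n)
  (eK : (K →ₗ[R] E) ≃ₗ[R] LocCoh.H (maximalIdeal R) n R)

include hf hcd eK

theorem ass_canon_subset (hn : ringKrullDim R = n) (p : Ideal R)
    (hp : p ∈ associatedPrimes R K) : p.IsPrime ∧ ringKrullDim (R ⧸ p) = n := by
  obtain ⟨hpr, ι, hι⟩ := (isAssociatedPrime_iff_exists_injective_linearMap p K).1 hp
  refine ⟨hpr, ?_⟩
  by_contra hne
  have hle : ringKrullDim (R ⧸ p) ≤ n := hn ▸ ringKrullDim_quotient_le p
  have hlt : Module.supportDim R (R ⧸ p) < (n : WithBot ℕ∞) := by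
    rw [Module.supportDim_quotient_eq_ringKrullDim]
    exact lt_of_le_of_ne hle hne
  have := hom_subsingleton_of_supportDim_lt K hf n hcd eK (R ⧸ p) hlt
  have h0 : ι = 0 := Subsingleton.elim _ _
  have h1 : (1 : R ⧸ p) = 0 := hι (by rw [h0]; rfl)
  haveI : Nontrivial (R ⧸ p) := Ideal.Quotient.nontrivial_iff.2 hpr.ne_top
  exact one_ne_zero h1

theorem ass_canon_supset (p : Ideal R) [p.IsPrime] (hp : ringKrullDim (R ⧸ p) = n)
    (hNV : Nontrivial (LocCoh.H (maximalIdeal R) n (R ⧸ p))) : p ∈ associatedPrimes R K := by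
  haveI : Module.Injective R E := hf.isInjective
  have h1 : Nontrivial ((R ⧸ p) →ₗ[R] K) := by
    by_contra h
    rw [not_nontrivial_iff_subsingleton] at h
    have h2 : Subsingleton (((R ⧸ p) →ₗ[R] K) →ₗ[R] E) :=
      ⟨fun a b => LinearMap.ext fun z => by rw [Subsingleton.elim z 0, map_zero, map_zero]⟩
    have h3 : Subsingleton ((localCohomology (maximalIdeal R) n).obj (ModuleCat.of R (R ⧸ p))) :=
      (theta (maximalIdeal R) n hcd K E eK (ModuleCat.of R (R ⧸ p))).toEquiv.subsingleton
    exact not_subsingleton _ h3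
  obtain ⟨φ, hφ⟩ := exists_ne (0 : (R ⧸ p) →ₗ[R] K)
  refine (isAssociatedPrime_iff_exists_injective_linearMap p K).2 ⟨inferInstance, φ, ?_⟩
  rw [injective_iff_map_eq_zero]
  intro z hz
  by_contra hz0
  obtain ⟨y, rfl⟩ := Ideal.Quotient.mk_surjective z
  have hy : y ∉ p := fun h => hz0 (Ideal.Quotient.eq_zero_iff_mem.2 h)
  have hlt := supportDim_quotient_sup_lt p y hy n hp
  have hsub := hom_subsingleton_of_supportDim_lt K hf n hcd eK (R ⧸ (p ⊔ Ideal.span {y})) hlt
  let ψ : R →ₗ[R] K := φ ∘ₗ (Submodule.mkQ p)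
  have hker : p ⊔ Ideal.span {y} ≤ LinearMap.ker ψ := by
    rw [sup_le_iff]
    constructor
    · intro r hr
      rw [LinearMap.mem_ker]
      change φ (Submodule.Quotient.mk r) = 0
      rw [(Submodule.Quotient.mk_eq_zero _).2 hr, map_zero]
    · rw [Ideal.span_le]
      intro r hr
      rw [Set.mem_singleton_iff] at hr
      subst hr
      exact hz
  let φ' : (R ⧸ (p ⊔ Ideal.span {y})) →ₗ[R] K := Submodule.liftQ _ ψ hker
  have hφ' : φ' = 0 := Subsingleton.elim _ _
  apply hφ
  apply LinearMap.ext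
  intro w
  obtain ⟨r, rfl⟩ := Ideal.Quotient.mk_surjective w
  have := LinearMap.congr_fun hφ' (Submodule.Quotient.mk r)
  exact this

/-- an element is `K`-regular as soon as finite modules killed by it have dimension `< n` -/
theorem isSMulRegular_of_kills [Module.Finite R K] (x : R)
    (hx : ∀ (N : Type u) [AddCommGroup N] [Module R N] [Module.Finite R N],
      (∀ y : N, x • y = 0) → Module.supportDim R N < (n : WithBot ℕ∞)) : IsSMulRegular K x := by
  let Z : Submodule R K := LinearMap.ker (LinearMap.lsmul R K x)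
  have hZ : ∀ y : Z, x • y = 0 := fun y => Subtype.ext y.2
  have := hom_subsingleton_of_supportDim_lt K hf n hcd eK Z (hx Z hZ)
  have h0 : Z.subtype = 0 := Subsingleton.elim _ _
  rw [isSMulRegular_iff_right_eq_zero_of_smul]
  intro z hz
  have hzZ : z ∈ Z := hz
  have := LinearMap.congr_fun h0 ⟨z, hzZ⟩
  exact this

/-- `Hom(Z, K/xK) = 0` for `Z` of dimension `< n - 1` -/
theorem hom_quot_subsingleton (x : R) (hx : IsSMulRegular K x) (j : ℕ) (hj : n = j + 1)
    (Z : Type u) [AddCommGroup Z] [Module R Z] [Module.Finite R Z]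
    (h : Module.supportDim R Z < (j : WithBot ℕ∞)) :
    Subsingleton (Z →ₗ[R] QuotSMulTop x K) := by
  have hS := sesSMul_shortExact K x hx
  have h1 := ext_one_subsingleton_of_supportDim_lt K hf n hcd eK j hj Z h
  have h0 := hom_subsingleton_of_supportDim_lt K hf n hcd eK Z
    (h.trans (by rw [hj]; exact_mod_cast Nat.lt_succ_self j))
  refine ⟨fun a b => ?_⟩
  suffices H : ∀ c : Z →ₗ[R] QuotSMulTop x K, c = 0 from (H a).trans (H b).symm
  intro c
  obtain ⟨ζ, hζ⟩ := Ext.covariant_sequence_exact₃ (ModuleCat.of R Z) hS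
    (Ext.mk₀ (ModuleCat.ofHom c)) rfl (Subsingleton.elim _ _)
  obtain ⟨ζ', rfl⟩ := (Ext.mk₀_bijective _ _).2 ζ
  have hζ' : ζ' = 0 := by
    apply ModuleCat.hom_ext
    exact Subsingleton.elim _ _
  rw [hζ', Ext.mk₀_zero, Ext.zero_comp] at hζ
  have h2 : ModuleCat.ofHom c = 0 :=
    (Ext.mk₀_bijective _ _).1 (hζ.symm.trans (Ext.mk₀_zero _ _).symm)
  exact congrArg ModuleCat.Hom.hom h2

theorem isSMulRegular_quot_of_kills [Module.Finite R K] (x y : R) (hx : IsSMulRegular K x)
    (j : ℕ) (hj : n = j + 1)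
    (hxy : ∀ (N : Type u) [AddCommGroup N] [Module R N] [Module.Finite R N],
      (∀ z : N, x • z = 0) → (∀ z : N, y • z = 0) → Module.supportDim R N < (j : WithBot ℕ∞)) :
    IsSMulRegular (QuotSMulTop x K) y := by
  let Z : Submodule R (QuotSMulTop x K) := LinearMap.ker (LinearMap.lsmul R (QuotSMulTop x K) y)
  have hZy : ∀ z : Z, y • z = 0 := fun z => Subtype.ext z.2
  have hZx : ∀ z : Z, x • z = 0 := by
    intro z
    apply Subtype.ext
    obtain ⟨w, hw⟩ := Submodule.Quotient.mk_surjective _ z.1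
    change x • z.1 = 0
    rw [← hw, ← Submodule.Quotient.mk_smul, Submodule.Quotient.mk_eq_zero]
    exact Submodule.smul_mem_pointwise_smul w x ⊤ Submodule.mem_top
  have := hom_quot_subsingleton K hf n hcd eK x hx j hj Z (hxy Z hZx hZy)
  have h0 : Z.subtype = 0 := Subsingleton.elim _ _
  rw [isSMulRegular_iff_right_eq_zero_of_smul]
  intro z hz
  have hzZ : z ∈ Z := hz
  have := LinearMap.congr_fun h0 ⟨z, hzZ⟩
  exact this

/-- the associated primes of a canonical module -/
theorem ass_canon_eq (hn : ringKrullDim R = n) :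
    associatedPrimes R K = {p : Ideal R | p.IsPrime ∧ ringKrullDim (R ⧸ p) = n} := by
  ext p
  constructor
  · exact ass_canon_subset K hf n hcd eK hn p
  · rintro ⟨hp, hdim⟩
    haveI := hp
    refine ass_canon_supset K hf n hcd eK p hdim ?_
    apply nontrivial_top
    rw [Module.supportDim_quotient_eq_ringKrullDim, hdim]

theorem nontrivial_canon' (hn : ringKrullDim R = n) : Nontrivial K := by
  have h1 : Nontrivial (LocCoh.H (maximalIdeal R) n R) := by
    apply nontrivial_top
    rw [Module.supportDim_self_eq_ringKrullDim, hn]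
  have h2 : Nontrivial (K →ₗ[R] E) := eK.toEquiv.nontrivial
  by_contra h
  rw [not_nontrivial_iff_subsingleton] at h
  have : Subsingleton (K →ₗ[R] E) :=
    ⟨fun a b => LinearMap.ext fun z => by rw [Subsingleton.elim z 0, map_zero, map_zero]⟩
  exact not_subsingleton _ this

/-- a system of parameters: the first element is `K`-regular, the first two form a `K`-regular
sequence -/
theorem sop_regular [Module.Finite R K] (hn : ringKrullDim R = n) (hn0 : 0 < n) (a : Fin n → R)
    (ha : ∀ i, a i ∈ maximalIdeal R)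
    (hsop : maximalIdeal R ≤ (Ideal.span (Set.range a)).radical) :
    IsSMulRegular K (a ⟨0, hn0⟩) ∧
      (∀ h2 : 2 ≤ n, RingTheory.Sequence.IsRegular K [a ⟨0, hn0⟩, a ⟨1, h2⟩]) := by
  have hreg1 : IsSMulRegular K (a ⟨0, hn0⟩) := by
    apply isSMulRegular_of_kills K hf n hcd eK
    intro N _ _ _ hN
    have := supportDim_le_of_sop n a ha hsop 1 hn0 N (fun i hi y => by
      have : i = ⟨0, hn0⟩ := Fin.ext (by simpa using hi)
      rw [this]; exact hN y)
    refine lt_of_le_of_lt this ?_
    exact_mod_cast Nat.sub_lt hn0 Nat.one_pos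
  refine ⟨hreg1, fun h2 => ?_⟩
  obtain ⟨j, rfl⟩ : ∃ j, n = j + 1 := ⟨n - 1, by omega⟩
  have hreg2 : IsSMulRegular (QuotSMulTop (a ⟨0, hn0⟩) K) (a ⟨1, h2⟩) := by
    apply isSMulRegular_quot_of_kills K hf (j + 1) hcd eK _ _ hreg1 j rfl
    intro N _ _ _ hN0 hN1
    have := supportDim_le_of_sop (j + 1) a ha hsop 2 h2 N (fun i hi y => by
      have hi' : (i : ℕ) = 0 ∨ (i : ℕ) = 1 := by omega
      rcases hi' with h | h
      · have : i = ⟨0, hn0⟩ := Fin.ext h
        rw [this]; exact hN0 y
      · have : i = ⟨1, h2⟩ := Fin.ext h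
        rw [this]; exact hN1 y)
    refine lt_of_le_of_lt this ?_
    exact_mod_cast (by omega : j + 1 - 2 < j)
  haveI := nontrivial_canon' K hf (j + 1) hcd eK hn
  apply Groth.Agent.Lib.Helper67.isRegular_of_isWeaklyRegular_of_mem (maximalIdeal R)
    (Groth.Agent.Lib.Helper67.maximalIdeal_smul_top_ne_top K)
  · rw [RingTheory.Sequence.isWeaklyRegular_cons_iff]
    refine ⟨hreg1, ?_⟩
    rw [RingTheory.Sequence.isWeaklyRegular_cons_iff]
    exact ⟨hreg2, RingTheory.Sequence.IsWeaklyRegular.nil R _⟩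
  · intro r hr
    simp only [List.mem_cons, List.not_mem_nil, or_false] at hr
    rcases hr with rfl | rfl
    · exact ha _
    · exact ha _

end Ass

end Groth.Agent.Lib.Helper85.Canon
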