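import Groth.Agent.Lib.Helper85.CanonEnd

/-!
# Canonical modules over Cohen–Macaulay local rings
-/

open CategoryTheory
open scoped Pointwise

namespace Groth.Agent.Lib.Helper85.Canon

open Groth.Agent.Lib.Helper92.LC IsLocalRing InjHull RingTheory.Sequence

universe u

variable {R : Type u} [CommRing R] [IsNoetherianRing R] [IsLocalRing R]
  {E : Type u} [AddCommGroup E] [Module R E] {f : ResidueField R →ₗ[R] E}

theorem exists_eq_add_one_of_regular (N : Type u) [AddCommGroup N] [Module R N] [Module.Finite R N]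
    {d : ℕ} (hN : LCCM R N d) (a : R) (ham : a ∈ maximalIdeal R) (ha : IsSMulRegular N a)
    [Nontrivial (QuotSMulTop a N)] : ∃ d', d = d' + 1 := by
  rcases d with _ | d'
  · exfalso
    have h1 := Module.supportDim_quotSMulTop_succ_eq_supportDim ha ham
    have h2 := hN.1
    rw [← h1] at h2
    exact not_supportDim_add_one_le_zero _ (by exact_mod_cast h2)
  · exact ⟨d', rfl⟩

omit [IsNoetherianRing R] in
theorem maximalIdeal_smul_top_ne_top : maximalIdeal R • (⊤ : Submodule R R) ≠ ⊤ := by
  rw [smul_eq_mul, Ideal.mul_top]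
  exact (IsLocalRing.maximalIdeal.isMaximal R).ne_top

section CM

variable (R)

theorem depth_eq_of_CM [hCM : LocCoh.IsCohenMacaulayLocalRing R] (n : ℕ) (hn : ringKrullDim R = n) :
    LocCoh.idealDepth (maximalIdeal R) R = (n : ℕ∞) := by
  have h1 := hCM.supportDim_eq_depth
  rw [Module.supportDim_self_eq_ringKrullDim, hn] at h1
  have h2 : ((n : ℕ∞) : WithBot ℕ∞) = ((LocCoh.depth R R : ℕ∞) : WithBot ℕ∞) := by
    exact_mod_cast h1
  exact (WithBot.coe_injective h2).symm

theorem LCCM.self_of_CM [LocCoh.IsCohenMacaulayLocalRing R] (n : ℕ) (hn : ringKrullDim R = n) :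
    LCCM R R n := by
  refine ⟨?_, ?_⟩
  · rw [Module.supportDim_self_eq_ringKrullDim, hn]
  · exact subsingleton_of_lt_idealDepth (maximalIdeal R) n R maximalIdeal_smul_top_ne_top
      (le_of_eq (depth_eq_of_CM R n hn).symm)

theorem nontrivial_canon [LocCoh.IsCohenMacaulayLocalRing R] (n : ℕ) (hn : ringKrullDim R = n)
    (K : Type u) [AddCommGroup K] [Module R K]
    (eK : (K →ₗ[R] E) ≃ₗ[R] LocCoh.H (maximalIdeal R) n R) : Nontrivial K := by
  have h1 := nontrivial_of_idealDepth_eq (maximalIdeal R) n R maximalIdeal_smul_top_ne_top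
    (depth_eq_of_CM R n hn)
  by_contra hK
  rw [not_nontrivial_iff_subsingleton] at hK
  have : Subsingleton (K →ₗ[R] E) := ⟨fun a b => LinearMap.ext fun z => by
    rw [Subsingleton.elim z 0, map_zero, map_zero]⟩
  have h2 : Subsingleton (LocCoh.H (maximalIdeal R) n R) := eK.symm.toEquiv.subsingleton
  exact not_nontrivial _ h1

end CM

/-- a `D`-regular sequence in a canonical pair with cyclic `N` is `N`-regular -/
theorem weaklyRegular_of_dual (hf : IsInjectiveHull f) : ∀ (as : List R) (d : ℕ) (N D : Type u)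
    [AddCommGroup N] [Module R N] [Module.Finite R N] [Nontrivial N] [AddCommGroup D] [Module R D]
    (u : N) (_ : ∀ y : N, ∃ r : R, y = r • u),
    LCCM R N d → ((D →ₗ[R] E) ≃ₗ[R] LocCoh.H (maximalIdeal R) d N) →
    (∀ a ∈ as, a ∈ maximalIdeal R) → IsWeaklyRegular D as → IsWeaklyRegular N as := by
  intro as
  induction as with
  | nil =>
    intro d N D _ _ _ _ _ _ u hu hN e hmem hD
    exact IsWeaklyRegular.nil R N
  | cons a as' ih =>
    intro d N D _ _ _ _ _ _ u hu hN e hmem hD
    obtain ⟨hDa, hD'⟩ := (isWeaklyRegular_cons_iff D a as').1 hD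
    have ham : a ∈ maximalIdeal R := hmem a List.mem_cons_self
    have ha : IsSMulRegular N a := by
      rw [isSMulRegular_iff_right_eq_zero_of_smul]
      intro y hy
      obtain ⟨r, rfl⟩ := hu y
      have h1 : ∀ y' : N, (a * r) • y' = 0 := by
        intro y'
        obtain ⟨r', rfl⟩ := hu y'
        rw [smul_comm, mul_smul, hy, smul_zero]
      have h2 : ∀ z : D, (a * r) • z = 0 := smul_eq_zero_of_pair hf N D d e _ h1
      have h3 : ∀ z : D, r • z = 0 := by
        intro z
        have := h2 z
        rw [mul_smul] at this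
        exact hDa (this.trans (smul_zero a).symm)
      exact smul_gen_eq_zero hf d N D u hu hN e r h3
    have hnt : Nontrivial (QuotSMulTop a N) := nontrivial_quotSMulTop_of_mem_maximalIdeal N ham
    obtain ⟨d', rfl⟩ := exists_eq_add_one_of_regular N hN a ham ha
    obtain ⟨-, ⟨e'⟩⟩ := step N a ham ha hf D hN e
    have hN' := hN.quot N a ham ha
    have hu' : ∀ y : QuotSMulTop a N, ∃ r : R, y = r • (Submodule.Quotient.mk u : QuotSMulTop a N) := by
      intro y
      obtain ⟨y', rfl⟩ := Submodule.Quotient.mk_surjective _ y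
      obtain ⟨r', rfl⟩ := hu y'
      exact ⟨r', rfl⟩
    have := ih d' (QuotSMulTop a N) (QuotSMulTop a D) _ hu' hN' e'
      (fun b hb => hmem b (List.mem_cons_of_mem _ hb)) hD'
    exact (isWeaklyRegular_cons_iff N a as').2 ⟨ha, this⟩

end Groth.Agent.Lib.Helper85.Canon
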