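import Groth.Agent.Lib.Helper85.EW
import Groth.Agent.Lib.Helper92.LocCohGV

/-!
# Top local cohomology and double-Hom functors as right exact linear functors
-/

open CategoryTheory TensorProduct

namespace Groth.Agent.Lib.Helper85.Canon

open Groth.Agent.Lib.Helper92.LC Groth.Agent.Lib.Helper85.EW

universe u
variable {R : Type u} [CommRing R]

section LC

variable (I : Ideal R) (i : ℕ)

theorem Hmap_add {M N : ModuleCat.{u} R} (φ ψ : M ⟶ N) (y : (localCohomology I i).obj M) :
    Hmap I i (φ + ψ) y = Hmap I i φ y + Hmap I i ψ y := by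
  obtain ⟨t, x, rfl⟩ := exists_rep I i y
  rw [Hmap_mk, Hmap_mk, Hmap_mk, Abelian.Ext.mk₀_add, Abelian.Ext.comp_add, mk_add]

theorem isLinFunctor_localCohomology : IsLinFunctor (localCohomology I i) where
  map_add φ ψ := by
    apply ModuleCat.hom_ext
    apply LinearMap.ext
    intro y
    exact Hmap_add I i φ ψ y
  map_smul_id M r := by
    apply ModuleCat.hom_ext
    apply LinearMap.ext
    intro y
    exact Hmap_smul_id I i r y

theorem Hmap_surjective (n : ℕ) (hcd : LocCoh.CdLE R I n) {M2 M3 : ModuleCat.{u} R} (g : M2 ⟶ M3)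
    (hg : Function.Surjective g.hom) : Function.Surjective (Hmap I n g) := by
  intro z
  have hS := LinearMap.shortExact_shortComplexKer hg
  have hsub : Subsingleton ((localCohomology I (n + 1)).obj (g.hom.shortComplexKer).X₁) :=
    hcd (LinearMap.ker g.hom) (n + 1) (Nat.lt_succ_self n)
  obtain ⟨y, hy⟩ := exact₃ I n hS z (Subsingleton.elim _ _)
  exact ⟨y, hy⟩

theorem isRightExact_localCohomology (n : ℕ) (hcd : LocCoh.CdLE R I n) :
    IsRightExact (localCohomology I n) where
  surj g hg := Hmap_surjective I n hcd g hg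
  exact := by
    intro M1 M2 M3 f g hex hg y
    constructor
    · intro hy
      have hS := LinearMap.shortExact_shortComplexKer hg
      obtain ⟨w, hw⟩ := exact₂ I n hS y hy
      let f' : M1 ⟶ ModuleCat.of R (LinearMap.ker g.hom) :=
        ModuleCat.ofHom (f.hom.codRestrict (LinearMap.ker g.hom)
          (fun x => hex.apply_apply_eq_zero x))
      have hf' : Function.Surjective f'.hom := by
        rintro ⟨x, hx⟩
        obtain ⟨x', rfl⟩ := (hex x).1 hx
        exact ⟨x', rfl⟩
      obtain ⟨v, rfl⟩ := Hmap_surjective I n hcd f' hf' w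
      refine ⟨v, ?_⟩
      rw [← hw]
      have : f = f' ≫ (g.hom.shortComplexKer).f := rfl
      rw [this, Functor.map_comp]
      rfl
    · rintro ⟨v, rfl⟩
      have h0 : f ≫ g = 0 := by
        apply ModuleCat.hom_ext
        apply LinearMap.ext
        intro x
        exact hex.apply_apply_eq_zero x
      have : ((localCohomology I n).map f ≫ (localCohomology I n).map g) = 0 := by
        rw [← Functor.map_comp, h0, (isLinFunctor_localCohomology I n).map_zero]
      exact congrArg (fun φ => φ.hom v) this

end LC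

section DoubleHom

variable (K E : Type u) [AddCommGroup K] [Module R K] [AddCommGroup E] [Module R E]

/-- the functor `M ↦ Hom(Hom(M, K), E)` -/
noncomputable abbrev G : ModuleCat.{u} R ⥤ ModuleCat.{u} R where
  obj M := ModuleCat.of R ((M →ₗ[R] K) →ₗ[R] E)
  map φ := ModuleCat.ofHom (LinearMap.lcomp R E (LinearMap.lcomp R K φ.hom))
  map_id M := by
    apply ModuleCat.hom_ext
    apply LinearMap.ext
    intro l
    rfl
  map_comp φ ψ := by
    apply ModuleCat.hom_ext
    apply LinearMap.ext
    intro l
    rfl

theorem G_map_apply {M N : ModuleCat.{u} R} (φ : M ⟶ N) (l : (M →ₗ[R] K) →ₗ[R] E)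
    (ψ : N →ₗ[R] K) : ((G K E).map φ).hom l ψ = l (ψ ∘ₗ φ.hom) := rfl

theorem isLinFunctor_G : IsLinFunctor (G (R := R) K E) where
  map_add φ ψ := by
    apply ModuleCat.hom_ext
    apply LinearMap.ext
    intro l
    apply LinearMap.ext
    intro χ
    change l (χ ∘ₗ (φ + ψ).hom) = l (χ ∘ₗ φ.hom) + l (χ ∘ₗ ψ.hom)
    rw [ModuleCat.hom_add, LinearMap.comp_add, map_add]
  map_smul_id M r := by
    apply ModuleCat.hom_ext
    apply LinearMap.ext
    intro l
    apply LinearMap.ext
    intro χ
    change l (χ ∘ₗ (r • 𝟙 M : M ⟶ M).hom) = r • l χ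
    rw [ModuleCat.hom_smul, ModuleCat.hom_id, LinearMap.comp_smul, LinearMap.comp_id, map_smul]

theorem G_surj [Module.Injective R E] {M2 M3 : ModuleCat.{u} R} (g : M2 ⟶ M3)
    (hg : Function.Surjective g.hom) : Function.Surjective ((G K E).map g).hom := by
  intro μ
  have hinj : Function.Injective (LinearMap.lcomp R K g.hom) := by
    intro a b hab
    apply LinearMap.ext
    intro x
    obtain ⟨x', rfl⟩ := hg x
    exact LinearMap.congr_fun hab x'
  obtain ⟨l, hl⟩ := Module.Injective.extension_property R E _ _ (LinearMap.lcomp R K g.hom) hinj μ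
  exact ⟨l, hl⟩

theorem isRightExact_G [Module.Injective R E] : IsRightExact (G (R := R) K E) where
  surj g hg := G_surj K E g hg
  exact := by
    intro M1 M2 M3 f g hex hg l
    constructor
    · intro hl
      -- `l` vanishes on the kernel of `- ∘ f`
      have hker : LinearMap.ker (LinearMap.lcomp R K f.hom) ≤ LinearMap.ker l := by
        intro ψ hψ
        rw [LinearMap.mem_ker] at hψ ⊢
        have hψ' : ∀ x, ψ (f.hom x) = 0 := fun x => LinearMap.congr_fun hψ x
        have hle : LinearMap.ker g.hom ≤ LinearMap.ker ψ := by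
          intro x hx
          obtain ⟨x', rfl⟩ := (hex x).1 hx
          exact hψ' x'
        let χ : M3 →ₗ[R] K := ((LinearMap.ker g.hom).liftQ ψ hle) ∘ₗ
          (g.hom.quotKerEquivOfSurjective hg).symm.toLinearMap
        have hχ : χ ∘ₗ g.hom = ψ := by
          apply LinearMap.ext
          intro x
          change ((LinearMap.ker g.hom).liftQ ψ hle)
            ((g.hom.quotKerEquivOfSurjective hg).symm (g.hom x)) = ψ x
          have : (g.hom.quotKerEquivOfSurjective hg).symm (g.hom x)
              = Submodule.Quotient.mk x := by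
            rw [LinearEquiv.symm_apply_eq]
            rfl
          rw [this]
          rfl
        have := LinearMap.congr_fun hl χ
        rw [← hχ]
        exact this
      let ι : ((M2 →ₗ[R] K) ⧸ LinearMap.ker (LinearMap.lcomp R K f.hom)) →ₗ[R] (M1 →ₗ[R] K) :=
        (LinearMap.ker (LinearMap.lcomp R K f.hom)).liftQ (LinearMap.lcomp R K f.hom) le_rfl
      have hι : Function.Injective ι := by
        rw [← LinearMap.ker_eq_bot]
        exact Submodule.ker_liftQ_eq_bot' _ _ rfl
      obtain ⟨μ, hμ⟩ := Module.Injective.extension_property R E _ _ ι hι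
        ((LinearMap.ker (LinearMap.lcomp R K f.hom)).liftQ l hker)
      refine ⟨μ, ?_⟩
      apply LinearMap.ext
      intro ψ
      have := LinearMap.congr_fun hμ (Submodule.Quotient.mk ψ)
      exact this
    · rintro ⟨μ, rfl⟩
      have h0 : f ≫ g = 0 := by
        apply ModuleCat.hom_ext
        apply LinearMap.ext
        intro x
        exact hex.apply_apply_eq_zero x
      have : ((G K E).map f ≫ (G K E).map g) = 0 := by
        rw [← Functor.map_comp, h0, (isLinFunctor_G K E).map_zero]
      exact congrArg (fun φ => φ.hom μ) this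

/-- `G(R) = Hom(Hom(R, K), E) ≃ Hom(K, E)` -/
noncomputable def GRingEquiv : (G (R := R) K E).obj (ModuleCat.of R R) ≃ₗ[R] (K →ₗ[R] E) :=
  LinearEquiv.congrLeft E R (LinearMap.ringLmapEquivSelf R R K)

end DoubleHom

section Theta

variable [IsNoetherianRing R] (I : Ideal R) (n : ℕ) (hcd : LocCoh.CdLE R I n)
  (K E : Type u) [AddCommGroup K] [Module R K] [AddCommGroup E] [Module R E] [Module.Injective R E]
  (eK : (K →ₗ[R] E) ≃ₗ[R] LocCoh.H I n R)

/-- `H^n_I(M) ≃ Hom(Hom(M, K), E)` for finite `M`, when `cd I ≤ n` and `Hom(K, E) ≃ H^n_I(R)`. -/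
noncomputable def theta (M : ModuleCat.{u} R) [Module.Finite R M] :
    (localCohomology I n).obj M ≃ₗ[R] ((M →ₗ[R] K) →ₗ[R] E) :=
  haveI : Module.FinitePresentation R M := Module.finitePresentation_of_finite R M
  compEquiv (isLinFunctor_localCohomology I n) (isLinFunctor_G K E)
    (isRightExact_localCohomology I n hcd) (isRightExact_G K E)
    (eK.symm ≪≫ₗ (GRingEquiv K E).symm) M

theorem theta_naturality {M N : ModuleCat.{u} R} [Module.Finite R M] [Module.Finite R N]
    (φ : M ⟶ N) (z : (localCohomology I n).obj M) (ψ : N →ₗ[R] K) :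
    theta I n hcd K E eK N (Hmap I n φ z) ψ = theta I n hcd K E eK M z (ψ ∘ₗ φ.hom) := by
  haveI : Module.FinitePresentation R M := Module.finitePresentation_of_finite R M
  haveI : Module.FinitePresentation R N := Module.finitePresentation_of_finite R N
  unfold theta
  rw [compEquiv_naturality]
  rfl

end Theta

end Groth.Agent.Lib.Helper85.Canon
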