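import Groth.Agent.Lib.Helper85.CanonSeq

/-!
# Canonical modules: annihilators and endomorphisms of canonical pairs
-/

open CategoryTheory
open scoped Pointwise

namespace Groth.Agent.Lib.Helper85.Canon

open Groth.Agent.Lib.Helper92.LC IsLocalRing InjHull RingTheory.Sequence

universe u

variable {R : Type u} [CommRing R] [IsNoetherianRing R] [IsLocalRing R]
  {E : Type u} [AddCommGroup E] [Module R E] {f : ResidueField R →ₗ[R] E}

omit [IsNoetherianRing R] in
/-- an element killing `Hom(D, E)` kills `D` -/
theorem smul_eq_zero_of_dual (hf : IsInjectiveHull f) (D : Type u) [AddCommGroup D] [Module R D]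
    (r : R) (h : ∀ φ : D →ₗ[R] E, r • φ = 0) (z : D) : r • z = 0 := by
  by_contra hne
  obtain ⟨φ, hφ⟩ := Matlis.exists_hom_apply_ne_zero hf (r • z) hne
  apply hφ
  rw [map_smul]
  exact LinearMap.congr_fun (h φ) z

omit [IsNoetherianRing R] [IsLocalRing R] in
/-- an element killing `N` kills its local cohomology -/
theorem smul_H_eq_zero (I : Ideal R) (i : ℕ) (N : Type u) [AddCommGroup N] [Module R N] (r : R)
    (h : ∀ y : N, r • y = 0) (w : LocCoh.H I i N) : r • w = 0 := by
  rw [← Hmap_smul_id I i r w]
  have h0 : r • 𝟙 (ModuleCat.of R N) = 0 := by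
    apply ModuleCat.hom_ext
    apply LinearMap.ext
    intro y
    exact h y
  rw [h0]
  have hz : (localCohomology I i).map (0 : ModuleCat.of R N ⟶ ModuleCat.of R N) = 0 :=
    (isLinFunctor_localCohomology I i).map_zero
  change ((localCohomology I i).map 0).hom w = 0
  rw [hz]
  rfl

omit [IsNoetherianRing R] in
/-- in a canonical pair, `Ann N ⊆ Ann D` -/
theorem smul_eq_zero_of_pair (hf : IsInjectiveHull f) (N D : Type u) [AddCommGroup N] [Module R N]
    [AddCommGroup D] [Module R D] (d : ℕ)
    (e : (D →ₗ[R] E) ≃ₗ[R] LocCoh.H (maximalIdeal R) d N) (r : R) (h : ∀ y : N, r • y = 0)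
    (z : D) : r • z = 0 := by
  apply smul_eq_zero_of_dual hf D r
  intro φ
  apply e.injective
  rw [map_smul, map_zero]
  exact smul_H_eq_zero _ _ N r h _

/-- a finite module with zero-dimensional support is killed by a power of the maximal ideal -/
theorem exists_pow_le_annihilator (N : Type u) [AddCommGroup N] [Module R N] [Module.Finite R N]
    (h : Module.supportDim R N ≤ 0) : ∃ t : ℕ, maximalIdeal R ^ t ≤ Module.annihilator R N := by
  by_cases hN : Subsingleton N
  · refine ⟨0, fun r _ => ?_⟩
    rw [Module.mem_annihilator]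
    intro y
    exact Subsingleton.elim _ _
  · rw [not_subsingleton_iff_nontrivial] at hN
    have h0 : Module.supportDim R N = 0 := by
      apply le_antisymm h
      have hne := Module.supportDim_ne_bot_of_nontrivial R N
      obtain ⟨t, ht⟩ := WithBot.ne_bot_iff_exists.1 hne
      rw [← ht]
      exact_mod_cast (show (0 : ℕ∞) ≤ t from bot_le)
    have h1 := support_of_supportDim_eq_zero (R := R) (N := N) h0
    rw [Module.support_eq_zeroLocus] at h1
    have h2 : maximalIdeal R ≤ (Module.annihilator R N).radical := by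
      rw [← PrimeSpectrum.zeroLocus_subset_zeroLocus_iff, h1]
    exact Ideal.exists_pow_le_of_le_radical_of_fg h2 (IsNoetherian.noetherian _)

theorem mem_torsionSub_of_supportDim_le_zero (N : Type u) [AddCommGroup N] [Module R N]
    [Module.Finite R N] (h : Module.supportDim R N ≤ 0) (y : N) :
    y ∈ DRing.torsionSub (maximalIdeal R) N := by
  obtain ⟨t, ht⟩ := exists_pow_le_annihilator N h
  exact ⟨t, fun a ha => Module.mem_annihilator.1 (ht ha) y⟩

/-- `H^0_m(N) ≃ N` when `N` has zero-dimensional support -/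
noncomputable def H0Equiv (N : Type u) [AddCommGroup N] [Module R N]
    [Module.Finite R N] (h : Module.supportDim R N ≤ 0) :
    LocCoh.H (maximalIdeal R) 0 N ≃ₗ[R] N :=
  LinearEquiv.ofBijective (γ (M := ModuleCat.of R N) (maximalIdeal R))
    ⟨γ_injective _, fun y => exists_γ_eq _ y (mem_torsionSub_of_supportDim_le_zero N h y)⟩

omit [IsNoetherianRing R] [IsLocalRing R] in
/-- dividing a map with image in `xD` by a regular element `x` -/
theorem exists_eq_smul_of_forall_mem {D D' : Type u} [AddCommGroup D] [Module R D] [AddCommGroup D']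
    [Module R D'] (x : R) (hx : IsSMulRegular D x) (g : D' →ₗ[R] D)
    (h : ∀ z, g z ∈ x • (⊤ : Submodule R D)) : ∃ g' : D' →ₗ[R] D, g = x • g' := by
  let μ : D →ₗ[R] D := LinearMap.lsmul R D x
  have hμ : Function.Injective μ := hx
  let eμ := LinearEquiv.ofInjective μ hμ
  have hmem : ∀ z, g z ∈ LinearMap.range μ := by
    intro z
    obtain ⟨z', -, hz'⟩ := (Submodule.mem_smul_pointwise_iff_exists _ _ _).1 (h z)
    exact ⟨z', hz'⟩
  refine ⟨eμ.symm.toLinearMap ∘ₗ g.codRestrict _ hmem, ?_⟩
  apply LinearMap.ext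
  intro z
  change g z = x • eμ.symm (g.codRestrict _ hmem z)
  have : μ (eμ.symm (g.codRestrict _ hmem z)) = g z := by
    have := eμ.apply_symm_apply (g.codRestrict _ hmem z)
    exact congrArg Subtype.val this
  exact this.symm

section Pairs

variable (hf : IsInjectiveHull f)
include hf

/-- in a canonical pair with cyclic `N`, `Ann D ⊆ Ann N` -/
theorem smul_gen_eq_zero : ∀ (d : ℕ) (N D : Type u) [AddCommGroup N] [Module R N]
    [Module.Finite R N] [AddCommGroup D] [Module R D] (u : N) (_ : ∀ y : N, ∃ r : R, y = r • u),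
    LCCM R N d → ((D →ₗ[R] E) ≃ₗ[R] LocCoh.H (maximalIdeal R) d N) →
    ∀ r : R, (∀ z : D, r • z = 0) → r • u = 0 := by
  intro d
  induction d with
  | zero =>
    intro N D _ _ _ _ _ u hu hN e r hr
    have h0 : Module.supportDim R N ≤ 0 := by exact_mod_cast hN.1
    let e0 := H0Equiv N h0
    have h1 : r • (e0.symm u) = 0 := by
      obtain ⟨φ, hφ⟩ := e.surjective (e0.symm u)
      rw [← hφ, ← map_smul]
      have : r • φ = 0 := by
        apply LinearMap.ext
        intro z
        change r • φ z = 0
        rw [← map_smul, hr, map_zero]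
      rw [this, map_zero]
    have := congrArg e0 h1
    rwa [map_smul, LinearEquiv.apply_symm_apply, map_zero] at this
  | succ d ih =>
    intro N D _ _ _ _ _ u hu hN e r hr
    by_cases hsub : Subsingleton N
    · exact Subsingleton.elim _ _
    rw [not_subsingleton_iff_nontrivial] at hsub
    -- a regular element
    have htors : DRing.torsionSub (maximalIdeal R) N = ⊥ := by
      rw [eq_bot_iff]
      intro y hy
      obtain ⟨w, hw⟩ := exists_γ_eq (M := ModuleCat.of R N) (maximalIdeal R) y hy
      have hsub0 : Subsingleton (LocCoh.H (maximalIdeal R) 0 N) := hN.2 0 (Nat.succ_pos d)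
      rw [Subsingleton.elim w 0, map_zero] at hw
      rw [Submodule.mem_bot]
      exact hw.symm
    obtain ⟨x, hxm, hx⟩ := exists_regular_of_torsionSub_eq_bot (maximalIdeal R) N htors
    obtain ⟨hDx, ⟨e'⟩⟩ := step N x hxm hx hf D hN e
    have hN' := hN.quot N x hxm hx
    -- the submodule `Z = (Ann D) u`
    let Z : Submodule R N := Submodule.map (LinearMap.toSpanSingleton R N u) (Module.annihilator R D)
    have hZ : Z ≤ Ideal.span {x} • Z := by
      rintro _ ⟨s, hs, rfl⟩
      have hs' : ∀ z : D, s • z = 0 := fun z => Module.mem_annihilator.1 hs z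
      have h1 : s • (Submodule.Quotient.mk u : QuotSMulTop x N) = 0 := by
        apply ih (QuotSMulTop x N) (QuotSMulTop x D) (Submodule.Quotient.mk u) _ hN' e' s
        · intro z
          obtain ⟨z', rfl⟩ := Submodule.Quotient.mk_surjective _ z
          rw [← Submodule.Quotient.mk_smul, hs' z', Submodule.Quotient.mk_zero]
        · intro y
          obtain ⟨y', rfl⟩ := Submodule.Quotient.mk_surjective _ y
          obtain ⟨r', rfl⟩ := hu y'
          exact ⟨r', rfl⟩
      rw [← Submodule.Quotient.mk_smul, Submodule.Quotient.mk_eq_zero] at h1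
      obtain ⟨y, -, hy⟩ := (Submodule.mem_smul_pointwise_iff_exists _ _ _).1 h1
      obtain ⟨s₁, rfl⟩ := hu y
      -- `(s - x s₁) u = 0`
      have h2 : ∀ y' : N, (s - x * s₁) • y' = 0 := by
        intro y'
        obtain ⟨r', rfl⟩ := hu y'
        rw [smul_comm, sub_smul, mul_smul, hy, sub_self, smul_zero]
      have h3 : ∀ z : D, (s - x * s₁) • z = 0 :=
        smul_eq_zero_of_pair hf N D (d + 1) e _ h2
      have h4 : ∀ z : D, s₁ • z = 0 := by
        intro z
        have := h3 z
        rw [sub_smul, hs' z, zero_sub, neg_eq_zero, mul_smul] at this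
        exact hDx (this.trans (smul_zero x).symm)
      have h5 : s₁ • u ∈ Z := ⟨s₁, Module.mem_annihilator.2 h4, rfl⟩
      change s • u ∈ _
      rw [← hy]
      exact Submodule.smul_mem_smul (Ideal.mem_span_singleton_self x) h5
    have hZ0 : Z = ⊥ := by
      apply Submodule.eq_bot_of_le_smul_of_le_jacobson_bot _ Z (IsNoetherian.noetherian Z) hZ
      rw [Ideal.span_singleton_le_iff_mem]
      exact IsLocalRing.maximalIdeal_le_jacobson _ hxm
    have hmem : r • u ∈ Z := ⟨r, Module.mem_annihilator.2 hr, rfl⟩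
    rw [hZ0, Submodule.mem_bot] at hmem
    exact hmem

/-- in a canonical pair with cyclic `N`, every endomorphism of `D` is a homothety -/
theorem end_eq_smul : ∀ (d : ℕ) (N D : Type u) [AddCommGroup N] [Module R N]
    [Module.Finite R N] [AddCommGroup D] [Module R D] [Module.Finite R D] (u : N)
    (_ : ∀ y : N, ∃ r : R, y = r • u),
    LCCM R N d → ((D →ₗ[R] E) ≃ₗ[R] LocCoh.H (maximalIdeal R) d N) →
    ∀ g : D →ₗ[R] D, ∃ r : R, g = r • LinearMap.id := by
  intro d
  induction d with
  | zero =>
    intro N D _ _ _ _ _ _ u hu hN e g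
    have h0 : Module.supportDim R N ≤ 0 := by exact_mod_cast hN.1
    let e0 : (D →ₗ[R] E) ≃ₗ[R] N := e ≪≫ₗ H0Equiv N h0
    let ξ : D →ₗ[R] E := e0.symm u
    have hgen : ∀ φ : D →ₗ[R] E, ∃ r : R, φ = r • ξ := by
      intro φ
      obtain ⟨r, hr⟩ := hu (e0 φ)
      refine ⟨r, ?_⟩
      apply e0.injective
      rw [map_smul, LinearEquiv.apply_symm_apply, hr]
    have hξ : Function.Injective ξ := by
      rw [injective_iff_map_eq_zero]
      intro z hz
      by_contra hne
      obtain ⟨φ, hφ⟩ := Matlis.exists_hom_apply_ne_zero hf z hne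
      obtain ⟨r, rfl⟩ := hgen φ
      apply hφ
      rw [LinearMap.smul_apply, hz, smul_zero]
    obtain ⟨r, hr⟩ := hgen (ξ ∘ₗ g)
    refine ⟨r, ?_⟩
    apply LinearMap.ext
    intro z
    apply hξ
    have := LinearMap.congr_fun hr z
    rw [LinearMap.comp_apply, LinearMap.smul_apply] at this
    rw [this, LinearMap.smul_apply, LinearMap.id_apply, map_smul]
  | succ d ih =>
    intro N D _ _ _ _ _ _ u hu hN e g
    by_cases hsub : Subsingleton N
    · -- then `D = 0`
      have hD : ∀ z : D, z = 0 := by
        intro z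
        have := smul_eq_zero_of_pair hf N D (d + 1) e 1 (fun y => Subsingleton.elim _ _) z
        rwa [one_smul] at this
      refine ⟨0, ?_⟩
      apply LinearMap.ext
      intro z
      rw [hD z, map_zero, map_zero]
    rw [not_subsingleton_iff_nontrivial] at hsub
    have htors : DRing.torsionSub (maximalIdeal R) N = ⊥ := by
      rw [eq_bot_iff]
      intro y hy
      obtain ⟨w, hw⟩ := exists_γ_eq (M := ModuleCat.of R N) (maximalIdeal R) y hy
      have hsub0 : Subsingleton (LocCoh.H (maximalIdeal R) 0 N) := hN.2 0 (Nat.succ_pos d)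
      rw [Subsingleton.elim w 0, map_zero] at hw
      rw [Submodule.mem_bot]
      exact hw.symm
    obtain ⟨x, hxm, hx⟩ := exists_regular_of_torsionSub_eq_bot (maximalIdeal R) N htors
    obtain ⟨hDx, ⟨e'⟩⟩ := step N x hxm hx hf D hN e
    have hN' := hN.quot N x hxm hx
    have hu' : ∀ y : QuotSMulTop x N, ∃ r : R, y = r • (Submodule.Quotient.mk u : QuotSMulTop x N) := by
      intro y
      obtain ⟨y', rfl⟩ := Submodule.Quotient.mk_surjective _ y
      obtain ⟨r', rfl⟩ := hu y'
      exact ⟨r', rfl⟩
    let Y : Submodule R (D →ₗ[R] D) := Submodule.span R {LinearMap.id}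
    have hle : (⊤ : Submodule R (D →ₗ[R] D)) ≤ Y ⊔ Ideal.span {x} • ⊤ := by
      intro g _
      let gbar : QuotSMulTop x D →ₗ[R] QuotSMulTop x D := QuotSMulTop.map x g
      obtain ⟨r, hr⟩ := ih (QuotSMulTop x N) (QuotSMulTop x D) _ hu' hN' e' gbar
      have hmem : ∀ z, (g - r • (LinearMap.id : D →ₗ[R] D)) z ∈ x • (⊤ : Submodule R D) := by
        intro z
        rw [← Submodule.Quotient.mk_eq_zero]
        have := LinearMap.congr_fun hr (Submodule.Quotient.mk z)
        change Submodule.Quotient.mk (g z - r • z) = 0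
        rw [Submodule.Quotient.mk_sub, Submodule.Quotient.mk_smul, sub_eq_zero]
        exact this
      obtain ⟨g₁, hg₁⟩ := exists_eq_smul_of_forall_mem x hDx _ hmem
      have : g = r • LinearMap.id + x • g₁ := by rw [← hg₁]; abel
      rw [this]
      apply Submodule.add_mem_sup
      · exact Submodule.smul_mem _ _ (Submodule.subset_span rfl)
      · exact Submodule.smul_mem_smul (Ideal.mem_span_singleton_self x) Submodule.mem_top
    have hY : (⊤ : Submodule R (D →ₗ[R] D)) ≤ Y := by
      apply Submodule.le_of_le_smul_of_le_jacobson_bot (IsNoetherian.noetherian _) _ hle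
      rw [Ideal.span_singleton_le_iff_mem]
      exact IsLocalRing.maximalIdeal_le_jacobson _ hxm
    have := hY (Submodule.mem_top : g ∈ ⊤)
    obtain ⟨r, hr⟩ := Submodule.mem_span_singleton.1 this
    exact ⟨r, hr.symm⟩

end Pairs

end Groth.Agent.Lib.Helper85.Canon
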