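import Groth.Agent.Lib.Helper85.CanonLoc
import Groth.Agent.Lib.Helper85.CanonEnd
import Groth.Agent.S7700
import Groth.Agent.S0321
import Groth.Agent.S17774
import Groth.Agent.Lib.Helper85.RegGor
import Groth.Agent.Lib.Helper92.OldExt

/-!
# The canonical module of a local domain is isomorphic to an ideal
-/

set_option autoImplicit false
set_option linter.style.haveILetI false

namespace Groth.Agent.Lib.Helper85.CanonIdeal

open CategoryTheory Abelian IsLocalRing InjHull

universe u

section FieldDual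

variable {F : Type u} [CommRing F] [IsLocalRing F] [IsNoetherianRing F]

/-- over a local ring which is a field, the injective hull of the residue field is free of rank
one -/
theorem nonempty_hull_equiv (hm : maximalIdeal F = ⊥) {E' : Type u} [AddCommGroup E']
    [Module F E'] {f' : ResidueField F →ₗ[F] E'} (hf' : IsInjectiveHull f') :
    Nonempty (E' ≃ₗ[F] F) := by
  have hF : IsField F := isField_iff_maximalIdeal_eq.mpr hm
  letI : Field F := hF.toField
  obtain ⟨C, hC⟩ := Submodule.exists_isCompl (LinearMap.range f')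
  have hC0 : C = ⊥ := by
    by_contra hne
    exact hf'.essential C hne (by rw [inf_comm]; exact hC.inf_eq_bot)
  have hrange : LinearMap.range f' = ⊤ := by
    rw [hC0] at hC
    exact eq_top_of_isCompl_bot hC
  let e1 : ResidueField F ≃ₗ[F] E' :=
    LinearEquiv.ofBijective f' ⟨hf'.injective, LinearMap.range_eq_top.mp hrange⟩
  let e2 : (F ⧸ maximalIdeal F) ≃ₗ[F] F := Submodule.quotEquivOfEqBot (maximalIdeal F) hm
  exact ⟨e1.symm.trans e2⟩

/-- over a local ring which is a field, a finite module whose Matlis dual is `H^0(F)` is free of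
rank one -/
theorem nonempty_equiv_self_of_dual (hm : maximalIdeal F = ⊥) {E' : Type u} [AddCommGroup E']
    [Module F E'] {f' : ResidueField F →ₗ[F] E'} (hf' : IsInjectiveHull f')
    (V : Type u) [AddCommGroup V] [Module F V] [Module.Finite F V]
    (Θ : (V →ₗ[F] E') ≃ₗ[F] LocCoh.H (maximalIdeal F) 0 F) : Nonempty (V ≃ₗ[F] F) := by
  have hF : IsField F := isField_iff_maximalIdeal_eq.mpr hm
  obtain ⟨eE⟩ := nonempty_hull_equiv hm hf'
  have hdim : Module.supportDim F F ≤ 0 := by
    rw [Module.supportDim_self_eq_ringKrullDim, ringKrullDim_eq_zero_of_isField hF]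
  let eH := Groth.Agent.Lib.Helper85.Canon.H0Equiv F hdim
  let Θ' : (V →ₗ[F] F) ≃ₗ[F] F := ((LinearEquiv.congrRight eE).symm.trans Θ).trans eH
  letI : Field F := hF.toField
  have h1 : Module.finrank F (Module.Dual F V) = 1 := by
    rw [LinearEquiv.finrank_eq Θ', Module.finrank_self]
  rw [Subspace.dual_finrank_eq] at h1
  exact FiniteDimensional.nonempty_linearEquiv_of_finrank_eq (by rw [h1, Module.finrank_self])

end FieldDual

section Embed

variable {A : Type u} [CommRing A] [IsDomain A] (M : Type u) [AddCommGroup M] [Module A M]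
  [Module.Finite A M]

/-- a finite torsion-free module over a domain whose localization at `(0)` is free of rank one
embeds into the ring -/
theorem exists_injective_of_loc_equiv
    (htf : ∀ (a : A) (x : M), a ≠ 0 → a • x = 0 → x = 0)
    (χ : LocalizedModule (⊥ : Ideal A).primeCompl M ≃ₗ[Localization.AtPrime (⊥ : Ideal A)]
      Localization.AtPrime (⊥ : Ideal A)) :
    ∃ μ : M →ₗ[A] A, Function.Injective μ := by
  have hS : ∀ s : (⊥ : Ideal A).primeCompl, (s : A) ≠ 0 := fun s hs => s.2 (by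
    rw [hs]; exact Submodule.zero_mem _)
  have hinjF : Function.Injective (algebraMap A (Localization.AtPrime (⊥ : Ideal A))) :=
    IsLocalization.injective (Localization.AtPrime (⊥ : Ideal A))
      (M := (⊥ : Ideal A).primeCompl) (fun s hs => mem_nonZeroDivisors_of_ne_zero (hS ⟨s, hs⟩))
  let ι : M →ₗ[A] Localization.AtPrime (⊥ : Ideal A) :=
    (χ.toLinearMap.restrictScalars A).comp (LocalizedModule.mkLinearMap (⊥ : Ideal A).primeCompl M)
  have hι : Function.Injective ι := by
    rw [injective_iff_map_eq_zero]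
    intro x hx
    have h1 : LocalizedModule.mkLinearMap (⊥ : Ideal A).primeCompl M x = 0 :=
      χ.injective (by rw [map_zero]; exact hx)
    obtain ⟨s, hs⟩ := (IsLocalizedModule.eq_zero_iff (⊥ : Ideal A).primeCompl
      (LocalizedModule.mkLinearMap (⊥ : Ideal A).primeCompl M)).mp h1
    exact htf (s : A) x (hS s) hs
  obtain ⟨k, g, hg⟩ := Module.Finite.exists_fin (R := A) (M := M)
  obtain ⟨b, hb⟩ := IsLocalization.exist_integer_multiples_of_finite (⊥ : Ideal A).primeCompl
    (fun i => ι (g i))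
  let lam : M →ₗ[A] Localization.AtPrime (⊥ : Ideal A) := (b : A) • ι
  have hlam : ∀ x, lam x ∈ LinearMap.range (Algebra.linearMap A (Localization.AtPrime (⊥ : Ideal A))) := by
    intro x
    have hx : x ∈ Submodule.span A (Set.range g) := by rw [hg]; exact Submodule.mem_top
    induction hx using Submodule.span_induction with
    | mem y hy =>
      obtain ⟨i, rfl⟩ := hy
      obtain ⟨a, ha⟩ := hb i
      exact ⟨a, ha⟩
    | zero => rw [map_zero]; exact Submodule.zero_mem _
    | add y z _ _ hy hz => rw [map_add]; exact Submodule.add_mem _ hy hz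
    | smul a y _ hy => rw [map_smul]; exact Submodule.smul_mem _ a hy
  have hlaminj : Function.Injective lam := by
    rw [injective_iff_map_eq_zero]
    intro x hx
    change (b : A) • ι x = 0 at hx
    rw [← map_smul] at hx
    have := hι (hx.trans (map_zero ι).symm)
    exact htf (b : A) x (hS b) this
  let j : A ≃ₗ[A] LinearMap.range (Algebra.linearMap A (Localization.AtPrime (⊥ : Ideal A))) :=
    LinearEquiv.ofInjective (Algebra.linearMap A (Localization.AtPrime (⊥ : Ideal A))) hinjF
  refine ⟨j.symm.toLinearMap.comp (lam.codRestrict _ hlam), ?_⟩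
  intro x y hxy
  have h2 := j.symm.injective hxy
  apply hlaminj
  exact congrArg Subtype.val h2

end Embed

section CanonEmbed

variable (A : Type u) [CommRing A] [IsDomain A] [IsNoetherianRing A] [IsLocalRing A]
  (R' : Type u) [CommRing R'] [LocCoh.IsGorensteinLocalRing R'] [Algebra R' A]
  (hg : Function.Surjective (algebraMap R' A))
  (n : ℕ) (hn : ringKrullDim A = n)
  {E : Type u} [AddCommGroup E] [Module A E] {f : ResidueField A →ₗ[A] E}
  (hf : IsInjectiveHull f)
  (K : Type u) [AddCommGroup K] [Module A K] [Module.Finite A K]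
  (eK : (K →ₗ[A] E) ≃ₗ[A] LocCoh.H (maximalIdeal A) n A)

include hn hf eK in
/-- the canonical module of a local domain is torsion-free -/
theorem canon_torsionFree (a : A) (x : K) (ha : a ≠ 0) (hax : a • x = 0) : x = 0 := by
  have hcd : LocCoh.CdLE A (maximalIdeal A) n :=
    Groth.Agent.Lib.Helper92.LC.cdLE_of_ringKrullDim_le _ n (le_of_eq hn)
  by_contra hx
  obtain ⟨P, hP, hle⟩ := exists_le_isAssociatedPrime_of_isNoetherianRing A x hx
  have haP : a ∈ P := hle (by
    rw [Submodule.mem_colon_singleton, hax]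
    exact Submodule.zero_mem _)
  have hPass : P ∈ associatedPrimes A K := hP
  rw [Groth.Agent.Lib.Helper85.Canon.ass_canon_eq K hf n hcd eK hn] at hPass
  obtain ⟨hPprime, hPdim⟩ := hPass
  have hlt : (⊥ : Ideal A) < P := lt_of_le_of_ne bot_le (by
    rintro rfl
    exact ha haP)
  have h1 := Groth.Agent.Lib.Helper67.ringKrullDim_quotient_succ_le_of_lt hlt
  rw [hPdim, ringKrullDim_eq_of_ringEquiv (RingEquiv.quotientBot A), hn] at h1
  exact lt_irrefl _ (Groth.Agent.Lib.Helper85.Canon.withBot_lt_of_add_one_le _ n h1)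

include hg hn hf eK in
/-- the canonical module of a local domain (homomorphic image of a Gorenstein local ring) embeds
into the ring, i.e. is isomorphic to an ideal -/
theorem canon_embed : ∃ μ : K →ₗ[A] A, Function.Injective μ := by
  have hcd : LocCoh.CdLE A (maximalIdeal A) n :=
    Groth.Agent.Lib.Helper92.LC.cdLE_of_ringKrullDim_le _ n (le_of_eq hn)
  have htf := canon_torsionFree A n hn hf K eK
  haveI hKnt : Nontrivial K := Groth.Agent.Lib.Helper85.Canon.nontrivial_canon' K hf n hcd eK hn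
  have hp : Nontrivial (LocalizedModule (⊥ : Ideal A).primeCompl K) := by
    obtain ⟨x, hx⟩ := exists_ne (0 : K)
    refine ⟨⟨LocalizedModule.mkLinearMap (⊥ : Ideal A).primeCompl K x, 0, ?_⟩⟩
    intro h0
    obtain ⟨s, hs⟩ := (IsLocalizedModule.eq_zero_iff (⊥ : Ideal A).primeCompl
      (LocalizedModule.mkLinearMap (⊥ : Ideal A).primeCompl K)).mp h0
    refine hx (htf (s : A) x (fun h => s.2 ?_) hs)
    rw [h]
    exact Submodule.zero_mem _
  have hh : ringKrullDim (Localization.AtPrime (⊥ : Ideal A)) = (0 : ℕ) := by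
    rw [IsLocalization.AtPrime.ringKrullDim_eq_height (⊥ : Ideal A)
      (Localization.AtPrime (⊥ : Ideal A)), Ideal.height_bot]
    rfl
  have hm : maximalIdeal (Localization.AtPrime (⊥ : Ideal A)) = ⊥ := by
    rw [← Localization.AtPrime.map_eq_maximalIdeal, Ideal.map_bot]
  obtain ⟨E', _, _, f', hf'⟩ := Groth.Agent.Lib.Helper85.Hull.exists_injectiveHull
    (R := Localization.AtPrime (⊥ : Ideal A)) (ResidueField (Localization.AtPrime (⊥ : Ideal A)))
  obtain ⟨Θ⟩ := Groth.Agent.Lib.Helper85.CanonLoc.canon_loc A R' hg (⊥ : Ideal A) n hn hf K eK hp 0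
    hh hf'
  obtain ⟨χ⟩ := nonempty_equiv_self_of_dual hm hf' _ Θ
  exact exists_injective_of_loc_equiv K htf χ

end CanonEmbed

section Unmixed

variable (A : Type u) [CommRing A] [IsDomain A] [LocCoh.IsCohenMacaulayLocalRing A]
  (n : ℕ) (hn : ringKrullDim A = n)
  {E : Type u} [AddCommGroup E] [Module A E] {f : ResidueField A →ₗ[A] E}
  (hf : IsInjectiveHull f)
  (K : Type u) [AddCommGroup K] [Module A K] [Module.Finite A K]
  (eK : (K →ₗ[A] E) ≃ₗ[A] LocCoh.H (maximalIdeal A) n A)

include hn hf eK in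
/-- a proper ideal of a Cohen–Macaulay local domain isomorphic to the canonical module is unmixed
of height one -/
theorem unmixed_of_equiv_canon (I : Ideal A) (hI : I ≠ ⊤) (e : K ≃ₗ[A] I) :
    ∀ q ∈ associatedPrimes A (A ⧸ I), q.height = 1 := by
  intro q hq
  have hcd : LocCoh.CdLE A (maximalIdeal A) n :=
    Groth.Agent.Lib.Helper92.LC.cdLE_of_ringKrullDim_le _ n (le_of_eq hn)
  haveI hKnt : Nontrivial K := Groth.Agent.Lib.Helper85.Canon.nontrivial_canon' K hf n hcd eK hn
  obtain ⟨-, -, hCM, hsd⟩ := Groth.Agent.S7700.result A n hn E f hf K eK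
  have hdK : LocCoh.depth A K = (n : ℕ∞) := by
    have h1 : Module.supportDim A K = ((LocCoh.depth A K : ℕ∞) : WithBot ℕ∞) := hCM
    rw [hsd] at h1
    have h2 : (((n : ℕ) : ℕ∞) : WithBot ℕ∞) = ((LocCoh.depth A K : ℕ∞) : WithBot ℕ∞) := by
      exact_mod_cast h1
    exact (WithBot.coe_injective h2).symm
  have hdI : LocCoh.idealDepth (maximalIdeal A) I = (n : ℕ∞) := by
    rw [← hdK]
    exact (Groth.Agent.Lib.Helper67.depth_congr e).symm
  have hdA : LocCoh.idealDepth (maximalIdeal A) A = (n : ℕ∞) :=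
    Groth.Agent.Lib.Helper85.Canon.depth_eq_of_CM A n hn
  have h3 := (Groth.Agent.S0321.result A (maximalIdeal A) I A (A ⧸ I) I.subtype I.mkQ
    (Submodule.injective_subtype I) (Submodule.mkQ_surjective I)
    (LinearMap.exact_subtype_mkQ I)).2.1
  rw [hdA, hdI] at h3
  have h4 := Groth.Agent.Lib.Helper67.depth_le_ringKrullDim_quotient_of_mem_associatedPrimes
    (A ⧸ I) hq
  have hqprime : q.IsPrime := hq.isPrime
  have h5 := Groth.Agent.S17774.dim_formula A q hqprime.ne_top
  obtain ⟨c, hc⟩ := Groth.Agent.Lib.Helper85.FLCrit.exists_dim_quot q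
  obtain ⟨t, ht⟩ := ENat.ne_top_iff_exists.mp (Ideal.height_ne_top hqprime.ne_top)
  rw [hn, hc, ← ht] at h5
  have h5' : n = c + t := by exact_mod_cast h5
  rw [hc] at h4
  have h4' : LocCoh.depth A (A ⧸ I) ≤ (c : ℕ∞) := by exact_mod_cast h4
  have h6 : min (n : ℕ∞) ((n : ℕ∞) - 1) ≤ (c : ℕ∞) := h3.trans h4'
  have h6' : n - 1 ≤ c := by
    have : min (n : ℕ∞) ((n : ℕ∞) - 1) = ((n - 1 : ℕ) : ℕ∞) := by
      rw [min_eq_right tsub_le_self]
      push_cast
      rfl
    rw [this] at h6
    exact_mod_cast h6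
  -- `q ≠ ⊥`
  have hIq : I ≤ q := by
    have h7 := hq.annihilator_le
    rwa [Submodule.annihilator_top, Ideal.annihilator_quotient] at h7
  have hI0 : I ≠ ⊥ := by
    rintro rfl
    obtain ⟨x, hx⟩ := exists_ne (0 : K)
    apply hx
    apply e.injective
    apply Subtype.ext
    rw [map_zero]
    exact (Submodule.mem_bot A).mp (e x).2
  have hq0 : q ≠ ⊥ := by
    rintro rfl
    exact hI0 (le_bot_iff.mp hIq)
  have ht0 : t ≠ 0 := by
    intro h0
    apply hq0
    rw [← Ideal.height_eq_zero_iff_eq_bot, ← ht, h0]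
    rfl
  rw [← ht]
  have : t = 1 := by omega
  rw [this]
  rfl

end Unmixed

section RegQuot

open Groth.Agent.Lib.Helper85.CanonQuot

/-- the data attached to a Cohen–Macaulay quotient domain `B/p` of a regular local ring: the
module `Ext^r_B(B/p, B)` (`r = ht p`) is a canonical module of `B/p` -/
theorem exists_canon_data (B : Type u) [CommRing B] [IsRegularLocalRing B] (p : Ideal B)
    [p.IsPrime] [LocCoh.IsCohenMacaulayLocalRing (B ⧸ p)] (r : ℕ) (hr : p.height = r) :
    ∃ (n : ℕ) (_ : ringKrullDim (B ⧸ p) = n) (E : Type u) (_ : AddCommGroup E)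
      (_ : Module (B ⧸ p) E) (f : ResidueField (B ⧸ p) →ₗ[B ⧸ p] E) (_ : IsInjectiveHull f)
      (K : Type u) (_ : AddCommGroup K) (_ : Module (B ⧸ p) K) (_ : Module B K)
      (_ : IsScalarTower B (B ⧸ p) K) (_ : Module.Finite (B ⧸ p) K)
      (_ : (K →ₗ[B ⧸ p] E) ≃ₗ[B ⧸ p] LocCoh.H (maximalIdeal (B ⧸ p)) n (B ⧸ p))
      (_ : ((Ext B (ModuleCat.{u} B) r).obj (Opposite.op (ModuleCat.of B (B ⧸ p)))).obj
        (ModuleCat.of B B) ≃ₗ[B] K),
      ∃ μ : K →ₗ[B ⧸ p] (B ⧸ p), Function.Injective μ := by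
  haveI := Groth.Agent.Lib.Helper85.FLCrit.isGorensteinLocalRing_of_regular B
  haveI := Groth.Agent.Lib.Helper4.GorCM.isCohenMacaulayLocalRing_of_gorenstein B
  obtain ⟨d, hdim, -, -⟩ := Groth.Agent.Lib.Helper4.GorCM.gorenstein_dim B
  obtain ⟨n, hn⟩ := Groth.Agent.Lib.Helper85.FLCrit.exists_dim_quot p
  have hform := Groth.Agent.S17774.dim_formula B p (Ideal.IsPrime.ne_top inferInstance)
  rw [hdim, hn, hr] at hform
  have hrn : r + n = d := by
    have : d = n + r := by exact_mod_cast hform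
    omega
  have hg : Function.Surjective (algebraMap B (B ⧸ p)) := Ideal.Quotient.mk_surjective
  obtain ⟨E, _, _, f, hf⟩ := Groth.Agent.Lib.Helper85.Hull.exists_injectiveHull
    (R := B ⧸ p) (ResidueField (B ⧸ p))
  letI modX : Module (B ⧸ p)
      (Ext.{u} (ModuleCat.of B (B ⧸ p)) (ModuleCat.of B B) r) :=
    modOfSurj hg _ (ext_kill (B ⧸ p) B (B ⧸ p) _ r)
  haveI towX : IsScalarTower B (B ⧸ p)
      (Ext.{u} (ModuleCat.of B (B ⧸ p)) (ModuleCat.of B B) r) :=
    modOfSurj_tower hg _ (ext_kill (B ⧸ p) B (B ⧸ p) _ r)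
  haveI : Module.Finite B (B ⧸ p) :=
    Module.Finite.of_surjective (Algebra.linearMap B (B ⧸ p)) hg
  haveI : Module.Finite (B ⧸ p) (Ext.{u} (ModuleCat.of B (B ⧸ p)) (ModuleCat.of B B) r) :=
    Module.Finite.of_restrictScalars_finite B (B ⧸ p) _
  obtain ⟨D⟩ := duality_quot (B ⧸ p) B hf hg d hdim (B ⧸ p) r n hrn
  obtain ⟨μ, hμ⟩ := canon_embed (B ⧸ p) B hg n hn hf _ D
  exact ⟨n, hn, E, _, _, f, hf, Ext.{u} (ModuleCat.of B (B ⧸ p)) (ModuleCat.of B B) r, _, modX,
    _, towX, inferInstance, D,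
    Groth.Agent.Lib.Helper92.OldExt.Φ (R := B) (ModuleCat.of B (B ⧸ p)) (ModuleCat.of B B) r,
    μ, hμ⟩

end RegQuot

end Groth.Agent.Lib.Helper85.CanonIdeal
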