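import Groth.Agent.Lib.Helper85.CanonDual

/-!
# Lifting `H^d_m(N) ≃ E[Ann N]` along a regular sequence (cyclic `N`)
-/

open CategoryTheory
open scoped Pointwise

namespace Groth.Agent.Lib.Helper85.Canon

open Groth.Agent.Lib.Helper92.LC IsLocalRing InjHull RingTheory.Sequence

universe u

variable {R : Type u} [CommRing R] [IsNoetherianRing R] [IsLocalRing R]
  {E : Type u} [AddCommGroup E] [Module R E] {f : ResidueField R →ₗ[R] E}

/-- `E[Ann N]` -/
abbrev TAnn (R : Type u) [CommRing R] (E : Type u) [AddCommGroup E] [Module R E] (N : Type u)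
    [AddCommGroup N] [Module R N] : Submodule R E :=
  Submodule.torsionBySet R E (Module.annihilator R N : Set R)

omit [IsNoetherianRing R] [IsLocalRing R] in
theorem mem_TAnn_iff (N : Type u) [AddCommGroup N] [Module R N] (e : E) :
    e ∈ TAnn R E N ↔ ∀ r : R, (∀ y : N, r • y = 0) → r • e = 0 := by
  rw [Submodule.mem_torsionBySet_iff]
  constructor
  · intro h r hr
    exact h ⟨r, Module.mem_annihilator.2 hr⟩
  · rintro h ⟨r, hr⟩
    exact h r (Module.mem_annihilator.1 hr)

omit [IsNoetherianRing R] [IsLocalRing R] in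
theorem TAnn_congr {N N' : Type u} [AddCommGroup N] [Module R N] [AddCommGroup N'] [Module R N']
    (e : N ≃ₗ[R] N') : TAnn R E N = TAnn R E N' := by
  unfold TAnn
  rw [e.annihilator_eq]

section Lift

variable (hf : IsInjectiveHull f) (N : Type u) [AddCommGroup N] [Module R N] [Module.Finite R N]
  (u : N) (hu : ∀ y : N, ∃ r : R, y = r • u)
  (x : R) (hxm : x ∈ maximalIdeal R) (hx : IsSMulRegular N x)

include hf hu hxm hx in
theorem lift_step {d : ℕ} (h : LCCM R N (d + 1))
    (e' : LocCoh.H (maximalIdeal R) d (QuotSMulTop x N) ≃ₗ[R] TAnn R E (QuotSMulTop x N)) :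
    Nonempty (LocCoh.H (maximalIdeal R) (d + 1) N ≃ₗ[R] TAnn R E N) := by
  haveI : Module.Injective R E := hf.isInjective
  have hS := sesSMul_shortExact N x hx
  have hvan : Subsingleton ((localCohomology (maximalIdeal R) d).obj (sesSMul N x).X₂) :=
    h.2 d (by omega)
  have hvan' : Subsingleton ((localCohomology (maximalIdeal R) (d + 1)).obj (sesSMul N x).X₃) := by
    apply subsingleton_of_supportDim_lt
    refine lt_of_le_of_lt (supportDim_quot_le N x hxm hx d h.1) ?_
    exact_mod_cast Nat.lt_succ_self d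
  have hδinj := δ_injective (maximalIdeal R) hS d hvan
  have hrange : ∀ w : (localCohomology (maximalIdeal R) (d + 1)).obj (sesSMul N x).X₁,
      w ∈ LinearMap.range (δ (maximalIdeal R) d hS) ↔ x • w = 0 := by
    intro w
    rw [mem_range_δ_iff, Hmap_sesSMul_f]
  have hsurj : ∀ y : (localCohomology (maximalIdeal R) (d + 1)).obj (sesSMul N x).X₂,
      ∃ w : (localCohomology (maximalIdeal R) (d + 1)).obj (sesSMul N x).X₁, x • w = y := by
    intro y
    obtain ⟨w, hw⟩ := exact₂ (maximalIdeal R) (d + 1) hS y (Subsingleton.elim _ _)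
    exact ⟨w, by rw [← hw, Hmap_sesSMul_f]⟩
  -- the map on the `x`-torsion
  let eδ := LinearEquiv.ofInjective (δ (maximalIdeal R) d hS) hδinj
  let ι₀ : LinearMap.range (δ (maximalIdeal R) d hS) →ₗ[R] E :=
    (TAnn R E (QuotSMulTop x N)).subtype ∘ₗ e'.toLinearMap ∘ₗ eδ.symm.toLinearMap
  have hι₀ : ∀ z, ι₀ ⟨δ (maximalIdeal R) d hS z, ⟨z, rfl⟩⟩ = (e' z : E) := by
    intro z
    have : eδ.symm ⟨δ (maximalIdeal R) d hS z, ⟨z, rfl⟩⟩ = z := by
      rw [LinearEquiv.symm_apply_eq]
      rfl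
    change ((e' (eδ.symm ⟨δ (maximalIdeal R) d hS z, ⟨z, rfl⟩⟩) : TAnn R E (QuotSMulTop x N)) : E) = _
    rw [this]
  obtain ⟨ψ, hψ⟩ := Module.Injective.extension_property R E _ _
    (LinearMap.range (δ (maximalIdeal R) d hS)).subtype (Submodule.subtype_injective _) ι₀
  have hψδ : ∀ z, ψ (δ (maximalIdeal R) d hS z) = (e' z : E) := by
    intro z
    rw [← hι₀ z, ← hψ]
    rfl
  have hψT : ∀ w, ψ w ∈ TAnn R E N := by
    intro w
    rw [mem_TAnn_iff]
    intro r hr
    rw [← map_smul, smul_H_eq_zero _ _ N r hr w, map_zero]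
  -- injectivity
  have hinj : ∀ (t : ℕ) (w : (localCohomology (maximalIdeal R) (d + 1)).obj (sesSMul N x).X₁),
      x ^ t • w = 0 → ψ w = 0 → w = 0 := by
    intro t
    induction t with
    | zero =>
      intro w hw _
      rwa [pow_zero, one_smul] at hw
    | succ t ih =>
      intro w hw hψw
      have h1 : x • w = 0 := by
        apply ih (x • w)
        · rw [smul_smul, ← pow_succ]; exact hw
        · rw [map_smul, hψw, smul_zero]
      obtain ⟨z, rfl⟩ := (hrange w).2 h1
      rw [hψδ] at hψw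
      have hz : e' z = 0 := Subtype.ext hψw
      rw [e'.map_eq_zero_iff.1 hz, map_zero]
  -- surjectivity
  have hT : ∀ e : E, e ∈ TAnn R E N → x • e = 0 → e ∈ TAnn R E (QuotSMulTop x N) := by
    intro e he hxe
    rw [mem_TAnn_iff] at he ⊢
    intro r hr
    have h1 := hr (Submodule.Quotient.mk u)
    rw [← Submodule.Quotient.mk_smul, Submodule.Quotient.mk_eq_zero] at h1
    obtain ⟨y, -, hy⟩ := (Submodule.mem_smul_pointwise_iff_exists _ _ _).1 h1
    obtain ⟨r', rfl⟩ := hu y
    have h2 : ∀ y' : N, (r - x * r') • y' = 0 := by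
      intro y'
      obtain ⟨s, rfl⟩ := hu y'
      rw [smul_comm, sub_smul, mul_smul, hy, sub_self, smul_zero]
    have h3 := he _ h2
    rw [sub_smul, sub_eq_zero, mul_comm, mul_smul, hxe, smul_zero] at h3
    exact h3
  have hsur : ∀ (t : ℕ) (e : E), e ∈ TAnn R E N → x ^ t • e = 0 → ∃ w, ψ w = e := by
    intro t
    induction t with
    | zero =>
      intro e _ he0
      rw [pow_zero, one_smul] at he0
      exact ⟨0, by rw [map_zero, he0]⟩
    | succ t ih =>
      intro e he he0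
      have h1 : x • e ∈ TAnn R E N := Submodule.smul_mem _ _ he
      obtain ⟨w, hw⟩ := ih (x • e) h1 (by rw [smul_smul, ← pow_succ]; exact he0)
      obtain ⟨w', rfl⟩ := hsurj w
      have h2 : e - ψ w' ∈ TAnn R E N := Submodule.sub_mem _ he (hψT w')
      have h3 : x • (e - ψ w') = 0 := by
        rw [smul_sub, ← map_smul, hw, sub_self]
      have h4 := hT _ h2 h3
      obtain ⟨z, hz⟩ := e'.surjective ⟨e - ψ w', h4⟩
      refine ⟨δ (maximalIdeal R) d hS z + w', ?_⟩
      rw [map_add, hψδ, hz]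
      exact sub_add_cancel e (ψ w')
  refine ⟨LinearEquiv.ofBijective (ψ.codRestrict (TAnn R E N) hψT) ⟨?_, ?_⟩⟩
  · rw [injective_iff_map_eq_zero]
    intro w hw
    have hw' : ψ w = 0 := congrArg Subtype.val hw
    obtain ⟨t, ht⟩ := exists_pow_smul_eq_zero (maximalIdeal R) (d + 1) w
    exact hinj t w (ht _ (Ideal.pow_mem_pow hxm t)) hw'
  · rintro ⟨e, he⟩
    obtain ⟨t, ht⟩ := Matlis.isPowerTorsion hf.toIsEssentialInj e
    obtain ⟨w, hw⟩ := hsur t e he (ht _ (Ideal.pow_mem_pow hxm t))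
    exact ⟨w, Subtype.ext hw⟩

end Lift

/-- lifting along a regular sequence -/
theorem lift_seq (hf : IsInjectiveHull f) : ∀ (xs : List R) (N : Type u) [AddCommGroup N]
    [Module R N] [Module.Finite R N] (u : N) (_ : ∀ y : N, ∃ r : R, y = r • u) (d : ℕ),
    (∀ a ∈ xs, a ∈ maximalIdeal R) → LCCM R N d → IsRegular N xs →
    Nonempty (LocCoh.H (maximalIdeal R) (d - xs.length) (N ⧸ Ideal.ofList xs • (⊤ : Submodule R N))
      ≃ₗ[R] TAnn R E (N ⧸ Ideal.ofList xs • (⊤ : Submodule R N))) →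
    Nonempty (LocCoh.H (maximalIdeal R) d N ≃ₗ[R] TAnn R E N) := by
  intro xs
  induction xs with
  | nil =>
    intro N _ _ _ u hu d _ hN _ ⟨e⟩
    have hN0 : Ideal.ofList ([] : List R) • (⊤ : Submodule R N) = ⊥ := by
      rw [Ideal.ofList_nil, Submodule.bot_smul]
    let eN := Submodule.quotEquivOfEqBot _ hN0
    exact ⟨(Hcongr (maximalIdeal R) _ eN.symm) ≪≫ₗ e ≪≫ₗ
      LinearEquiv.ofEq _ _ (TAnn_congr eN)⟩
  | cons a as' ih =>
    intro N _ _ _ u hu d hmem hN hreg hbase
    obtain ⟨ha, hreg'⟩ := (isRegular_cons_iff N a as').1 hreg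
    have ham : a ∈ maximalIdeal R := hmem a List.mem_cons_self
    have hnt : Nontrivial (QuotSMulTop a N) := hreg'.nontrivial
    obtain ⟨d', rfl⟩ := exists_eq_add_one_of_regular N hN a ham ha
    have hN' := hN.quot N a ham ha
    have hu' : ∀ y : QuotSMulTop a N, ∃ r : R,
        y = r • (Submodule.Quotient.mk u : QuotSMulTop a N) := by
      intro y
      obtain ⟨y', rfl⟩ := Submodule.Quotient.mk_surjective _ y
      obtain ⟨r', rfl⟩ := hu y'
      exact ⟨r', rfl⟩
    have hidx : d' + 1 - (a :: as').length = d' - as'.length := by simp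
    let eN := Submodule.quotOfListConsSMulTopEquivQuotSMulTopInner N a as'
    rw [hidx] at hbase
    obtain ⟨e⟩ := hbase
    obtain ⟨e1⟩ := ih (QuotSMulTop a N) _ hu' d'
      (fun b hb => hmem b (List.mem_cons_of_mem _ hb)) hN' hreg'
      ⟨(Hcongr (maximalIdeal R) _ eN.symm) ≪≫ₗ e ≪≫ₗ LinearEquiv.ofEq _ _ (TAnn_congr eN)⟩
    exact lift_step hf N u hu a ham ha hN e1

end Groth.Agent.Lib.Helper85.Canon
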