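import Groth.Agent.Lib.Helper85.LocIdent
import Groth.Agent.Lib.Helper85.LDQuot
import Groth.Agent.S17774
import Groth.Agent.Lib.Helper85.CanonInj

/-!
# Localization of `Ext^k_{R'}(M, R')` over a Gorenstein local ring versus local cohomology of `M_p`
-/

set_option autoImplicit false
set_option linter.style.haveILetI false

namespace Groth.Agent.Lib.Helper85.ExtLoc

open CategoryTheory Abelian IsLocalRing InjHull

universe u

section Core

variable (R' : Type u) [CommRing R'] [LocCoh.IsGorensteinLocalRing R']
  {A : Type u} [CommRing A] [IsNoetherianRing A] [IsLocalRing A] [Algebra R' A]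
  (hg : Function.Surjective (algebraMap R' A)) (p : Ideal A) [p.IsPrime]

include hg in
omit [IsNoetherianRing A] [IsLocalRing A] in
/-- `dim R' = dim A/p + dim R'_P` for the preimage `P` of `p` in a Cohen–Macaulay local ring -/
theorem dim_eq_add (d e h : ℕ) (hd : ringKrullDim R' = d) (he : ringKrullDim (A ⧸ p) = e)
    (hh : ringKrullDim (Localization.AtPrime (p.comap (algebraMap R' A))) = h) : d = e + h := by
  haveI := Groth.Agent.Lib.Helper4.GorCM.isCohenMacaulayLocalRing_of_gorenstein R'
  have h1 := Groth.Agent.S17774.dim_formula R' (p.comap (algebraMap R' A))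
    (Ideal.IsPrime.ne_top inferInstance)
  have h2 := IsLocalization.AtPrime.ringKrullDim_eq_height (p.comap (algebraMap R' A))
    (Localization.AtPrime (p.comap (algebraMap R' A)))
  let ψ : R' →+* A ⧸ p := (Ideal.Quotient.mk p).comp (algebraMap R' A)
  have hψ : Function.Surjective ψ := Ideal.Quotient.mk_surjective.comp hg
  have hker : RingHom.ker ψ = p.comap (algebraMap R' A) := by
    rw [← RingHom.comap_ker, Ideal.mk_ker]
  have h3 : ringKrullDim (R' ⧸ p.comap (algebraMap R' A)) = ringKrullDim (A ⧸ p) := by
    rw [← hker]
    exact ringKrullDim_eq_of_ringEquiv (RingHom.quotientKerEquivOfSurjective hψ)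
  rw [hd, h3, he, ← h2, hh] at h1
  exact_mod_cast h1


variable (M : Type u) [AddCommGroup M] [Module A M] [Module R' M] [IsScalarTower R' A M]
  [Module.Finite A M]

include hg in
/-- **Key local statement**: the localization at `P = p ∩ R'` of `Ext^k_{R'}(M, R')` vanishes iff
the local cohomology `H^j_{pA_p}(M_p)` vanishes, where `k + i = dim R'` and `j + dim A/p = i`. -/
theorem ext_loc_vanish_iff (d e k i : ℕ) (hd : ringKrullDim R' = d)
    (he : ringKrullDim (A ⧸ p) = e) (hki : k + i = d) :
    (∀ x : Ext.{u} (ModuleCat.of R' M) (ModuleCat.of R' R') k,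
        ∃ s ∈ (p.comap (algebraMap R' A)).primeCompl, s • x = 0) ↔
      ∀ j : ℕ, j + e = i → Subsingleton (LocCoh.H (maximalIdeal (Localization.AtPrime p)) j
        (LocalizedModule p.primeCompl M)) := by
  haveI : Module.Finite R' A := Module.Finite.of_surjective (Algebra.linearMap R' A) hg
  haveI : Module.Finite R' M := Module.Finite.trans A M
  rw [← subsingleton_ext_LF_iff (p.comap (algebraMap R' A)).primeCompl k M (ModuleCat.of R' R')]
  have step2 : Subsingleton (Ext.{u} ((LF (p.comap (algebraMap R' A)).primeCompl).obj
        (ModuleCat.of R' M)) ((LF (p.comap (algebraMap R' A)).primeCompl).obj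
        (ModuleCat.of R' R')) k) ↔
      Subsingleton (Ext.{u} ((LF (p.comap (algebraMap R' A)).primeCompl).obj
        (ModuleCat.of R' M)) (ModuleCat.of (Localization.AtPrime (p.comap (algebraMap R' A)))
          (Localization.AtPrime (p.comap (algebraMap R' A)))) k) :=
    ⟨fun h => subsingleton_ext_of_iso (Iso.refl _)
        (LFSelfIso (p.comap (algebraMap R' A)).primeCompl) k h,
      fun h => subsingleton_ext_of_iso (Iso.refl _)
        (LFSelfIso (p.comap (algebraMap R' A)).primeCompl).symm k h⟩
  rw [step2]
  haveI := isGorensteinLocalRing_localization R' (p.comap (algebraMap R' A))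
  obtain ⟨h, hdimA', -, hinj'⟩ := Groth.Agent.Lib.Helper4.GorCM.gorenstein_dim
    (Localization.AtPrime (p.comap (algebraMap R' A)))
  have hdeh : d = e + h := dim_eq_add R' hg p d e h hd he hdimA'
  haveI := ModuleCat.localizedModule_isLocalizedModule (ModuleCat.of R' M)
    (p.comap (algebraMap R' A)).primeCompl
  haveI : Module.Finite (Localization.AtPrime (p.comap (algebraMap R' A)))
      ((ModuleCat.of R' M).localizedModule (p.comap (algebraMap R' A)).primeCompl) :=
    Module.Finite.of_isLocalizedModule (p.comap (algebraMap R' A)).primeCompl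
      ((ModuleCat.of R' M).localizedModuleMkLinearMap (p.comap (algebraMap R' A)).primeCompl)
  by_cases hei : e ≤ i
  · obtain ⟨j₀, hj₀⟩ : ∃ j₀, j₀ + e = i := ⟨i - e, by omega⟩
    obtain ⟨E'', _, _, f'', hf''⟩ := Hull.exists_injectiveHull
      (R := Localization.AtPrime (p.comap (algebraMap R' A)))
      (ResidueField (Localization.AtPrime (p.comap (algebraMap R' A))))
    obtain ⟨D⟩ := CanonQuot.gor_duality (Localization.AtPrime (p.comap (algebraMap R' A))) h hdimA'
      hf'' k j₀ (by omega)
      ((ModuleCat.of R' M).localizedModule (p.comap (algebraMap R' A)).primeCompl)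
    have step3 : Subsingleton (Ext.{u} ((LF (p.comap (algebraMap R' A)).primeCompl).obj
          (ModuleCat.of R' M)) (ModuleCat.of (Localization.AtPrime (p.comap (algebraMap R' A)))
          (Localization.AtPrime (p.comap (algebraMap R' A)))) k) ↔
        Subsingleton (LocCoh.H (maximalIdeal (Localization.AtPrime (p.comap (algebraMap R' A))))
          j₀ ((ModuleCat.of R' M).localizedModule (p.comap (algebraMap R' A)).primeCompl)) := by
      constructor
      · intro hsub
        haveI : Subsingleton (Ext.{u} (ModuleCat.of (Localization.AtPrime (p.comap (algebraMap R' A)))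
            ((ModuleCat.of R' M).localizedModule (p.comap (algebraMap R' A)).primeCompl))
            (ModuleCat.of (Localization.AtPrime (p.comap (algebraMap R' A)))
            (Localization.AtPrime (p.comap (algebraMap R' A)))) k) := hsub
        exact D.toEquiv.subsingleton
      · intro hsub
        have h1 := D.symm.toEquiv.subsingleton
        exact Groth.Agent.Lib.Helper85.Canon.subsingleton_of_dual_subsingleton hf'' _ h1
    rw [step3, subsingleton_H_loc_iff hg p M j₀]
    constructor
    · intro hs j hj
      obtain rfl : j = j₀ := by omega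
      exact hs
    · intro hall
      exact hall j₀ hj₀
  · constructor
    · intro _ j hj
      omega
    · intro _
      refine ⟨fun a b => ?_⟩
      haveI := hinj'
      rw [Ext.eq_zero_of_hasInjectiveDimensionLT a (h + 1) (by omega),
        Ext.eq_zero_of_hasInjectiveDimensionLT b (h + 1) (by omega)]

end Core

end Groth.Agent.Lib.Helper85.ExtLoc
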