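import Groth.Agent.Lib.Helper85.CanonGor
import Groth.Agent.Lib.Helper98.CechRestrict
import Groth.Agent.Lib.Helper27.InjHull

/-!
# Canonical modules and quotient maps `R' → R` of local rings

* `modOfSurj`: an `R'`-module killed by `ker (R' → R)` is an `R`-module
* `compHull_bijective`: `Hom_R(X, E) ≃ Hom_{R'}(X, E')` for an essential `R'`-embedding `E → E'`
* `exists_hull_embedding`: hull of `k` over `R` embeds essentially into hull of `k'` over `R'`
* `exists_canon_of_surjective_gorenstein`: existence of canonical module for quotients of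
  Gorenstein local rings
-/

set_option autoImplicit false
set_option linter.style.haveILetI false

namespace Groth.Agent.Lib.Helper85.CanonQuot

open IsLocalRing InjHull CategoryTheory

universe u

section Generic

variable {R' R : Type u} [CommRing R'] [CommRing R] [Algebra R' R]

/-- module structure over a quotient -/
@[reducible] noncomputable def modOfSurj (hg : Function.Surjective (algebraMap R' R)) (X : Type u)
    [AddCommGroup X] [Module R' X]
    (hX : ∀ r : R', algebraMap R' R r = 0 → ∀ x : X, r • x = 0) : Module R X :=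
  letI : Module (R' ⧸ RingHom.ker (algebraMap R' R)) X :=
    Module.IsTorsionBySet.module (fun x a => hX a.1 ((RingHom.mem_ker).mp a.2) x)
  Module.compHom X ((RingHom.quotientKerEquivOfSurjective hg).symm :
    R →+* R' ⧸ RingHom.ker (algebraMap R' R))

theorem modOfSurj_smul (hg : Function.Surjective (algebraMap R' R)) (X : Type u)
    [AddCommGroup X] [Module R' X]
    (hX : ∀ r : R', algebraMap R' R r = 0 → ∀ x : X, r • x = 0) (r' : R') (x : X) :
    letI := modOfSurj hg X hX
    (algebraMap R' R r') • x = r' • x := by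
  letI : Module (R' ⧸ RingHom.ker (algebraMap R' R)) X :=
    Module.IsTorsionBySet.module (fun x a => hX a.1 ((RingHom.mem_ker).mp a.2) x)
  change ((RingHom.quotientKerEquivOfSurjective hg).symm (algebraMap R' R r')) • x = r' • x
  have : (RingHom.quotientKerEquivOfSurjective hg).symm (algebraMap R' R r') =
      Ideal.Quotient.mk _ r' := by
    rw [RingEquiv.symm_apply_eq]
    rfl
  rw [this]
  rfl

theorem modOfSurj_tower (hg : Function.Surjective (algebraMap R' R)) (X : Type u)
    [AddCommGroup X] [Module R' X]
    (hX : ∀ r : R', algebraMap R' R r = 0 → ∀ x : X, r • x = 0) :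
    letI := modOfSurj hg X hX
    IsScalarTower R' R X := by
  letI := modOfSurj hg X hX
  exact IsScalarTower.of_algebraMap_smul (fun r x => modOfSurj_smul hg X hX r x)


/-- an `R`-module map into `E`, composed with an essential `R'`-embedding `E → E'` -/
noncomputable def compHull {E E' : Type u} [AddCommGroup E] [Module R E] [Module R' E]
    [IsScalarTower R' R E] [AddCommGroup E'] [Module R' E'] (h : E →ₗ[R'] E')
    (X : Type u) [AddCommGroup X] [Module R X] [Module R' X] [IsScalarTower R' R X] :
    (X →ₗ[R] E) →+ (X →ₗ[R'] E') where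
  toFun ψ := h ∘ₗ (ψ.restrictScalars R')
  map_zero' := by
    ext x
    simp
  map_add' ψ₁ ψ₂ := by
    ext x
    simp

theorem compHull_apply {E E' : Type u} [AddCommGroup E] [Module R E] [Module R' E]
    [IsScalarTower R' R E] [AddCommGroup E'] [Module R' E'] (h : E →ₗ[R'] E')
    (X : Type u) [AddCommGroup X] [Module R X] [Module R' X] [IsScalarTower R' R X]
    (ψ : X →ₗ[R] E) (x : X) : compHull h X ψ x = h (ψ x) := rfl

theorem compHull_smul {E E' : Type u} [AddCommGroup E] [Module R E] [Module R' E]
    [IsScalarTower R' R E] [AddCommGroup E'] [Module R' E'] (h : E →ₗ[R'] E')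
    (X : Type u) [AddCommGroup X] [Module R X] [Module R' X] [IsScalarTower R' R X]
    (r' : R') (ψ : X →ₗ[R] E) :
    compHull h X (algebraMap R' R r' • ψ) = r' • compHull h X ψ := by
  ext x
  rw [compHull_apply, LinearMap.smul_apply, LinearMap.smul_apply, compHull_apply,
    algebraMap_smul, map_smul]

theorem compHull_bijective (hg : Function.Surjective (algebraMap R' R))
    {E E' : Type u} [AddCommGroup E] [Module R E] [Module R' E]
    [IsScalarTower R' R E] [Module.Injective R E] [AddCommGroup E'] [Module R' E']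
    (h : E →ₗ[R'] E') (hh : IsEssentialInj h)
    (X : Type u) [AddCommGroup X] [Module R X] [Module R' X] [IsScalarTower R' R X] :
    Function.Bijective (compHull (R := R) h X) := by
  constructor
  · intro ψ₁ ψ₂ h12
    ext x
    apply hh.injective
    have := LinearMap.congr_fun h12 x
    rwa [compHull_apply, compHull_apply] at this
  · intro φ
    -- the submodule of X where φ lands in the range of h
    let P : Submodule R X :=
      { carrier := {x | φ x ∈ LinearMap.range h}
        add_mem' := by
          intro a b ha hb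
          change φ (a + b) ∈ LinearMap.range h
          rw [map_add]
          exact Submodule.add_mem _ ha hb
        zero_mem' := by
          change φ 0 ∈ LinearMap.range h
          rw [map_zero]
          exact Submodule.zero_mem _
        smul_mem' := by
          intro r x hx
          obtain ⟨r', rfl⟩ := hg r
          change φ (algebraMap R' R r' • x) ∈ LinearMap.range h
          rw [algebraMap_smul, map_smul]
          exact Submodule.smul_mem _ _ hx }
    have hP : ∀ x : P, ∃ e : E, h e = φ x := fun x => x.2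
    choose ψf hψf using hP
    let ψ₀ : P →ₗ[R] E :=
      { toFun := ψf
        map_add' := by
          intro a b
          apply hh.injective
          rw [map_add, hψf, hψf, hψf]
          simp
        map_smul' := by
          intro r a
          obtain ⟨r', rfl⟩ := hg r
          apply hh.injective
          rw [hψf, RingHom.id_apply, algebraMap_smul R r' (ψf a), map_smul, hψf,
            Submodule.coe_smul, algebraMap_smul, map_smul] }
    obtain ⟨ψ, hψ⟩ := Module.Injective.extension_property R E P X P.subtype
      (Submodule.injective_subtype P) ψ₀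
    have hψ' : ∀ x : P, ψ x = ψf x := fun x => LinearMap.congr_fun hψ x
    refine ⟨ψ, ?_⟩
    ext x
    rw [compHull_apply]
    by_contra hne
    have hD : φ x - h (ψ x) ≠ 0 := fun h0 => hne (sub_eq_zero.mp h0).symm
    obtain ⟨r', e, hr, he⟩ := Groth.Agent.Lib.Helper27.InjHullLib.IsEssentialInj.exists_smul hh hD
    apply hr
    have hmem : r' • x ∈ P := by
      change φ (r' • x) ∈ LinearMap.range h
      refine ⟨e + r' • ψ x, ?_⟩
      rw [map_add, he, map_smul, map_smul, smul_sub]
      abel
    have h1 := hψ' ⟨r' • x, hmem⟩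
    have h2 := hψf ⟨r' • x, hmem⟩
    rw [← h1] at h2
    change h (ψ (r' • x)) = φ (r' • x) at h2
    have h3 : ψ (r' • x) = r' • ψ x := by
      rw [← algebraMap_smul R r' x, map_smul, algebraMap_smul]
    rw [h3, map_smul, map_smul] at h2
    rw [smul_sub, h2, sub_self]

end Generic

section Local

variable {R' R : Type u} [CommRing R'] [CommRing R] [Algebra R' R] [IsLocalRing R'] [IsLocalRing R]

/-- the residue fields of a local ring and of a quotient agree -/
theorem exists_residue_equiv (hg : Function.Surjective (algebraMap R' R)) :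
    Nonempty (ResidueField R' ≃ₗ[R'] ResidueField R) := by
  haveI : IsLocalHom (algebraMap R' R) := IsLocalHom.of_surjective _ hg
  let c₀ : ResidueField R' →+* ResidueField R := ResidueField.map (algebraMap R' R)
  let c : ResidueField R' →ₗ[R'] ResidueField R :=
    { toFun := c₀
      map_add' := map_add c₀
      map_smul' := by
        intro r' x
        rw [RingHom.id_apply, Algebra.smul_def, map_mul, ← algebraMap_smul R r' (c₀ x),
          Algebra.smul_def]
        rfl }
  refine ⟨LinearEquiv.ofBijective c ⟨c₀.injective, ?_⟩⟩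
  intro y
  obtain ⟨r, rfl⟩ := IsLocalRing.residue_surjective y
  obtain ⟨r', rfl⟩ := hg r
  exact ⟨IsLocalRing.residue R' r', rfl⟩

theorem exists_hull_embedding (hg : Function.Surjective (algebraMap R' R))
    {E E' : Type u} [AddCommGroup E] [Module R E] [Module R' E] [IsScalarTower R' R E]
    [AddCommGroup E'] [Module R' E'] {f : ResidueField R →ₗ[R] E} (hf : IsEssentialInj f)
    {f' : ResidueField R' →ₗ[R'] E'} (hf' : IsInjectiveHull f') :
    ∃ h : E →ₗ[R'] E', IsEssentialInj h := by
  obtain ⟨c⟩ := exists_residue_equiv (R' := R') (R := R) hg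
  let f₁ : ResidueField R' →ₗ[R'] E := (f.restrictScalars R') ∘ₗ c.toLinearMap
  have hf₁ : Function.Injective f₁ := hf.injective.comp c.injective
  haveI := hf'.isInjective
  obtain ⟨h, hh⟩ := Module.Injective.extension_property R' E' _ _ f₁ hf₁ f'
  have hess₁ : IsEssentialInj f₁ := by
    refine Groth.Agent.Lib.Helper27.InjHullLib.isEssentialInj_of_forall hf₁ ?_
    intro e he
    obtain ⟨r, m, hr, hm⟩ := Groth.Agent.Lib.Helper27.InjHullLib.IsEssentialInj.exists_smul hf he
    obtain ⟨r', rfl⟩ := hg r
    obtain ⟨m', rfl⟩ := c.surjective m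
    rw [algebraMap_smul] at hr hm
    exact ⟨r', m', hr, hm⟩
  have hinj : Function.Injective h := by
    refine Groth.Agent.Lib.Helper27.InjHullLib.injective_of_comp_injective hess₁ h ?_
    rw [hh]
    exact hf'.injective
  refine ⟨h, Groth.Agent.Lib.Helper27.InjHullLib.isEssentialInj_of_forall hinj ?_⟩
  intro x hx
  obtain ⟨r', m', hr, hm⟩ :=
    Groth.Agent.Lib.Helper27.InjHullLib.IsEssentialInj.exists_smul hf'.toIsEssentialInj hx
  refine ⟨r', f₁ m', hr, ?_⟩
  rw [← hm, ← hh]
  rfl

end Local

theorem ext_smul_eq_zero {A : Type u} [CommRing A] (M N : ModuleCat.{u} A) (a : A)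
    (ha : ∀ m : M, a • m = 0) (i : ℕ) (x : Abelian.Ext.{u} M N i) : a • x = 0 := by
  have h1 : x = (Abelian.Ext.mk₀ (𝟙 M)).comp x (zero_add i) := (Abelian.Ext.mk₀_id_comp x).symm
  rw [h1, ← Abelian.Ext.smul_comp, ← Abelian.Ext.mk₀_smul]
  have : a • 𝟙 M = 0 := by
    ext m
    exact ha m
  rw [this, Abelian.Ext.mk₀_zero, Abelian.Ext.zero_comp]


section Main

open Groth.Agent.Lib.Helper92.LC

/-- a homomorphic image of a Gorenstein local ring has a canonical module -/
theorem exists_canon_of_surjective_gorenstein (R : Type u) [CommRing R] [IsNoetherianRing R]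
    [IsLocalRing R] (n : ℕ) (hn : ringKrullDim R = n) {E : Type u} [AddCommGroup E] [Module R E]
    {f : ResidueField R →ₗ[R] E} (hf : IsInjectiveHull f)
    (R' : Type u) [CommRing R'] [LocCoh.IsGorensteinLocalRing R'] [Algebra R' R]
    (hg : Function.Surjective (algebraMap R' R)) :
    ∃ (K : Type u) (_ : AddCommGroup K) (_ : Module R K), Module.Finite R K ∧
      Nonempty ((K →ₗ[R] E) ≃ₗ[R] LocCoh.H (maximalIdeal R) n R) := by
  haveI := Groth.Agent.Lib.Helper4.GorCM.isCohenMacaulayLocalRing_of_gorenstein R'
  obtain ⟨d, hdim, hdepth, hinj⟩ := Groth.Agent.Lib.Helper4.GorCM.gorenstein_dim R'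
  have hnd : n ≤ d := by
    have := ringKrullDim_le_of_surjective (algebraMap R' R) hg
    rw [hn, hdim] at this
    exact_mod_cast this
  obtain ⟨i, hi⟩ : ∃ i, i + n = d := ⟨d - n, by omega⟩
  obtain ⟨E', _, _, f', hf'⟩ := Hull.exists_injectiveHull (R := R') (ResidueField R')
  letI : Module R' E := Module.compHom E (algebraMap R' R)
  haveI : IsScalarTower R' R E := IsScalarTower.of_algebraMap_smul (fun r x => rfl)
  obtain ⟨h, hh⟩ := exists_hull_embedding hg hf.toIsEssentialInj hf'
  obtain ⟨eG⟩ := Canon.gor_top_equiv R' d hdim hf'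
  let eK' : (R' →ₗ[R'] E') ≃ₗ[R'] LocCoh.H (maximalIdeal R') d R' :=
    (LinearMap.ringLmapEquivSelf R' R' E').trans eG.symm
  have hcd : LocCoh.CdLE R' (maximalIdeal R') d := cdLE_of_ringKrullDim_le _ d (le_of_eq hdim)
  have hN := Canon.LCCM.self_of_CM R' d hdim
  haveI := hf'.isInjective
  haveI := hf.isInjective
  haveI : Module.Finite R' R := Module.Finite.of_surjective (Algebra.linearMap R' R) hg
  obtain ⟨D⟩ := Canon.duality (E := E') R' d hcd hN.2 eK' i n hi R
  have hX : ∀ r : R', algebraMap R' R r = 0 →
      ∀ x : Abelian.Ext.{u} (ModuleCat.of R' R) (ModuleCat.of R' R') i, r • x = 0 := by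
    intro r hr x
    refine ext_smul_eq_zero _ _ r ?_ i x
    intro m
    change r • (m : R) = 0
    rw [Algebra.smul_def, hr, zero_mul]
  letI : Module R (Abelian.Ext.{u} (ModuleCat.of R' R) (ModuleCat.of R' R') i) :=
    modOfSurj hg _ hX
  haveI : IsScalarTower R' R (Abelian.Ext.{u} (ModuleCat.of R' R) (ModuleCat.of R' R') i) :=
    modOfSurj_tower hg _ hX
  haveI : Module.Finite R (Abelian.Ext.{u} (ModuleCat.of R' R) (ModuleCat.of R' R') i) :=
    Module.Finite.of_restrictScalars_finite R' R _
  have hmap : (maximalIdeal R').map (algebraMap R' R) = maximalIdeal R :=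
    map_maximalIdeal_of_surjective _ hg
  obtain ⟨φ, hφ⟩ : ∃ φ : LocCoh.H (maximalIdeal R) n R ≃+ LocCoh.H (maximalIdeal R') n R,
      ∀ (r : R') (x : LocCoh.H (maximalIdeal R) n R), φ (algebraMap R' R r • x) = r • φ x := by
    rw [← hmap]
    exact Helper98.CechRestrict.lc_restrict (R := R') (R' := R) (maximalIdeal R') R n
  refine ⟨Abelian.Ext.{u} (ModuleCat.of R' R) (ModuleCat.of R' R') i, inferInstance, inferInstance,
    inferInstance, ?_⟩
  let Φ : (Abelian.Ext.{u} (ModuleCat.of R' R) (ModuleCat.of R' R') i →ₗ[R] E) ≃+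
      (Abelian.Ext.{u} (ModuleCat.of R' R) (ModuleCat.of R' R') i →ₗ[R'] E') :=
    AddEquiv.ofBijective (compHull (R := R) h _) (compHull_bijective hg h hh _)
  let Ψ : (Abelian.Ext.{u} (ModuleCat.of R' R) (ModuleCat.of R' R') i →ₗ[R] E) ≃+
      LocCoh.H (maximalIdeal R) n R :=
    Φ.trans (D.symm.toAddEquiv.trans φ.symm)
  refine ⟨Ψ.toLinearEquiv ?_⟩
  intro r ψ
  obtain ⟨r', rfl⟩ := hg r
  change φ.symm (D.symm (compHull (R := R) h _ (algebraMap R' R r' • ψ))) =
    algebraMap R' R r' • φ.symm (D.symm (compHull (R := R) h _ ψ))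
  rw [compHull_smul, map_smul]
  apply φ.injective
  rw [hφ, AddEquiv.apply_symm_apply, AddEquiv.apply_symm_apply]

end Main

end Groth.Agent.Lib.Helper85.CanonQuot
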