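import Groth.Agent.Lib.Helper85.CanonLift
import Groth.Agent.Lib.Helper85.HullIndec
import Groth.Agent.Lib.Helper76.RegularLocalGlDim
import Groth.Agent.Lib.Helper77.RegularCM

/-!
# `H^n_m(R) ≃ E` for a regular local ring
-/

open CategoryTheory
open scoped Pointwise

namespace Groth.Agent.Lib.Helper85.Canon

open Groth.Agent.Lib.Helper92.LC IsLocalRing InjHull RingTheory.Sequence

universe u

section Base

variable {R : Type u} [CommRing R] [IsNoetherianRing R] [IsLocalRing R]
  {E : Type u} [AddCommGroup E] [Module R E] {f : ResidueField R →ₗ[R] E}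

/-- the base case: `N ≃ R/m` -/
theorem base_residue (hf : IsInjectiveHull f) (N : Type u) [AddCommGroup N] [Module R N]
    (eN : N ≃ₗ[R] (R ⧸ maximalIdeal R)) :
    Nonempty (LocCoh.H (maximalIdeal R) 0 N ≃ₗ[R] TAnn R E N) := by
  haveI : Module.Finite R N := Module.Finite.equiv eN.symm
  have hdim : Module.supportDim R N ≤ 0 := by
    rw [Module.supportDim_eq_of_equiv eN, Module.supportDim_quotient_eq_ringKrullDim,
      Groth.Agent.Lib.Helper67.ringKrullDim_quotient_maximalIdeal]
  have hT : TAnn R E N = LinearMap.range f := by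
    rw [← Matlis.socle_eq_range hf.toIsEssentialInj]
    unfold TAnn LocCoh.torsionBy
    rw [eN.annihilator_eq, Ideal.annihilator_quotient]
  have e1 : (ResidueField R) ≃ₗ[R] LinearMap.range f := LinearEquiv.ofInjective f hf.injective
  exact ⟨H0Equiv N hdim ≪≫ₗ eN ≪≫ₗ e1 ≪≫ₗ LinearEquiv.ofEq _ _ hT.symm⟩

omit [IsNoetherianRing R] [IsLocalRing R] in
theorem TAnn_self : TAnn R E R = ⊤ := by
  rw [eq_top_iff]
  intro e _
  rw [mem_TAnn_iff]
  intro r hr
  have := hr 1
  rw [smul_eq_mul, mul_one] at this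
  rw [this, zero_smul]

end Base

/-- `H^n_m(R) ≃ E` for a regular local ring of dimension `n` -/
theorem regular_top_equiv (R : Type u) [CommRing R] [IsRegularLocalRing R] (n : ℕ)
    (hn : ringKrullDim R = n) {E : Type u} [AddCommGroup E] [Module R E]
    {f : ResidueField R →ₗ[R] E} (hf : IsInjectiveHull f) :
    Nonempty (LocCoh.H (maximalIdeal R) n R ≃ₗ[R] E) := by
  haveI := Groth.Agent.Lib.Helper77.RegularCM.isCohenMacaulayLocalRing R
  obtain ⟨x, hx⟩ := Groth.Agent.Lib.Helper76.exists_fin_span_range_eq_maximalIdeal R n hn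
  have hreg := Groth.Agent.Lib.Helper76.isRegular_of_span_range_eq_maximalIdeal R n hn x hx
  have hof : Ideal.ofList (List.ofFn x) = maximalIdeal R := by
    rw [← hx]
    unfold Ideal.ofList
    congr 1
    ext r
    simp [List.mem_ofFn]
  have hmem : ∀ a ∈ List.ofFn x, a ∈ maximalIdeal R := by
    intro a ha
    rw [← hof]
    exact Ideal.subset_span ha
  have hN := LCCM.self_of_CM R n hn
  have hu : ∀ y : R, ∃ r : R, y = r • (1 : R) := fun y => ⟨y, by rw [smul_eq_mul, mul_one]⟩
  have heq : Ideal.ofList (List.ofFn x) • (⊤ : Submodule R R) = maximalIdeal R := by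
    rw [smul_eq_mul, Ideal.mul_top, hof]
  have hbase : Nonempty (LocCoh.H (maximalIdeal R) (n - (List.ofFn x).length)
      (R ⧸ Ideal.ofList (List.ofFn x) • (⊤ : Submodule R R)) ≃ₗ[R]
      TAnn R E (R ⧸ Ideal.ofList (List.ofFn x) • (⊤ : Submodule R R))) := by
    rw [List.length_ofFn, Nat.sub_self]
    exact base_residue hf _ (Submodule.quotEquivOfEq _ _ heq)
  obtain ⟨e⟩ := lift_seq hf (List.ofFn x) R (1 : R) hu n hmem hN hreg hbase
  exact ⟨e ≪≫ₗ LinearEquiv.ofEq _ _ TAnn_self ≪≫ₗ Submodule.topEquiv⟩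

end Groth.Agent.Lib.Helper85.Canon
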