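import Groth.Agent.Lib.Helper85.CanonInj
import Groth.Agent.Lib.Helper77.RegularAB

/-!
# A canonical module satisfies `(S_2)` (general Noetherian local ring)

For a Noetherian local ring `R` of dimension `n` with a module `K` such that
`Hom(K, E) ≃ H^n_m(R)`:
* `hom_subsingleton_of_supportDim_lt`: `Hom(M, K) = 0` for finite `M` of dimension `< n`;
* `ext_one_subsingleton_of_supportDim_lt`: `Ext^1(M, K) = 0` for finite `M` of dimension `< n - 1`;
* `hasSk_two`: `K` satisfies `(S_2)`.
-/

open CategoryTheory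
open scoped Pointwise

namespace Groth.Agent.Lib.Helper85.Canon

open Groth.Agent.Lib.Helper92.LC IsLocalRing InjHull Abelian

universe u

variable {R : Type u} [CommRing R] [IsNoetherianRing R] [IsLocalRing R]
  {E : Type u} [AddCommGroup E] [Module R E] {f : ResidueField R →ₗ[R] E}
  (K : Type u) [AddCommGroup K] [Module R K]

section

variable (hf : IsInjectiveHull f) (n : ℕ) (hcd : LocCoh.CdLE R (maximalIdeal R) n)
  (eK : (K →ₗ[R] E) ≃ₗ[R] LocCoh.H (maximalIdeal R) n R)

include hf hcd eK

theorem hom_subsingleton_of_supportDim_lt (M : Type u) [AddCommGroup M] [Module R M]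
    [Module.Finite R M] (h : Module.supportDim R M < (n : WithBot ℕ∞)) :
    Subsingleton (M →ₗ[R] K) := by
  haveI : Module.Injective R E := hf.isInjective
  have h0 : Subsingleton ((localCohomology (maximalIdeal R) n).obj (ModuleCat.of R M)) :=
    subsingleton_of_supportDim_lt (maximalIdeal R) n M h
  have h1 : Subsingleton ((M →ₗ[R] K) →ₗ[R] E) :=
    (theta (maximalIdeal R) n hcd K E eK (ModuleCat.of R M)).symm.toEquiv.subsingleton
  exact subsingleton_of_dual_subsingleton hf _ h1

theorem ext_one_subsingleton_of_supportDim_lt (j : ℕ) (hj : n = j + 1) (M : Type u)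
    [AddCommGroup M] [Module R M] [Module.Finite R M]
    (h : Module.supportDim R M < (j : WithBot ℕ∞)) :
    Subsingleton (Ext.{u} (ModuleCat.of R M) (ModuleCat.of R K) 1) := by
  subst hj
  haveI : Module.Injective R E := hf.isInjective
  obtain ⟨b, p, hp⟩ := Module.Finite.exists_fin' R M
  have hS := LinearMap.shortExact_shortComplexKer hp
  haveI : Projective p.shortComplexKer.X₂ :=
    inferInstanceAs (Projective (ModuleCat.of R (Fin b → R)))
  haveI : Module.Finite R p.shortComplexKer.X₁ :=
    inferInstanceAs (Module.Finite R (LinearMap.ker p))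
  haveI : Module.Finite R p.shortComplexKer.X₂ :=
    inferInstanceAs (Module.Finite R (Fin b → R))
  have hvan : Subsingleton ((localCohomology (maximalIdeal R) j).obj p.shortComplexKer.X₃) :=
    subsingleton_of_supportDim_lt (maximalIdeal R) j M h
  refine ⟨fun a c => ?_⟩
  suffices h0 : ∀ x₃ : Ext.{u} (ModuleCat.of R M) (ModuleCat.of R K) 1, x₃ = 0 from
    (h0 a).trans (h0 c).symm
  intro x₃
  obtain ⟨ψ, rfl⟩ := extδ₀_surjective hS (ModuleCat.of R K) x₃
  rw [← LinearMap.mem_ker, (extδ₀_exact hS (ModuleCat.of R K)).linearMap_ker_eq]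
  set res := LinearMap.lcomp R (ModuleCat.of R K) p.shortComplexKer.f.hom with hres
  by_contra hψ
  have hne : (Submodule.Quotient.mk ψ : _ ⧸ LinearMap.range res) ≠ 0 := by
    rwa [Ne, Submodule.Quotient.mk_eq_zero]
  obtain ⟨φ, hφ⟩ := Matlis.exists_hom_apply_ne_zero hf _ hne
  let l : (p.shortComplexKer.X₁ →ₗ[R] K) →ₗ[R] E := φ ∘ₗ (LinearMap.range res).mkQ
  have hl : ∀ χ, l (res χ) = 0 := by
    intro χ
    change φ (Submodule.Quotient.mk (res χ)) = 0
    have hmem : res χ ∈ LinearMap.range res := ⟨χ, rfl⟩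
    rw [(Submodule.Quotient.mk_eq_zero _).2 hmem, map_zero]
  let w := (theta (maximalIdeal R) (j + 1) hcd K E eK p.shortComplexKer.X₁).symm l
  have hw : Hmap (maximalIdeal R) (j + 1) p.shortComplexKer.f w = 0 := by
    apply (theta (maximalIdeal R) (j + 1) hcd K E eK p.shortComplexKer.X₂).injective
    rw [map_zero]
    apply LinearMap.ext
    intro χ
    rw [theta_naturality]
    have : theta (maximalIdeal R) (j + 1) hcd K E eK p.shortComplexKer.X₁ w = l :=
      LinearEquiv.apply_symm_apply _ l
    rw [this]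
    exact hl χ
  obtain ⟨z, hz⟩ := exact₁ (maximalIdeal R) j hS w hw
  have hw0 : w = 0 := by
    rw [← hz, Subsingleton.elim z 0, map_zero]
  have hl0 : l = 0 := by
    have := congrArg (theta (maximalIdeal R) (j + 1) hcd K E eK p.shortComplexKer.X₁) hw0
    rwa [LinearEquiv.apply_symm_apply, map_zero] at this
  apply hφ
  have := LinearMap.congr_fun hl0 ψ
  exact this

theorem hasSk_two (hn : ringKrullDim R = n) [Module.Finite R K] : LocCoh.HasSk 2 R K := by
  intro p _
  -- numerical data
  haveI : Nontrivial (R ⧸ p) := Ideal.Quotient.nontrivial_iff.2 (Ideal.IsPrime.ne_top inferInstance)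
  obtain ⟨c, hc⟩ := Groth.Agent.Lib.Helper67.supportDim_eq_natCast (R := R) (M := R ⧸ p)
  have hc' : ringKrullDim (R ⧸ p) = (c : WithBot ℕ∞) := by
    rw [← hc, Module.supportDim_quotient_eq_ringKrullDim]
  have hht : p.height ≠ ⊤ := Ideal.height_ne_top (Ideal.IsPrime.ne_top inferInstance)
  obtain ⟨h, hh⟩ := ENat.ne_top_iff_exists.mp hht
  have h2 := Groth.Agent.Lib.Helper77.RegularAB.height_add_ringKrullDim_quotient_le R p
  rw [hn, hc', ← hh] at h2
  have h2' : h + c ≤ n := by exact_mod_cast h2
  have h1 : Module.supportDim (Localization.AtPrime p) (LocalizedModule p.primeCompl K) ≤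
      ((h : ℕ) : WithBot ℕ∞) := by
    refine (Module.supportDim_le_ringKrullDim _ _).trans (le_of_eq ?_)
    rw [IsLocalization.AtPrime.ringKrullDim_eq_height p (Localization.AtPrime p), ← hh]
    rfl
  have key : ∀ j : ℕ, j ≤ 2 → j ≤ h →
      (j : ℕ∞) ≤ LocCoh.depth (Localization.AtPrime p) (LocalizedModule p.primeCompl K) := by
    intro j hj2 hjh
    refine le_trans ?_ (Groth.Agent.Lib.Helper67.idealDepth_le_depth_localization p K p le_rfl)
    rw [Groth.Agent.Lib.Helper67.le_idealDepth_iff_ext' p K j]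
    intro i hi
    have hi' : i = 0 ∨ i = 1 := by omega
    rcases hi' with rfl | rfl
    · have hlt : Module.supportDim R (R ⧸ p) < (n : WithBot ℕ∞) := by
        rw [hc]; exact_mod_cast (by omega : c < n)
      have := hom_subsingleton_of_supportDim_lt K hf n hcd eK (R ⧸ p) hlt
      refine ⟨fun a b => ?_⟩
      obtain ⟨a', rfl⟩ := (Ext.mk₀_bijective _ _).2 a
      obtain ⟨b', rfl⟩ := (Ext.mk₀_bijective _ _).2 b
      congr 1
      apply ModuleCat.hom_ext
      exact Subsingleton.elim _ _
    · obtain ⟨j', rfl⟩ : ∃ j', n = j' + 1 := ⟨n - 1, by omega⟩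
      have hlt : Module.supportDim R (R ⧸ p) < (j' : WithBot ℕ∞) := by
        rw [hc]; exact_mod_cast (by omega : c < j')
      exact ext_one_subsingleton_of_supportDim_lt K hf (j' + 1) hcd eK j' rfl (R ⧸ p) hlt
  rw [min_le_iff]
  generalize hδ : Module.supportDim (Localization.AtPrime p) (LocalizedModule p.primeCompl K) = δ
    at h1
  induction δ using WithBot.recBotCoe with
  | bot => exact Or.inr bot_le
  | coe t =>
    have ht : t ≤ (h : ℕ∞) := by exact_mod_cast h1
    have htt : t ≠ ⊤ := fun h' => by rw [h'] at ht; simp at ht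
    obtain ⟨t', rfl⟩ := ENat.ne_top_iff_exists.mp htt
    have ht' : t' ≤ h := by exact_mod_cast ht
    rcases Nat.lt_or_ge t' 2 with hlt | hge
    · right
      have := key t' (by omega) ht'
      exact_mod_cast this
    · left
      have := key 2 le_rfl (by omega)
      have h3 : (((2 : ℕ) : ℕ∞) : WithBot ℕ∞) ≤ ((LocCoh.depth (Localization.AtPrime p)
          (LocalizedModule p.primeCompl K) : ℕ∞) : WithBot ℕ∞) := WithBot.coe_le_coe.2 this
      exact h3

end

end Groth.Agent.Lib.Helper85.Canon
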