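import Groth.Agent.Lib.Helper85.CanonStep

/-!
# Canonical modules: reduction modulo a regular sequence
-/

open CategoryTheory
open scoped Pointwise

namespace Groth.Agent.Lib.Helper85.Canon

open Groth.Agent.Lib.Helper92.LC IsLocalRing InjHull RingTheory.Sequence

universe u

variable {R : Type u} [CommRing R] [IsNoetherianRing R] [IsLocalRing R]
  {E : Type u} [AddCommGroup E] [Module R E] {f : ResidueField R →ₗ[R] E}

omit [IsNoetherianRing R] in
theorem LCCM.of_equiv {N N' : Type u} [AddCommGroup N] [Module R N] [AddCommGroup N'] [Module R N']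
    (e : N ≃ₗ[R] N') {d : ℕ} (h : LCCM R N d) : LCCM R N' d := by
  refine ⟨(Module.supportDim_eq_of_equiv e).symm ▸ h.1, fun i hi => ?_⟩
  have := h.2 i hi
  exact (Hcongr (maximalIdeal R) i e).symm.toEquiv.subsingleton

omit [IsNoetherianRing R] in
theorem not_supportDim_add_one_le_zero (N : Type u) [AddCommGroup N] [Module R N] [Nontrivial N]
    (h : Module.supportDim R N + 1 ≤ 0) : False := by
  have hne := Module.supportDim_ne_bot_of_nontrivial R N
  obtain ⟨t, ht⟩ := WithBot.ne_bot_iff_exists.1 hne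
  rw [← ht] at h
  have h' : ((t + 1 : ℕ∞) : WithBot ℕ∞) ≤ ((0 : ℕ∞) : WithBot ℕ∞) := h
  have := WithBot.coe_le_coe.1 h'
  simp at this

/-- reduction of a canonical pair modulo a regular sequence -/
theorem regular_dual (hf : IsInjectiveHull f) : ∀ (as : List R) (N D : Type u) [AddCommGroup N]
    [Module R N] [Module.Finite R N] [AddCommGroup D] [Module R D] (d : ℕ),
    (∀ a ∈ as, a ∈ maximalIdeal R) → LCCM R N d →
    ((D →ₗ[R] E) ≃ₗ[R] LocCoh.H (maximalIdeal R) d N) → IsRegular N as →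
    IsWeaklyRegular D as ∧ as.length ≤ d ∧
      LCCM R (N ⧸ Ideal.ofList as • (⊤ : Submodule R N)) (d - as.length) ∧
      Nonempty (((D ⧸ Ideal.ofList as • (⊤ : Submodule R D)) →ₗ[R] E) ≃ₗ[R]
        LocCoh.H (maximalIdeal R) (d - as.length) (N ⧸ Ideal.ofList as • (⊤ : Submodule R N))) := by
  intro as
  induction as with
  | nil =>
    intro N D _ _ _ _ _ d _ hN e _
    have hD0 : Ideal.ofList ([] : List R) • (⊤ : Submodule R D) = ⊥ := by
      rw [Ideal.ofList_nil, Submodule.bot_smul]
    have hN0 : Ideal.ofList ([] : List R) • (⊤ : Submodule R N) = ⊥ := by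
      rw [Ideal.ofList_nil, Submodule.bot_smul]
    let eD := Submodule.quotEquivOfEqBot _ hD0
    let eN := Submodule.quotEquivOfEqBot _ hN0
    refine ⟨IsWeaklyRegular.nil R D, Nat.zero_le _, ?_, ?_⟩
    · exact hN.of_equiv eN.symm
    · exact ⟨(LinearEquiv.congrLeft E R eD) ≪≫ₗ e ≪≫ₗ (Hcongr (maximalIdeal R) _ eN.symm)⟩
  | cons a as' ih =>
    intro N D _ _ _ _ _ d hmem hN e hreg
    obtain ⟨ha, hreg'⟩ := (isRegular_cons_iff N a as').1 hreg
    have ham : a ∈ maximalIdeal R := hmem a List.mem_cons_self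
    have hnt : Nontrivial (QuotSMulTop a N) := hreg'.nontrivial
    obtain ⟨d', rfl⟩ : ∃ d', d = d' + 1 := by
      rcases d with _ | d'
      · exfalso
        have h1 := Module.supportDim_quotSMulTop_succ_eq_supportDim ha ham
        have h2 := hN.1
        rw [← h1] at h2
        exact not_supportDim_add_one_le_zero _ (by exact_mod_cast h2)
      · exact ⟨d', rfl⟩
    obtain ⟨hDa, ⟨e'⟩⟩ := step N a ham ha hf D hN e
    have hN' := hN.quot N a ham ha
    obtain ⟨hD', hlen, hN'', ⟨e''⟩⟩ := ih (QuotSMulTop a N) (QuotSMulTop a D) d'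
      (fun b hb => hmem b (List.mem_cons_of_mem _ hb)) hN' e' hreg'
    have hidx : d' + 1 - (a :: as').length = d' - as'.length := by simp
    let eD := Submodule.quotOfListConsSMulTopEquivQuotSMulTopInner D a as'
    let eN := Submodule.quotOfListConsSMulTopEquivQuotSMulTopInner N a as'
    refine ⟨(isWeaklyRegular_cons_iff D a as').2 ⟨hDa, hD'⟩, by simp; omega, ?_, ?_⟩
    · rw [hidx]
      exact hN''.of_equiv eN.symm
    · rw [hidx]
      exact ⟨(LinearEquiv.congrLeft E R eD) ≪≫ₗ e'' ≪≫ₗ (Hcongr (maximalIdeal R) _ eN.symm)⟩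

end Groth.Agent.Lib.Helper85.Canon
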