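import Groth.Agent.Lib.Helper85.CanonEW
import Groth.Agent.Lib.Helper85.Matlis
import Groth.Agent.Lib.Helper67.CM

/-!
# Canonical modules: reduction modulo a regular element (in `R`-module form)
-/

open CategoryTheory
open scoped Pointwise

namespace Groth.Agent.Lib.Helper85.Canon

open Groth.Agent.Lib.Helper92.LC IsLocalRing InjHull RingTheory.Sequence

universe u

section Generic

variable {R : Type u} [CommRing R]

/-- local cohomology of isomorphic modules -/
noncomputable def Hcongr (I : Ideal R) (i : ℕ) {N N' : Type u} [AddCommGroup N] [Module R N]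
    [AddCommGroup N'] [Module R N'] (e : N ≃ₗ[R] N') :
    LocCoh.H I i N ≃ₗ[R] LocCoh.H I i N' :=
  ((localCohomology I i).mapIso e.toModuleIso).toLinearEquiv

/-- an isomorphism from two injections with corresponding images -/
noncomputable def equivOfInjections {A B P Q : Type*} [AddCommGroup A] [Module R A]
    [AddCommGroup B] [Module R B] [AddCommGroup P] [Module R P] [AddCommGroup Q] [Module R Q]
    (α : A →ₗ[R] P) (β : B →ₗ[R] Q) (e : P ≃ₗ[R] Q) (hα : Function.Injective α)
    (hβ : Function.Injective β)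
    (h : ∀ p, p ∈ LinearMap.range α ↔ e p ∈ LinearMap.range β) : A ≃ₗ[R] B :=
  (LinearEquiv.ofInjective α hα) ≪≫ₗ
    (LinearEquiv.ofSubmodules e (LinearMap.range α) (LinearMap.range β) (by
      ext q
      rw [Submodule.mem_map]
      constructor
      · rintro ⟨p, hp, rfl⟩
        exact (h p).1 hp
      · intro hq
        refine ⟨e.symm q, (h _).2 ?_, ?_⟩
        · rw [LinearEquiv.apply_symm_apply]; exact hq
        · exact LinearEquiv.apply_symm_apply e q)) ≪≫ₗ
    (LinearEquiv.ofInjective β hβ).symm

end Generic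

variable {R : Type u} [CommRing R] [IsNoetherianRing R] [IsLocalRing R]
  {E : Type u} [AddCommGroup E] [Module R E] {f : ResidueField R →ₗ[R] E}

omit [IsNoetherianRing R] in
theorem isSMulRegular_of_dual_smul_surjective (hf : IsInjectiveHull f) (D : Type u)
    [AddCommGroup D] [Module R D] (x : R)
    (h : ∀ φ : D →ₗ[R] E, ∃ ψ : D →ₗ[R] E, φ = x • ψ) : IsSMulRegular D x := by
  rw [isSMulRegular_iff_right_eq_zero_of_smul]
  intro z hz
  by_contra hne
  obtain ⟨φ, hφ⟩ := Matlis.exists_hom_apply_ne_zero hf z hne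
  obtain ⟨ψ, rfl⟩ := h φ
  apply hφ
  rw [LinearMap.smul_apply, ← map_smul, hz, map_zero]

omit [IsNoetherianRing R] [IsLocalRing R] in
/-- range of `Hom(D/xD, E) → Hom(D, E)` is the `x`-torsion -/
theorem mem_range_lcomp_mkQ_iff (D : Type u) [AddCommGroup D] [Module R D] (x : R)
    (φ : D →ₗ[R] E) :
    φ ∈ LinearMap.range (LinearMap.lcomp R E (Submodule.mkQ (x • (⊤ : Submodule R D)))) ↔
      x • φ = 0 := by
  constructor
  · rintro ⟨ψ, rfl⟩
    apply LinearMap.ext
    intro z
    change x • ψ (Submodule.Quotient.mk z) = 0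
    rw [← map_smul, ← Submodule.Quotient.mk_smul,
      (Submodule.Quotient.mk_eq_zero _).2
        (Submodule.smul_mem_pointwise_smul z x ⊤ Submodule.mem_top), map_zero]
  · intro h
    have hle : x • (⊤ : Submodule R D) ≤ LinearMap.ker φ := by
      intro z hz
      obtain ⟨z', -, rfl⟩ := (Submodule.mem_smul_pointwise_iff_exists _ _ _).1 hz
      rw [LinearMap.mem_ker, map_smul]
      exact LinearMap.congr_fun h z'
    exact ⟨(x • (⊤ : Submodule R D)).liftQ φ hle, Submodule.liftQ_mkQ _ φ hle⟩

omit [IsNoetherianRing R] [IsLocalRing R] in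
theorem lcomp_mkQ_injective (D : Type u) [AddCommGroup D] [Module R D] (S : Submodule R D) :
    Function.Injective (LinearMap.lcomp R E (Submodule.mkQ S)) := by
  intro a b hab
  apply LinearMap.ext
  intro z
  obtain ⟨z', rfl⟩ := Submodule.mkQ_surjective S z
  exact LinearMap.congr_fun hab z'

/-- "Cohen–Macaulay of dimension `d`" in terms of local cohomology -/
def LCCM (R : Type u) [CommRing R] [IsLocalRing R] (N : Type u) [AddCommGroup N] [Module R N]
    (d : ℕ) : Prop :=
  Module.supportDim R N ≤ (d : WithBot ℕ∞) ∧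
    ∀ i < d, Subsingleton (LocCoh.H (maximalIdeal R) i N)

section Step

variable (N : Type u) [AddCommGroup N] [Module R N] [Module.Finite R N]
  (x : R) (hxm : x ∈ maximalIdeal R) (hx : IsSMulRegular N x)

include hxm hx in
theorem supportDim_quot_le (d : ℕ) (h : Module.supportDim R N ≤ ((d + 1 : ℕ) : WithBot ℕ∞)) :
    Module.supportDim R (QuotSMulTop x N) ≤ (d : WithBot ℕ∞) := by
  have h1 := Module.supportDim_quotSMulTop_succ_eq_supportDim hx hxm
  rw [← h1] at h
  apply Groth.Agent.Lib.Helper67.withBot_enat_le_of_add_one_le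
  refine h.trans (le_of_eq ?_)
  push_cast
  rfl

include hxm hx in
theorem LCCM.quot {d : ℕ} (h : LCCM R N (d + 1)) : LCCM R (QuotSMulTop x N) d := by
  refine ⟨supportDim_quot_le N x hxm hx d h.1, ?_⟩
  intro i hi
  have hS := sesSMul_shortExact N x hx
  have h1 : Subsingleton ((localCohomology (maximalIdeal R) (i + 1)).obj (sesSMul N x).X₁) :=
    h.2 (i + 1) (by omega)
  have h2 : Subsingleton ((localCohomology (maximalIdeal R) i).obj (sesSMul N x).X₂) :=
    h.2 i (by omega)
  refine ⟨fun z z' => ?_⟩
  suffices h : ∀ z : (localCohomology (maximalIdeal R) i).obj (sesSMul N x).X₃, z = 0 from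
    (h z).trans (h z').symm
  intro z
  obtain ⟨y, rfl⟩ := exact₃ (maximalIdeal R) i hS z (Subsingleton.elim _ _)
  rw [Subsingleton.elim y 0, map_zero]

omit [IsNoetherianRing R] [Module.Finite R N] in
theorem Hmap_sesSMul_f (i : ℕ) (w : (localCohomology (maximalIdeal R) i).obj (sesSMul N x).X₁) :
    Hmap (maximalIdeal R) i (sesSMul N x).f w = x • w := by
  rw [sesSMul_f, Hmap_smul_id]

include hxm hx in
/-- the key step: reduction of a "canonical pair" modulo a regular element -/
theorem step (hf : IsInjectiveHull f) (D : Type u) [AddCommGroup D] [Module R D] {d : ℕ}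
    (h : LCCM R N (d + 1))
    (e : (D →ₗ[R] E) ≃ₗ[R] LocCoh.H (maximalIdeal R) (d + 1) N) :
    IsSMulRegular D x ∧
      Nonempty ((QuotSMulTop x D →ₗ[R] E) ≃ₗ[R] LocCoh.H (maximalIdeal R) d (QuotSMulTop x N)) := by
  have hS := sesSMul_shortExact N x hx
  have hvan : Subsingleton ((localCohomology (maximalIdeal R) d).obj (sesSMul N x).X₂) :=
    h.2 d (by omega)
  have hvan' : Subsingleton ((localCohomology (maximalIdeal R) (d + 1)).obj (sesSMul N x).X₃) := by
    apply subsingleton_of_supportDim_lt
    refine lt_of_le_of_lt (supportDim_quot_le N x hxm hx d h.1) ?_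
    exact_mod_cast Nat.lt_succ_self d
  -- `x` is surjective on `H^{d+1}(N)`
  have hsurj : ∀ y : (localCohomology (maximalIdeal R) (d + 1)).obj (sesSMul N x).X₂,
      ∃ w : (localCohomology (maximalIdeal R) (d + 1)).obj (sesSMul N x).X₁, x • w = y := by
    intro y
    obtain ⟨w, hw⟩ := exact₂ (maximalIdeal R) (d + 1) hS y (Subsingleton.elim _ _)
    exact ⟨w, by rw [← hw, Hmap_sesSMul_f]⟩
  constructor
  · apply isSMulRegular_of_dual_smul_surjective hf
    intro φ
    obtain ⟨w, hw⟩ := hsurj (e φ)
    refine ⟨e.symm w, ?_⟩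
    rw [← map_smul, hw, LinearEquiv.symm_apply_apply]
  · -- `δ` is injective with image the `x`-torsion
    have hδinj : Function.Injective (δ (maximalIdeal R) d hS) := by
      rw [injective_iff_map_eq_zero]
      intro z hz
      obtain ⟨y, rfl⟩ := exact₃ (maximalIdeal R) d hS z hz
      rw [Subsingleton.elim y 0, map_zero]
    have hδrange : ∀ w : (localCohomology (maximalIdeal R) (d + 1)).obj (sesSMul N x).X₁,
        w ∈ LinearMap.range (δ (maximalIdeal R) d hS) ↔ x • w = 0 := by
      intro w
      constructor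
      · rintro ⟨z, rfl⟩
        rw [← Hmap_sesSMul_f]
        exact Hmap_f_δ (maximalIdeal R) d hS z
      · intro hw
        rw [← Hmap_sesSMul_f] at hw
        exact exact₁ (maximalIdeal R) d hS w hw
    refine ⟨equivOfInjections
      (LinearMap.lcomp R E (Submodule.mkQ (x • (⊤ : Submodule R D))))
      (δ (maximalIdeal R) d hS) e (lcomp_mkQ_injective D _) hδinj ?_⟩
    intro φ
    rw [mem_range_lcomp_mkQ_iff, hδrange]
    constructor
    · intro h0
      rw [← map_smul, h0, map_zero]
    · intro h0
      rw [← map_smul] at h0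
      exact e.injective (h0.trans (map_zero e).symm)

end Step

end Groth.Agent.Lib.Helper85.Canon
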