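import Groth.Agent.Lib.Helper85.LDLoc
import Groth.Agent.Lib.Helper85.Matlis
import Groth.Agent.Lib.Helper90.DimParam
import Groth.Agent.Lib.Helper77.RegularAB

/-!
# Finite length and annihilators of `H^i_m(M)` over homomorphic images of Gorenstein local rings

`isFiniteLength_H_iff`, `le_radical_annihilator_H_iff`: in terms of vanishing of the local
cohomology of the localizations `M_p` in degree `i - dim A/p`.
-/

set_option autoImplicit false
set_option linter.style.haveILetI false

namespace Groth.Agent.Lib.Helper85.FLCrit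

open CategoryTheory Abelian IsLocalRing InjHull

universe u

section Matlis

variable {R : Type u} [CommRing R] [IsNoetherianRing R] [IsLocalRing R]
  {E : Type u} [AddCommGroup E] [Module R E] {f : ResidueField R →ₗ[R] E}

theorem isFiniteLength_dual_of (hf : IsInjectiveHull f) (X : Type u) [AddCommGroup X] [Module R X]
    (h : IsFiniteLength R X) : IsFiniteLength R (X →ₗ[R] E) := by
  rw [← Module.length_ne_top_iff, Matlis.length_hom hf X h]
  exact Module.length_ne_top_iff.mpr h

theorem isFiniteLength_dual_iff (hf : IsInjectiveHull f) (X : Type u) [AddCommGroup X]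
    [Module R X] : IsFiniteLength R (X →ₗ[R] E) ↔ IsFiniteLength R X := by
  refine ⟨fun h => ?_, isFiniteLength_dual_of hf X⟩
  have h2 := isFiniteLength_dual_of hf (X →ₗ[R] E) h
  exact h2.of_injective (Matlis.applyₗ_injective hf X)

theorem annihilator_dual_eq (hf : IsInjectiveHull f) (X : Type u) [AddCommGroup X]
    [Module R X] : Module.annihilator R (X →ₗ[R] E) = Module.annihilator R X := by
  ext r
  rw [Module.mem_annihilator, Module.mem_annihilator]
  constructor
  · intro h x
    by_contra hx
    obtain ⟨φ, hφ⟩ := Matlis.exists_hom_apply_ne_zero hf (r • x) hx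
    apply hφ
    have := LinearMap.congr_fun (h φ) x
    rw [map_smul]
    exact this
  · intro h φ
    ext x
    rw [LinearMap.smul_apply, ← map_smul, h x, map_zero, LinearMap.zero_apply]

end Matlis

section Supp

variable {A : Type u} [CommRing A] [IsNoetherianRing A] [IsLocalRing A]
  (X : Type u) [AddCommGroup X] [Module A X]

omit X in
theorem exists_dim_quot (p : Ideal A) [p.IsPrime] :
    ∃ e : ℕ, ringKrullDim (A ⧸ p) = e := by
  haveI : Nontrivial (A ⧸ p) := Ideal.Quotient.nontrivial_iff.2 (Ideal.IsPrime.ne_top inferInstance)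
  obtain ⟨c, hc⟩ := Groth.Agent.Lib.Helper67.supportDim_eq_natCast (R := A) (M := A ⧸ p)
  exact ⟨c, by rw [← hc, Module.supportDim_quotient_eq_ringKrullDim]⟩

omit [IsNoetherianRing A] in
theorem supportDim_le_zero_iff :
    Module.supportDim A X ≤ 0 ↔
      ∀ (p : Ideal A) [p.IsPrime], p ≠ maximalIdeal A → ∀ x : X, ∃ t ∉ p, t • x = 0 := by
  unfold Module.supportDim
  rw [Order.krullDim_nonpos_iff_forall_isMax]
  constructor
  · intro h p hp hpm
    have hns : (⟨p, hp⟩ : PrimeSpectrum A) ∉ Module.support A X := by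
      intro hmem
      have hcl : IsLocalRing.closedPoint A ∈ Module.support A X :=
        Module.mem_support_mono (IsLocalRing.le_maximalIdeal hp.ne_top) hmem
      have hle : (⟨IsLocalRing.closedPoint A, hcl⟩ : Module.support A X) ≤
          ⟨⟨p, hp⟩, hmem⟩ :=
        h ⟨⟨p, hp⟩, hmem⟩ (IsLocalRing.le_maximalIdeal hp.ne_top)
      exact hpm (le_antisymm (IsLocalRing.le_maximalIdeal hp.ne_top) hle)
    exact Module.notMem_support_iff'.mp hns
  · intro h x y _
    have hx : x.1.asIdeal = maximalIdeal A := by
      by_contra hne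
      exact (Module.notMem_support_iff'.mpr (h x.1.asIdeal hne)) x.2
    change y.1.asIdeal ≤ x.1.asIdeal
    rw [hx]
    exact IsLocalRing.le_maximalIdeal y.1.2.ne_top

omit [IsLocalRing A] in
theorem le_radical_annihilator_iff [Module.Finite A X] (J : Ideal A) :
    J ≤ (Module.annihilator A X).radical ↔
      ∀ (p : Ideal A) [p.IsPrime], ¬ J ≤ p → ∀ x : X, ∃ t ∉ p, t • x = 0 := by
  rw [Ideal.radical_eq_sInf]
  constructor
  · intro h p hp hJp
    have hns : (⟨p, hp⟩ : PrimeSpectrum A) ∉ Module.support A X := by
      intro hmem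
      rw [Module.mem_support_iff_of_finite] at hmem
      exact hJp (h.trans (sInf_le ⟨hmem, hp⟩))
    exact Module.notMem_support_iff'.mp hns
  · intro h
    refine le_sInf ?_
    rintro q ⟨hq, hqp⟩
    by_contra hJq
    haveI := hqp
    have : (⟨q, hqp⟩ : PrimeSpectrum A) ∉ Module.support A X :=
      Module.notMem_support_iff'.mpr (h q hJq)
    exact this ((Module.mem_support_iff_of_finite (p := ⟨q, hqp⟩)).mpr hq)

end Supp


section Main

open Groth.Agent.Lib.Helper85.CanonQuot Groth.Agent.Lib.Helper85.ExtLoc
  Groth.Agent.Lib.Helper92.LC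

variable (R' : Type u) [CommRing R'] [LocCoh.IsGorensteinLocalRing R']
  {A : Type u} [CommRing A] [IsNoetherianRing A] [IsLocalRing A] [Algebra R' A]
  (hg : Function.Surjective (algebraMap R' A))
  (M : Type u) [AddCommGroup M] [Module A M] [Module R' M] [IsScalarTower R' A M]
  [Module.Finite A M]

/-- the condition at a prime `p`: `H^j_{pA_p}(M_p) = 0` for `j + dim A/p = i` -/
def LocVanish (i : ℕ) (p : Ideal A) [p.IsPrime] : Prop :=
  ∀ e j : ℕ, ringKrullDim (A ⧸ p) = e → j + e = i →
    Subsingleton (LocCoh.H (maximalIdeal (Localization.AtPrime p)) j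
      (LocalizedModule p.primeCompl M))

include hg in
theorem locVanish_iff_of_le (d k i : ℕ) (hd : ringKrullDim R' = d) (hki : k + i = d)
    (p : Ideal A) [p.IsPrime] :
    letI := modOfSurj hg (Ext.{u} (ModuleCat.of R' M) (ModuleCat.of R' R') k)
      (ext_kill A R' M _ k)
    (∀ x : Ext.{u} (ModuleCat.of R' M) (ModuleCat.of R' R') k, ∃ t ∉ p, t • x = 0) ↔
      LocVanish M i p := by
  letI := modOfSurj hg (Ext.{u} (ModuleCat.of R' M) (ModuleCat.of R' R') k)
    (ext_kill A R' M _ k)
  haveI : IsScalarTower R' A (Ext.{u} (ModuleCat.of R' M) (ModuleCat.of R' R') k) :=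
    modOfSurj_tower hg _ (ext_kill A R' M _ k)
  obtain ⟨e, he⟩ := exists_dim_quot p
  have key := ext_loc_vanish_iff R' hg p M d e k i hd he hki
  have h1 : (∀ x : Ext.{u} (ModuleCat.of R' M) (ModuleCat.of R' R') k, ∃ t ∉ p, t • x = 0) ↔
      (∀ x : Ext.{u} (ModuleCat.of R' M) (ModuleCat.of R' R') k,
        ∃ s ∈ (p.comap (algebraMap R' A)).primeCompl, s • x = 0) := by
    constructor
    · intro h x
      obtain ⟨t, ht, htx⟩ := h x
      obtain ⟨s, rfl⟩ := hg t
      exact ⟨s, ht, by rw [← algebraMap_smul A s x]; exact htx⟩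
    · intro h x
      obtain ⟨s, hs, hsx⟩ := h x
      exact ⟨algebraMap R' A s, hs, by rw [algebraMap_smul]; exact hsx⟩
  rw [h1, key]
  constructor
  · intro h e' j he' hj
    have : e' = e := by
      have := he'.symm.trans he
      exact_mod_cast this
    subst this
    exact h j hj
  · intro h j hj
    exact h e j he hj

include hg in
theorem subsingleton_H_of_lt (d i : ℕ) (hd : ringKrullDim R' = d) (hdi : d < i) :
    Subsingleton (LocCoh.H (maximalIdeal A) i M) := by
  have hle : ringKrullDim A ≤ d := by
    rw [← hd]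
    exact ringKrullDim_le_of_surjective (algebraMap R' A) hg
  exact cdLE_of_ringKrullDim_le (maximalIdeal A) d hle M i hdi

include hg in
theorem locVanish_of_lt (d i : ℕ) (hd : ringKrullDim R' = d) (hdi : d < i)
    (p : Ideal A) [p.IsPrime] : LocVanish M i p := by
  intro e j he hj
  have hle : ringKrullDim A ≤ d := by
    rw [← hd]
    exact ringKrullDim_le_of_surjective (algebraMap R' A) hg
  have hht : p.height ≠ ⊤ := Ideal.height_ne_top (Ideal.IsPrime.ne_top inferInstance)
  obtain ⟨h, hh⟩ := ENat.ne_top_iff_exists.mp hht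
  have h2 := Groth.Agent.Lib.Helper77.RegularAB.height_add_ringKrullDim_quotient_le A p
  rw [he, ← hh] at h2
  have h3 := h2.trans hle
  have h3' : h + e ≤ d := by exact_mod_cast h3
  have h4 : ringKrullDim (Localization.AtPrime p) ≤ ((d - e : ℕ) : WithBot ℕ∞) := by
    rw [IsLocalization.AtPrime.ringKrullDim_eq_height p (Localization.AtPrime p), ← hh]
    have : h ≤ d - e := by omega
    change ((h : ℕ∞) : WithBot ℕ∞) ≤ (((d - e : ℕ) : ℕ∞) : WithBot ℕ∞)
    exact WithBot.coe_le_coe.mpr (by exact_mod_cast this)
  exact cdLE_of_ringKrullDim_le (maximalIdeal (Localization.AtPrime p)) (d - e) h4 _ j (by omega)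


include hg in
/-- **Finiteness criterion** for local cohomology over a homomorphic image of a Gorenstein local
ring -/
theorem isFiniteLength_H_iff (i : ℕ) :
    IsFiniteLength A (LocCoh.H (maximalIdeal A) i M) ↔
      ∀ (p : Ideal A) [p.IsPrime], p ≠ maximalIdeal A → LocVanish M i p := by
  obtain ⟨d, hd, -, -⟩ := Groth.Agent.Lib.Helper4.GorCM.gorenstein_dim R'
  by_cases hid : i ≤ d
  · obtain ⟨k, hki⟩ : ∃ k, k + i = d := ⟨d - i, by omega⟩
    obtain ⟨E, _, _, f, hf⟩ := Hull.exists_injectiveHull (R := A) (ResidueField A)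
    obtain ⟨eX⟩ := duality_quot A R' hf hg d hd M k i hki
    letI := modOfSurj hg (Ext.{u} (ModuleCat.of R' M) (ModuleCat.of R' R') k)
      (ext_kill A R' M _ k)
    haveI : IsScalarTower R' A (Ext.{u} (ModuleCat.of R' M) (ModuleCat.of R' R') k) :=
      modOfSurj_tower hg _ (ext_kill A R' M _ k)
    haveI : Module.Finite R' A := Module.Finite.of_surjective (Algebra.linearMap R' A) hg
    haveI : Module.Finite R' M := Module.Finite.trans A M
    haveI : Module.Finite A (Ext.{u} (ModuleCat.of R' M) (ModuleCat.of R' R') k) :=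
      Module.Finite.of_restrictScalars_finite R' A _
    have h1 : IsFiniteLength A (LocCoh.H (maximalIdeal A) i M) ↔
        IsFiniteLength A (Ext.{u} (ModuleCat.of R' M) (ModuleCat.of R' R') k →ₗ[A] E) :=
      ⟨fun h => h.of_injective eX.injective, fun h => h.of_injective eX.symm.injective⟩
    have h2 : IsFiniteLength A (Ext.{u} (ModuleCat.of R' M) (ModuleCat.of R' R') k) ↔
        Module.supportDim A (Ext.{u} (ModuleCat.of R' M) (ModuleCat.of R' R') k) ≤ 0 :=
      ⟨Groth.Agent.Lib.Helper90.DimParam.supportDim_le_zero_of_isFiniteLength,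
        Groth.Agent.Lib.Helper90.DimParam.isFiniteLength_of_supportDim_le_zero⟩
    rw [h1, isFiniteLength_dual_iff hf, h2, supportDim_le_zero_iff]
    constructor
    · intro h p hp hpm
      exact (locVanish_iff_of_le R' hg M d k i hd hki p).mp (h p hpm)
    · intro h p hp hpm
      exact (locVanish_iff_of_le R' hg M d k i hd hki p).mpr (h p hpm)
  · have hdi : d < i := by omega
    haveI := subsingleton_H_of_lt R' hg M d i hd hdi
    constructor
    · intro _ p hp _
      exact locVanish_of_lt R' hg M d i hd hdi p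
    · intro _
      exact IsFiniteLength.of_subsingleton

include hg in
/-- **Annihilator criterion** (Faltings type) over a homomorphic image of a Gorenstein local
ring -/
theorem le_radical_annihilator_H_iff (J : Ideal A) (i : ℕ) :
    J ≤ (Module.annihilator A (LocCoh.H (maximalIdeal A) i M)).radical ↔
      ∀ (p : Ideal A) [p.IsPrime], ¬ J ≤ p → LocVanish M i p := by
  obtain ⟨d, hd, -, -⟩ := Groth.Agent.Lib.Helper4.GorCM.gorenstein_dim R'
  by_cases hid : i ≤ d
  · obtain ⟨k, hki⟩ : ∃ k, k + i = d := ⟨d - i, by omega⟩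
    obtain ⟨E, _, _, f, hf⟩ := Hull.exists_injectiveHull (R := A) (ResidueField A)
    obtain ⟨eX⟩ := duality_quot A R' hf hg d hd M k i hki
    letI := modOfSurj hg (Ext.{u} (ModuleCat.of R' M) (ModuleCat.of R' R') k)
      (ext_kill A R' M _ k)
    haveI : IsScalarTower R' A (Ext.{u} (ModuleCat.of R' M) (ModuleCat.of R' R') k) :=
      modOfSurj_tower hg _ (ext_kill A R' M _ k)
    haveI : Module.Finite R' A := Module.Finite.of_surjective (Algebra.linearMap R' A) hg
    haveI : Module.Finite R' M := Module.Finite.trans A M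
    haveI : Module.Finite A (Ext.{u} (ModuleCat.of R' M) (ModuleCat.of R' R') k) :=
      Module.Finite.of_restrictScalars_finite R' A _
    rw [← eX.annihilator_eq, annihilator_dual_eq hf, le_radical_annihilator_iff]
    constructor
    · intro h p hp hJp
      exact (locVanish_iff_of_le R' hg M d k i hd hki p).mp (h p hJp)
    · intro h p hp hJp
      exact (locVanish_iff_of_le R' hg M d k i hd hki p).mpr (h p hJp)
  · have hdi : d < i := by omega
    haveI := subsingleton_H_of_lt R' hg M d i hd hdi
    constructor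
    · intro _ p hp _
      exact locVanish_of_lt R' hg M d i hd hdi p
    · intro _
      have : Module.annihilator A (LocCoh.H (maximalIdeal A) i M) = ⊤ := by
        rw [Module.annihilator_eq_top_iff]
        infer_instance
      rw [this, Ideal.radical_top]
      exact le_top

end Main

end Groth.Agent.Lib.Helper85.FLCrit
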