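import Mathlib

/-!
# Connected components of an open subset whose complement is "locally connected in codim 1"

Purely topological part of: depth ≥ 2 along `Y = X \ U` implies `π₀(U) → π₀(X)` bijective.
-/

set_option autoImplicit false
universe u

namespace Groth.Agent.Lib.Helper85.ConnComp

open TopologicalSpace Topology

variable {X : Type u} [TopologicalSpace X]

/-- minimal generization inside a closed set -/
theorem exists_minimal_generization [QuasiSober X] [T0Space X] (Z : Set X) (hZ : IsClosed Z)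
    {x0 : X} (hx0 : x0 ∈ Z) :
    ∃ x ∈ Z, x ⤳ x0 ∧ ∀ y ∈ Z, y ⤳ x → y = x := by
  haveI : QuasiSober Z := hZ.isClosedEmbedding_subtypeVal.quasiSober
  obtain ⟨g, hg⟩ := QuasiSober.sober (isIrreducible_irreducibleComponent (x := (⟨x0, hx0⟩ : Z)))
    isClosed_irreducibleComponent
  have hg' : closure {g} = irreducibleComponent (⟨x0, hx0⟩ : Z) := hg
  refine ⟨g.1, g.2, ?_, ?_⟩
  · have h1 : g ⤳ (⟨x0, hx0⟩ : Z) := by
      rw [specializes_iff_mem_closure, hg']
      exact mem_irreducibleComponent
    exact h1.map continuous_subtype_val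
  · intro y hy hyg
    have h1 : (⟨y, hy⟩ : Z) ⤳ g := by
      rw [← IsInducing.subtypeVal.specializes_iff]
      exact hyg
    have h2 : irreducibleComponent (⟨x0, hx0⟩ : Z) ⊆ closure {(⟨y, hy⟩ : Z)} := by
      rw [← hg']
      exact closure_minimal (Set.singleton_subset_iff.mpr (specializes_iff_mem_closure.mp h1))
        isClosed_closure
    have h3 := eq_irreducibleComponent
      (isIrreducible_singleton (x := (⟨y, hy⟩ : Z))).closure.isPreirreducible h2
    have h4 : g ⤳ (⟨y, hy⟩ : Z) := by
      rw [specializes_iff_mem_closure, hg', ← h3]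
      exact subset_closure rfl
    have h5 : (⟨y, hy⟩ : Z) = g := (h1.antisymm h4).eq
    exact congrArg Subtype.val h5

/-- closure of an open set consists of specializations, in locally Noetherian quasi-sober spaces -/
theorem exists_specializes_of_mem_closure [QuasiSober X]
    (hloc : ∀ x : X, ∃ N : Set X, IsOpen N ∧ x ∈ N ∧ NoetherianSpace N)
    {V : Set X} (hV : IsOpen V) {x : X} (hx : x ∈ closure V) : ∃ y ∈ V, y ⤳ x := by
  obtain ⟨N, hNo, hxN, hN⟩ := hloc x
  set W : Set X := N ∩ V with hW
  have hWo : IsOpen W := hNo.inter hV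
  have hxW : x ∈ closure W := hNo.inter_closure ⟨hxN, hx⟩
  haveI : NoetherianSpace W := NoetherianSpace.of_subset (W := N) Set.inter_subset_left
  haveI : QuasiSober W := hWo.isOpenEmbedding_subtypeVal.quasiSober
  have hfin := NoetherianSpace.finite_irreducibleComponents (α := W)
  have hcover : W = ⋃₀ ((fun C : Set W => Subtype.val '' C) '' irreducibleComponents W) := by
    rw [← Set.image_sUnion, sUnion_irreducibleComponents, Set.image_univ, Subtype.range_coe]
  rw [hcover, (hfin.image _).closure_sUnion] at hxW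
  simp only [Set.mem_iUnion, Set.mem_image, exists_prop] at hxW
  obtain ⟨_, ⟨C, hC, rfl⟩, hxC⟩ := hxW
  obtain ⟨g, hg⟩ := QuasiSober.sober hC.1 (isClosed_of_mem_irreducibleComponents C hC)
  have hg' : closure {g} = C := hg
  refine ⟨g.1, g.2.2, ?_⟩
  rw [specializes_iff_mem_closure]
  have : closure (Subtype.val '' C) = closure {g.1} := by
    rw [← hg', closure_image_closure continuous_subtype_val, Set.image_singleton]
  rw [← this]
  exact hxC

section Main

variable (U : Opens X)
  (hD : ∀ x : X, ∃ η ∈ U, η ⤳ x)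
  (hH2 : ∀ x ∉ U, ∀ A B : Set X, IsClosed A → IsClosed B →
    (∀ y, y ⤳ x → y ≠ x → y ∈ A ∪ B) → (∀ y, y ⤳ x → y ≠ x → y ∈ A → y ∈ B → False) →
    (∀ y, y ⤳ x → y ≠ x → y ∈ A) ∨ (∀ y, y ⤳ x → y ≠ x → y ∈ B))
  (hH3 : ∀ V : Set X, IsOpen V → ∀ x ∈ closure V, ∃ y ∈ V, y ⤳ x)
  (hH5 : ∀ Z : Set X, IsClosed Z → ∀ x0 ∈ Z, ∃ x ∈ Z, x ⤳ x0 ∧ ∀ y ∈ Z, y ⤳ x → y = x)

include hD hH2 hH3 hH5

theorem exists_clopen_extension (V : Set U) (hV : IsClopen V) :
    ∃ W : Set X, IsClopen W ∧ Subtype.val ⁻¹' W = V := by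
  set V1 : Set X := Subtype.val '' V with hV1
  set V2 : Set X := Subtype.val '' Vᶜ with hV2
  have hV1o : IsOpen V1 := U.isOpen.isOpenEmbedding_subtypeVal.isOpenMap _ hV.isOpen
  have hV2o : IsOpen V2 := U.isOpen.isOpenEmbedding_subtypeVal.isOpenMap _ hV.compl.isOpen
  have hV1U : V1 ⊆ U := by rintro _ ⟨u, _, rfl⟩; exact u.2
  have hV2U : V2 ⊆ U := by rintro _ ⟨u, _, rfl⟩; exact u.2
  have hdisj : ∀ z, z ∈ V1 → z ∈ V2 → False := by
    rintro _ ⟨u, hu, rfl⟩ ⟨u', hu', h⟩
    have : u' = u := Subtype.ext h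
    exact hu' (this ▸ hu)
  have hUV : ∀ z ∈ U, z ∈ V1 ∨ z ∈ V2 := by
    intro z hz
    by_cases h : (⟨z, hz⟩ : U) ∈ V
    · exact Or.inl ⟨⟨z, hz⟩, h, rfl⟩
    · exact Or.inr ⟨⟨z, hz⟩, h, rfl⟩
  -- points of U in the closure of V1 are in V1, same for V2
  have hc1 : ∀ z ∈ U, z ∈ closure V1 → z ∈ V1 := by
    intro z hz hzc
    rcases hUV z hz with h | h
    · exact h
    · exfalso
      have : (V2 ∩ closure V1) ⊆ closure (V2 ∩ V1) := hV2o.inter_closure
      have h2 : closure (V2 ∩ V1) = ∅ := by
        have : V2 ∩ V1 = ∅ := by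
          ext w; constructor
          · rintro ⟨h2, h1⟩; exact (hdisj w h1 h2).elim
          · intro h; exact h.elim
        rw [this, closure_empty]
      have := this ⟨h, hzc⟩
      rw [h2] at this
      exact this
  have hc2 : ∀ z ∈ U, z ∈ closure V2 → z ∈ V2 := by
    intro z hz hzc
    rcases hUV z hz with h | h
    · exfalso
      have : (V1 ∩ closure V2) ⊆ closure (V1 ∩ V2) := hV1o.inter_closure
      have h2 : closure (V1 ∩ V2) = ∅ := by
        have : V1 ∩ V2 = ∅ := by
          ext w; constructor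
          · rintro ⟨h1, h2⟩; exact (hdisj w h1 h2).elim
          · intro h; exact h.elim
        rw [this, closure_empty]
      have := this ⟨h, hzc⟩
      rw [h2] at this
      exact this
    · exact h
  have hcover : ∀ x : X, x ∈ closure V1 ∪ closure V2 := by
    intro x
    obtain ⟨η, hηU, hη⟩ := hD x
    rcases hUV η hηU with h | h
    · exact Or.inl (hη.mem_closed isClosed_closure (subset_closure h))
    · exact Or.inr (hη.mem_closed isClosed_closure (subset_closure h))
  have hempty : ∀ x0, x0 ∈ closure V1 → x0 ∈ closure V2 → False := by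
    intro x0 h1 h2
    obtain ⟨x, hxZ, -, hmin⟩ := hH5 (closure V1 ∩ closure V2)
      (isClosed_closure.inter isClosed_closure) x0 ⟨h1, h2⟩
    have hxU : x ∉ U := by
      intro hxU
      exact hdisj x (hc1 x hxU hxZ.1) (hc2 x hxU hxZ.2)
    rcases hH2 x hxU (closure V1) (closure V2) isClosed_closure isClosed_closure
      (fun y _ _ => hcover y)
      (fun y hy hne hy1 hy2 => hne (hmin y ⟨hy1, hy2⟩ hy)) with h | h
    · obtain ⟨y, hyV2, hyx⟩ := hH3 V2 hV2o x hxZ.2
      have hne : y ≠ x := fun e => hxU (e ▸ hV2U hyV2)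
      exact hdisj y (hc1 y (hV2U hyV2) (h y hyx hne)) hyV2
    · obtain ⟨y, hyV1, hyx⟩ := hH3 V1 hV1o x hxZ.1
      have hne : y ≠ x := fun e => hxU (e ▸ hV1U hyV1)
      exact hdisj y hyV1 (hc2 y (hV1U hyV1) (h y hyx hne))
  refine ⟨closure V1, ⟨isClosed_closure, ?_⟩, ?_⟩
  · have : closure V1 = (closure V2)ᶜ := by
      ext x
      constructor
      · intro h1 h2; exact hempty x h1 h2
      · intro h2
        rcases hcover x with h | h
        · exact h
        · exact absurd h h2
    rw [this]
    exact isClosed_closure.isOpen_compl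
  · ext u
    constructor
    · intro hu
      obtain ⟨u', hu', h⟩ := hc1 u.1 u.2 hu
      have : u' = u := Subtype.ext h
      exact this ▸ hu'
    · intro hu
      exact subset_closure ⟨u, hu, rfl⟩

theorem bijective_connectedComponentsMap [LocallyConnectedSpace U] :
    Function.Bijective (Continuous.connectedComponentsMap
      (continuous_subtype_val : Continuous (fun x : U => (x : X)))) := by
  constructor
  · intro a b hab
    obtain ⟨u, rfl⟩ := ConnectedComponents.surjective_coe a
    obtain ⟨u', rfl⟩ := ConnectedComponents.surjective_coe b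
    rw [Continuous.connectedComponentsMap_mk, Continuous.connectedComponentsMap_mk,
      ConnectedComponents.coe_eq_coe] at hab
    rw [eq_comm, ConnectedComponents.coe_eq_coe']
    obtain ⟨W, hW, hWV⟩ := exists_clopen_extension U hD hH2 hH3 hH5 (connectedComponent u)
      ⟨isClosed_connectedComponent, isOpen_connectedComponent⟩
    have hu : (u : X) ∈ W := by
      have : u ∈ Subtype.val ⁻¹' W := by rw [hWV]; exact mem_connectedComponent
      exact this
    have h1 : connectedComponent (u : X) ⊆ W := hW.connectedComponent_subset hu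
    have h2 : (u' : X) ∈ W := h1 (hab ▸ mem_connectedComponent)
    have : u' ∈ Subtype.val ⁻¹' W := h2
    rw [hWV] at this
    exact this
  · intro c
    obtain ⟨x, rfl⟩ := ConnectedComponents.surjective_coe c
    obtain ⟨η, hηU, hη⟩ := hD x
    refine ⟨((⟨η, hηU⟩ : U) : ConnectedComponents U), ?_⟩
    rw [Continuous.connectedComponentsMap_mk, ConnectedComponents.coe_eq_coe']
    have hpre : IsPreconnected (closure {η}) := isPreconnected_singleton.closure
    exact hpre.subset_connectedComponent (specializes_iff_mem_closure.mp hη) (subset_closure rfl)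

end Main

end Groth.Agent.Lib.Helper85.ConnComp
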