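import Groth.Agent.Lib.Helper85.ConnComp
import Groth.Agent.Lib.Helper85.Hartshorne
import Groth.Agent.S2277

/-!
# Hartshorne connectedness for schemes: `π₀(U) → π₀(X)` is bijective when `depth 𝒪_{X,x} ≥ 2`
for all `x ∉ U` (X locally Noetherian).
-/

set_option autoImplicit false
universe u

open AlgebraicGeometry TopologicalSpace CategoryTheory

namespace Groth.Agent.Lib.Helper85.ConnCompSch

variable (X : Scheme.{u}) [IsLocallyNoetherian X]

theorem hloc (x : X) : ∃ N : Set X, IsOpen N ∧ x ∈ N ∧ NoetherianSpace N := by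
  obtain ⟨W, hW, hxW, -⟩ := exists_isAffineOpen_mem_and_subset (X := X) (x := x) (U := ⊤) trivial
  have := IsLocallyNoetherian.component_noetherian (X := X) ⟨W, hW⟩
  exact ⟨W, W.isOpen, hxW, noetherianSpace_of_isAffineOpen W hW⟩

theorem locallyConnectedSpace : LocallyConnectedSpace X := by
  apply Groth.Agent.S2277.result
  intro x
  obtain ⟨N, hN, hxN, hNoeth⟩ := hloc X x
  exact ⟨N, hN.mem_nhds hxN, hNoeth⟩

/-- local connectedness of the punctured set of generizations at a point of depth ≥ 2 -/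
theorem hH2 (x : X) (hd : (2 : ℕ∞) ≤ LocCoh.depth (X.presheaf.stalk x) (X.presheaf.stalk x))
    (A B : Set X) (hA : IsClosed A) (hB : IsClosed B)
    (hcov : ∀ y, y ⤳ x → y ≠ x → y ∈ A ∪ B)
    (hdis : ∀ y, y ⤳ x → y ≠ x → y ∈ A → y ∈ B → False) :
    (∀ y, y ⤳ x → y ≠ x → y ∈ A) ∨ (∀ y, y ⤳ x → y ≠ x → y ∈ B) := by
  by_cases hne : ∃ y, y ⤳ x ∧ y ≠ x
  swap
  · exact Or.inl fun y hy hyne => absurd ⟨y, hy, hyne⟩ hne
  obtain ⟨y0, hy0, hy0ne⟩ := hne
  have hxAB : x ∈ A ∪ B :=
    (hcov y0 hy0 hy0ne).elim (fun h => Or.inl (hy0.mem_closed hA h))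
      (fun h => Or.inr (hy0.mem_closed hB h))
  set R := X.presheaf.stalk x with hR
  let j : PrimeSpectrum R → X := fun P => (X.fromSpecStalk x) P
  have hjc : Continuous j := (X.fromSpecStalk x).continuous
  have hjinj : Function.Injective j := (X.fromSpecStalk x).isEmbedding.injective
  have hjm : j (IsLocalRing.closedPoint R) = x := Scheme.fromSpecStalk_closedPoint
  have hjspec : ∀ P, j P ⤳ x := by
    intro P
    have : j P ∈ Set.range (X.fromSpecStalk x) := ⟨P, rfl⟩
    rw [Scheme.range_fromSpecStalk] at this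
    exact this
  have hjsurj : ∀ y, y ⤳ x → ∃ P, j P = y := by
    intro y hy
    have : y ∈ Set.range (X.fromSpecStalk x) := by rw [Scheme.range_fromSpecStalk]; exact hy
    exact this
  have hjne : ∀ P, P ≠ IsLocalRing.closedPoint R → j P ≠ x := by
    intro P hP h
    exact hP (hjinj (h.trans hjm.symm))
  set TA : Set (PrimeSpectrum R) := j ⁻¹' A with hTA
  set TB : Set (PrimeSpectrum R) := j ⁻¹' B with hTB
  have hTAc : IsClosed TA := hA.preimage hjc
  have hTBc : IsClosed TB := hB.preimage hjc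
  set I := PrimeSpectrum.vanishingIdeal TA with hI
  set J := PrimeSpectrum.vanishingIdeal TB with hJ
  have hzA : PrimeSpectrum.zeroLocus (I : Set R) = TA := by
    rw [hI, PrimeSpectrum.zeroLocus_vanishingIdeal_eq_closure, hTAc.closure_eq]
  have hzB : PrimeSpectrum.zeroLocus (J : Set R) = TB := by
    rw [hJ, PrimeSpectrum.zeroLocus_vanishingIdeal_eq_closure, hTBc.closure_eq]
  have hcovP : ∀ P : PrimeSpectrum R, P ∈ TA ∨ P ∈ TB := by
    intro P
    by_cases hP : P = IsLocalRing.closedPoint R
    · subst hP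
      change j _ ∈ A ∨ j _ ∈ B
      rw [hjm]; exact hxAB
    · exact hcov (j P) (hjspec P) (hjne P hP)
  have hIJ : I * J ≤ nilradical R := by
    rw [nilradical_eq_sInf]
    refine le_sInf ?_
    intro P hP
    rcases hcovP ⟨P, hP⟩ with h | h
    · rw [← hzA, PrimeSpectrum.mem_zeroLocus, SetLike.coe_subset_coe] at h
      exact Ideal.mul_le_left.trans h
    · rw [← hzB, PrimeSpectrum.mem_zeroLocus, SetLike.coe_subset_coe] at h
      exact Ideal.mul_le_right.trans h
  have hm : IsLocalRing.maximalIdeal R ≤ (I ⊔ J).radical := by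
    rw [Ideal.radical_eq_sInf]
    refine le_sInf ?_
    rintro P ⟨hle, hP⟩
    have h1 : (⟨P, hP⟩ : PrimeSpectrum R) ∈ TA := by
      rw [← hzA, PrimeSpectrum.mem_zeroLocus, SetLike.coe_subset_coe]
      exact le_sup_left.trans hle
    have h2 : (⟨P, hP⟩ : PrimeSpectrum R) ∈ TB := by
      rw [← hzB, PrimeSpectrum.mem_zeroLocus, SetLike.coe_subset_coe]
      exact le_sup_right.trans hle
    by_cases hPm : (⟨P, hP⟩ : PrimeSpectrum R) = IsLocalRing.closedPoint R
    · have : P = IsLocalRing.maximalIdeal R := congrArg PrimeSpectrum.asIdeal hPm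
      rw [this]
    · exact (hdis _ (hjspec _) (hjne _ hPm) h1 h2).elim
  rcases Groth.Agent.Lib.Helper85.Hartshorne.le_nilradical_or_le_nilradical_of_two_le_depth hd I J
    hIJ hm with h | h
  · left
    intro y hy _
    obtain ⟨P, rfl⟩ := hjsurj y hy
    have : P ∈ TA := by
      rw [← hzA, PrimeSpectrum.mem_zeroLocus, SetLike.coe_subset_coe]
      exact h.trans (nilradical_le_prime P.asIdeal)
    exact this
  · right
    intro y hy _
    obtain ⟨P, rfl⟩ := hjsurj y hy
    have : P ∈ TB := by
      rw [← hzB, PrimeSpectrum.mem_zeroLocus, SetLike.coe_subset_coe]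
      exact h.trans (nilradical_le_prime P.asIdeal)
    exact this

/-- a point of depth ≥ 2 has a proper generization -/
theorem exists_proper_generization (x : X)
    (hd : (2 : ℕ∞) ≤ LocCoh.depth (X.presheaf.stalk x) (X.presheaf.stalk x)) :
    ∃ y, y ⤳ x ∧ y ≠ x := by
  set R := X.presheaf.stalk x with hR
  obtain ⟨rs, hlen, hreg, hmem⟩ :=
    Groth.Agent.Lib.Helper67.exists_isRegular_of_le_depth (R := R) R 2 (by exact_mod_cast hd)
  obtain ⟨a, b, rfl⟩ := List.length_eq_two.mp hlen
  have hw := hreg.toIsWeaklyRegular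
  rw [RingTheory.Sequence.isWeaklyRegular_cons_iff] at hw
  obtain ⟨ha, -⟩ := hw
  have ham : a ∈ IsLocalRing.maximalIdeal R := hmem a (by simp)
  -- some prime does not contain a ... or at least differs from m
  have hex : ∃ P : PrimeSpectrum R, P ≠ IsLocalRing.closedPoint R := by
    by_contra hcon
    push Not at hcon
    have hnil : a ∈ nilradical R := by
      rw [nilradical_eq_sInf, Ideal.mem_sInf]
      intro P hP
      have := hcon ⟨P, hP⟩
      have hPm : P = IsLocalRing.maximalIdeal R := congrArg PrimeSpectrum.asIdeal this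
      rw [hPm]; exact ham
    obtain ⟨n, hn⟩ := mem_nilradical.mp hnil
    have h1 : IsSMulRegular R (a ^ n) := ha.pow n
    have h2 : (1 : R) = 0 := h1 (by simp [hn])
    exact one_ne_zero h2
  obtain ⟨P, hP⟩ := hex
  refine ⟨(X.fromSpecStalk x) P, ?_, ?_⟩
  · have : (X.fromSpecStalk x) P ∈ Set.range (X.fromSpecStalk x) := ⟨P, rfl⟩
    rw [Scheme.range_fromSpecStalk] at this
    exact this
  · intro h
    apply hP
    apply (X.fromSpecStalk x).isEmbedding.injective
    rw [h]
    exact Scheme.fromSpecStalk_closedPoint.symm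

theorem bijective_connectedComponentsMap (U : X.Opens)
    (h : ∀ x : X, x ∉ (U : Set X) →
      (2 : ℕ∞) ≤ LocCoh.depth (X.presheaf.stalk x) (X.presheaf.stalk x)) :
    Function.Bijective (Continuous.connectedComponentsMap
      (continuous_subtype_val : Continuous (fun x : U => (x : X)))) := by
  have hlc := locallyConnectedSpace X
  have hlcU : LocallyConnectedSpace U := U.isOpen.locallyConnectedSpace
  refine @Groth.Agent.Lib.Helper85.ConnComp.bijective_connectedComponentsMap _ _ U ?_ ?_ ?_ ?_ hlcU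
  · intro x0
    obtain ⟨η, -, hη, hmin⟩ := Groth.Agent.Lib.Helper85.ConnComp.exists_minimal_generization
      (Set.univ : Set X) isClosed_univ (Set.mem_univ x0)
    refine ⟨η, ?_, hη⟩
    by_contra hηU
    obtain ⟨y, hy, hyne⟩ := exists_proper_generization X η (h η hηU)
    exact hyne (hmin y (Set.mem_univ y) hy)
  · intro x hxU A B hA hB hcov hdis
    exact hH2 X x (h x hxU) A B hA hB hcov hdis
  · intro V hV x hx
    exact Groth.Agent.Lib.Helper85.ConnComp.exists_specializes_of_mem_closure (hloc X) hV hx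
  · intro Z hZ x0 hx0
    exact Groth.Agent.Lib.Helper85.ConnComp.exists_minimal_generization Z hZ hx0

end Groth.Agent.Lib.Helper85.ConnCompSch
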