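import Groth.Agent.Lib.Helper85.Reflexive
import Groth.Agent.Lib.Helper85.HomDepth
import Groth.Agent.Lib.Helper67.Depth2
import Groth.Agent.Lib.Helper85.KollarFlat3

set_option autoImplicit false
universe u
open TensorProduct

namespace Groth.Agent.Lib.Helper85.DDual

section QI
variable {R : Type u} [CommRing R] {M N : Type u} [AddCommGroup M] [Module R M]
  [AddCommGroup N] [Module R N]

/-- quasi-inverse of a map whose kernel is killed by `a₁` and whose cokernel is killed by `a₂` -/
theorem exists_quasiInv (φ : M →ₗ[R] N) (a₁ a₂ : R) (h1 : ∀ x, φ x = 0 → a₁ • x = 0)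
    (h2 : ∀ y, ∃ x, φ x = a₂ • y) :
    ∃ ρ : N →ₗ[R] M, φ ∘ₗ ρ = (a₁ * a₂) • LinearMap.id ∧ ρ ∘ₗ φ = (a₁ * a₂) • LinearMap.id := by
  choose c hc using h2
  have hwd : ∀ x x', φ x = φ x' → a₁ • x = a₁ • x' := by
    intro x x' h
    have := h1 (x - x') (by rw [map_sub, h, sub_self])
    rwa [smul_sub, sub_eq_zero] at this
  refine ⟨{ toFun := fun y => a₁ • c y, map_add' := ?_, map_smul' := ?_ }, ?_, ?_⟩
  · intro y y'
    rw [← smul_add]
    apply hwd
    rw [map_add, hc, hc, hc, smul_add]
  · intro r y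
    rw [RingHom.id_apply, smul_comm r a₁]
    apply hwd
    rw [map_smul, hc, hc, smul_comm]
  · ext y
    simp only [LinearMap.comp_apply, LinearMap.coe_mk, AddHom.coe_mk, map_smul, hc,
      LinearMap.smul_apply, LinearMap.id_apply, mul_smul]
  · ext x
    simp only [LinearMap.comp_apply, LinearMap.coe_mk, AddHom.coe_mk,
      LinearMap.smul_apply, LinearMap.id_apply, mul_smul]
    apply hwd
    rw [hc, map_smul]

end QI

section Reg
variable {R : Type u} [CommRing R]

/-- a finite module of positive `J`-depth has a regular element in `J` -/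
theorem exists_regular_of_one_le_idealDepth (J : Ideal R) (N : Type u) [AddCommGroup N] [Module R N]
    [Module.Finite R N] (h1 : 1 ≤ LocCoh.idealDepth J N) :
    ∃ x ∈ J, IsSMulRegular N x := by
  rcases (Groth.Agent.Lib.Helper67.one_le_idealDepth_iff J _).mp h1 with h | h
  · obtain ⟨r, hr, hr0⟩ := Submodule.exists_sub_one_mem_and_smul_eq_zero_of_fg_of_le_smul J
      (⊤ : Submodule R N) Module.Finite.fg_top h.ge
    refine ⟨1 - r, ?_, ?_⟩
    · have : 1 - r = -(r - 1) := by ring
      rw [this]; exact J.neg_mem hr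
    · intro x y hxy
      simp only [sub_smul, one_smul, hr0 _ Submodule.mem_top, sub_zero] at hxy
      exact hxy
  · exact h

/-- a finite module of positive `J`-depth killed by a power of `J` is zero -/
theorem subsingleton_of_pow_smul_eq_zero (J : Ideal R) (N : Type u) [AddCommGroup N] [Module R N]
    [Module.Finite R N] (h1 : 1 ≤ LocCoh.idealDepth J N) (n : ℕ)
    (h : ∀ t ∈ J ^ n, ∀ z : N, t • z = 0) : Subsingleton N := by
  obtain ⟨x, hxJ, hx⟩ := exists_regular_of_one_le_idealDepth J N h1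
  refine ⟨fun a b => ?_⟩
  apply hx.pow n
  change x ^ n • a = x ^ n • b
  rw [h _ (Ideal.pow_mem_pow hxJ n), h _ (Ideal.pow_mem_pow hxJ n)]

end Reg

section Bij
variable {R : Type u} [CommRing R] [IsNoetherianRing R] (I : Ideal R)
  {P Q : Type u} [AddCommGroup P] [Module R P] [Module.Finite R P]
  [AddCommGroup Q] [Module R Q] [Module.Finite R Q]

/-- a map between modules of depth `≥ 2` resp. `≥ 1` whose kernel and cokernel are killed by a power
of `I` is bijective -/
theorem bijective_of_torsion (ψ : P →ₗ[R] Q) (hP : 2 ≤ LocCoh.idealDepth I P)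
    (hQ : 1 ≤ LocCoh.idealDepth I Q) (n : ℕ)
    (hk : ∀ t ∈ I ^ n, ∀ x, ψ x = 0 → t • x = 0)
    (hc : ∀ t ∈ I ^ n, ∀ y, t • y ∈ LinearMap.range ψ) : Function.Bijective ψ := by
  have hinj : Function.Injective ψ := by
    rw [← LinearMap.ker_eq_bot]
    have hP1 : 1 ≤ LocCoh.idealDepth I P := le_trans (by norm_num) hP
    obtain ⟨x, hxI, hx⟩ := exists_regular_of_one_le_idealDepth I P hP1
    rw [Submodule.eq_bot_iff]
    intro z hz
    apply hx.pow n
    change x ^ n • z = x ^ n • 0
    rw [smul_zero]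
    exact hk _ (Ideal.pow_mem_pow hxI n) z hz
  refine ⟨hinj, ?_⟩
  have hC : 1 ≤ LocCoh.idealDepth I (Q ⧸ LinearMap.range ψ) := by
    have h3 := Groth.Agent.Lib.Helper67.idealDepth_right_ge I P Q (Q ⧸ LinearMap.range ψ) ψ
      (LinearMap.range ψ).mkQ hinj (Submodule.mkQ_surjective _) (LinearMap.exact_map_mkQ_range ψ)
    refine le_trans (le_min hQ ?_) h3
    exact Groth.Agent.Lib.Helper85.KollarFlat.one_le_sub_one hP
  have hsub := subsingleton_of_pow_smul_eq_zero I (Q ⧸ LinearMap.range ψ) hC n (by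
    intro t ht z
    obtain ⟨y, rfl⟩ := Submodule.Quotient.mk_surjective _ z
    rw [← Submodule.Quotient.mk_smul, Submodule.Quotient.mk_eq_zero]
    exact hc t ht y)
  rw [← LinearMap.range_eq_top]
  exact Submodule.Quotient.subsingleton_iff.mp hsub

end Bij

section DD
variable {R S : Type u} [CommRing R] [CommRing S] [Algebra R S] [IsNoetherianRing S]
  {M N : Type u} [AddCommGroup M] [Module R M] [Module.Finite R M]
  [AddCommGroup N] [Module R N] [Module.Finite R N]

omit [IsNoetherianRing S] in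
theorem ddual_apply {X Y : Type u} [AddCommGroup X] [Module S X] [AddCommGroup Y] [Module S Y]
    (f : X →ₗ[S] Y) (ξ : Module.Dual S (Module.Dual S X)) (η : Module.Dual S Y) :
    f.dualMap.dualMap ξ η = ξ (η ∘ₗ f) := rfl

/-- the double dual of the base change of a map with `J`-power-torsion kernel and cokernel is
bijective when `depth_{JS} S ≥ 2` -/
theorem ddual_baseChange_bijective (J : Ideal R) (φ : M →ₗ[R] N) (n : ℕ)
    (hk : ∀ a ∈ J ^ n, ∀ x, φ x = 0 → a • x = 0)
    (hc : ∀ a ∈ J ^ n, ∀ y, ∃ x, φ x = a • y)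
    (hS : 2 ≤ LocCoh.idealDepth (J.map (algebraMap R S)) S) :
    Function.Bijective ((φ.baseChange S).dualMap.dualMap) := by
  set ψ := (φ.baseChange S).dualMap.dualMap with hψ
  have hP : 2 ≤ LocCoh.idealDepth (J.map (algebraMap R S))
      (Module.Dual S (Module.Dual S (S ⊗[R] M))) :=
    Groth.Agent.Lib.Helper85.HomDepth.two_le_idealDepth_hom _ _ _ hS
  have hQ : 2 ≤ LocCoh.idealDepth (J.map (algebraMap R S))
      (Module.Dual S (Module.Dual S (S ⊗[R] N))) :=
    Groth.Agent.Lib.Helper85.HomDepth.two_le_idealDepth_hom _ _ _ hS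
  let T : Ideal S := Module.annihilator S (LinearMap.ker ψ) ⊓
    Module.annihilator S (Module.Dual S (Module.Dual S (S ⊗[R] N)) ⧸ LinearMap.range ψ)
  have hT : (J.map (algebraMap R S)) ^ (n + n) ≤ T := by
    rw [pow_add, ← Ideal.map_pow, ← Ideal.map_mul, Ideal.map_le_iff_le_comap, Ideal.mul_le]
    intro a₁ ha₁ a₂ ha₂
    obtain ⟨ρ, hρ1, hρ2⟩ := exists_quasiInv φ a₁ a₂ (hk a₁ ha₁) (hc a₂ ha₂)
    set c : S := algebraMap R S (a₁ * a₂) with hc'
    have e1 : (φ.baseChange S) ∘ₗ (ρ.baseChange S) = c • LinearMap.id := by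
      rw [← LinearMap.baseChange_comp, hρ1]
      ext y
      simp [hc', Algebra.smul_def]
    have e2 : (ρ.baseChange S) ∘ₗ (φ.baseChange S) = c • LinearMap.id := by
      rw [← LinearMap.baseChange_comp, hρ2]
      ext y
      simp [hc', Algebra.smul_def]
    set σ := (ρ.baseChange S).dualMap.dualMap with hσ
    have f1 : ∀ ξ, ψ (σ ξ) = c • ξ := by
      intro ξ
      ext η
      rw [hψ, hσ, ddual_apply, ddual_apply, LinearMap.comp_assoc, e1]
      rw [LinearMap.comp_smul, LinearMap.comp_id, map_smul]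
      rfl
    have f2 : ∀ ξ, σ (ψ ξ) = c • ξ := by
      intro ξ
      ext η
      rw [hψ, hσ, ddual_apply, ddual_apply, LinearMap.comp_assoc, e2]
      rw [LinearMap.comp_smul, LinearMap.comp_id, map_smul]
      rfl
    rw [Ideal.mem_comap]
    refine Submodule.mem_inf.mpr ⟨?_, ?_⟩
    · rw [Module.mem_annihilator]
      rintro ⟨x, hx⟩
      apply Subtype.ext
      change c • x = 0
      rw [← f2, LinearMap.mem_ker.mp hx, map_zero]
    · rw [Module.mem_annihilator]
      intro z
      obtain ⟨y, rfl⟩ := Submodule.Quotient.mk_surjective _ z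
      rw [← Submodule.Quotient.mk_smul, Submodule.Quotient.mk_eq_zero, ← f1]
      exact LinearMap.mem_range_self _ _
  refine bijective_of_torsion (J.map (algebraMap R S)) ψ hP (le_trans (by norm_num) hQ) (n + n)
    ?_ ?_
  · intro t ht x hx
    have h1 := (Submodule.mem_inf.mp (hT ht)).1
    rw [Module.mem_annihilator] at h1
    have := h1 ⟨x, LinearMap.mem_ker.mpr hx⟩
    exact congrArg Subtype.val this
  · intro t ht y
    have h1 := (Submodule.mem_inf.mp (hT ht)).2
    rw [Module.mem_annihilator] at h1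
    have := h1 (Submodule.Quotient.mk y)
    rwa [← Submodule.Quotient.mk_smul, Submodule.Quotient.mk_eq_zero] at this

end DD

section Eval
open Groth.Agent.Lib.Helper85.Reflexive Module
variable {A : Type u} [CommRing A] [IsNoetherianRing A]
  (G : Type u) [AddCommGroup G] [Module A G] [Module.Finite A G]

/-- kernel of evaluation: annihilated by a power of `I` -/
theorem exists_pow_le_annihilator_ker (I : Ideal A)
    (hU : ∀ p : PrimeSpectrum A, ¬ I ≤ p.asIdeal →
      Module.IsReflexive (Localization.AtPrime p.asIdeal) (LocalizedModule p.asIdeal.primeCompl G)) :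
    ∃ n : ℕ, I ^ n ≤ Module.annihilator A (LinearMap.ker (Dual.eval A G)) := by
  apply exists_pow_le_of_forall_prime
  intro P hP hJP
  by_contra hIP
  haveI := hP
  haveI := hU ⟨P, hP⟩ hIP
  have hsupp : (⟨P, hP⟩ : PrimeSpectrum A) ∈
      Module.support A (LinearMap.ker (Dual.eval A G)) :=
    Module.mem_support_iff_of_finite.mpr hJP
  obtain ⟨c, hc⟩ := Module.mem_support_iff'.mp hsupp
  have hx : ∀ φ : Dual A G, φ c.1 = 0 := by
    intro φ
    have := LinearMap.mem_ker.mp c.2
    exact LinearMap.congr_fun this φ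
  obtain ⟨s, hsP, hs⟩ := exists_smul_eq_zero P G c.1 hx
  apply hc s hsP
  apply Subtype.ext
  exact hs

theorem exists_pow_ker_coker (I : Ideal A)
    (hU : ∀ p : PrimeSpectrum A, ¬ I ≤ p.asIdeal →
      Module.IsReflexive (Localization.AtPrime p.asIdeal) (LocalizedModule p.asIdeal.primeCompl G)) :
    ∃ n : ℕ, (∀ a ∈ I ^ n, ∀ x, Dual.eval A G x = 0 → a • x = 0) ∧
      (∀ a ∈ I ^ n, ∀ ξ, ∃ x, Dual.eval A G x = a • ξ) := by
  obtain ⟨n₁, h₁⟩ := exists_pow_le_annihilator_ker G I hU
  obtain ⟨n₂, h₂⟩ := exists_pow_le_annihilator G I hU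
  refine ⟨n₁ + n₂, ?_, ?_⟩
  · intro a ha x hx
    have h3 := h₁ (Ideal.pow_le_pow_right (Nat.le_add_right n₁ n₂) ha)
    rw [Module.mem_annihilator] at h3
    exact congrArg Subtype.val (h3 ⟨x, LinearMap.mem_ker.mpr hx⟩)
  · intro a ha ξ
    have h3 := h₂ (Ideal.pow_le_pow_right (Nat.le_add_left n₂ n₁) ha)
    rw [Module.mem_annihilator] at h3
    have := h3 (Submodule.Quotient.mk ξ)
    rw [← Submodule.Quotient.mk_smul, Submodule.Quotient.mk_eq_zero] at this
    exact this

end Eval

end Groth.Agent.Lib.Helper85.DDual
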