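import Groth.Agent.Lib.Helper85.SocleSum
import Groth.Agent.Lib.Helper76.Curvilinear
import Mathlib

/-!
# `𝔪`-power torsion `D`-modules over `k[[x_1,…,x_d]]` in characteristic zero (helper85)

Lyubeznik's lemma: such a module is a direct sum of copies of the injective hull of the residue field.
-/

set_option autoImplicit false
universe u

namespace Groth.Agent.Lib.Helper85.DModTorsion

open InjHull IsLocalRing MvPowerSeries

variable {k : Type u} [Field k] [CharZero k] {d : ℕ}
  (θ : Fin d → Derivation k (MvPowerSeries (Fin d) k) (MvPowerSeries (Fin d) k))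
  (hθ : ∀ i j : Fin d, θ i (MvPowerSeries.X j) = if i = j then 1 else 0)
  {M : Type u} [AddCommGroup M] [Module (MvPowerSeries (Fin d) k) M]
  (D : Fin d → M →+ M)
  (hD : ∀ (i : Fin d) (f : MvPowerSeries (Fin d) k) (z : M), D i (f • z) = θ i f • z + f • D i z)

include hθ in
theorem theta_pow_same (i : Fin d) (n : ℕ) :
    θ i ((X i : MvPowerSeries (Fin d) k) ^ (n + 1)) = ((n + 1 : ℕ) : MvPowerSeries (Fin d) k) * X i ^ n := by
  rw [Derivation.leibniz_pow, hθ i i, if_pos rfl]
  simp [nsmul_eq_mul]

include hθ in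
theorem theta_pow_ne (i j : Fin d) (hij : i ≠ j) (n : ℕ) :
    θ i ((X j : MvPowerSeries (Fin d) k) ^ n) = 0 := by
  rw [Derivation.leibniz_pow, hθ i j, if_neg hij]
  simp

include hθ hD in
/-- divisibility by `x_i` on a `D_i`-stable submodule of `x_i`-power torsion elements -/
theorem exists_eq_smul (i : Fin d) (N : Submodule (MvPowerSeries (Fin d) k) M)
    (hN : ∀ z ∈ N, D i z ∈ N) :
    ∀ (n : ℕ) (z : M), z ∈ N → (X i : MvPowerSeries (Fin d) k) ^ n • z = 0 →
      ∃ w ∈ N, z = (X i : MvPowerSeries (Fin d) k) • w := by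
  intro n
  induction n with
  | zero =>
    intro z _ hz
    rw [pow_zero, one_smul] at hz
    exact ⟨0, N.zero_mem, by rw [hz, smul_zero]⟩
  | succ n ih =>
    intro z hzN hz
    have h1 : D i ((X i : MvPowerSeries (Fin d) k) ^ (n + 1) • z) = 0 := by
      rw [hz, map_zero]
    rw [hD, theta_pow_same θ hθ] at h1
    -- z' = (n+1) z + x D z is killed by x^n
    set x : MvPowerSeries (Fin d) k := X i with hx
    set z' : M := ((n + 1 : ℕ) : MvPowerSeries (Fin d) k) • z + x • D i z with hz'
    have hz'N : z' ∈ N :=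
      N.add_mem (N.smul_mem _ hzN) (N.smul_mem _ (hN z hzN))
    have hz'0 : x ^ n • z' = 0 := by
      rw [hz', smul_add, smul_smul, smul_smul, ← pow_succ, mul_comm (x ^ n)]
      exact h1
    obtain ⟨w', hw'N, hw'⟩ := ih z' hz'N hz'0
    -- (n+1) z = x (w' - D z)
    have h2 : ((n + 1 : ℕ) : MvPowerSeries (Fin d) k) • z = x • (w' - D i z) := by
      rw [smul_sub, ← hw', hz']
      abel
    let c : MvPowerSeries (Fin d) k := C (((n + 1 : ℕ) : k)⁻¹)
    have hc : c * ((n + 1 : ℕ) : MvPowerSeries (Fin d) k) = 1 := by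
      have h3 : ((n + 1 : ℕ) : MvPowerSeries (Fin d) k) = C (((n + 1 : ℕ) : k)) := by
        rw [map_natCast]
      rw [h3, ← map_mul, inv_mul_cancel₀ (Nat.cast_ne_zero.mpr (Nat.succ_ne_zero n)), map_one]
    refine ⟨c • (w' - D i z), N.smul_mem _ (N.sub_mem hw'N (hN z hzN)), ?_⟩
    calc z = (c * ((n + 1 : ℕ) : MvPowerSeries (Fin d) k)) • z := by rw [hc, one_smul]
      _ = c • x • (w' - D i z) := by rw [mul_smul, h2]
      _ = x • c • (w' - D i z) := smul_comm _ _ _

/-- the submodule of elements killed by `x_j ^ a_j` for all `j ≠ i` -/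
def killed (i : Fin d) (a : Fin d → ℕ) : Submodule (MvPowerSeries (Fin d) k) M where
  carrier := {z | ∀ j, j ≠ i → (X j : MvPowerSeries (Fin d) k) ^ a j • z = 0}
  add_mem' := by
    intro z₁ z₂ h₁ h₂ j hj
    rw [smul_add, h₁ j hj, h₂ j hj, add_zero]
  zero_mem' := fun j _ => smul_zero _
  smul_mem' := by
    intro c z hz j hj
    rw [smul_comm, hz j hj, smul_zero]

theorem mem_killed (i : Fin d) (a : Fin d → ℕ) (z : M) :
    z ∈ killed (k := k) i a ↔ ∀ j, j ≠ i → (X j : MvPowerSeries (Fin d) k) ^ a j • z = 0 :=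
  Iff.rfl

include hθ hD in
theorem D_mem_killed (i : Fin d) (a : Fin d → ℕ) (z : M) (hz : z ∈ killed (k := k) i a) :
    D i z ∈ killed (k := k) i a := by
  intro j hj
  have h1 := hD i ((X j : MvPowerSeries (Fin d) k) ^ a j) z
  rw [hz j hj, map_zero, theta_pow_ne θ hθ i j (Ne.symm hj), zero_smul, zero_add] at h1
  exact h1.symm

include hθ hD in
/-- the key surjectivity induction -/
theorem mem_range_of_killed {F : Type u} [AddCommGroup F] [Module (MvPowerSeries (Fin d) k) F]
    (φ : M →ₗ[MvPowerSeries (Fin d) k] F) (hφ : Function.Injective φ)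
    (hsoc : ∀ y : F, (∀ i, (X i : MvPowerSeries (Fin d) k) • y = 0) → y ∈ LinearMap.range φ) :
    ∀ (n : ℕ) (a : Fin d → ℕ), ∑ i, a i = n → ∀ y : F,
      (∀ i, (X i : MvPowerSeries (Fin d) k) ^ a i • y = 0) → y ∈ LinearMap.range φ := by
  intro n
  induction n using Nat.strong_induction_on with
  | _ n ih =>
    intro a ha y hy
    by_cases hsmall : ∀ i, a i ≤ 1
    · apply hsoc
      intro i
      have h1 := hy i
      rcases Nat.le_one_iff_eq_zero_or_eq_one.mp (hsmall i) with h0 | h0
      · rw [h0, pow_zero, one_smul] at h1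
        rw [h1, smul_zero]
      · rw [h0, pow_one] at h1
        exact h1
    · push_neg at hsmall
      obtain ⟨i, hi⟩ := hsmall
      -- step 1: x_i y is in the range
      have hlt1 : ∑ j, Function.update a i (a i - 1) j < n := by
        rw [← ha]
        apply Finset.sum_lt_sum
        · intro j _
          by_cases hj : j = i
          · subst hj; rw [Function.update_self]; omega
          · rw [Function.update_of_ne hj]
        · exact ⟨i, Finset.mem_univ _, by rw [Function.update_self]; omega⟩
      have hy1 : ∀ j, (X j : MvPowerSeries (Fin d) k) ^ Function.update a i (a i - 1) j •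
          ((X i : MvPowerSeries (Fin d) k) • y) = 0 := by
        intro j
        by_cases hj : j = i
        · subst hj
          rw [Function.update_self, smul_smul, ← pow_succ]
          have : a j - 1 + 1 = a j := by omega
          rw [this]
          exact hy j
        · rw [Function.update_of_ne hj, smul_comm, hy j, smul_zero]
      obtain ⟨m1, hm1⟩ := ih _ hlt1 _ rfl _ hy1
      -- m1 is killed appropriately
      have hm1N : m1 ∈ killed (k := k) i a := by
        intro j hj
        apply hφ
        rw [map_smul, hm1, map_zero, smul_comm, hy j, smul_zero]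
      have hm1x : (X i : MvPowerSeries (Fin d) k) ^ (a i - 1) • m1 = 0 := by
        apply hφ
        rw [map_smul, hm1, map_zero, smul_smul, ← pow_succ]
        have : a i - 1 + 1 = a i := by omega
        rw [this]
        exact hy i
      obtain ⟨m2, hm2N, hm2⟩ := exists_eq_smul θ hθ D hD i (killed (k := k) i a)
        (D_mem_killed θ hθ D hD i a) (a i - 1) m1 hm1N hm1x
      -- step 2: y - φ m2
      have hlt2 : ∑ j, Function.update a i 1 j < n := by
        rw [← ha]
        apply Finset.sum_lt_sum
        · intro j _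
          by_cases hj : j = i
          · subst hj; rw [Function.update_self]; omega
          · rw [Function.update_of_ne hj]
        · exact ⟨i, Finset.mem_univ _, by rw [Function.update_self]; omega⟩
      have hy2 : ∀ j, (X j : MvPowerSeries (Fin d) k) ^ Function.update a i 1 j •
          (y - φ m2) = 0 := by
        intro j
        by_cases hj : j = i
        · subst hj
          rw [Function.update_self, pow_one, smul_sub, ← map_smul, ← hm2, hm1, sub_self]
        · rw [Function.update_of_ne hj, smul_sub, hy j, ← map_smul, hm2N j hj, map_zero, sub_zero]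
      obtain ⟨m3, hm3⟩ := ih _ hlt2 _ rfl _ hy2
      refine ⟨m3 + m2, ?_⟩
      rw [map_add, hm3, sub_add_cancel]

include hθ hD in
/-- **Lyubeznik's lemma.** -/
theorem main {E : Type u} [AddCommGroup E] [Module (MvPowerSeries (Fin d) k) E]
    (e : IsLocalRing.ResidueField (MvPowerSeries (Fin d) k) →ₗ[MvPowerSeries (Fin d) k] E)
    (he : InjHull.IsInjectiveHull e)
    (hM : LocCoh.IsPowerTorsion (IsLocalRing.maximalIdeal (MvPowerSeries (Fin d) k)) M) :
    ∃ J : Type u, Nonempty (M ≃ₗ[MvPowerSeries (Fin d) k] (J →₀ E)) := by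
  obtain ⟨J, φ, hφ, hsoc⟩ := Groth.Agent.Lib.Helper85.SocleSum.exists_embedding he M hM
  refine ⟨J, ⟨LinearEquiv.ofBijective φ ⟨hφ, ?_⟩⟩⟩
  have hmax := Groth.Agent.Lib.Helper76.Curvi.maxP_eq k d
  have hXmem : ∀ i : Fin d, (X i : MvPowerSeries (Fin d) k) ∈
      IsLocalRing.maximalIdeal (MvPowerSeries (Fin d) k) := by
    intro i
    rw [hmax]
    exact Ideal.subset_span ⟨i, rfl⟩
  have hsoc' : ∀ y : J →₀ E, (∀ i, (X i : MvPowerSeries (Fin d) k) • y = 0) →
      y ∈ LinearMap.range φ := by
    intro y hy
    apply hsoc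
    intro a ha
    rw [hmax] at ha
    refine Submodule.span_induction (p := fun a _ => a • y = 0) ?_ ?_ ?_ ?_ ha
    · rintro _ ⟨i, rfl⟩
      exact hy i
    · exact zero_smul _ _
    · intro a b _ _ h1 h2
      rw [add_smul, h1, h2, add_zero]
    · intro c a _ h1
      rw [smul_eq_mul, mul_smul, h1, smul_zero]
  intro y
  obtain ⟨n, hn⟩ := Groth.Agent.Lib.Helper85.SocleSum.isPowerTorsion_finsupp
    he.toIsEssentialInj J y
  exact mem_range_of_killed θ hθ D hD φ hφ hsoc' _ (fun _ => n) rfl y
    (fun i => hn _ (Ideal.pow_mem_pow (hXmem i) n))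

end Groth.Agent.Lib.Helper85.DModTorsion
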