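import Mathlib
import Groth.Prelude.Def_W4stkfunctorsequivSib
import Groth.Agent.Lib.Helper89.DbGen
import Groth.Agent.Lib.Helper89.Efface2

/-!
# The bounded derived category of a countable abelian category is countable

Uses helper89's `DbGen.induction` (devissage of `D^b(A)`) and effaceability of morphisms
`X → Y⟦q⟧`, `q ≠ 0`.
-/

set_option autoImplicit false
set_option linter.unusedSectionVars false
set_option linter.style.haveILetI false
universe w v u
open CategoryTheory CategoryTheory.Limits CategoryTheory.Pretriangulated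
open scoped ZeroObject

namespace Groth.Agent.Lib.Helper85.DbCountable

/-- A type fibred over a countable type with fibres covered by a countable family of
"translations" is countable. -/
lemma countable_of_fibers {G H K : Type*} [Countable H] [Countable K] (φ : G → H)
    (ψ : K → G → G) (h : ∀ f f' : G, φ f = φ f' → ∃ k, f = ψ k f') : Countable G := by
  classical
  by_cases hG : Nonempty G
  · obtain ⟨g₀⟩ := hG
    let r : H → G := fun y => if hy : ∃ f, φ f = y then hy.choose else g₀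
    have hs : Function.Surjective (fun p : H × K => ψ p.2 (r p.1)) := by
      intro f
      have hy : ∃ f', φ f' = φ f := ⟨f, rfl⟩
      have hr : φ (r (φ f)) = φ f := by
        simp only [r, dif_pos hy]
        exact hy.choose_spec
      obtain ⟨k, hk⟩ := h f (r (φ f)) hr.symm
      exact ⟨(φ f, k), hk.symm⟩
    exact hs.countable
  · haveI : IsEmpty G := not_nonempty_iff.1 hG
    infer_instance

section Tri

variable {C : Type*} [Category C] [Preadditive C] [HasZeroObject C] [HasShift C ℤ]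
  [∀ n : ℤ, (shiftFunctor C n).Additive] [Pretriangulated C]

/-- contravariant two-out-of-three for countability of Hom sets -/
lemma countable_hom_from_obj₂ (T : Triangle C) (hT : T ∈ distTriang C) (X : C)
    [Countable (T.obj₁ ⟶ X)] [Countable (T.obj₃ ⟶ X)] : Countable (T.obj₂ ⟶ X) := by
  refine countable_of_fibers (H := T.obj₁ ⟶ X) (K := T.obj₃ ⟶ X) (fun f => T.mor₁ ≫ f)
    (fun g f' => f' + T.mor₂ ≫ g) ?_
  intro f f' hff'
  have h0 : T.mor₁ ≫ (f - f') = 0 := by
    rw [Preadditive.comp_sub]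
    exact sub_eq_zero.2 hff'
  obtain ⟨g, hg⟩ := Triangle.yoneda_exact₂ T hT (f - f') h0
  exact ⟨g, by rw [← hg]; abel⟩

/-- covariant two-out-of-three for countability of Hom sets -/
lemma countable_hom_to_obj₂ (T : Triangle C) (hT : T ∈ distTriang C) (X : C)
    [Countable (X ⟶ T.obj₁)] [Countable (X ⟶ T.obj₃)] : Countable (X ⟶ T.obj₂) := by
  refine countable_of_fibers (H := X ⟶ T.obj₃) (K := X ⟶ T.obj₁) (fun f => f ≫ T.mor₂)
    (fun g f' => f' + g ≫ T.mor₁) ?_
  intro f f' hff'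
  have h0 : (f - f') ≫ T.mor₂ = 0 := by
    rw [Preadditive.sub_comp]
    exact sub_eq_zero.2 hff'
  obtain ⟨g, hg⟩ := Triangle.coyoneda_exact₂ T hT (f - f') h0
  exact ⟨g, by rw [← hg]; abel⟩

end Tri

section Shift

variable {C : Type*} [Category C] [HasShift C ℤ]

/-- `Hom(K⟦b⟧, L⟦c⟧)` is a quotient of `Hom(K, L⟦a⟧)` when `a + b = c`. -/
lemma countable_shift_hom (K L : C) (a b c : ℤ) (h : a + b = c) [Countable (K ⟶ L⟦a⟧)] :
    Countable (K⟦b⟧ ⟶ L⟦c⟧) := by
  have hs : Function.Surjective (fun g : K ⟶ L⟦a⟧ =>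
      g⟦b⟧' ≫ (shiftFunctorAdd' C a b c h).inv.app L) := by
    intro f
    refine ⟨(shiftFunctor C b).preimage (f ≫ (shiftFunctorAdd' C a b c h).hom.app L), ?_⟩
    simp only [Functor.map_preimage, Category.assoc, Iso.hom_inv_id_app]
    exact Category.comp_id f
  exact hs.countable

lemma countable_hom_of_iso_right {K L L' : C} (e : L ≅ L') [Countable (K ⟶ L)] :
    Countable (K ⟶ L') :=
  Countable.of_equiv _ (e.homToEquiv (Z := K))

lemma countable_hom_of_iso_left {K K' L : C} (e : K ≅ K') [Countable (K ⟶ L)] :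
    Countable (K' ⟶ L) :=
  Countable.of_equiv _ (e.homFromEquiv (Z := L))

end Shift


section Single

open DerivedCategory DerivedCategory.TStructure

variable {A : Type u} [Category.{v} A] [Abelian A] [HasDerivedCategory.{w} A]

local notation "sB" => DEquiv.singleB A

instance : (DEquiv.singleB A).Full := by
  unfold DEquiv.singleB
  infer_instance

instance : (DEquiv.singleB A).Faithful := by
  unfold DEquiv.singleB
  infer_instance

lemma kerSES {L' L : A} (p : L' ⟶ L) [Epi p] :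
    (ShortComplex.mk (kernel.ι p) p (kernel.condition p)).ShortExact :=
  { exact := ShortComplex.exact_kernel p }

/-- the connecting morphism of the kernel sequence of an epimorphism -/
noncomputable def kerδ {L' L : A} (p : L' ⟶ L) [Epi p] :
    (sB).obj L ⟶ ((sB).obj (kernel p))⟦(1 : ℤ)⟧ :=
  (Helper89.DbGen.exists_triangle (kerSES p)).choose

lemma kerδ_spec {L' L : A} (p : L' ⟶ L) [Epi p] :
    Triangle.mk ((sB).map (kernel.ι p)) ((sB).map p) (kerδ p) ∈
      distTriang (DerivedCategory.Bounded A) :=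
  (Helper89.DbGen.exists_triangle (kerSES p)).choose_spec

variable (hhom : ∀ X Y : A, Countable (X ⟶ Y))
  (e : ℕ → A) (he : ∀ X : A, ∃ n : ℕ, Nonempty (X ≅ e n))

include hhom e he in
lemma hom_single_countable_nat : ∀ (n : ℕ) (q : ℤ), q = n → ∀ X Y : A,
    Countable ((sB).obj X ⟶ ((sB).obj Y)⟦q⟧) := by
  intro n
  induction n with
  | zero =>
    intro q hq X Y
    have hq0 : q = 0 := by simpa using hq
    subst hq0
    haveI := hhom X Y
    haveI : Countable ((sB).obj X ⟶ (sB).obj Y) :=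
      ((sB).map_surjective (X := X) (Y := Y)).countable
    exact countable_hom_of_iso_right (K := (sB).obj X) (L := (sB).obj Y)
      ((shiftFunctorZero (DerivedCategory.Bounded A) ℤ).symm.app ((sB).obj Y))
  | succ n ih =>
    intro q hq X Y
    have hq0 : q ≠ 0 := by
      rw [hq]; push_cast; omega
    -- the index type
    let I := Σ (m : ℕ), Σ (p : {p : e m ⟶ X // Epi p}),
      (haveI := p.2; (((sB).obj (kernel p.1))⟦(1 : ℤ)⟧ ⟶ ((sB).obj Y)⟦q⟧))
    haveI : ∀ m : ℕ, Countable {p : e m ⟶ X // Epi p} := fun m => by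
      haveI := hhom (e m) X
      infer_instance
    haveI : ∀ (m : ℕ) (p : {p : e m ⟶ X // Epi p}),
        Countable (haveI := p.2; (((sB).obj (kernel p.1))⟦(1 : ℤ)⟧ ⟶ ((sB).obj Y)⟦q⟧)) := by
      intro m p
      haveI := p.2
      haveI := ih (q - 1) (by rw [hq]; push_cast; ring) (kernel p.1) Y
      exact countable_shift_hom ((sB).obj (kernel p.1)) ((sB).obj Y) (q - 1) 1 q (by ring)
    haveI : Countable I := inferInstance
    have hs : Function.Surjective (fun x : I => (haveI := x.2.1.2; kerδ x.2.1.1 ≫ x.2.2)) := by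
      intro f
      obtain ⟨X', p', hp', hpf⟩ := Helper89.DbGen.exists_epi_comp_eq_zero X Y q hq0 f
      obtain ⟨m, ⟨φ⟩⟩ := he X'
      let p : e m ⟶ X := φ.inv ≫ p'
      haveI : Epi p := epi_comp _ _
      have hpf' : (sB).map p ≫ f = 0 := by
        rw [Functor.map_comp, Category.assoc, hpf, comp_zero]
      obtain ⟨g, hg⟩ := Triangle.yoneda_exact₃ _ (kerδ_spec p) f hpf'
      exact ⟨⟨m, ⟨p, inferInstance⟩, g⟩, hg.symm⟩
    exact hs.countable

include hhom e he in
lemma hom_single_countable (X Y : A) (q : ℤ) :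
    Countable ((sB).obj X ⟶ ((sB).obj Y)⟦q⟧) := by
  by_cases hq : q < 0
  · haveI : Subsingleton ((sB).obj X ⟶ ((sB).obj Y)⟦q⟧) :=
      ⟨fun f g => by
        rw [Helper89.DbGen.eq_zero_of_neg X Y q hq f, Helper89.DbGen.eq_zero_of_neg X Y q hq g]⟩
    infer_instance
  · exact hom_single_countable_nat hhom e he q.toNat q (by omega) X Y


local notation "DB" => DerivedCategory.Bounded A

include hhom e he in
/-- `Hom(X, L⟦j⟧)` is countable for `X` in the heart. -/
lemma hom_from_single_countable (L : DB) : ∀ (X : A) (j : ℤ),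
    Countable ((sB).obj X ⟶ L⟦j⟧) := by
  revert L
  refine Helper89.DbGen.induction
    (fun L : DB => ∀ (X : A) (j : ℤ), Countable ((sB).obj X ⟶ L⟦j⟧)) ?_ ?_ ?_ ?_ ?_
  · intro L L' eL hL X j
    haveI := hL X j
    exact countable_hom_of_iso_right ((shiftFunctor DB j).mapIso eL)
  · intro L n hL X j
    haveI := hL X (n + j)
    exact countable_hom_of_iso_right (K := (sB).obj X) (L := L⟦n + j⟧)
      ((shiftFunctorAdd' DB n j (n + j) rfl).app L)
  · intro L hL X j
    have hz : IsZero (L⟦j⟧) := (shiftFunctor DB j).map_isZero hL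
    haveI : Subsingleton ((sB).obj X ⟶ L⟦j⟧) := ⟨fun f g => hz.eq_of_tgt f g⟩
    infer_instance
  · intro Tr hTr h1 h3 X j
    haveI : Countable ((sB).obj X ⟶ ((Triangle.shiftFunctor DB j).obj Tr).obj₁) := h1 X j
    haveI : Countable ((sB).obj X ⟶ ((Triangle.shiftFunctor DB j).obj Tr).obj₃) := h3 X j
    exact countable_hom_to_obj₂ ((Triangle.shiftFunctor DB j).obj Tr)
      (Triangle.shift_distinguished Tr hTr j) ((sB).obj X)
  · intro Y X j
    exact hom_single_countable hhom e he X Y j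

include hhom e he in
/-- All Hom sets of the bounded derived category are countable. -/
theorem hom_countable (K L : DB) : Countable (K ⟶ L) := by
  revert L K
  refine Helper89.DbGen.induction
    (fun K : DB => ∀ L : DB, Countable (K ⟶ L)) ?_ ?_ ?_ ?_ ?_
  · intro K K' eK hK L
    haveI := hK L
    exact countable_hom_of_iso_left eK
  · intro K n hK L
    haveI := hK (L⟦-n⟧)
    haveI : Countable (K⟦n⟧ ⟶ L⟦(0 : ℤ)⟧) := countable_shift_hom K L (-n) n 0 (by ring)
    exact countable_hom_of_iso_right (K := K⟦n⟧) (L := L⟦(0 : ℤ)⟧)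
      ((shiftFunctorZero DB ℤ).app L)
  · intro K hK L
    haveI : Subsingleton (K ⟶ L) := ⟨fun f g => hK.eq_of_src f g⟩
    infer_instance
  · intro Tr hTr h1 h3 L
    haveI := h1 L
    haveI := h3 L
    exact countable_hom_from_obj₂ Tr hTr L
  · intro X L
    haveI := hom_from_single_countable hhom e he L X 0
    exact countable_hom_of_iso_right (K := (sB).obj X) (L := L⟦(0 : ℤ)⟧)
      ((shiftFunctorZero DB ℤ).app L)


/-- a chosen middle term of a distinguished triangle with given third morphism -/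
noncomputable def cone₂ {a b : DB} (h : b ⟶ a⟦(1 : ℤ)⟧) : DB :=
  (distinguished_cocone_triangle₂ h).choose

lemma cone₂_spec {a b : DB} (h : b ⟶ a⟦(1 : ℤ)⟧) :
    ∃ (f : a ⟶ cone₂ h) (g : cone₂ h ⟶ b), Triangle.mk f g h ∈ distTriang DB :=
  (distinguished_cocone_triangle₂ h).choose_spec

/-- the levels of a countable set of representatives of the objects of `D^b(A)` -/
noncomputable def lvl (e : ℕ → A) : ℕ → Set DB
  | 0 => {0} ∪ Set.range (fun p : ℕ × ℤ => ((sB).obj (e p.1))⟦p.2⟧)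
  | (d + 1) => lvl e d ∪
      Set.range (fun x : Σ (a : lvl e d) (b : lvl e d), (b.1 ⟶ a.1⟦(1 : ℤ)⟧) => cone₂ x.2.2)

lemma lvl_zero : lvl e 0 = {0} ∪ Set.range (fun p : ℕ × ℤ => ((sB).obj (e p.1))⟦p.2⟧) := rfl

lemma lvl_succ (d : ℕ) : lvl e (d + 1) = lvl e d ∪
    Set.range (fun x : Σ (a : lvl e d) (b : lvl e d), (b.1 ⟶ a.1⟦(1 : ℤ)⟧) => cone₂ x.2.2) := rfl

lemma lvl_mono (d d' : ℕ) (h : d ≤ d') : lvl e d ⊆ lvl e d' := by
  induction h with
  | refl => exact subset_rfl
  | step _ ih =>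
    refine ih.trans ?_
    rw [lvl_succ]
    exact Set.subset_union_left

include hhom he in
lemma lvl_countable (d : ℕ) : (lvl e d).Countable := by
  induction d with
  | zero =>
    rw [lvl_zero]
    exact (Set.countable_singleton _).union (Set.countable_range _)
  | succ d ih =>
    haveI : Countable (lvl e d) := ih.to_subtype
    haveI : ∀ (a b : lvl e d), Countable (b.1 ⟶ a.1⟦(1 : ℤ)⟧) :=
      fun a b => hom_countable hhom e he _ _
    rw [lvl_succ]
    exact ih.union (Set.countable_range _)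

/-- the class of objects isomorphic to a representative -/
def Rep (e : ℕ → A) (K : DB) : Prop := ∃ d, ∃ c ∈ lvl e d, Nonempty (K ≅ c)

lemma rep_ext (Tr : Triangle DB) (hTr : Tr ∈ distTriang DB) (h1 : Rep e Tr.obj₁)
    (h3 : Rep e Tr.obj₃) : Rep e Tr.obj₂ := by
  obtain ⟨d₁, a, ha, ⟨e₁⟩⟩ := h1
  obtain ⟨d₃, b, hb, ⟨e₃⟩⟩ := h3
  let d := max d₁ d₃
  have ha' : a ∈ lvl e d := lvl_mono e d₁ d (le_max_left _ _) ha
  have hb' : b ∈ lvl e d := lvl_mono e d₃ d (le_max_right _ _) hb
  let h : b ⟶ a⟦(1 : ℤ)⟧ := e₃.inv ≫ Tr.mor₃ ≫ e₁.hom⟦(1 : ℤ)⟧'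
  obtain ⟨f, g, hT₂⟩ := cone₂_spec h
  have comm : Tr.mor₃ ≫ (shiftFunctor DB (1 : ℤ)).map e₁.hom = e₃.hom ≫ (Triangle.mk f g h).mor₃ := by
    change _ = e₃.hom ≫ e₃.inv ≫ Tr.mor₃ ≫ e₁.hom⟦(1 : ℤ)⟧'
    rw [Iso.hom_inv_id_assoc]
  let eT := isoTriangleOfIso₁₃ Tr (Triangle.mk f g h) hTr hT₂ e₁ e₃ comm
  refine ⟨d + 1, cone₂ h, ?_, ⟨Triangle.π₂.mapIso eT⟩⟩
  rw [lvl_succ]
  exact Or.inr ⟨⟨⟨a, ha'⟩, ⟨b, hb'⟩, h⟩, rfl⟩

include he in
theorem rep_all (K : DB) : Rep e K := by
  have hiso : ∀ X Y : DB, (X ≅ Y) → Rep e X → Rep e Y := by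
    rintro X Y eXY ⟨d, c, hc, ⟨ec⟩⟩
    exact ⟨d, c, hc, ⟨eXY.symm ≪≫ ec⟩⟩
  have key : ∀ K : DB, ∀ n : ℤ, Rep e (K⟦n⟧) := by
    refine Helper89.DbGen.induction (fun K : DB => ∀ n : ℤ, Rep e (K⟦n⟧)) ?_ ?_ ?_ ?_ ?_
    · intro X Y eXY hX n
      exact hiso _ _ ((shiftFunctor DB n).mapIso eXY) (hX n)
    · intro X m hX n
      exact hiso _ _ ((shiftFunctorAdd' DB m n (m + n) rfl).app X) (hX (m + n))
    · intro X hX n
      have hz : IsZero (X⟦n⟧) := (shiftFunctor DB n).map_isZero hX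
      exact ⟨0, 0, by rw [lvl_zero]; exact Or.inl rfl, ⟨hz.iso (isZero_zero DB)⟩⟩
    · intro Tr hTr h1 h3 n
      exact rep_ext e ((Triangle.shiftFunctor DB n).obj Tr)
        (Triangle.shift_distinguished Tr hTr n) (h1 n) (h3 n)
    · intro Y n
      obtain ⟨m, ⟨φ⟩⟩ := he Y
      exact ⟨0, ((sB).obj (e m))⟦n⟧, by rw [lvl_zero]; exact Or.inr ⟨(m, n), rfl⟩,
        ⟨(shiftFunctor DB n).mapIso ((sB).mapIso φ)⟩⟩
  exact hiso _ _ ((shiftFunctorZero DB ℤ).app K) (key K 0)

include hhom he in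
theorem exists_enum : ∃ r : ℕ → DB, ∀ K : DB, ∃ n : ℕ, Nonempty (K ≅ r n) := by
  have hc : (⋃ d, lvl e d).Countable := Set.countable_iUnion (lvl_countable hhom e he)
  have hne : (⋃ d, lvl e d).Nonempty :=
    ⟨0, Set.mem_iUnion.2 ⟨0, by rw [lvl_zero]; exact Or.inl rfl⟩⟩
  obtain ⟨r, hr⟩ := hc.exists_eq_range hne
  refine ⟨r, fun K => ?_⟩
  obtain ⟨d, c, hc', ⟨ec⟩⟩ := rep_all e he K
  have : c ∈ Set.range r := by
    rw [← hr]
    exact Set.mem_iUnion.2 ⟨d, hc'⟩
  obtain ⟨n, rfl⟩ := this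
  exact ⟨n, ⟨ec⟩⟩

end Single

end Groth.Agent.Lib.Helper85.DbCountable
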