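import Mathlib

/-!
# Eilenberg–Watts for finitely presented modules (existence + naturality)

For an additive `R`-linear right exact functor `F : ModuleCat R ⥤ ModuleCat R`, the natural map
`τ_M : F(R) ⊗ M → F(M)` is bijective for finitely presented `M`.
-/

open CategoryTheory TensorProduct

namespace Groth.Agent.Lib.Helper85.EW

universe u
variable {R : Type u} [CommRing R]

/-- linearity hypotheses on a functor -/
structure IsLinFunctor (F : ModuleCat.{u} R ⥤ ModuleCat.{u} R) : Prop where
  map_add : ∀ {M N : ModuleCat.{u} R} (φ ψ : M ⟶ N), F.map (φ + ψ) = F.map φ + F.map ψ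
  map_smul_id : ∀ (M : ModuleCat.{u} R) (r : R), F.map (r • 𝟙 M) = r • 𝟙 (F.obj M)

/-- right exactness hypothesis on a functor -/
structure IsRightExact (F : ModuleCat.{u} R ⥤ ModuleCat.{u} R) : Prop where
  exact : ∀ {M1 M2 M3 : ModuleCat.{u} R} (f : M1 ⟶ M2) (g : M2 ⟶ M3),
    Function.Exact f.hom g.hom → Function.Surjective g.hom →
      Function.Exact (F.map f).hom (F.map g).hom
  surj : ∀ {M2 M3 : ModuleCat.{u} R} (g : M2 ⟶ M3),
    Function.Surjective g.hom → Function.Surjective (F.map g).hom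

variable {F : ModuleCat.{u} R ⥤ ModuleCat.{u} R}

namespace IsLinFunctor

variable (hF : IsLinFunctor F)
include hF

theorem map_zero {M N : ModuleCat.{u} R} : F.map (0 : M ⟶ N) = 0 := by
  have := hF.map_add (0 : M ⟶ N) 0
  rw [add_zero] at this
  simpa using this

theorem map_smul {M N : ModuleCat.{u} R} (r : R) (φ : M ⟶ N) : F.map (r • φ) = r • F.map φ := by
  have : r • φ = φ ≫ (r • 𝟙 N) := by rw [Linear.comp_smul, Category.comp_id]
  rw [this, F.map_comp, hF.map_smul_id, Linear.comp_smul, Category.comp_id]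

theorem map_sum {ι : Type*} (s : Finset ι) {M N : ModuleCat.{u} R} (φ : ι → (M ⟶ N)) :
    F.map (∑ j ∈ s, φ j) = ∑ j ∈ s, F.map (φ j) := by
  classical
  induction s using Finset.induction_on with
  | empty => simp [hF.map_zero]
  | insert a s ha ih => rw [Finset.sum_insert ha, Finset.sum_insert ha, hF.map_add, ih]

end IsLinFunctor

/-- the map `R → M`, `r ↦ r • x`. -/
noncomputable def ρ (M : ModuleCat.{u} R) (x : M) : ModuleCat.of R R ⟶ M :=
  ModuleCat.ofHom (LinearMap.toSpanSingleton R M x)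

@[simp] theorem ρ_apply (M : ModuleCat.{u} R) (x : M) (r : R) : (ρ M x).hom r = r • x := rfl

theorem ρ_add (M : ModuleCat.{u} R) (x y : M) : ρ M (x + y) = ρ M x + ρ M y := by
  ext
  simp [ρ]

theorem ρ_smul (M : ModuleCat.{u} R) (r : R) (x : M) : ρ M (r • x) = r • ρ M x := by
  ext
  simp [ρ]

theorem ρ_comp {M N : ModuleCat.{u} R} (φ : M ⟶ N) (x : M) : ρ M x ≫ φ = ρ N (φ.hom x) := by
  ext
  simp [ρ]

theorem ρ_self (r : R) : ρ (ModuleCat.of R R) r = r • 𝟙 (ModuleCat.of R R) := by
  ext
  simp [ρ]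

variable (hF : IsLinFunctor F)

/-- the natural map `F(R) ⊗ M → F(M)`. -/
noncomputable def tau (M : ModuleCat.{u} R) :
    F.obj (ModuleCat.of R R) ⊗[R] M →ₗ[R] F.obj M :=
  TensorProduct.lift (LinearMap.mk₂ R (fun y x => (F.map (ρ M x)).hom y)
    (by intros; simp)
    (by intros; simp)
    (by intro y x x'; rw [ρ_add, hF.map_add]; rfl)
    (by intro r y x; rw [ρ_smul, hF.map_smul]; rfl))

@[simp] theorem tau_tmul (M : ModuleCat.{u} R) (y : F.obj (ModuleCat.of R R)) (x : M) :
    tau hF M (y ⊗ₜ x) = (F.map (ρ M x)).hom y := rfl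

theorem tau_naturality {M N : ModuleCat.{u} R} (φ : M ⟶ N)
    (t : F.obj (ModuleCat.of R R) ⊗[R] M) :
    (F.map φ).hom (tau hF M t) = tau hF N (LinearMap.lTensor _ φ.hom t) := by
  induction t using TensorProduct.induction_on with
  | zero => simp
  | tmul y x =>
    rw [tau_tmul, LinearMap.lTensor_tmul, tau_tmul, ← ρ_comp, F.map_comp]
    rfl
  | add a b ha hb => rw [map_add, map_add, ha, hb, map_add, map_add]

section Free

variable (b : ℕ)

/-- coordinate projection -/
noncomputable def pr (j : Fin b) : ModuleCat.of R (Fin b → R) ⟶ ModuleCat.of R R :=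
  ModuleCat.ofHom (LinearMap.proj j)

theorem sum_pr_ρ :
    ∑ j : Fin b, pr (R := R) b j ≫ ρ (ModuleCat.of R (Fin b → R)) (Pi.single j 1) = 𝟙 _ := by
  apply ModuleCat.hom_ext
  apply LinearMap.ext
  intro x
  simp only [ModuleCat.hom_sum, LinearMap.sum_apply, ModuleCat.hom_comp, LinearMap.comp_apply,
    ModuleCat.hom_id, LinearMap.id_apply]
  funext k
  simp [pr, ρ, Finset.sum_apply, Pi.single_apply]

theorem ρ_pr (x : Fin b → R) (j : Fin b) :
    ρ (ModuleCat.of R (Fin b → R)) x ≫ pr b j = (x j) • 𝟙 (ModuleCat.of R R) := by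
  ext
  simp [pr, ρ]

/-- the inverse of `tau` on a finite free module -/
noncomputable def sigma : F.obj (ModuleCat.of R (Fin b → R)) →ₗ[R]
    F.obj (ModuleCat.of R R) ⊗[R] (Fin b → R) :=
  ∑ j : Fin b, ((TensorProduct.mk R (F.obj (ModuleCat.of R R)) (Fin b → R)).flip
    (Pi.single j 1)) ∘ₗ (F.map (pr b j)).hom

theorem sigma_apply (z : F.obj (ModuleCat.of R (Fin b → R))) :
    sigma (F := F) b z = ∑ j : Fin b, ((F.map (pr b j)).hom z) ⊗ₜ[R] (Pi.single j (1 : R)) := by
  simp [sigma, LinearMap.sum_apply]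

include hF in
theorem tau_sigma (z : F.obj (ModuleCat.of R (Fin b → R))) :
    tau hF (ModuleCat.of R (Fin b → R)) (sigma (F := F) b z) = z := by
  rw [sigma_apply, map_sum]
  have h1 : ∀ j : Fin b, tau hF (ModuleCat.of R (Fin b → R))
      (((F.map (pr b j)).hom z) ⊗ₜ[R] (Pi.single j (1 : R)))
      = (F.map (pr b j ≫ ρ (ModuleCat.of R (Fin b → R)) (Pi.single j 1))).hom z := by
    intro j
    rw [F.map_comp]
    rfl
  rw [Finset.sum_congr rfl (fun j _ => h1 j)]
  have h2 := congrArg (fun φ => (F.map φ).hom z) (sum_pr_ρ (R := R) b)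
  simp only [hF.map_sum, ModuleCat.hom_sum, LinearMap.sum_apply, F.map_id, ModuleCat.hom_id,
    LinearMap.id_apply] at h2
  exact h2

include hF in
theorem sigma_tau (t : F.obj (ModuleCat.of R R) ⊗[R] (Fin b → R)) :
    sigma (F := F) b (tau hF (ModuleCat.of R (Fin b → R)) t) = t := by
  induction t using TensorProduct.induction_on with
  | zero => simp
  | tmul y x =>
    rw [tau_tmul, sigma_apply]
    have h1 : ∀ j : Fin b, (F.map (pr b j)).hom ((F.map (ρ (ModuleCat.of R (Fin b → R)) x)).hom y)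
        = (x j) • y := by
      intro j
      have : (F.map (ρ (ModuleCat.of R (Fin b → R)) x ≫ pr b j)).hom y = (x j) • y := by
        rw [ρ_pr, hF.map_smul_id]
        rfl
      rw [F.map_comp] at this
      exact this
    rw [Finset.sum_congr rfl (fun j _ => by rw [h1 j])]
    simp only [TensorProduct.smul_tmul]
    rw [← TensorProduct.tmul_sum]
    congr 1
    funext k
    simp [Finset.sum_apply, Pi.single_apply]
  | add a c ha hc => rw [map_add, map_add, ha, hc]

include hF in
theorem tau_bijective_free :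
    Function.Bijective (tau hF (ModuleCat.of R (Fin b → R))) :=
  Function.bijective_iff_has_inverse.2 ⟨sigma b, sigma_tau hF b, tau_sigma hF b⟩

end Free

/-- a form of the five lemma for right exact rows -/
theorem bijective_of_rightExact {A1 A2 A3 B1 B2 B3 : Type*}
    [AddCommGroup A1] [Module R A1] [AddCommGroup A2] [Module R A2] [AddCommGroup A3] [Module R A3]
    [AddCommGroup B1] [Module R B1] [AddCommGroup B2] [Module R B2] [AddCommGroup B3] [Module R B3]
    (a1 : A1 →ₗ[R] A2) (a2 : A2 →ₗ[R] A3) (b1 : B1 →ₗ[R] B2) (b2 : B2 →ₗ[R] B3)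
    (t1 : A1 →ₗ[R] B1) (t2 : A2 →ₗ[R] B2) (t3 : A3 →ₗ[R] B3)
    (ha : Function.Exact a1 a2) (ha2 : Function.Surjective a2)
    (hb : Function.Exact b1 b2) (hb2 : Function.Surjective b2)
    (c1 : ∀ x, t2 (a1 x) = b1 (t1 x)) (c2 : ∀ x, t3 (a2 x) = b2 (t2 x))
    (h1 : Function.Surjective t1) (h2 : Function.Bijective t2) : Function.Bijective t3 := by
  constructor
  · rw [injective_iff_map_eq_zero]
    intro t ht
    obtain ⟨s, rfl⟩ := ha2 t
    rw [c2] at ht
    obtain ⟨w, hw⟩ := (hb (t2 s)).1 ht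
    obtain ⟨v, rfl⟩ := h1 w
    rw [← c1] at hw
    have := h2.1 hw
    rw [← this]
    exact (ha _).2 ⟨v, rfl⟩
  · intro z
    obtain ⟨w, rfl⟩ := hb2 z
    obtain ⟨s, rfl⟩ := h2.2 w
    exact ⟨a2 s, c2 s⟩

include hF in
/-- Eilenberg–Watts on finitely presented modules. -/
theorem tau_bijective (hE : IsRightExact F) (M : ModuleCat.{u} R)
    [Module.FinitePresentation R M] : Function.Bijective (tau hF M) := by
  obtain ⟨n, m, f, g, hf, hgf⟩ := Module.FinitePresentation.exists_fin' R M
  let g' : ModuleCat.of R (Fin m → R) ⟶ ModuleCat.of R (Fin n → R) := ModuleCat.ofHom g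
  let f' : ModuleCat.of R (Fin n → R) ⟶ M := ModuleCat.ofHom f
  refine bijective_of_rightExact
    (LinearMap.lTensor (F.obj (ModuleCat.of R R)) g) (LinearMap.lTensor (F.obj (ModuleCat.of R R)) f)
    (F.map g').hom (F.map f').hom
    (tau hF (ModuleCat.of R (Fin m → R))) (tau hF (ModuleCat.of R (Fin n → R))) (tau hF M)
    (lTensor_exact _ hgf hf) (LinearMap.lTensor_surjective _ hf)
    (hE.exact g' f' hgf hf) (hE.surj f' hf) ?_ ?_
    (tau_bijective_free hF m).2 (tau_bijective_free hF n)
  · intro x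
    exact (tau_naturality hF g' x).symm
  · intro x
    exact (tau_naturality hF f' x).symm

/-- `tau` as an equivalence on finitely presented modules -/
noncomputable def tauEquiv (hE : IsRightExact F) (M : ModuleCat.{u} R)
    [Module.FinitePresentation R M] : F.obj (ModuleCat.of R R) ⊗[R] M ≃ₗ[R] F.obj M :=
  LinearEquiv.ofBijective (tau hF M) (tau_bijective hF hE M)

@[simp] theorem tauEquiv_apply (hE : IsRightExact F) (M : ModuleCat.{u} R)
    [Module.FinitePresentation R M] (t : F.obj (ModuleCat.of R R) ⊗[R] M) :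
    tauEquiv hF hE M t = tau hF M t := rfl

section Compare

variable {G : ModuleCat.{u} R ⥤ ModuleCat.{u} R} (hG : IsLinFunctor G)
  (hEF : IsRightExact F) (hEG : IsRightExact G)
  (c : F.obj (ModuleCat.of R R) ≃ₗ[R] G.obj (ModuleCat.of R R))

/-- two linear right exact functors agreeing on `R` agree on finitely presented modules -/
noncomputable def compEquiv (M : ModuleCat.{u} R) [Module.FinitePresentation R M] :
    F.obj M ≃ₗ[R] G.obj M :=
  (tauEquiv hF hEF M).symm ≪≫ₗ (TensorProduct.congr c (LinearEquiv.refl R M)) ≪≫ₗ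
    tauEquiv hG hEG M

theorem compEquiv_tau (M : ModuleCat.{u} R) [Module.FinitePresentation R M]
    (t : F.obj (ModuleCat.of R R) ⊗[R] M) :
    compEquiv hF hG hEF hEG c M (tau hF M t)
      = tau hG M (TensorProduct.congr c (LinearEquiv.refl R M) t) := by
  unfold compEquiv
  rw [LinearEquiv.trans_apply, LinearEquiv.trans_apply, ← tauEquiv_apply hF hEF,
    LinearEquiv.symm_apply_apply]
  rfl

theorem compEquiv_naturality {M N : ModuleCat.{u} R} [Module.FinitePresentation R M]
    [Module.FinitePresentation R N] (φ : M ⟶ N) (z : F.obj M) :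
    compEquiv hF hG hEF hEG c N ((F.map φ).hom z)
      = (G.map φ).hom (compEquiv hF hG hEF hEG c M z) := by
  obtain ⟨t, rfl⟩ := (tau_bijective hF hEF M).2 z
  rw [tau_naturality, compEquiv_tau, compEquiv_tau, tau_naturality]
  congr 1
  induction t using TensorProduct.induction_on with
  | zero => simp
  | tmul y x => simp
  | add a b ha hb => simp only [map_add, ha, hb]

end Compare

end Groth.Agent.Lib.Helper85.EW
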