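import Groth.Agent.Lib.Helper85.EWFin
import Groth.Agent.Lib.Helper92.LocCohCompare
import Mathlib.Algebra.Category.ModuleCat.Monoidal.Closed

/-!
# Finitary right exact linear functors are left adjoints; top local cohomology
-/

open CategoryTheory TensorProduct MonoidalCategory

namespace Groth.Agent.Lib.Helper85.EW

universe u
variable {R : Type u} [CommRing R] [IsNoetherianRing R]
  {F : ModuleCat.{u} R ⥤ ModuleCat.{u} R}

/-- `F ≅ F(R) ⊗ -` for a finitary right exact linear functor -/
noncomputable def tensorIso (hF : IsLinFunctor F) (hE : IsRightExact F) (hfin : IsFinitary F) :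
    tensorLeft (F.obj (ModuleCat.of R R)) ≅ F :=
  NatIso.ofComponents
    (fun M => (LinearEquiv.ofBijective (tau hF M)
      (tau_bijective_of_finitary hF hE hfin M)).toModuleIso)
    (by
      intro M N f
      apply ModuleCat.hom_ext
      apply LinearMap.ext
      intro t
      exact (tau_naturality hF f t).symm)

/-- a finitary right exact linear functor is a left adjoint -/
noncomputable def adjOfFinitary (hF : IsLinFunctor F) (hE : IsRightExact F) (hfin : IsFinitary F) :
    F ⊣ ihom (F.obj (ModuleCat.of R R)) :=
  (ihom.adjunction (F.obj (ModuleCat.of R R))).ofNatIsoLeft (tensorIso hF hE hfin)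

end Groth.Agent.Lib.Helper85.EW

namespace Groth.Agent.Lib.Helper85.Canon

open Groth.Agent.Lib.Helper92.LC Groth.Agent.Lib.Helper85.EW

universe u
variable {R : Type u} [CommRing R] [IsNoetherianRing R]

omit [IsNoetherianRing R] in
theorem cdLE_mono (I : Ideal R) {d d' : ℕ} (h : d ≤ d') (hcd : LocCoh.CdLE R I d) :
    LocCoh.CdLE R I d' := fun M _ _ i hi => hcd M i (lt_of_le_of_lt h hi)

theorem cdLE_of_radical_eq {I I' : Ideal R} (h : I.radical = I'.radical) {d : ℕ}
    (hcd : LocCoh.CdLE R I d) : LocCoh.CdLE R I' d := by
  intro M _ _ i hi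
  have := hcd M i hi
  let e := (localCohomology.isoOfSameRadical h i).app (ModuleCat.of R M)
  exact e.toLinearEquiv.symm.toEquiv.subsingleton

/-- `cd J ≤ d` when `J` is generated up to radical by `d` elements -/
theorem cdLE_of_le_radical_span (J : Ideal R) (d : ℕ) (u : Fin d → R) (hu : ∀ i, u i ∈ J)
    (hJ : J ≤ (Ideal.span (Set.range u)).radical) : LocCoh.CdLE R J d := by
  classical
  have h1 : LocCoh.CdLE R (Ideal.span ((Finset.univ.image u : Finset R) : Set R)) d :=
    cdLE_mono _ (by
      refine le_trans (Finset.card_image_le (s := Finset.univ) (f := u)) ?_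
      simp) (cdLE_span_finset (Finset.univ.image u))
  have h2 : ((Finset.univ.image u : Finset R) : Set R) = Set.range u := by
    ext x
    simp
  rw [h2] at h1
  refine cdLE_of_radical_eq ?_ h1
  apply le_antisymm
  · apply Ideal.radical_mono
    rw [Ideal.span_le]
    rintro _ ⟨i, rfl⟩
    exact hu i
  · exact Ideal.radical_le_radical_iff.2 hJ

/-- top local cohomology is a left adjoint -/
noncomputable def adjTop (I : Ideal R) (n : ℕ) (hcd : LocCoh.CdLE R I n) :
    localCohomology I n ⊣ ihom ((localCohomology I n).obj (ModuleCat.of R R)) :=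
  adjOfFinitary (isLinFunctor_localCohomology I n) (isRightExact_localCohomology I n hcd)
    (isFinitary_localCohomology I n)

end Groth.Agent.Lib.Helper85.Canon
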