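import Mathlib

/-!
# The equaliser of two ring maps out of a normal domain is normal (helper85)

If `A` is an integrally closed domain and `α β : A →+* B` are ring homomorphisms such that `β`
sends nonzero elements to nonzerodivisors, then the subring `{a | α a = β a}` is integrally closed.
Typical use: rings of invariants `k[G]^H` of a coaction.
-/

set_option autoImplicit false
open scoped nonZeroDivisors

namespace Groth.Agent.Lib.Helper85.EqLocusNormal

theorem isIntegrallyClosed_eqLocus {A B : Type*} [CommRing A] [IsDomain A] [IsIntegrallyClosed A]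
    [CommRing B] (α β : A →+* B) (hβ : ∀ b : A, b ≠ 0 → β b ∈ B⁰) :
    IsIntegrallyClosed (RingHom.eqLocus α β) := by
  set E : Subring A := RingHom.eqLocus α β with hE
  let L := FractionRing A
  let K := FractionRing E
  let g : E →+* L := (algebraMap A L).comp E.subtype
  have hg : Function.Injective g :=
    (IsFractionRing.injective A L).comp Subtype.val_injective
  let ψ : K →+* L := IsFractionRing.lift hg
  have hψ : ∀ e : E, ψ (algebraMap E K e) = g e := fun e => IsFractionRing.lift_algebraMap hg e
  rw [isIntegrallyClosed_iff K]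
  intro x hx
  have hx' : IsIntegral A (ψ x) := by
    refine IsIntegral.map_of_comp_eq E.subtype ψ ?_ hx
    ext e
    exact (hψ e).symm
  obtain ⟨y, hy⟩ := IsIntegrallyClosed.isIntegral_iff.mp hx'
  obtain ⟨a, b, hb, rfl⟩ := IsFractionRing.div_surjective (A := E) x
  have hb0 : b ≠ 0 := nonZeroDivisors.ne_zero hb
  have hb0' : (b : A) ≠ 0 := fun h => hb0 (Subtype.ext h)
  have hgb : g b ≠ 0 := fun h => hb0 (hg (h.trans (map_zero g).symm))
  have hyb : y * (b : A) = (a : A) := by
    apply IsFractionRing.injective A L
    rw [map_mul, hy, map_div₀, hψ, hψ]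
    exact div_mul_cancel₀ _ hgb
  have hyE : y ∈ E := by
    have ha : α a = β a := a.2
    have hb' : α b = β b := b.2
    have h1 : (α y - β y) * β b = 0 := by
      have e1 : α y * β b = β a := by rw [← hb', ← map_mul, hyb, ha]
      have e2 : β y * β b = β a := by rw [← map_mul, hyb]
      rw [sub_mul, e1, e2, sub_self]
    have h2 := (hβ _ hb0').2 _ h1
    exact sub_eq_zero.mp h2
  refine ⟨⟨y, hyE⟩, ?_⟩
  have hmul : (⟨y, hyE⟩ : E) * b = a := Subtype.ext hyb
  have hKb : algebraMap E K b ≠ 0 :=
    fun h => hb0 (IsFractionRing.injective E K (h.trans (map_zero _).symm))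
  rw [eq_div_iff hKb, ← map_mul, hmul]

end Groth.Agent.Lib.Helper85.EqLocusNormal
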