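import Groth.Agent.Lib.Helper85.Hartshorne
import Groth.Agent.Lib.Helper73.DimFormula.Catenary

/-!
# Catenary + (depth ≥ 2 in codim ≥ 2) local rings are equidimensional

Poset part: in a catenary poset with top, `x ⋖ y` gives `coheight x = coheight y + 1`.
Ring part: Hartshorne connectedness (`Hartshorne.reflTransGen_adj`) joins the minimal primes by
chains through height ≤ 1 primes; along such a chain the coheight (= dim A/p) is constant.
-/

set_option autoImplicit false
universe u

namespace Groth.Agent.Lib.Helper85.Equidim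

open Groth.Agent.Lib.Helper70 Groth.Agent.Lib.Helper44 Groth.Agent.Lib.Helper73

section Poset

variable {P : Type u} [PartialOrder P]

theorem two_series {x y : P} (hxy : x ⋖ y) :
    ∃ s2 : LTSeries P, s2.head = x ∧ s2.last = y ∧ s2.length = 1 ∧
      ∀ i : Fin s2.length, s2 (Fin.castSucc i) ⋖ s2 (Fin.succ i) := by
  have hmono : StrictMono (![x, y] : Fin 2 → P) := by
    rw [Fin.strictMono_iff_lt_succ]
    intro i
    have : i = 0 := Fin.fin_one_eq_zero i
    subst this
    exact hxy.lt
  refine ⟨LTSeries.mk 1 ![x, y] hmono, rfl, rfl, rfl, ?_⟩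
  intro i
  have : i = (0 : Fin 1) := Fin.fin_one_eq_zero i
  subst this
  exact hxy

variable [OrderTop P]

/-- extend a chain to end at the top -/
theorem exists_extend_top (c : LTSeries P) :
    ∃ c' : LTSeries P, c'.head = c.head ∧ c'.last = ⊤ ∧ c.length ≤ c'.length := by
  by_cases h : c.last = ⊤
  · exact ⟨c, rfl, h, le_rfl⟩
  · refine ⟨c.snoc ⊤ (lt_top_iff_ne_top.mpr h), ?_, ?_, ?_⟩
    · exact RelSeries.head_snoc _ _ _
    · exact RelSeries.last_snoc _ _ _
    · rw [RelSeries.snoc_length]; exact Nat.le_succ _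

/-- saturated chain to the top, at least as long as a given chain -/
theorem exists_saturated_top (hP : PosetCat P) (c : LTSeries P) :
    ∃ s : LTSeries P, s.head = c.head ∧ s.last = ⊤ ∧ c.length ≤ s.length ∧
      ∀ i : Fin s.length, s (Fin.castSucc i) ⋖ s (Fin.succ i) := by
  obtain ⟨c', h1, h2, h3⟩ := exists_extend_top c
  obtain ⟨s, hs1, hs2, hs3, hs4⟩ := PosetCat.exists_saturated_of_series hP c'
  exact ⟨s, hs1.trans h1, hs2.trans h2, h3.trans hs3, hs4⟩

theorem coheight_eq_of_covBy (hP : PosetCat P) {x y : P} (hxy : x ⋖ y)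
    (hfin : Order.coheight x < ⊤) : Order.coheight x = Order.coheight y + 1 := by
  apply le_antisymm _ (Order.coheight_add_one_le hxy.lt)
  have hyfin : Order.coheight y < ⊤ := lt_of_le_of_lt (Order.coheight_anti hxy.lt.le) hfin
  obtain ⟨n, hn⟩ := ENat.ne_top_iff_exists.mp hyfin.ne
  obtain ⟨t0, ht0, ht0l⟩ := Order.exists_series_of_coheight_eq_coe y hn.symm
  obtain ⟨t, ht1, ht2, ht3, ht4⟩ := exists_saturated_top hP t0
  have htlen : t.length = n := by
    apply le_antisymm
    · have : (t.length : ℕ∞) ≤ Order.coheight t.head := Order.length_le_coheight_head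
      rw [ht1, ht0, ← hn] at this
      exact_mod_cast this
    · rw [← ht0l]; exact ht3
  obtain ⟨s2, hs2h, hs2l, hs2len, hs2sat⟩ := two_series hxy
  have hconn : s2.last = t.head := by rw [hs2l, ht1, ht0]
  have husat := smash_saturated s2 t hconn hs2sat ht4
  apply Order.coheight_le
  intro c hc
  obtain ⟨s, hs1, hs2', hs3, hs4⟩ := exists_saturated_top hP c
  have hle := PosetCat.length_le_of_saturated hP (s2.smash t hconn) husat s
    (by rw [RelSeries.head_smash, hs1, hc, hs2h]) (by rw [RelSeries.last_smash, hs2', ht2])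
  have hul : (s2.smash t hconn).length = 1 + n := by
    change s2.length + t.length = 1 + n
    rw [hs2len, htlen]
  rw [← hn]
  have : c.length ≤ n + 1 := by omega
  exact_mod_cast this

end Poset

section Ring

variable {A : Type u} [CommRing A] [IsLocalRing A]

theorem connectedSpace_of_isLocalRing : ConnectedSpace (PrimeSpectrum A) := by
  have hne : Nonempty (PrimeSpectrum A) := ⟨IsLocalRing.closedPoint A⟩
  have : PreconnectedSpace (PrimeSpectrum A) := by
    refine ⟨isPreconnected_of_forall (IsLocalRing.closedPoint A) ?_⟩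
    intro y _
    refine ⟨closure {y}, Set.subset_univ _, ?_, subset_closure rfl, isPreconnected_singleton.closure⟩
    rw [← specializes_iff_mem_closure, ← PrimeSpectrum.le_iff_specializes]
    exact le_top (a := y)
  exact ⟨hne⟩

omit [IsLocalRing A] in
theorem ringKrullDim_quotient_eq_coheight (p : PrimeSpectrum A) :
    ringKrullDim (A ⧸ p.asIdeal) = (Order.coheight p : WithBot ℕ∞) := by
  have h1 : PrimeSpectrum.zeroLocus (p.asIdeal : Set A) = Set.Ici p := by
    ext q
    rw [PrimeSpectrum.mem_zeroLocus, SetLike.coe_subset_coe, Set.mem_Ici]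
    rfl
  rw [ringKrullDim_quotient, Order.coheight_eq_krullDim_Ici, h1]

omit [IsLocalRing A] in
theorem covBy_of_height_le_one {p Q : PrimeSpectrum A} (hlt : p < Q)
    (hQ : Q.asIdeal.height ≤ 1) : p ⋖ Q := by
  refine ⟨hlt, fun z hpz hzQ => ?_⟩
  have h1 : 1 < Order.height Q := Order.one_lt_height_iff.mpr ⟨z, p, hpz, hzQ⟩
  have h2 : Q.asIdeal.height = Order.height Q := PrimeSpectrum.height_eq_orderHeight Q
  rw [h2] at hQ
  exact absurd h1 (not_lt.mpr hQ)

variable [IsNoetherianRing A]

theorem coheight_eq_of_minimalPrimes (hc : CAlg.IsCatenary A)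
    (h : ∀ (Q : Ideal A) [Q.IsPrime], (2 : ℕ∞) ≤ Q.height →
      (2 : ℕ∞) ≤ LocCoh.depth (Localization.AtPrime Q) (Localization.AtPrime Q))
    (p p' : PrimeSpectrum A) (hp : p.asIdeal ∈ minimalPrimes A)
    (hp' : p'.asIdeal ∈ minimalPrimes A) : Order.coheight p' = Order.coheight p := by
  have := connectedSpace_of_isLocalRing (A := A)
  have hchain := Groth.Agent.Lib.Helper85.Hartshorne.reflTransGen_adj p.asIdeal p'.asIdeal hp hp'
  have key : ∀ q : Ideal A, Relation.ReflTransGen (Groth.Agent.Lib.Helper85.Hartshorne.Adj A)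
      p.asIdeal q → q ∈ minimalPrimes A ∧ ∀ hq : q.IsPrime,
        Order.coheight (⟨q, hq⟩ : PrimeSpectrum A) = Order.coheight p := by
    intro q hq
    induction hq with
    | refl => exact ⟨hp, fun _ => rfl⟩
    | @tail b c _ hbc ih =>
      obtain ⟨hcmin, Q, hQ, hbQ, hcQ, hdepth⟩ := hbc
      refine ⟨hcmin, fun hc' => ?_⟩
      have hb : b.IsPrime := ih.1.1.1
      rw [← ih.2 hb]
      by_cases hbc' : b = c
      · subst hbc'; rfl
      · have hQht : Q.height ≤ 1 := by
          have h2 : ¬ (2 : ℕ∞) ≤ Q.height := fun h2 => hdepth (h Q h2)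
          revert h2
          generalize Q.height = t
          induction t using ENat.recTopCoe with
          | top => intro h2; exact absurd le_top h2
          | coe t =>
            intro h2
            have : ¬ (2 ≤ t) := fun h3 => h2 (by exact_mod_cast h3)
            exact_mod_cast (by omega : t ≤ 1)
        have hbQ' : (⟨b, hb⟩ : PrimeSpectrum A) < ⟨Q, hQ⟩ := by
          refine lt_of_le_of_ne hbQ ?_
          intro heq
          have e : b = Q := congrArg PrimeSpectrum.asIdeal heq
          have hle : c ≤ b := e ▸ hcQ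
          exact hbc' (le_antisymm (ih.1.2 ⟨hc', bot_le⟩ hle) hle)
        have hcQ' : (⟨c, hc'⟩ : PrimeSpectrum A) < ⟨Q, hQ⟩ := by
          refine lt_of_le_of_ne hcQ ?_
          intro heq
          have e : c = Q := congrArg PrimeSpectrum.asIdeal heq
          have hle : b ≤ c := e ▸ hbQ
          exact hbc' (le_antisymm hle (hcmin.2 ⟨hb, bot_le⟩ hle))
        rw [coheight_eq_of_covBy hc (covBy_of_height_le_one hbQ' hQht) (Order.coheight_lt_top _),
          coheight_eq_of_covBy hc (covBy_of_height_le_one hcQ' hQht) (Order.coheight_lt_top _)]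
  exact (key p'.asIdeal hchain).2 p'.2

/-- A catenary Noetherian local ring with `depth A_Q ≥ 2` whenever `ht Q ≥ 2` is equidimensional. -/
theorem ringKrullDim_quotient_eq_of_mem_minimalPrimes (hc : CAlg.IsCatenary A)
    (h : ∀ (Q : Ideal A) [Q.IsPrime], (2 : ℕ∞) ≤ Q.height →
      (2 : ℕ∞) ≤ LocCoh.depth (Localization.AtPrime Q) (Localization.AtPrime Q))
    (p : Ideal A) (hp : p ∈ minimalPrimes A) : ringKrullDim (A ⧸ p) = ringKrullDim A := by
  have hpp : p.IsPrime := hp.1.1
  have e := ringKrullDim_quotient_eq_coheight (⟨p, hpp⟩ : PrimeSpectrum A)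
  change ringKrullDim (A ⧸ p) = _ at e
  rw [e]
  apply le_antisymm (Order.coheight_le_krullDim _)
  rw [Order.krullDim_eq_iSup_coheight]
  apply iSup_le
  intro a
  obtain ⟨q, hq, hqa⟩ := Ideal.exists_minimalPrimes_le (I := ⊥) (J := a.asIdeal) bot_le
  have h1 := coheight_eq_of_minimalPrimes hc h ⟨p, hpp⟩ ⟨q, hq.1.1⟩ hp hq
  have h2 : Order.coheight a ≤ Order.coheight (⟨q, hq.1.1⟩ : PrimeSpectrum A) :=
    Order.coheight_anti (show (⟨q, hq.1.1⟩ : PrimeSpectrum A) ≤ a from hqa)
  rw [h1] at h2
  exact_mod_cast h2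

end Ring

end Groth.Agent.Lib.Helper85.Equidim
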