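import Groth.Agent.Lib.Helper68.TorFactor
import Groth.Agent.Lib.Helper68.TorFirst2
import Groth.Agent.Lib.Helper68.FreeCover
import Mathlib.Algebra.Category.ModuleCat.Ext.DimensionShifting
import Mathlib.Algebra.Homology.DerivedCategory.Ext.ExactSequences

/-! For a map `α : M ⟶ M'` of modules over a Noetherian ring with `M` finite:
`α` kills `Ext^{e+1}(M', N)` for all `N` iff `Tor_{e+1}(α, N) = 0` for all `N`.
Dimension shifting in the first variable; base case = factoring through a free module. -/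

set_option autoImplicit false
universe u

open CategoryTheory Limits Abelian

namespace Groth.Agent.Lib.Helper85.ExtTorMap

open Groth.Agent.Lib.Helper68

variable {R : Type u} [CommRing R]

/-- `α` kills `Ext^{e+1}(M', N)` for every `N`. -/
def ExtZ (e : ℕ) {M M' : ModuleCat.{u} R} (α : M ⟶ M') : Prop :=
  ∀ (N : ModuleCat.{u} R) (x : Ext M' N (e + 1)), (Ext.mk₀ α).comp x (zero_add _) = 0

/-- `Tor_{e+1}(α, N) = 0` for every `N`. -/
def TorZ (e : ℕ) {M M' : ModuleCat.{u} R} (α : M ⟶ M') : Prop :=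
  ∀ N : ModuleCat.{u} R, ((Tor (ModuleCat.{u} R) (e + 1)).map α).app N = 0

section Step

variable {S S' : ShortComplex (ModuleCat.{u} R)} (hS : S.ShortExact) (hS' : S'.ShortExact)
  [Projective S.X₂] [Projective S'.X₂] (φ : S ⟶ S') (e : ℕ)

include hS hS' in
theorem extZ_step : ExtZ (e + 1) φ.τ₃ ↔ ExtZ e φ.τ₁ := by
  constructor
  · intro h N y
    have h1 := h N (hS'.extClass.comp y (by omega : 1 + (e + 1) = e + 1 + 1))
    rw [← Ext.comp_assoc (a₁₂ := 1) _ _ _ (by omega) (by omega) (by omega),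
      ← ShortComplex.ShortExact.extClass_naturality hS hS' φ,
      Ext.comp_assoc (a₂₃ := e + 1) _ _ _ (by omega) (by omega) (by omega)] at h1
    obtain ⟨z, hz⟩ := Ext.contravariant_sequence_exact₁ hS N _ _ h1
    rw [← hz, Ext.eq_zero_of_projective z, Ext.comp_zero]
  · intro h N x
    obtain ⟨y, rfl⟩ := Ext.contravariant_sequence_exact₃ hS' N x
      (Ext.eq_zero_of_projective _) (by omega : 1 + (e + 1) = e + 1 + 1)
    rw [← Ext.comp_assoc (a₁₂ := 1) _ _ _ (by omega) (by omega) (by omega),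
      ← ShortComplex.ShortExact.extClass_naturality hS hS' φ,
      Ext.comp_assoc (a₂₃ := e + 1) _ _ _ (by omega) (by omega) (by omega), h N y, Ext.comp_zero]

include hS hS' in
theorem torZ_step : TorZ (e + 1) φ.τ₃ ↔ TorZ e φ.τ₁ := by
  have hP : Module.Projective R S.X₂ := inferInstance
  have hP' : Module.Projective R S'.X₂ := inferInstance
  have hF : Module.Flat R S.X₂ := inferInstance
  have hF' : Module.Flat R S'.X₂ := inferInstance
  constructor
  · intro h N
    have hnat := TorFirst.δ_natural_left hS hS' φ N (e + 1)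
    rw [h N, zero_comp] at hnat
    have : IsIso (TorFirst.δ hS N (e + 1)) := TorFirst.isIso_δ hS N (e + 1)
      (TorFirst.isZero_tor_succ_of_flat_left N (e + 1) S.X₂)
      (TorFirst.isZero_tor_succ_of_flat_left N e S.X₂)
    exact (cancel_epi (TorFirst.δ hS N (e + 1))).1 (by rw [← hnat, comp_zero])
  · intro h N
    have hnat := TorFirst.δ_natural_left hS hS' φ N (e + 1)
    rw [h N, comp_zero] at hnat
    have : IsIso (TorFirst.δ hS' N (e + 1)) := TorFirst.isIso_δ hS' N (e + 1)
      (TorFirst.isZero_tor_succ_of_flat_left N (e + 1) S'.X₂)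
      (TorFirst.isZero_tor_succ_of_flat_left N e S'.X₂)
    exact (cancel_mono (TorFirst.δ hS' N (e + 1))).1 (by rw [hnat, zero_comp])

end Step

section Base

variable {M M' : ModuleCat.{u} R} (α : M ⟶ M')

theorem extZ_zero_of_factors (F : ModuleCat.{u} R) [Projective F] (g : M ⟶ F) (h : F ⟶ M')
    (hα : α = g ≫ h) : ExtZ 0 α := by
  intro N x
  rw [hα, ← Ext.mk₀_comp_mk₀, Ext.comp_assoc (a₂₃ := 0 + 1) _ _ _ (by omega) (by omega) (by omega),
    Ext.eq_zero_of_projective ((Ext.mk₀ h).comp x _), Ext.comp_zero]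

theorem factors_of_extZ_zero (hα : ExtZ 0 α) :
    ∃ (g : M ⟶ (FreeCover.Ff R).obj M'), α = g ≫ (FreeCover.ε R).app M' := by
  have hS' := FreeCover.sc_shortExact M'
  have h1 := hα _ hS'.extClass
  obtain ⟨x₂, hx₂⟩ := Ext.covariant_sequence_exact₃ M hS' (Ext.mk₀ α) (by omega : 0 + 1 = 0 + 1) h1
  obtain ⟨g, rfl⟩ := (Ext.mk₀_bijective _ _).2 x₂
  refine ⟨g, ?_⟩
  rw [Ext.mk₀_comp_mk₀] at hx₂
  exact ((Ext.mk₀_bijective _ _).1 hx₂).symm

theorem torZ_zero_of_factors (F : ModuleCat.{u} R) [Module.Flat R F] (g : M ⟶ F) (h : F ⟶ M')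
    (hα : α = g ≫ h) : TorZ 0 α := by
  intro N
  rw [hα, Functor.map_comp, NatTrans.comp_app]
  have h0 : ((Tor (ModuleCat.{u} R) (0 + 1)).map g).app N = 0 :=
    (TorFirst.isZero_tor_succ_of_flat_left N 0 F).eq_of_tgt _ _
  rw [h0, zero_comp]

end Base

section Main

variable [IsNoetherianRing R]

/-- a finite free cover of `M` mapping to a free cover of `M'` over `α` -/
theorem exists_cover {M M' : ModuleCat.{u} R} [Module.Finite R M] (α : M ⟶ M') :
    ∃ (S S' : ShortComplex (ModuleCat.{u} R)) (_ : S.ShortExact) (_ : S'.ShortExact)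
      (_ : Projective S.X₂) (_ : Projective S'.X₂)
      (_ : Module.Finite R S.X₁) (e₃ : S.X₃ = M) (e₃' : S'.X₃ = M') (φ : S ⟶ S'),
      φ.τ₃ = eqToHom e₃ ≫ α ≫ eqToHom e₃'.symm := by
  obtain ⟨n, p, hp⟩ := Module.Finite.exists_fin' R M
  let S : ShortComplex (ModuleCat.{u} R) := p.shortComplexKer
  have hS : S.ShortExact := LinearMap.shortExact_shortComplexKer hp
  have hproj : Projective S.X₂ := by
    have : Module.Projective R S.X₂ := inferInstanceAs (Module.Projective R (Fin n → R))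
    exact (IsProjective.iff_projective S.X₂).mp this
  have hfin : Module.Finite R S.X₁ := inferInstanceAs (Module.Finite R (LinearMap.ker p))
  let S' : ShortComplex (ModuleCat.{u} R) := FreeCover.sc M'
  have hS' : S'.ShortExact := FreeCover.sc_shortExact M'
  have hproj' : Projective S'.X₂ := show Projective ((FreeCover.Ff R).obj M') from inferInstance
  have e₃ : S.X₃ = M := rfl
  have e₃' : S'.X₃ = M' := rfl
  have := hS'.epi_g
  have := hS'.mono_f
  let α' : S.X₃ ⟶ S'.X₃ := eqToHom e₃ ≫ α ≫ eqToHom e₃'.symm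
  let β : S.X₂ ⟶ S'.X₂ := Projective.factorThru (S.g ≫ α') S'.g
  have hβ : β ≫ S'.g = S.g ≫ α' := Projective.factorThru_comp _ _
  let γ : S.X₁ ⟶ S'.X₁ := hS'.exact.lift (S.f ≫ β) (by
    rw [Category.assoc, hβ, ← Category.assoc, S.zero, zero_comp])
  have hγ : γ ≫ S'.f = S.f ≫ β := hS'.exact.lift_f _ _
  exact ⟨S, S', hS, hS', hproj, hproj', hfin, e₃, e₃', ⟨γ, β, α', hγ, hβ⟩, rfl⟩

theorem main (e : ℕ) : ∀ (M M' : ModuleCat.{u} R) [Module.Finite R M] (α : M ⟶ M'),
    ExtZ e α ↔ TorZ e α := by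
  induction e with
  | zero =>
    intro M M' _ α
    constructor
    · intro h
      obtain ⟨g, hg⟩ := factors_of_extZ_zero α h
      exact torZ_zero_of_factors α _ g _ hg
    · intro h
      have : Module.FinitePresentation R M := Module.finitePresentation_of_finite R M
      obtain ⟨ι, g, k, hk⟩ := TorFactor.factors_through_free M M' α.hom
        (fun N _ _ => h (ModuleCat.of R N))
      have hP : Projective (ModuleCat.of R (ι →₀ R)) :=
        (IsProjective.iff_projective _).mp inferInstance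
      exact extZ_zero_of_factors α (ModuleCat.of R (ι →₀ R)) (ModuleCat.ofHom g) (ModuleCat.ofHom k)
        (by ext x; exact congrArg (fun f => f x) hk)
  | succ e ih =>
    intro M M' _ α
    obtain ⟨S, S', hS, hS', hproj, hproj', hfin, e₃, e₃', φ, hφ⟩ := exists_cover α
    subst e₃
    subst e₃'
    have hα : α = φ.τ₃ := by rw [hφ]; simp
    rw [hα, extZ_step hS hS' φ e, torZ_step hS hS' φ e]
    exact ih S.X₁ _ φ.τ₁

end Main

end Groth.Agent.Lib.Helper85.ExtTorMap
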