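import Mathlib
import Groth.Prelude.Def_CohB1
import Groth.Agent.Lib.Lead.FinTypeTop

set_option autoImplicit false
universe u
open CategoryTheory CategoryTheory.Limits AlgebraicGeometry Opposite TopologicalSpace
open Groth.Agent.Lib.Lead.FinTypeTop

namespace Groth.Agent.Lib.Helper85.FTPushT1

/-- spans over the small ring are contained in spans over the big ring -/
theorem mem_span_of_mem_span_restrictScalars {R S : Type u} [Ring R] [Ring S] (f : R →+* S)
    (M : ModuleCat.{u} S) {ι : Type*} (v : ι → ((ModuleCat.restrictScalars f).obj M))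
    (x : (ModuleCat.restrictScalars f).obj M)
    (hx : x ∈ Submodule.span R (Set.range v)) :
    (show M from x) ∈ Submodule.span S (Set.range (fun j => (show M from v j))) := by
  induction hx using Submodule.span_induction with
  | mem z hz =>
    obtain ⟨j, rfl⟩ := hz
    exact Submodule.subset_span ⟨j, rfl⟩
  | zero => exact Submodule.zero_mem _
  | add a b _ _ ha hb => exact Submodule.add_mem _ ha hb
  | smul r a _ ha => exact Submodule.smul_mem _ (f r) ha

theorem isFT_of_isFT_pushforward {U P : Scheme.{u}} (i : U ⟶ P) [IsClosedImmersion i]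
    (N : U.Modules) (h : CohB1.IsFT ((Scheme.Modules.pushforward i).obj N)) : CohB1.IsFT N := by
  apply isFiniteType_of_locSpan (T := U.toTopCat) (R := U.ringCatSheaf) N
  intro x
  obtain ⟨W, hyW, n, s, hs⟩ := exists_locSpan_of_isFiniteType (T := P.toTopCat)
    (R := P.ringCatSheaf) ((Scheme.Modules.pushforward i).obj N) h (i x)
  refine ⟨i ⁻¹ᵁ W, hyW, n, s, ?_⟩
  intro V' hV' m x' hx'
  obtain ⟨t, ht, htV⟩ := i.isClosedEmbedding.isEmbedding.isInducing.isOpen_iff.mp V'.isOpen
  let W₂ : P.Opens := ⟨t, ht⟩ ⊓ W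
  have hW₂ : i ⁻¹ᵁ W₂ = V' := by
    ext z
    constructor
    · rintro ⟨hz1, -⟩
      have : z ∈ i ⁻¹' t := hz1
      rw [htV] at this
      exact this
    · intro hz
      refine ⟨?_, hV' hz⟩
      have : z ∈ i ⁻¹' t := by rw [htV]; exact hz
      exact this
  subst hW₂
  obtain ⟨W₃, hW₃, hy, hmem⟩ := hs W₂ inf_le_right m (i x') hx'
  refine ⟨i ⁻¹ᵁ W₃, (Opens.map i.base).monotone hW₃ |>.trans (le_refl _), hy, ?_⟩
  have key := mem_span_of_mem_span_restrictScalars _ _ _ _ hmem
  exact key

end Groth.Agent.Lib.Helper85.FTPushT1
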