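import Groth.Agent.Lib.Helper77.FlatDepth3
import Groth.Agent.Lib.Helper67.Depth2
import Groth.Prelude.Def_EGA4b

/-!
# Depth along an ideal from the depth of the fibre local rings (flat maps)
-/

set_option autoImplicit false
universe u

namespace Groth.Agent.Lib.Helper85.FibreDepth

open IsLocalRing

section

variable (A B : Type u) [CommRing A] [CommRing B] [Algebra A B] (q : Ideal B) [q.IsPrime]

/-- the image of `q` generates the maximal ideal of the fibre local ring `B_q / p B_q` -/
theorem map_eq_maximalIdeal :
    q.map (algebraMap B (Groth.Agent.Lib.Helper77.FlatDepth.FibLoc A B q)) =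
      maximalIdeal (Groth.Agent.Lib.Helper77.FlatDepth.FibLoc A B q) := by
  rw [IsScalarTower.algebraMap_eq B (Localization.AtPrime q)
    (Groth.Agent.Lib.Helper77.FlatDepth.FibLoc A B q), ← Ideal.map_map,
    Localization.AtPrime.map_eq_maximalIdeal]
  exact IsLocalRing.map_maximalIdeal_of_surjective _ Ideal.Quotient.mk_surjective

variable [IsNoetherianRing A] [IsNoetherianRing B] [Module.Flat A B]

/-- for a flat map: `depth B_q ≥ depth (B_q / p B_q)` -/
theorem le_depth_localization (d : ℕ∞)
    (h : d ≤ LocCoh.idealDepth (q.map (algebraMap B (EGA4.FibLocRing A B q)))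
      (EGA4.FibLocRing A B q)) :
    d ≤ LocCoh.depth (Localization.AtPrime q) (Localization.AtPrime q) := by
  have h1 := (Groth.Agent.Lib.Helper77.FlatDepth.loc_formulas A B q).1
  rw [h1]
  have h2 : d ≤ LocCoh.depth (Groth.Agent.Lib.Helper77.FlatDepth.FibLoc A B q)
      (Groth.Agent.Lib.Helper77.FlatDepth.FibLoc A B q) := by
    unfold LocCoh.depth
    rw [← map_eq_maximalIdeal A B q]
    exact h
  exact le_trans h2 le_add_self

/-- for a flat map whose fibre local rings along `V(J)` have depth `≥ d`: `depth_J B ≥ d` -/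
theorem le_idealDepth_self (J : Ideal B) (d : ℕ∞)
    (hZ : ∀ q : PrimeSpectrum B, J ≤ q.asIdeal →
      d ≤ LocCoh.idealDepth (q.asIdeal.map (algebraMap B (EGA4.FibLocRing A B q.asIdeal)))
        (EGA4.FibLocRing A B q.asIdeal)) :
    d ≤ LocCoh.idealDepth J B := by
  rw [Groth.Agent.Lib.Helper67.idealDepth_eq_iInf_depth_localization J B]
  refine le_iInf₂ fun q hq => ?_
  exact le_depth_localization A B q.asIdeal d (hZ q hq)

end

end Groth.Agent.Lib.Helper85.FibreDepth
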