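import Groth.Agent.Lib.Helper56.FibreCM
import Groth.Agent.Lib.Helper85.FibreDepth

set_option autoImplicit false
universe u
open TensorProduct

namespace Groth.Agent.Lib.Helper85.FibreBC

section
variable (A B A' B' : Type u) [CommRing A] [CommRing B] [CommRing A'] [CommRing B']
  [Algebra A B] [Algebra A A'] [Algebra B B'] [Algebra A' B'] [Algebra A B']
  [IsScalarTower A B B'] [IsScalarTower A A' B'] [Algebra.IsPushout A B A' B']
  (p' : Ideal A') [p'.IsPrime]

noncomputable def θ₁ : (p'.comap (algebraMap A A')).Fiber B →ₐ[A] p'.ResidueField ⊗[A] B :=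
  Algebra.TensorProduct.map
    (Ideal.ResidueField.mapₐ (p'.comap (algebraMap A A')) p' (Algebra.ofId A A') rfl)
    (AlgHom.id A B)

noncomputable def θ₂ : p'.ResidueField ⊗[A] B ≃ₐ[p'.ResidueField] p'.ResidueField ⊗[A'] (A' ⊗[A] B) :=
  (Algebra.TensorProduct.cancelBaseChange A A' p'.ResidueField p'.ResidueField B).symm

noncomputable def pe : A' ⊗[A] B ≃ₐ[A'] B' :=
  haveI : Algebra.IsPushout A A' B B' := Algebra.IsPushout.symm inferInstance
  Algebra.IsPushout.equiv A A' B B'

noncomputable def θ₃ : p'.ResidueField ⊗[A'] (A' ⊗[A] B) ≃ₐ[p'.ResidueField] p'.Fiber B' :=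
  Algebra.TensorProduct.congr AlgEquiv.refl (pe A B A' B')

/-- the comparison map of fibres `κ(p) ⊗_A B → κ(p') ⊗_{A'} B'` -/
noncomputable def θ : (p'.comap (algebraMap A A')).Fiber B →+* p'.Fiber B' :=
  ((θ₃ A B A' B' p').toAlgHom.toRingHom.comp (θ₂ A B A' p').toAlgHom.toRingHom).comp
    (θ₁ A B A' p').toRingHom

theorem θ_flat : (θ A B A' B' p').Flat := by
  unfold θ
  refine RingHom.Flat.comp ?_ (RingHom.Flat.comp ?_ ?_)
  · unfold θ₁
    apply RingHom.Flat.tensorProductMap
    · exact RingHom.Flat.of_isField (Field.toIsField _) _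
    · exact RingHom.Flat.id _
  · exact RingHom.Flat.of_bijective (AlgEquiv.bijective _)
  · exact RingHom.Flat.of_bijective (AlgEquiv.bijective _)

theorem pe_tmul (a' : A') (b : B) : pe A B A' B' (a' ⊗ₜ b) = a' • algebraMap B B' b := by
  unfold pe
  simp [Algebra.IsPushout.equiv_tmul, Algebra.smul_def]

theorem θ_one_tmul (b : B) : θ A B A' B' p' (1 ⊗ₜ b) = 1 ⊗ₜ algebraMap B B' b := by
  unfold θ θ₁ θ₂ θ₃
  simp [pe_tmul]

end

section
open LocCoh IsLocalRing

theorem depth_le_of_flat_localHom {R S : Type u} [CommRing R] [CommRing S] [IsLocalRing R]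
    [IsLocalRing S] [IsNoetherianRing R] [IsNoetherianRing S] (f : R →+* S) [hl : IsLocalHom f]
    (hf : f.Flat) : depth R R ≤ depth S S := by
  algebraize [f]
  have : IsLocalHom (algebraMap R S) := hl
  have h := Groth.Agent.Lib.Helper77.FlatDepth.depth_eq_add (A := R) (B := S) S
  rw [h]
  exact le_self_add

variable (A B A' B' : Type u) [CommRing A] [CommRing B] [CommRing A'] [CommRing B']
  [Algebra A B] [Algebra A A'] [Algebra B B'] [Algebra A' B'] [Algebra A B']
  [IsScalarTower A B B'] [IsScalarTower A A' B'] [Algebra.IsPushout A B A' B']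
  [IsNoetherianRing B] [IsNoetherianRing B']

omit [IsNoetherianRing B] in
theorem depth_congr_fibLocRing (q r : Ideal B) [q.IsPrime] [r.IsPrime] (h : q = r) :
    depth (EGA4.FibLocRing A B q) (EGA4.FibLocRing A B q) =
      depth (EGA4.FibLocRing A B r) (EGA4.FibLocRing A B r) := by
  subst h; rfl

open Groth.Agent.Lib.Helper56 in
/-- **Fibre base change**: the depth of the fibre local ring does not drop under base change. -/
theorem depth_fibLocRing_le (q' : Ideal B') [q'.IsPrime] :
    depth (EGA4.FibLocRing A B (q'.comap (algebraMap B B')))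
        (EGA4.FibLocRing A B (q'.comap (algebraMap B B'))) ≤
      depth (EGA4.FibLocRing A' B' q') (EGA4.FibLocRing A' B' q') := by
  obtain ⟨Q', hQ', hQq'⟩ := exists_fiber_prime A' B' q'
  set p' := q'.comap (algebraMap A' B') with hp'
  set Q := Q'.comap (θ A B A' B' p') with hQ
  have hQq : Q.comap (Algebra.TensorProduct.includeRight :
      B →ₐ[A] (p'.comap (algebraMap A A')).Fiber B) = q'.comap (algebraMap B B') := by
    ext b
    have h2 := Ideal.ext_iff.mp hQq' (algebraMap B B' b)
    rw [Ideal.mem_comap, Algebra.TensorProduct.includeRight_apply] at h2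
    rw [Ideal.mem_comap, hQ, Ideal.mem_comap, Algebra.TensorProduct.includeRight_apply,
      θ_one_tmul, Ideal.mem_comap]
    exact h2
  have := isNoetherianRing_fiber A B (p'.comap (algebraMap A A'))
  have := isNoetherianRing_fiber A' B' p'
  have h1 : depth (Localization.AtPrime Q) (Localization.AtPrime Q) ≤
      depth (Localization.AtPrime Q') (Localization.AtPrime Q') :=
    depth_le_of_flat_localHom (Localization.localRingHom Q Q' (θ A B A' B' p') rfl)
      ((θ_flat A B A' B' p').localRingHom Q' Q rfl)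
  let f1 := fiberLocEquiv A B (p'.comap (algebraMap A A')) Q
  let f2 := fiberLocEquiv A' B' p' Q'
  have e1 := depth_self_of_ringEquiv (R := Localization.AtPrime Q) f1
  have e2 := depth_self_of_ringEquiv (R := Localization.AtPrime Q') f2
  rw [e1, e2] at h1
  rw [depth_congr_fibLocRing A B _ _ hQq, depth_congr_fibLocRing A' B' _ _ hQq'] at h1
  exact h1

omit [IsNoetherianRing B] in
theorem idealDepth_fibLocRing_eq (q : Ideal B) [q.IsPrime] :
    idealDepth (q.map (algebraMap B (EGA4.FibLocRing A B q))) (EGA4.FibLocRing A B q) =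
      depth (EGA4.FibLocRing A B q) (EGA4.FibLocRing A B q) := by
  unfold depth
  rw [← Groth.Agent.Lib.Helper85.FibreDepth.map_eq_maximalIdeal A B q]

/-- the fibre-depth hypothesis along `V(J)` passes to the base change along `V(JB')` -/
theorem fibre_depth_baseChange (J : Ideal B) (d : ℕ∞)
    (hZ : ∀ q : PrimeSpectrum B, J ≤ q.asIdeal →
      d ≤ idealDepth (q.asIdeal.map (algebraMap B (EGA4.FibLocRing A B q.asIdeal)))
        (EGA4.FibLocRing A B q.asIdeal)) :
    ∀ q' : PrimeSpectrum B', J.map (algebraMap B B') ≤ q'.asIdeal →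
      d ≤ idealDepth (q'.asIdeal.map (algebraMap B' (EGA4.FibLocRing A' B' q'.asIdeal)))
        (EGA4.FibLocRing A' B' q'.asIdeal) := by
  intro q' hq'
  have h1 := hZ ⟨q'.asIdeal.comap (algebraMap B B'), inferInstance⟩
    (Ideal.map_le_iff_le_comap.mp hq')
  rw [idealDepth_fibLocRing_eq] at h1 ⊢
  exact le_trans h1 (depth_fibLocRing_le A B A' B' q'.asIdeal)

end
end Groth.Agent.Lib.Helper85.FibreBC
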