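import Groth.Agent.Lib.Helper85.FibreBC

set_option autoImplicit false
set_option linter.unusedSectionVars false
set_option linter.style.haveILetI false
universe u
open TensorProduct

namespace Groth.Agent.Lib.Helper85.FibreJ

open LocCoh IsLocalRing Groth.Agent.Lib.Helper56 RingTheory.Sequence

section Compat
variable (A B : Type u) [CommRing A] [CommRing B] [Algebra A B] (p : Ideal A) [p.IsPrime]
  (Q : Ideal (p.Fiber B)) [Q.IsPrime]

attribute [local instance] Algebra.TensorProduct.rightAlgebra in
theorem aux1 (b : B) : (Ideal.Fiber.algEquivAux₁ (S := B) p) (1 ⊗ₜ[A] b) = algebraMap B _ b := by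
  have : (1 : p.ResidueField) ⊗ₜ[A] b = algebraMap B (p.Fiber B) b := rfl
  rw [this, AlgEquiv.commutes]

theorem map_eq_aux {R S P Q : Type*} [CommSemiring R] {M : Submonoid R} [CommSemiring S] [Algebra R S]
    [CommSemiring P] {T : Submonoid P} [CommSemiring Q] [Algebra P Q] (i1 : IsLocalization M S)
    (i2 : IsLocalization T Q) (g : R →+* P) (hy : M ≤ T.comap g) (x : R) :
    @IsLocalization.map R _ M S _ _ P _ i1 T Q _ _ i2 g hy (algebraMap R S x) =
      algebraMap P Q (g x) := IsLocalization.map_eq hy x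

/-- `fiberLocEquiv` is compatible with the maps from `B` -/
theorem compat (b : B) :
    fiberLocEquiv A B p Q (algebraMap (p.Fiber B) (Localization.AtPrime Q) (1 ⊗ₜ b)) =
    Ideal.Quotient.mk _ (algebraMap B (Localization.AtPrime
      (Q.comap (Algebra.TensorProduct.includeRight : B →ₐ[A] p.Fiber B))) b) := by
  unfold fiberLocEquiv
  simp [Ideal.Fiber.algEquivAux₂]
  rw [aux1]
  have h1 : (algebraMap B (Localization (Algebra.algebraMapSubmonoid B p.primeCompl) ⧸
      Ideal.map (algebraMap B (Localization (Algebra.algebraMapSubmonoid B p.primeCompl)))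
        (Ideal.map (algebraMap A B) p))) b =
      algebraMap (B ⧸ Ideal.map (algebraMap A B) p) _ (Ideal.Quotient.mk _ b) := rfl
  rw [h1, ← IsScalarTower.algebraMap_apply]
  erw [map_eq_aux]
  rfl

end Compat

section Transfer
variable {R S : Type u} [CommRing R] [CommRing S]

theorem idealDepth_self_le_of_ringEquiv (e : R ≃+* S) (I : Ideal R) :
    idealDepth I R ≤ idealDepth (I.map e.toRingHom) S := by
  rw [← ENat.forall_natCast_le_iff_le]
  intro n
  rw [Groth.Agent.Lib.Helper67.le_idealDepth_iff, Groth.Agent.Lib.Helper67.le_idealDepth_iff]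
  rintro (h | ⟨rs, hlen, hreg, hmem⟩)
  · left
    have hI : I = ⊤ := by
      rw [smul_eq_mul, Ideal.mul_top] at h
      exact h
    rw [hI, Ideal.map_top, Submodule.top_smul]
  · right
    refine ⟨rs.map e, by simp [hlen], (isWeaklyRegular_self_map_ringEquiv e rs).mp hreg, ?_⟩
    intro s hs
    obtain ⟨r, hr, rfl⟩ := List.mem_map.mp hs
    exact Ideal.mem_map_of_mem _ (hmem r hr)

end Transfer

section Main
variable (A B : Type u) [CommRing A] [CommRing B] [Algebra A B] [IsNoetherianRing B]

theorem le_idealDepth_congr (J : Ideal B) (d : ℕ∞) (q r : Ideal B) [q.IsPrime] [r.IsPrime]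
    (h : r = q)
    (hr : d ≤ idealDepth (J.map (algebraMap B (EGA4.FibLocRing A B r))) (EGA4.FibLocRing A B r)) :
    d ≤ idealDepth (J.map (algebraMap B (EGA4.FibLocRing A B q))) (EGA4.FibLocRing A B q) := by
  subst h; exact hr

theorem le_idealDepth_fibLocRing_aux (J : Ideal B) (d : ℕ∞)
    (hZ : ∀ q : PrimeSpectrum B, J ≤ q.asIdeal →
      d ≤ idealDepth (q.asIdeal.map (algebraMap B (EGA4.FibLocRing A B q.asIdeal)))
        (EGA4.FibLocRing A B q.asIdeal))
    (p : Ideal A) [p.IsPrime] (Q : Ideal (p.Fiber B)) [Q.IsPrime] :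
    d ≤ idealDepth (J.map (algebraMap B (EGA4.FibLocRing A B
        (Q.comap (Algebra.TensorProduct.includeRight : B →ₐ[A] p.Fiber B)))))
      (EGA4.FibLocRing A B (Q.comap (Algebra.TensorProduct.includeRight : B →ₐ[A] p.Fiber B))) := by
  have hC := isNoetherianRing_fiber A B p
  letI i1 : CommRing (Localization.AtPrime Q) := inferInstance
  let e := fiberLocEquiv A B p Q
  let incl : B →+* p.Fiber B := (Algebra.TensorProduct.includeRight : B →ₐ[A] p.Fiber B)
  let g : B →+* Localization.AtPrime Q := (algebraMap (p.Fiber B) (Localization.AtPrime Q)).comp incl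
  have hcomp : e.toRingHom.comp g = algebraMap B (EGA4.FibLocRing A B
      (Q.comap (Algebra.TensorProduct.includeRight : B →ₐ[A] p.Fiber B))) := by
    refine RingHom.ext fun b => ?_
    exact compat A B p Q b
  have hmap : (J.map g).map e.toRingHom = J.map (algebraMap B (EGA4.FibLocRing A B
      (Q.comap (Algebra.TensorProduct.includeRight : B →ₐ[A] p.Fiber B)))) := by
    rw [Ideal.map_map, hcomp]
  suffices key : d ≤ idealDepth (J.map g) (Localization.AtPrime Q) by
    have h5 := le_trans key (idealDepth_self_le_of_ringEquiv e (J.map g))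
    rw [hmap] at h5
    exact h5
  rw [Groth.Agent.Lib.Helper67.idealDepth_eq_iInf_depth_localization (J.map g)
    (Localization.AtPrime Q)]
  refine le_iInf₂ fun 𝔯 h𝔯 => ?_
  -- the prime of the fibre below 𝔯
  set Q'' : Ideal (p.Fiber B) := 𝔯.asIdeal.comap (algebraMap (p.Fiber B) (Localization.AtPrime Q))
    with hQ''
  let e1 : Localization.AtPrime Q'' ≃ₐ[p.Fiber B] Localization.AtPrime 𝔯.asIdeal :=
    IsLocalization.localizationLocalizationAtPrimeIsoLocalization Q.primeCompl 𝔯.asIdeal
  let e2 := fiberLocEquiv A B p Q''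
  have d1 := depth_self_of_ringEquiv (R := Localization.AtPrime Q'')
    (S := Localization.AtPrime 𝔯.asIdeal) e1.toRingEquiv
  have d2 := depth_self_of_ringEquiv (R := Localization.AtPrime Q'')
    (S := EGA4.FibLocRing A B (Q''.comap (Algebra.TensorProduct.includeRight : B →ₐ[A] p.Fiber B))) e2
  have hJ : J ≤ Q''.comap (Algebra.TensorProduct.includeRight : B →ₐ[A] p.Fiber B) := by
    intro b hb
    rw [Ideal.mem_comap, hQ'', Ideal.mem_comap]
    apply h𝔯
    exact Ideal.mem_map_of_mem g hb
  have h3 := hZ ⟨Q''.comap (Algebra.TensorProduct.includeRight : B →ₐ[A] p.Fiber B),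
    inferInstance⟩ hJ
  rw [Groth.Agent.Lib.Helper85.FibreBC.idealDepth_fibLocRing_eq] at h3
  rw [← d2, d1] at h3
  exact h3

/-- the `J`-depth of every fibre local ring is `≥ d` if the (maximal ideal) depth of the fibre local
rings along `V(J)` is `≥ d` -/
theorem le_idealDepth_fibLocRing (J : Ideal B) (d : ℕ∞)
    (hZ : ∀ q : PrimeSpectrum B, J ≤ q.asIdeal →
      d ≤ idealDepth (q.asIdeal.map (algebraMap B (EGA4.FibLocRing A B q.asIdeal)))
        (EGA4.FibLocRing A B q.asIdeal))
    (q : Ideal B) [q.IsPrime] :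
    d ≤ idealDepth (J.map (algebraMap B (EGA4.FibLocRing A B q))) (EGA4.FibLocRing A B q) := by
  obtain ⟨Q, hQ, hQq⟩ := exists_fiber_prime A B q
  exact le_idealDepth_congr A B J d q _ hQq
    (le_idealDepth_fibLocRing_aux A B J d hZ (q.comap (algebraMap A B)) Q)

end Main

end Groth.Agent.Lib.Helper85.FibreJ
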