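import Groth.Agent.Lib.Helper85.GorComp
import Groth.Agent.Lib.Helper87.FlatModule
import Groth.Agent.Lib.Helper87.HensNoeth

/-!
# `Dual3.IsGorensteinAt` is étale local on source and target (helper85)

Ring level: `G φ` ("flat with Gorenstein closed fibre") for a local hom `φ`, and its invariance
under composition with "local-étale" maps (`LocEt`: flat, local, essentially of finite type,
formally unramified) on either side.  Scheme level: `gorAt_transfer` between chart diagrams
dominated by a third.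
-/

set_option autoImplicit false
set_option linter.style.haveILetI false

namespace Groth.Agent.Lib.Helper85.GorChart

open CategoryTheory Limits AlgebraicGeometry IsLocalRing
open Groth.Agent.Lib.Helper85.GorRing
open Groth.Agent.Lib.Helper85.GorFlat
open Groth.Agent.Lib.Helper85.GorComp

universe u

section Ring

variable {A B C : Type u} [CommRing A] [CommRing B] [CommRing C]
  [IsLocalRing A] [IsLocalRing B] [IsLocalRing C]

/-- flat with Gorenstein closed fibre -/
def G (φ : A →+* B) : Prop :=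
  φ.Flat ∧ LocCoh.IsGorensteinLocalRing (B ⧸ (maximalIdeal A).map φ)

/-- the properties of the stalk maps of an étale morphism -/
structure LocEt (ε : A →+* B) : Prop where
  flat : ε.Flat
  isLocalHom : IsLocalHom ε
  eft : ε.EssFiniteType
  unram : ε.FormallyUnramified

theorem LocEt.map_maximalIdeal {ε : A →+* B} (h : LocEt ε) :
    (maximalIdeal A).map ε = maximalIdeal B := by
  letI := ε.toAlgebra
  haveI : IsLocalHom (algebraMap A B) := h.isLocalHom
  haveI : Algebra.EssFiniteType A B := h.eft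
  haveI : Algebra.FormallyUnramified A B := h.unram
  exact Algebra.FormallyUnramified.map_maximalIdeal

theorem gor_quot_maximalIdeal : LocCoh.IsGorensteinLocalRing (B ⧸ maximalIdeal B) :=
  gor_of_isField _ ((Ideal.Quotient.maximal_ideal_iff_isField_quotient _).mp
    (maximalIdeal.isMaximal B))

theorem gor_congr_ideal {I J : Ideal B} (h : I = J) :
    LocCoh.IsGorensteinLocalRing (B ⧸ I) ↔ LocCoh.IsGorensteinLocalRing (B ⧸ J) := by
  subst h; rfl

/-- weak form of `LocEt` sufficient on the source side -/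
structure WR (ε : B →+* C) : Prop where
  flat : ε.Flat
  isLocalHom : IsLocalHom ε
  map_max : (maximalIdeal B).map ε = maximalIdeal C
  noeth : ∀ I : Ideal B, I ≤ maximalIdeal B → IsNoetherianRing (B ⧸ I) →
    IsNoetherianRing (C ⧸ I.map ε)

/-- weak form of `LocEt` sufficient on the target side -/
structure WL (δ : A →+* B) : Prop where
  flat : δ.Flat
  map_max : (maximalIdeal A).map δ = maximalIdeal B
  flat_desc : ∀ {C : Type u} [CommRing C] (φ : B →+* C), (φ.comp δ).Flat → φ.Flat

theorem LocEt.wr {ε : B →+* C} (hε : LocEt ε) : WR ε where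
  flat := hε.flat
  isLocalHom := hε.isLocalHom
  map_max := hε.map_maximalIdeal
  noeth I _ h := by
    letI := ε.toAlgebra
    haveI : Algebra.EssFiniteType B C := hε.eft
    haveI := h
    exact Algebra.EssFiniteType.isNoetherianRing (B ⧸ I) (C ⧸ I.map (algebraMap B C))

theorem LocEt.wl {δ : A →+* B} (hδ : LocEt δ) : WL δ where
  flat := hδ.flat
  map_max := hδ.map_maximalIdeal
  flat_desc {C} _ φ h := by
    letI := δ.toAlgebra
    letI := φ.toAlgebra
    letI := (φ.comp δ).toAlgebra
    haveI : IsScalarTower A B C := IsScalarTower.of_algebraMap_eq (fun _ => rfl)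
    haveI : Algebra.EssFiniteType A B := hδ.eft
    haveI : Algebra.FormallyUnramified A B := hδ.unram
    haveI : Module.Flat A C := h
    exact Groth.Agent.Lib.Helper87.FlatModule.flat_of_unramified (R := A) (A := B) (M := C)

/-- composing with a (weakly) local-étale map on the source side -/
theorem G_comp_right_iff' (φ : A →+* B) [IsLocalHom φ] (ε : B →+* C) (hε : WR ε) :
    G (ε.comp φ) ↔ G φ := by
  haveI := hε.isLocalHom
  have hfl : (ε.comp φ).Flat ↔ φ.Flat :=
    ⟨fun h => Groth.Agent.Lib.Helper55.ringHom_flat_of_comp_of_faithfullyFlat φ ε hε.flat h,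
      fun h => RingHom.Flat.comp h hε.flat⟩
  -- the three quotient rings
  letI := ε.toAlgebra
  haveI : IsLocalHom (algebraMap B C) := hε.isLocalHom
  haveI : Module.Flat B C := hε.flat
  set I : Ideal B := (maximalIdeal A).map φ with hI
  have hIm : I ≤ maximalIdeal B := IsLocalRing.map_maximalIdeal_le φ
  have hIC : I.map (algebraMap B C) = (maximalIdeal A).map (ε.comp φ) := Ideal.map_map _ _
  haveI : IsLocalRing (B ⧸ I) := isLocalRing_quot' I hIm
  haveI : IsLocalRing (C ⧸ I.map (algebraMap B C)) :=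
    isLocalRing_quot' _ (map_le_maximalIdeal I hIm)
  haveI : Module.Flat (B ⧸ I) (C ⧸ I.map (algebraMap B C)) := flat_quot I
  haveI : IsLocalHom (algebraMap (B ⧸ I) (C ⧸ I.map (algebraMap B C))) := isLocalHom_quot I hIm
  have hN : IsNoetherianRing (B ⧸ I) ↔ IsNoetherianRing (C ⧸ (maximalIdeal A).map (ε.comp φ)) := by
    constructor
    · intro h
      haveI : IsNoetherianRing (C ⧸ I.map (algebraMap B C)) := hε.noeth I hIm h
      exact isNoetherianRing_of_ringEquiv _ (Ideal.quotEquivOfEq hIC)
    · intro h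
      haveI := h
      haveI : IsNoetherianRing (C ⧸ I.map (algebraMap B C)) :=
        isNoetherianRing_of_ringEquiv _ (Ideal.quotEquivOfEq hIC).symm
      haveI : Module.FaithfullyFlat (B ⧸ I) (C ⧸ I.map (algebraMap B C)) :=
        Module.FaithfullyFlat.of_flat_of_isLocalHom
      exact Groth.Agent.Lib.Helper87.Hens.isNoetherianRing_of_faithfullyFlat (B ⧸ I)
        (C ⧸ I.map (algebraMap B C))
  have hfield : LocCoh.IsGorensteinLocalRing (C ⧸ (maximalIdeal B).map ε) := by
    rw [gor_congr_ideal hε.map_max]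
    exact gor_quot_maximalIdeal
  have key : ∀ [IsNoetherianRing (B ⧸ I)]
      [IsNoetherianRing (C ⧸ (maximalIdeal A).map (ε.comp φ))],
      LocCoh.IsGorensteinLocalRing (C ⧸ (maximalIdeal A).map (ε.comp φ)) ↔
        LocCoh.IsGorensteinLocalRing (B ⧸ I) := by
    intro _ _
    haveI : IsNoetherianRing (C ⧸ (maximalIdeal B).map ε) := hfield.toIsNoetherian
    rw [gor_comp_iff φ ε hε.flat]
    exact ⟨fun h => h.1, fun h => ⟨h, hfield⟩⟩
  unfold G
  rw [hfl]
  refine and_congr Iff.rfl ⟨fun h => ?_, fun h => ?_⟩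
  · haveI : IsNoetherianRing (C ⧸ (maximalIdeal A).map (ε.comp φ)) := h.toIsNoetherian
    haveI : IsNoetherianRing (B ⧸ I) := hN.mpr inferInstance
    exact key.mp h
  · haveI : IsNoetherianRing (B ⧸ I) := h.toIsNoetherian
    haveI : IsNoetherianRing (C ⧸ (maximalIdeal A).map (ε.comp φ)) := hN.mp inferInstance
    exact key.mpr h

/-- composing with a local-étale map on the source side -/
theorem G_comp_right_iff (φ : A →+* B) [IsLocalHom φ] (ε : B →+* C) (hε : LocEt ε) :
    G (ε.comp φ) ↔ G φ := G_comp_right_iff' φ ε hε.wr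

/-- composing with a (weakly) local-étale map on the target side -/
theorem G_comp_left_iff' (δ : A →+* B) (hδ : WL δ) (φ : B →+* C) :
    G (φ.comp δ) ↔ G φ := by
  have hI : (maximalIdeal A).map (φ.comp δ) = (maximalIdeal B).map φ := by
    rw [← Ideal.map_map, hδ.map_max]
  have hfl : (φ.comp δ).Flat ↔ φ.Flat :=
    ⟨fun h => hδ.flat_desc φ h, fun h => RingHom.Flat.comp hδ.flat h⟩
  unfold G
  rw [hfl, gor_congr_ideal hI]

/-- composing with a local-étale map on the target side -/
theorem G_comp_left_iff (δ : A →+* B) (hδ : LocEt δ) (φ : B →+* C) :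
    G (φ.comp δ) ↔ G φ := G_comp_left_iff' δ hδ.wl φ

end Ring

section Sch

open Groth.Agent.Lib.Helper67.FiberStalk

theorem isGorensteinAt_iff_G {X Y : Scheme.{u}} (f : X ⟶ Y) (x : X) :
    Dual3.IsGorensteinAt f x ↔ G (f.stalkMap x).hom :=
  Groth.Agent.Lib.Helper85.GorMor.isGorensteinAt_iff f x

theorem locEt_stalkMap {X Y : Scheme.{u}} (e : X ⟶ Y) [Etale e] (x : X) :
    LocEt (e.stalkMap x).hom :=
  ⟨Flat.stalkMap e x, inferInstance, LocallyOfFiniteType.stalkMap e x,
    FormallyUnramified.stalkMap e x⟩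

theorem G_congr {X Y : Scheme.{u}} {f g : X ⟶ Y} (h : f = g) (x : X) :
    Dual3.IsGorensteinAt f x ↔ Dual3.IsGorensteinAt g x := by
  subst h; rfl

/-- precomposition with an étale morphism -/
theorem isGorensteinAt_etale_comp_iff {X' X Y : Scheme.{u}} (e : X' ⟶ X) [Etale e] (f : X ⟶ Y)
    (x' : X') : Dual3.IsGorensteinAt (e ≫ f) x' ↔ Dual3.IsGorensteinAt f (e x') := by
  rw [isGorensteinAt_iff_G, isGorensteinAt_iff_G]
  have h := G_comp_right_iff (f.stalkMap (e x')).hom (e.stalkMap x').hom (locEt_stalkMap e x')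
  have hc : ((e ≫ f).stalkMap x').hom = (e.stalkMap x').hom.comp (f.stalkMap (e x')).hom := by
    rw [Scheme.Hom.stalkMap_comp]; rfl
  rw [hc]
  exact h

/-- postcomposition with an étale morphism -/
theorem isGorensteinAt_comp_etale_iff {X Y Y' : Scheme.{u}} (f : X ⟶ Y) (p : Y ⟶ Y') [Etale p]
    (x : X) : Dual3.IsGorensteinAt (f ≫ p) x ↔ Dual3.IsGorensteinAt f x := by
  rw [isGorensteinAt_iff_G, isGorensteinAt_iff_G]
  have h := G_comp_left_iff (p.stalkMap (f x)).hom (locEt_stalkMap p (f x)) (f.stalkMap x).hom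
  have hc : ((f ≫ p).stalkMap x).hom = (f.stalkMap x).hom.comp (p.stalkMap (f x)).hom := by
    rw [Scheme.Hom.stalkMap_comp]; rfl
  rw [hc]
  exact h

/-- transfer of `IsGorensteinAt` between two chart diagrams dominated by a third. -/
theorem gorAt_transfer {U V U2 V2 U3 V3 : Scheme.{u}} (k : U ⟶ V) (k2 : U2 ⟶ V2)
    (k3 : U3 ⟶ V3) (q1 : U3 ⟶ U) (q2 : U3 ⟶ U2) (p1 : V3 ⟶ V) (p2 : V3 ⟶ V2)
    [Etale q1] [Etale q2] [Etale p1] [Etale p2]
    (e1 : k3 ≫ p1 = q1 ≫ k) (e2 : k3 ≫ p2 = q2 ≫ k2) (u3 : U3)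
    (h : Dual3.IsGorensteinAt k (q1 u3)) : Dual3.IsGorensteinAt k2 (q2 u3) := by
  rw [← isGorensteinAt_etale_comp_iff q1 k u3, ← G_congr e1, isGorensteinAt_comp_etale_iff] at h
  rw [← isGorensteinAt_etale_comp_iff q2 k2 u3, ← G_congr e2, isGorensteinAt_comp_etale_iff]
  exact h

end Sch

end Groth.Agent.Lib.Helper85.GorChart
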