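import Groth.Agent.Lib.Helper85.GorChart
import Groth.Prelude.Def_AlgSp4
import Groth.Prelude.Def_AlgSpMor5
import Groth.Agent.Lib.Helper79.AlgSpChart
import Groth.Agent.Lib.Helper37.AlgSpPoints

/-!
# One-chart principle for "Gorenstein at a point" on algebraic spaces (helper85)
-/

set_option autoImplicit false
universe u
open CategoryTheory CategoryTheory.Limits AlgebraicGeometry

namespace Groth.Agent.Lib.Helper85.GorChartSp

open AlgSp Groth.Agent.Lib.Helper79.AlgSpChart Groth.Agent.Lib.Helper37.AlgSpPoints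
open Groth.Agent.Lib.Helper85.GorChart

variable {S : Scheme.{u}}

/-- One chart principle for Gorenstein at a point. -/
theorem locPAt_gor_of_chart {F G : Sp S} (f : F ⟶ G) {U V : Over S} (a : (yon S).obj U ⟶ F)
    (b : (yon S).obj V ⟶ G) (k : U ⟶ V) (ha : RepWith @Etale a) (hb : RepWith @Etale b)
    (comm : a ≫ f = (yon S).map k ≫ b) (u : U.left)
    (hu : Dual3.IsGorensteinAt k.left u) :
    LocPAt (fun h u => Dual3.IsGorensteinAt h u) f (Points.ofPt a u) := by
  intro U2 V2 a2 b2 k2 u2 ha2 hb2 comm2 hpt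
  obtain ⟨V3, p1, p2, sqV, hp2⟩ := exists_pullback_chart @Etale hb b2
  have hp1 : Etale p1.left := fst_property_of_isPullback @Etale hb2 sqV
  obtain ⟨U3, q1, q2, sqU, hq2⟩ := exists_pullback_chart @Etale ha a2
  have hq1 : Etale q1.left := fst_property_of_isPullback @Etale ha2 sqU
  obtain ⟨u3, hu3a, hu3b⟩ := (ofPt_eq_ofPt_iff sqU u u2).1 hpt.symm
  have hcomm : (yon S).map (q1 ≫ k) ≫ b = (yon S).map (q2 ≫ k2) ≫ b2 := by
    rw [Functor.map_comp, Category.assoc, ← comm, ← Category.assoc, sqU.w, Category.assoc, comm2,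
      ← Category.assoc, ← Functor.map_comp]
  obtain ⟨k3, hk31, hk32⟩ : ∃ k3 : U3 ⟶ V3, k3 ≫ p1 = q1 ≫ k ∧ k3 ≫ p2 = q2 ≫ k2 := by
    refine ⟨(yon S).preimage (sqV.lift _ _ hcomm), ?_, ?_⟩
    · apply (yon S).map_injective
      rw [Functor.map_comp, Functor.map_preimage, sqV.lift_fst]
    · apply (yon S).map_injective
      rw [Functor.map_comp, Functor.map_preimage, sqV.lift_snd]
  have e1 : k3.left ≫ p1.left = q1.left ≫ k.left := by
    rw [← Over.comp_left, hk31, Over.comp_left]
  have e2 : k3.left ≫ p2.left = q2.left ≫ k2.left := by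
    rw [← Over.comp_left, hk32, Over.comp_left]
  have := gorAt_transfer k.left k2.left k3.left q1.left q2.left p1.left p2.left e1 e2 u3
    (by rw [hu3a]; exact hu)
  rw [hu3b] at this
  exact this

/-- `LocPAt` Gorenstein can be tested on any single chart diagram through the point. -/
theorem locPAt_gor_iff_chart {F G : Sp S} (f : F ⟶ G) {U V : Over S} (a : (yon S).obj U ⟶ F)
    (b : (yon S).obj V ⟶ G) (k : U ⟶ V) (ha : RepWith @Etale a) (hb : RepWith @Etale b)
    (comm : a ≫ f = (yon S).map k ≫ b) (u : U.left) (x : Points F) (hx : Points.ofPt a u = x) :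
    LocPAt (fun h u => Dual3.IsGorensteinAt h u) f x ↔ Dual3.IsGorensteinAt k.left u := by
  subst hx
  exact ⟨fun h => h a b k u ha hb comm rfl, locPAt_gor_of_chart f a b k ha hb comm u⟩

end Groth.Agent.Lib.Helper85.GorChartSp
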