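import Groth.Agent.Lib.Helper85.GorMor
import Groth.Agent.Lib.Helper55.FlatDescent

/-!
# Gorenstein morphisms: composition (local algebra and `Dual3.IsGorensteinAt`)
-/

set_option autoImplicit false
set_option linter.style.haveILetI false

namespace Groth.Agent.Lib.Helper85.GorComp

open CategoryTheory Limits AlgebraicGeometry IsLocalRing
open Groth.Agent.Lib.Helper85.GorRing
open Groth.Agent.Lib.Helper85.GorFlat
open Groth.Agent.Lib.Helper67.FiberStalk
open Groth.Agent.Lib.Helper85.GorMor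

universe u

theorem isLocalRing_quot' {R : Type u} [CommRing R] [IsLocalRing R] (I : Ideal R)
    (hI : I ≤ maximalIdeal R) : IsLocalRing (R ⧸ I) := by
  haveI : Nontrivial (R ⧸ I) := Ideal.Quotient.nontrivial_iff.mpr (fun h =>
    (maximalIdeal.isMaximal R).ne_top (top_le_iff.mp (h ▸ hI)))
  exact IsLocalRing.of_surjective' (Ideal.Quotient.mk I) Ideal.Quotient.mk_surjective

section Comp

variable {A B C : Type u} [CommRing A] [CommRing B] [CommRing C]
  [IsLocalRing A] [IsLocalRing B] [IsLocalRing C]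
  (φ : A →+* B) (ψ : B →+* C) [IsLocalHom φ] [IsLocalHom ψ]

theorem map_maximalIdeal_le : (maximalIdeal A).map φ ≤ maximalIdeal B :=
  IsLocalRing.map_maximalIdeal_le φ

theorem gor_comp_iff (hψ : ψ.Flat)
    [IsNoetherianRing (B ⧸ (maximalIdeal A).map φ)]
    [IsNoetherianRing (C ⧸ (maximalIdeal A).map (ψ.comp φ))]
    [IsNoetherianRing (C ⧸ (maximalIdeal B).map ψ)] :
    LocCoh.IsGorensteinLocalRing (C ⧸ (maximalIdeal A).map (ψ.comp φ)) ↔
      LocCoh.IsGorensteinLocalRing (B ⧸ (maximalIdeal A).map φ) ∧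
      LocCoh.IsGorensteinLocalRing (C ⧸ (maximalIdeal B).map ψ) := by
  letI := ψ.toAlgebra
  haveI : IsLocalHom (algebraMap B C) := ‹IsLocalHom ψ›
  set I : Ideal B := (maximalIdeal A).map φ with hI
  have hIm : I ≤ maximalIdeal B := IsLocalRing.map_maximalIdeal_le φ
  have hIC : I.map (algebraMap B C) = (maximalIdeal A).map (ψ.comp φ) := Ideal.map_map _ _
  let eq := Ideal.quotEquivOfEq hIC
  haveI : IsNoetherianRing (C ⧸ I.map (algebraMap B C)) :=
    isNoetherianRing_of_ringEquiv _ eq.symm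
  haveI : IsLocalRing (B ⧸ I) := isLocalRing_quot' I hIm
  haveI : IsLocalRing (C ⧸ I.map (algebraMap B C)) :=
    isLocalRing_quot' _ (map_le_maximalIdeal I hIm)
  haveI : IsLocalRing (C ⧸ (maximalIdeal B).map ψ) :=
    isLocalRing_quot' _ (IsLocalRing.map_maximalIdeal_le ψ)
  haveI : Module.Flat B C := hψ
  haveI : Module.Flat (B ⧸ I) (C ⧸ I.map (algebraMap B C)) := flat_quot I
  haveI : IsLocalHom (algebraMap (B ⧸ I) (C ⧸ I.map (algebraMap B C))) := isLocalHom_quot I hIm
  let π : C →+* C ⧸ (maximalIdeal B).map ψ := Ideal.Quotient.mk _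
  have hkerπ : RingHom.ker π = (maximalIdeal B).map (algebraMap B C) := Ideal.mk_ker
  have h0 : ∀ b ∈ I.map (algebraMap B C), π b = 0 := by
    intro b hb
    rw [← RingHom.mem_ker, hkerπ]
    exact Ideal.map_mono hIm hb
  have hker := ker_lift_eq π hkerπ I hIm h0
  have hsurj : Function.Surjective (Ideal.Quotient.lift (I.map (algebraMap B C)) π h0) :=
    Ideal.Quotient.lift_surjective_of_surjective _ _ Ideal.Quotient.mk_surjective
  have key := gor_iff_fibre (B ⧸ I) (C ⧸ I.map (algebraMap B C)) (C ⧸ (maximalIdeal B).map ψ)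
    (Ideal.Quotient.lift (I.map (algebraMap B C)) π h0) hsurj hker
  rw [← key]
  exact ⟨fun h => by haveI := h; exact gor_of_ringEquiv eq.symm,
    fun h => by haveI := h; exact gor_of_ringEquiv eq⟩

end Comp

section Sch

variable {X Y Z : Scheme.{u}} (f : X ⟶ Y) (g : Y ⟶ Z)

theorem isNoetherianRing_Q_of_fiber {X S : Scheme.{u}} (f : X ⟶ S)
    (h : ∀ s, IsLocallyNoetherian (f.fiber s)) (x : X) : IsNoetherianRing (Q f x) := by
  haveI := h (f x)
  exact isNoetherianRing_of_ringEquiv _ (fiberStalkEquiv f x)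

theorem isGorensteinAt_comp_iff (hfibf : ∀ y, IsLocallyNoetherian (f.fiber y))
    (hfibg : ∀ y, IsLocallyNoetherian (g.fiber y))
    (hfibfg : ∀ z, IsLocallyNoetherian ((f ≫ g).fiber z)) (x : X)
    (hfl : (f.stalkMap x).hom.Flat) :
    Dual3.IsGorensteinAt (f ≫ g) x ↔
      Dual3.IsGorensteinAt f x ∧ Dual3.IsGorensteinAt g (f x) := by
  rw [isGorensteinAt_iff, isGorensteinAt_iff, isGorensteinAt_iff]
  haveI := isNoetherianRing_Q_of_fiber f hfibf x
  haveI := isNoetherianRing_Q_of_fiber g hfibg (f x)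
  haveI := isNoetherianRing_Q_of_fiber (f ≫ g) hfibfg x
  have hcomp : ((f ≫ g).stalkMap x).hom = (f.stalkMap x).hom.comp (g.stalkMap (f x)).hom := by
    rw [Scheme.Hom.stalkMap_comp]; rfl
  have hQ : LocCoh.IsGorensteinLocalRing (Q (f ≫ g) x) ↔
      LocCoh.IsGorensteinLocalRing (Q g (f x)) ∧ LocCoh.IsGorensteinLocalRing (Q f x) := by
    have hI : fibIdeal (f ≫ g) x = (maximalIdeal (Z.presheaf.stalk (g (f x)))).map
        ((f.stalkMap x).hom.comp (g.stalkMap (f x)).hom) := by
      unfold fibIdeal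
      rw [hcomp]
      rfl
    let eq : Q (f ≫ g) x ≃+* (X.presheaf.stalk x ⧸
        (maximalIdeal (Z.presheaf.stalk (g (f x)))).map
          ((f.stalkMap x).hom.comp (g.stalkMap (f x)).hom)) := Ideal.quotEquivOfEq hI
    haveI : IsNoetherianRing (X.presheaf.stalk x ⧸
        (maximalIdeal (Z.presheaf.stalk (g (f x)))).map
          ((f.stalkMap x).hom.comp (g.stalkMap (f x)).hom)) :=
      isNoetherianRing_of_ringEquiv _ eq
    have key := gor_comp_iff (g.stalkMap (f x)).hom (f.stalkMap x).hom hfl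
    rw [← key]
    exact ⟨fun h => by haveI := h; exact gor_of_ringEquiv eq,
      fun h => by haveI := h; exact gor_of_ringEquiv eq.symm⟩
  constructor
  · rintro ⟨h1, h2⟩
    have hg : (g.stalkMap (f x)).hom.Flat := by
      rw [hcomp] at h1
      exact Groth.Agent.Lib.Helper55.ringHom_flat_of_comp_of_faithfullyFlat _ _ hfl h1
    exact ⟨⟨hfl, (hQ.mp h2).2⟩, hg, (hQ.mp h2).1⟩
  · rintro ⟨⟨-, h2⟩, hg, h3⟩
    refine ⟨?_, hQ.mpr ⟨h3, h2⟩⟩
    rw [hcomp]
    exact RingHom.Flat.comp hg hfl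

end Sch

end Groth.Agent.Lib.Helper85.GorComp
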