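import Groth.Agent.Lib.Helper85.GorChartSp
import Groth.Agent.Lib.Helper54.AlgSpFlatLocus
import Groth.Agent.S0116

/-!
# Fibres of chart maps of a morphism of algebraic spaces with locally Noetherian fibres (helper85)
-/

set_option autoImplicit false
universe u
open CategoryTheory CategoryTheory.Limits AlgebraicGeometry

namespace Groth.Agent.Lib.Helper85.GorFibSp

open AlgSp Groth.Agent.Lib.Helper79.AlgSpChart Groth.Agent.Lib.Helper37.AlgSpPoints
open Groth.Agent.Lib.Helper54.AlgSpFlatLocus

variable {S : Scheme.{u}}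

theorem isPullback_lift_of_section {R U V V3 K P : Scheme.{u}} {r1 : R ⟶ U} {r3 : R ⟶ V3}
    {k : U ⟶ V} {p1 : V3 ⟶ V} (sqR : IsPullback r1 r3 k p1) {m : K ⟶ V} {fst : P ⟶ U}
    {snd : P ⟶ K} (hfib : IsPullback fst snd k m) (σ : K ⟶ V3) (hσ : σ ≫ p1 = m) :
    ∃ j : P ⟶ R, IsPullback j snd r3 σ := by
  subst hσ
  refine ⟨sqR.lift fst (snd ≫ σ) (by rw [Category.assoc]; exact hfib.w), ?_⟩
  refine IsPullback.of_right ?_ (sqR.lift_snd _ _ _) sqR
  rw [sqR.lift_fst]
  exact hfib

/-- the scheme fibres of a chart map of `f` are locally Noetherian when the fibres of `f` are. -/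
theorem isLocallyNoetherian_fiber_of_chart {F G : Sp S} (f : F ⟶ G)
    (hf : ∀ (κ : FieldPt G) (Xk : Sp S) (a' : Xk ⟶ F) (b' : Xk ⟶ (yon S).obj κ.pt),
      IsPullback a' b' f κ.toHom → IsLocNoethSp Xk)
    {U V : Over S} (a : (yon S).obj U ⟶ F) (b : (yon S).obj V ⟶ G) (k : U ⟶ V)
    (ha : RepWith @Etale a) (hb : RepWith @Etale b)
    (comm : a ≫ f = (yon S).map k ≫ b) (v : V.left) :
    IsLocallyNoetherian (k.left.fiber v) := by
  -- the field point and the sheaf fibre
  set κ : FieldPt G := FieldPt.ofPt b v with hκ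
  let ιv : κ.pt ⟶ V := Over.homMk (V.left.fromSpecResidueField v) rfl
  have hκhom : κ.toHom = (yon S).map ιv ≫ b := FieldPt.toHom_ofPt b v
  have hP : IsPullback (pullback.fst f κ.toHom) (pullback.snd f κ.toHom) f κ.toHom :=
    IsPullback.of_hasPullback f κ.toHom
  obtain ⟨T, p, hp, hps, hT⟩ := hf κ _ _ _ hP
  -- the chart `V ×_G κ`
  obtain ⟨V3, p1, p2, sqV, hp2⟩ := exists_pullback_chart @Etale hb κ.toHom
  -- `R = U ×_V V3`
  have sqR : IsPullback (pullback.fst k p1) (pullback.snd k p1) k p1 :=
    IsPullback.of_hasPullback k p1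
  set R : Over S := pullback k p1 with hR
  set r1 : R ⟶ U := pullback.fst k p1 with hr1
  set r3 : R ⟶ V3 := pullback.snd k p1 with hr3
  have sqR' : IsPullback ((yon S).map r1) ((yon S).map r3) ((yon S).map k) ((yon S).map p1) :=
    sqR.map (yon S)
  have hRG : IsPullback ((yon S).map r1) ((yon S).map (r3 ≫ p2)) (a ≫ f) κ.toHom := by
    rw [comm, Functor.map_comp]
    exact sqR'.paste_vert sqV
  -- the étale chart `h_R ⟶ F_κ`
  let A : (yon S).obj R ⟶ pullback f κ.toHom :=
    pullback.lift ((yon S).map r1 ≫ a) ((yon S).map (r3 ≫ p2)) (by rw [Category.assoc]; exact hRG.w)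
  have hA : RepWith @Etale A :=
    repWith_of_fibre @Etale ha hP hRG A (pullback.lift_fst _ _ _) (pullback.lift_snd _ _ _)
  -- compare with the locally Noetherian chart `T`
  obtain ⟨T', q1, q2, sqT, hq2⟩ := exists_pullback_chart @Etale hp A
  have hq1 : Etale q1.left := fst_property_of_isPullback @Etale hA sqT
  have hq2s : Surjective q2.left := hps.property A _ q2 sqT
  haveI : IsLocallyNoetherian T.left := hT
  haveI : IsLocallyNoetherian T'.left := LocallyOfFiniteType.isLocallyNoetherian q1.left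
  haveI : IsLocallyNoetherian R.left := Groth.Agent.S0116.result q2.left
  -- the section `σ : κ ⟶ V3`
  have hcommσ : (yon S).map ιv ≫ b = (yon S).map (𝟙 κ.pt) ≫ κ.toHom := by
    rw [hκhom]; simp
  obtain ⟨σ, hσ1, hσ2⟩ : ∃ σ : κ.pt ⟶ V3, σ ≫ p1 = ιv ∧ σ ≫ p2 = 𝟙 κ.pt := by
    refine ⟨(yon S).preimage (sqV.lift _ _ hcommσ), ?_, ?_⟩
    · apply (yon S).map_injective
      rw [Functor.map_comp, Functor.map_preimage, sqV.lift_fst]
    · apply (yon S).map_injective
      rw [Functor.map_comp, Functor.map_preimage, sqV.lift_snd]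
  have hσ : Etale σ.left := by
    have h1 : Etale (σ.left ≫ p2.left) := by
      rw [← Over.comp_left, hσ2]
      exact inferInstanceAs (Etale (𝟙 κ.pt.left))
    exact MorphismProperty.of_postcomp (W := @Etale) (W' := @Etale) σ.left p2.left hp2 h1
  -- the scheme fibre is étale over `R`
  have sqRl : IsPullback r1.left r3.left k.left p1.left := sqR.map (Over.forget S)
  have hσ1' : σ.left ≫ p1.left = V.left.fromSpecResidueField v := by
    rw [← Over.comp_left, hσ1]; rfl
  have hfib : IsPullback (pullback.fst k.left (V.left.fromSpecResidueField v))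
      (pullback.snd k.left (V.left.fromSpecResidueField v)) k.left
      (V.left.fromSpecResidueField v) := IsPullback.of_hasPullback _ _
  obtain ⟨j, sqj⟩ := isPullback_lift_of_section sqRl hfib σ.left hσ1'
  have hje : Etale j := MorphismProperty.of_isPullback (P := @Etale) sqj.flip hσ
  have hsm : Smooth j := inferInstance
  have hlfp : LocallyOfFinitePresentation j := inferInstance
  have hlft : LocallyOfFiniteType j := inferInstance
  have hfin : IsLocallyNoetherian (pullback k.left (V.left.fromSpecResidueField v)) :=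
    LocallyOfFiniteType.isLocallyNoetherian j
  exact hfin

end Groth.Agent.Lib.Helper85.GorFibSp
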