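import Groth.Agent.Lib.Helper85.GorMor

/-!
# Flat morphisms to Artinian local bases with Gorenstein closed fibre are Gorenstein morphisms
-/

set_option autoImplicit false
set_option linter.style.haveILetI false

namespace Groth.Agent.Lib.Helper85.GorMorArt

open CategoryTheory Limits AlgebraicGeometry IsLocalRing
open Groth.Agent.Lib.Helper85.GorRing
open Groth.Agent.Lib.Helper67.FiberStalk

universe u

/-- the closed fibre as a pullback along `Spec (R/m) → Spec R` is the scheme-theoretic fibre over
the closed point -/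
theorem nonempty_iso_fiber (R : Type u) [CommRing R] [IsLocalRing R]
    (X : Scheme.{u}) (p : X ⟶ Spec (CommRingCat.of R)) :
    Nonempty (pullback p (Spec.map (CommRingCat.ofHom (residue R))) ≅
      p.fiber ((Spec.map (CommRingCat.ofHom (residue R))) (closedPoint (ResidueField R)))) := by
  let g : Spec (CommRingCat.of (ResidueField R)) ⟶ Spec (CommRingCat.of R) :=
    Spec.map (CommRingCat.ofHom (residue R))
  haveI : IsClosedImmersion g :=
    IsClosedImmersion.spec_of_surjective _ (residue_surjective (R := R))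
  let s₁ := g (closedPoint (ResidueField R))
  let θ₀ := Scheme.descResidueField (Scheme.stalkClosedPointTo g)
  have hθ : Spec.map θ₀ ≫ (Spec (CommRingCat.of R)).fromSpecResidueField s₁ = g :=
    Scheme.descResidueField_stalkClosedPointTo_fromSpecResidueField (ResidueField R) _ g
  haveI : IsClosedImmersion
      (Spec.map θ₀ ≫ (Spec (CommRingCat.of R)).fromSpecResidueField s₁) := by
    rw [hθ]; infer_instance
  haveI : IsClosedImmersion (Spec.map θ₀) :=
    IsClosedImmersion.of_comp (Spec.map θ₀)
      ((Spec (CommRingCat.of R)).fromSpecResidueField s₁)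
  haveI : Surjective (Spec.map θ₀) :=
    ⟨fun y => ⟨closedPoint (ResidueField R), Subsingleton.elim _ _⟩⟩
  haveI : IsIso (Spec.map θ₀) := isIso_of_isClosedImmersion_of_surjective _
  let e : pullback p g ⟶ p.fiber s₁ :=
    pullback.map p g p ((Spec (CommRingCat.of R)).fromSpecResidueField s₁) (𝟙 X) (Spec.map θ₀)
      (𝟙 _) (by simp) (by simp [hθ])
  haveI : IsIso e :=
    pullback.map_isIso p g p ((Spec (CommRingCat.of R)).fromSpecResidueField s₁) (𝟙 X)
      (Spec.map θ₀) (𝟙 _) _ _
  exact ⟨asIso e⟩

theorem gor_stalk_of_iso {X Y : Scheme.{u}} (e : X ≅ Y)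
    (hX : ∀ x : X, LocCoh.IsGorensteinLocalRing (X.presheaf.stalk x)) (y : Y) :
    LocCoh.IsGorensteinLocalRing (Y.presheaf.stalk y) := by
  haveI := hX (e.inv y)
  have h1 : e.hom (e.inv y) = y := by
    rw [← Scheme.Hom.comp_apply, e.inv_hom_id]; rfl
  have h2 := gor_of_ringEquiv (R := X.presheaf.stalk (e.inv y))
    (S := Y.presheaf.stalk (e.hom (e.inv y)))
    (asIso (e.hom.stalkMap (e.inv y))).commRingCatIsoToRingEquiv.symm
  rw [h1] at h2
  exact h2

theorem subsingleton_spec_of_artinian_local (A : Type u) [CommRing A] [IsArtinianRing A]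
    [IsLocalRing A] : Subsingleton (Spec (CommRingCat.of A)) := by
  refine ⟨fun a b => ?_⟩
  apply PrimeSpectrum.ext
  haveI : a.asIdeal.IsMaximal := IsArtinianRing.isMaximal_of_isPrime a.asIdeal
  haveI : b.asIdeal.IsMaximal := IsArtinianRing.isMaximal_of_isPrime b.asIdeal
  rw [IsLocalRing.eq_maximalIdeal ‹a.asIdeal.IsMaximal›,
    IsLocalRing.eq_maximalIdeal ‹b.asIdeal.IsMaximal›]

theorem isGorensteinMor_of_closedFibre
    {A : Type u} [CommRing A] [IsArtinianRing A] [IsLocalRing A]
    {P X : Scheme.{u}} (f : P ⟶ Spec (CommRingCat.of A)) [Flat f]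
    (i : X ⟶ P) (q : X ⟶ Spec (CommRingCat.of (IsLocalRing.ResidueField A)))
    (hsq : IsPullback i q f (Spec.map (CommRingCat.ofHom (IsLocalRing.residue A))))
    (hX : Dual3.IsGorenstein X) : Dual3.IsGorensteinMor f := by
  intro x
  refine ⟨Flat.stalkMap f x, ?_⟩
  haveI := subsingleton_spec_of_artinian_local A
  obtain ⟨e⟩ := nonempty_iso_fiber A P f
  have key : ∀ (s : Spec (CommRingCat.of A)) (x'' : f.fiber s),
      LocCoh.IsGorensteinLocalRing ((f.fiber s).presheaf.stalk x'') := by
    intro s x''
    obtain rfl : s = (Spec.map (CommRingCat.ofHom (residue A))) (closedPoint (ResidueField A)) :=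
      Subsingleton.elim _ _
    exact gor_stalk_of_iso (hsq.isoPullback ≪≫ e) hX.2 x''
  exact key _ _

end Groth.Agent.Lib.Helper85.GorMorArt
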