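import Groth.Agent.Lib.Helper85.GorMor
import Groth.Agent.Lib.Helper85.GorLCI
import Mathlib.AlgebraicGeometry.Noetherian

/-!
# Gorenstein schemes (`Dual3.IsGorenstein`) vs. Gorenstein rings on affine opens
-/

set_option autoImplicit false
set_option linter.style.haveILetI false

namespace Groth.Agent.Lib.Helper85.GorSch

open CategoryTheory Limits AlgebraicGeometry IsLocalRing
open Groth.Agent.Lib.Helper85.GorRing

universe u

theorem gorRing_of_affineOpen' {X : Scheme.{u}} [IsLocallyNoetherian X]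
    (hX : ∀ x : X, LocCoh.IsGorensteinLocalRing (X.presheaf.stalk x))
    (V : X.affineOpens) : LocCoh.IsGorensteinRing Γ(X, V.1) := by
  haveI : IsNoetherianRing Γ(X, V.1) := IsLocallyNoetherian.component_noetherian V
  refine { isGorensteinLocalRing_localization := fun p _ => ?_ }
  let y : PrimeSpectrum Γ(X, V.1) := ⟨p, inferInstance⟩
  have hy : V.2.fromSpec y ∈ V.1 := by
    have : V.2.fromSpec y ∈ Set.range V.2.fromSpec := ⟨y, rfl⟩
    rw [V.2.range_fromSpec] at this
    exact this
  haveI := hX (V.2.fromSpec y)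
  letI := TopCat.Presheaf.algebra_section_stalk X.presheaf ⟨V.2.fromSpec y, hy⟩
  haveI : IsLocalization.AtPrime (X.presheaf.stalk (V.2.fromSpec y)) p :=
    V.2.isLocalization_stalk' y hy
  exact gor_of_ringEquiv (IsLocalization.algEquiv p.primeCompl
    (X.presheaf.stalk (V.2.fromSpec y)) (Localization.AtPrime p)).toRingEquiv

theorem gorRing_of_affineOpen {X : Scheme.{u}} (hX : Dual3.IsGorenstein X)
    (V : X.affineOpens) : LocCoh.IsGorensteinRing Γ(X, V.1) := by
  haveI := hX.1
  exact gorRing_of_affineOpen' hX.2 V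

theorem gor_stalk_of_gorRing {Y : Scheme.{u}} (U : Y.affineOpens)
    [LocCoh.IsGorensteinRing Γ(Y, U.1)] (y : Y) (hy : y ∈ U.1) :
    LocCoh.IsGorensteinLocalRing (Y.presheaf.stalk y) := by
  letI := TopCat.Presheaf.algebra_section_stalk Y.presheaf ⟨y, hy⟩
  haveI := U.2.isLocalization_stalk ⟨y, hy⟩
  exact gorRing_atPrime Γ(Y, U.1) (U.2.primeIdealOf ⟨y, hy⟩).asIdeal (Y.presheaf.stalk y)

/-- a scheme covered by affine opens with Gorenstein rings of sections is Gorenstein -/
theorem isGorenstein_of_cover {Y : Scheme.{u}} (U : Y → Y.affineOpens)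
    (hU : ∀ y, y ∈ (U y).1) (hgor : ∀ y, LocCoh.IsGorensteinRing Γ(Y, (U y).1)) :
    Dual3.IsGorenstein Y := by
  refine ⟨isLocallyNoetherian_of_affine_cover (S := U) ?_
    (fun y => (hgor y).toIsNoetherian), fun y => ?_⟩
  · rw [eq_top_iff]
    intro y _
    exact TopologicalSpace.Opens.mem_iSup.mpr ⟨y, hU y⟩
  · haveI := hgor y
    exact gor_stalk_of_gorRing (U y) y (hU y)

theorem isGorenstein_of_lci (Y X : Scheme.{u}) (f : Y ⟶ X) (hf : Dual3.IsLCIMor f)
    (hX : Dual3.IsGorenstein X) : Dual3.IsGorenstein Y := by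
  choose U V e hyU hlci using hf
  refine isGorenstein_of_cover U hyU (fun y => ?_)
  letI := (f.appLE (V y).1 (U y).1 (e y)).hom.toAlgebra
  exact Groth.Agent.Lib.Helper85.GorLCI.gorRing_of_isLCI _ _
    (gorRing_of_affineOpen hX (V y)) (hlci y)

end Groth.Agent.Lib.Helper85.GorSch
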