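import Groth.Agent.Lib.Helper85.GorChart
import Groth.Agent.Lib.Helper87.HensNoethStrict
import Groth.Agent.Lib.Helper87.HensQuotient
import Groth.Agent.Lib.Helper87.FlatModule

/-!
# "Flat with Gorenstein closed fibre" and strict henselizations (helper85)
-/

set_option autoImplicit false
set_option linter.style.haveILetI false

namespace Groth.Agent.Lib.Helper85.GorSh

open IsLocalRing
open Groth.Agent.Lib.Helper87.Hens Groth.Agent.Lib.Helper87.HensQuotient
open Groth.Agent.Lib.Helper87.FlatModule
open Groth.Agent.Lib.Helper85.GorChart Groth.Agent.Lib.Helper85.GorComp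
open Groth.Agent.Lib.Helper85.GorFlat

universe u

section Sh

variable (A S : Type u) [CommRing A] [IsLocalRing A] [CommRing S] [IsLocalRing S] [Algebra A S]
  [IsLocalHom (algebraMap A S)] [Hensel.IsStrictHenselization A S]

theorem isNoetherianRing_sh [IsNoetherianRing A] : IsNoetherianRing S := by
  obtain ⟨e⟩ := nonempty_algEquiv_Hsh A S
  haveI : IsNoetherianRing (Hsh A) := H.isNoetherianRing
  exact isNoetherianRing_of_ringEquiv _ e.symm.toRingEquiv

theorem flat_algebraMap_sh : (algebraMap A S).Flat := by
  rw [RingHom.flat_algebraMap_iff]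
  exact flat_of_isStrictHenselization A S

theorem wr_sh : WR (algebraMap A S) where
  flat := flat_algebraMap_sh A S
  isLocalHom := inferInstance
  map_max := map_maximalIdeal_of_isStrictHenselization A S
  noeth I hI h := by
    haveI := h
    haveI : IsLocalRing (A ⧸ I) := isLocalRing_quot' I hI
    haveI : IsLocalRing (S ⧸ I.map (algebraMap A S)) :=
      isLocalRing_quot' _ (map_le_maximalIdeal I hI)
    haveI : IsLocalHom (algebraMap (A ⧸ I) (S ⧸ I.map (algebraMap A S))) := isLocalHom_quot I hI
    haveI := isStrictHenselization_quotient (A := A) (S := S) I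
    exact isNoetherianRing_sh (A ⧸ I) (S ⧸ I.map (algebraMap A S))

theorem wl_sh : WL (algebraMap A S) where
  flat := flat_algebraMap_sh A S
  map_max := map_maximalIdeal_of_isStrictHenselization A S
  flat_desc {C} _ φ h := by
    letI := φ.toAlgebra
    letI := (φ.comp (algebraMap A S)).toAlgebra
    haveI : IsScalarTower A S C := IsScalarTower.of_algebraMap_eq (fun _ => rfl)
    haveI : Module.Flat A C := h
    exact (locUnram_of_isStrictHenselization A S).flat C

end Sh

/-- **Gorenstein at a point via strict henselizations (ring level).** -/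
theorem G_iff_sh {A B : Type u} [CommRing A] [CommRing B] [IsLocalRing A] [IsLocalRing B]
    (ψ : A →+* B) [IsLocalHom ψ]
    (R' : Type u) [CommRing R'] [IsLocalRing R'] [Algebra A R'] [IsLocalHom (algebraMap A R')]
    [Hensel.IsStrictHenselization A R']
    (R : Type u) [CommRing R] [IsLocalRing R] [Algebra B R] [IsLocalHom (algebraMap B R)]
    [Hensel.IsStrictHenselization B R]
    (φ : R' →+* R) (hφ : φ.comp (algebraMap A R') = (algebraMap B R).comp ψ) :
    G ψ ↔ G φ := by
  rw [← G_comp_right_iff' ψ (algebraMap B R) (wr_sh B R), ← hφ,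
    G_comp_left_iff' (algebraMap A R') (wl_sh A R') φ]

end Groth.Agent.Lib.Helper85.GorSh
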