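import Groth.Agent.Lib.Helper85.GorRing
import Groth.Agent.Lib.Helper67.FiberStalk
import Mathlib.AlgebraicGeometry.Morphisms.Flat
import Mathlib.AlgebraicGeometry.Morphisms.Separated
import Mathlib.AlgebraicGeometry.Morphisms.ClosedImmersion

/-!
# Fibres of flat morphisms from regular schemes have Gorenstein local rings
-/

set_option autoImplicit false
set_option linter.style.haveILetI false

namespace Groth.Agent.Lib.Helper85.GorSpecialFibre

open CategoryTheory Limits AlgebraicGeometry IsLocalRing
open Groth.Agent.Lib.Helper85.GorRing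

universe u

variable {X S : Scheme.{u}} (p : X ⟶ S) [Flat p]

theorem gor_fiber_stalk_aux (hreg : ∀ x : X, IsRegularLocalRing (X.presheaf.stalk x))
    (hS : ∀ s : S, IsNoetherianRing (S.presheaf.stalk s))
    (x'' : X) (s : S) (h : p x'' = s) (x' : p.fiber s) (hx' : p.fiberι s x' = x'') :
    LocCoh.IsGorensteinLocalRing ((p.fiber s).presheaf.stalk x') := by
  subst h
  have e := Groth.Agent.Lib.Helper67.FiberStalk.stalkEquiv p x'' x' hx'
  haveI := hreg x''
  haveI := hS (p x'')
  letI : Algebra (S.presheaf.stalk (p x'')) (X.presheaf.stalk x'') :=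
    (p.stalkMap x'').hom.toAlgebra
  haveI : Module.Flat (S.presheaf.stalk (p x'')) (X.presheaf.stalk x'') :=
    Flat.stalkMap p x''
  haveI : IsLocalHom (algebraMap (S.presheaf.stalk (p x'')) (X.presheaf.stalk x'')) :=
    inferInstanceAs (IsLocalHom (p.stalkMap x'').hom)
  haveI : LocCoh.IsGorensteinLocalRing (X.presheaf.stalk x'') :=
    Groth.Agent.Lib.Helper85.FLCrit.isGorensteinLocalRing_of_regular _
  have hQ := ((Groth.Agent.Lib.Helper85.GorFlat.gor_iff (S.presheaf.stalk (p x''))
    (X.presheaf.stalk x'')).mp inferInstance).2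
  haveI : LocCoh.IsGorensteinLocalRing (Groth.Agent.Lib.Helper67.FiberStalk.Q p x'') := hQ
  exact gor_of_ringEquiv e.symm

/-- the closed fibre (as pullback along `Spec (R/m) → Spec R`) of a flat morphism from a regular
scheme to the spectrum of a Noetherian local ring has Gorenstein local rings -/
theorem gor_stalk_closedFibre (R : Type u) [CommRing R] [IsLocalRing R] [IsNoetherianRing R]
    (X : Scheme.{u}) (p : X ⟶ Spec (CommRingCat.of R)) [Flat p]
    (hreg : ∀ x : X, IsRegularLocalRing (X.presheaf.stalk x))
    (x : ↥(pullback p (Spec.map (CommRingCat.ofHom (algebraMap R (ResidueField R)))))) :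
    LocCoh.IsGorensteinLocalRing
      ((pullback p (Spec.map (CommRingCat.ofHom
        (algebraMap R (ResidueField R))))).presheaf.stalk x) := by
  have hS : ∀ s : Spec (CommRingCat.of R),
      IsNoetherianRing ((Spec (CommRingCat.of R)).presheaf.stalk s) := by
    intro s
    letI : Algebra R ((Spec (CommRingCat.of R)).presheaf.stalk s) :=
      StructureSheaf.stalkAlgebra R s
    haveI : IsLocalization.AtPrime ((Spec (CommRingCat.of R)).presheaf.stalk s) s.asIdeal :=
      StructureSheaf.IsLocalization.to_stalk R s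
    exact IsLocalization.isNoetherianRing s.asIdeal.primeCompl _ inferInstance
  let g : Spec (CommRingCat.of (ResidueField R)) ⟶ Spec (CommRingCat.of R) :=
    Spec.map (CommRingCat.ofHom (algebraMap R (ResidueField R)))
  haveI : IsClosedImmersion g :=
    IsClosedImmersion.spec_of_surjective _ (residue_surjective (R := R))
  let s₁ := g (closedPoint (ResidueField R))
  let θ₀ := Scheme.descResidueField (Scheme.stalkClosedPointTo g)
  have hθ : Spec.map θ₀ ≫ (Spec (CommRingCat.of R)).fromSpecResidueField s₁ = g :=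
    Scheme.descResidueField_stalkClosedPointTo_fromSpecResidueField (ResidueField R) _ g
  haveI : IsClosedImmersion
      (Spec.map θ₀ ≫ (Spec (CommRingCat.of R)).fromSpecResidueField s₁) := by
    rw [hθ]; infer_instance
  haveI : IsClosedImmersion (Spec.map θ₀) :=
    IsClosedImmersion.of_comp (Spec.map θ₀)
      ((Spec (CommRingCat.of R)).fromSpecResidueField s₁)
  haveI : Surjective (Spec.map θ₀) :=
    ⟨fun y => ⟨closedPoint (ResidueField R), Subsingleton.elim _ _⟩⟩
  haveI : IsIso (Spec.map θ₀) := isIso_of_isClosedImmersion_of_surjective _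
  let e : pullback p g ⟶ p.fiber s₁ :=
    pullback.map p g p ((Spec (CommRingCat.of R)).fromSpecResidueField s₁) (𝟙 X) (Spec.map θ₀)
      (𝟙 _) (by simp) (by simp [hθ])
  haveI : IsIso e :=
    pullback.map_isIso p g p ((Spec (CommRingCat.of R)).fromSpecResidueField s₁) (𝟙 X)
      (Spec.map θ₀) (𝟙 _) _ _
  have hmem : p (p.fiberι s₁ (e x)) = s₁ := by
    have : p.fiberι s₁ (e x) ∈ Set.range (p.fiberι s₁) := ⟨_, rfl⟩
    rw [p.range_fiberι s₁] at this
    exact this
  haveI := gor_fiber_stalk_aux p hreg hS (p.fiberι s₁ (e x)) s₁ hmem (e x) rfl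
  exact gor_of_ringEquiv (R := (p.fiber s₁).presheaf.stalk (e x))
    (S := (pullback p g).presheaf.stalk x) (asIso (e.stalkMap x)).commRingCatIsoToRingEquiv

end Groth.Agent.Lib.Helper85.GorSpecialFibre
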