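import Groth.Agent.Lib.Helper85.GorChartSp
import Groth.Agent.Lib.Helper85.GorSh

/-!
# Gorenstein local rings of étale charts of an algebraic space (helper85)

The Gorenstein property of the local ring `O_{U,u}` of an étale chart `h_U ⟶ F` at a point `u`
depends only on the image of `u` in `|F|`; it passes to strict henselizations.
-/

set_option autoImplicit false
set_option linter.style.haveILetI false
universe u
open CategoryTheory CategoryTheory.Limits AlgebraicGeometry IsLocalRing

namespace Groth.Agent.Lib.Helper85.GorStalkSp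

open AlgSp Groth.Agent.Lib.Helper79.AlgSpChart Groth.Agent.Lib.Helper37.AlgSpPoints
open Groth.Agent.Lib.Helper85.GorChart Groth.Agent.Lib.Helper85.GorFlat
open Groth.Agent.Lib.Helper85.GorRing

section Ring

variable (A B : Type u) [CommRing A] [CommRing B] [IsLocalRing A] [IsLocalRing B]
  [Algebra A B] [IsLocalHom (algebraMap A B)] [Module.Flat A B]

/-- flat local homs with `m_A B = m_B`: Gorenstein ascends and descends. -/
theorem gor_iff_of_map_max [IsNoetherianRing A] [IsNoetherianRing B]
    (h : (maximalIdeal A).map (algebraMap A B) = maximalIdeal B) :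
    LocCoh.IsGorensteinLocalRing B ↔ LocCoh.IsGorensteinLocalRing A := by
  rw [gor_iff A B, gor_congr_ideal h]
  exact ⟨fun h => h.1, fun h => ⟨h, gor_quot_maximalIdeal⟩⟩

/-- descent of Noetherianity along a flat local homomorphism -/
theorem isNoetherianRing_of_flat_local [IsNoetherianRing B] : IsNoetherianRing A := by
  haveI : Module.FaithfullyFlat A B := Module.FaithfullyFlat.of_flat_of_isLocalHom
  exact Groth.Agent.Lib.Helper87.Hens.isNoetherianRing_of_faithfullyFlat A B

end Ring

section Sch

/-- Gorenstein local rings along an étale morphism: ascent. -/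
theorem gor_stalk_of_etale {T U : Scheme.{u}} (e : T ⟶ U) [Etale e] (t : T)
    (h : LocCoh.IsGorensteinLocalRing (U.presheaf.stalk (e t))) :
    LocCoh.IsGorensteinLocalRing (T.presheaf.stalk t) := by
  have hE := locEt_stalkMap e t
  letI : Algebra (U.presheaf.stalk (e t)) (T.presheaf.stalk t) := (e.stalkMap t).hom.toAlgebra
  haveI : IsLocalHom (algebraMap (U.presheaf.stalk (e t)) (T.presheaf.stalk t)) := hE.isLocalHom
  haveI : Module.Flat (U.presheaf.stalk (e t)) (T.presheaf.stalk t) := hE.flat
  haveI : IsNoetherianRing (U.presheaf.stalk (e t)) := h.toIsNoetherian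
  haveI : Algebra.EssFiniteType (U.presheaf.stalk (e t)) (T.presheaf.stalk t) := hE.eft
  haveI : IsNoetherianRing (T.presheaf.stalk t) :=
    Algebra.EssFiniteType.isNoetherianRing (U.presheaf.stalk (e t)) (T.presheaf.stalk t)
  exact (gor_iff_of_map_max _ _ hE.map_maximalIdeal).mpr h

/-- Gorenstein local rings along an étale morphism: descent. -/
theorem gor_stalk_of_etale_desc {T U : Scheme.{u}} (e : T ⟶ U) [Etale e] (t : T)
    (h : LocCoh.IsGorensteinLocalRing (T.presheaf.stalk t)) :
    LocCoh.IsGorensteinLocalRing (U.presheaf.stalk (e t)) := by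
  have hE := locEt_stalkMap e t
  letI : Algebra (U.presheaf.stalk (e t)) (T.presheaf.stalk t) := (e.stalkMap t).hom.toAlgebra
  haveI : IsLocalHom (algebraMap (U.presheaf.stalk (e t)) (T.presheaf.stalk t)) := hE.isLocalHom
  haveI : Module.Flat (U.presheaf.stalk (e t)) (T.presheaf.stalk t) := hE.flat
  haveI : IsNoetherianRing (T.presheaf.stalk t) := h.toIsNoetherian
  haveI : IsNoetherianRing (U.presheaf.stalk (e t)) := isNoetherianRing_of_flat_local _
    (T.presheaf.stalk t)
  exact (gor_iff_of_map_max _ _ hE.map_maximalIdeal).mp h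

end Sch

variable {S : Scheme.{u}}

/-- The Gorenstein property of the local ring of an étale chart at a point only depends on the
point of the sheaf. -/
theorem gor_stalk_chart_transfer {F : Sp S} {U1 U2 : Over S} (a1 : (yon S).obj U1 ⟶ F)
    (a2 : (yon S).obj U2 ⟶ F) (ha1 : RepWith @Etale a1) (ha2 : RepWith @Etale a2)
    (u1 : U1.left) (u2 : U2.left) (hpt : Points.ofPt a1 u1 = Points.ofPt a2 u2)
    (h : LocCoh.IsGorensteinLocalRing (U1.left.presheaf.stalk u1)) :
    LocCoh.IsGorensteinLocalRing (U2.left.presheaf.stalk u2) := by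
  obtain ⟨T, q1, q2, sqT, hq2⟩ := exists_pullback_chart @Etale ha1 a2
  have hq1 : Etale q1.left := fst_property_of_isPullback @Etale ha2 sqT
  obtain ⟨t, ht1, ht2⟩ := (ofPt_eq_ofPt_iff sqT u1 u2).1 hpt
  subst ht1 ht2
  exact gor_stalk_of_etale_desc q2.left t (gor_stalk_of_etale q1.left t h)

/-- Gorenstein passes to strict henselizations. -/
theorem gor_sh (A R : Type u) [CommRing A] [IsLocalRing A] [CommRing R] [IsLocalRing R]
    [Algebra A R] [IsLocalHom (algebraMap A R)] [Hensel.IsStrictHenselization A R]
    (h : LocCoh.IsGorensteinLocalRing A) : LocCoh.IsGorensteinLocalRing R := by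
  haveI : IsNoetherianRing A := h.toIsNoetherian
  haveI : IsNoetherianRing R := Groth.Agent.Lib.Helper85.GorSh.isNoetherianRing_sh A R
  haveI : Module.Flat A R := Groth.Agent.Lib.Helper87.Hens.flat_of_isStrictHenselization A R
  exact (gor_iff_of_map_max A R
    (Groth.Agent.Lib.Helper87.Hens.map_maximalIdeal_of_isStrictHenselization A R)).mpr h

/-- Gorenstein descends from strict henselizations. -/
theorem gor_of_sh (A R : Type u) [CommRing A] [IsLocalRing A] [CommRing R] [IsLocalRing R]
    [Algebra A R] [IsLocalHom (algebraMap A R)] [Hensel.IsStrictHenselization A R]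
    (h : LocCoh.IsGorensteinLocalRing R) : LocCoh.IsGorensteinLocalRing A := by
  haveI : IsNoetherianRing R := h.toIsNoetherian
  haveI : Module.Flat A R := Groth.Agent.Lib.Helper87.Hens.flat_of_isStrictHenselization A R
  haveI : IsNoetherianRing A := isNoetherianRing_of_flat_local A R
  exact (gor_iff_of_map_max A R
    (Groth.Agent.Lib.Helper87.Hens.map_maximalIdeal_of_isStrictHenselization A R)).mp h

end Groth.Agent.Lib.Helper85.GorStalkSp
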