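import Groth.Agent.Lib.Helper85.GorStalkSp
import Groth.Agent.Lib.Helper85.GorFibSp
import Groth.Agent.Lib.Helper85.GorAtBC
import Groth.Agent.Lib.Helper54.AlgSpFlatLocus

/-!
# Fibre charts of a morphism of algebraic spaces, and Gorenstein fibres (helper85)
-/

set_option autoImplicit false
set_option linter.style.haveILetI false
universe u
open CategoryTheory CategoryTheory.Limits AlgebraicGeometry IsLocalRing

namespace Groth.Agent.Lib.Helper85.GorTfaeSp

open AlgSp Groth.Agent.Lib.Helper79.AlgSpChart Groth.Agent.Lib.Helper37.AlgSpPoints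
open Groth.Agent.Lib.Helper85.GorRing

section Sch

/-- Gorenstein local rings are invariant under isomorphisms of schemes. -/
theorem gor_stalk_of_iso {P P' : Scheme.{u}} (e : P ⟶ P') [IsIso e] (w : P) :
    LocCoh.IsGorensteinLocalRing (P'.presheaf.stalk (e w)) ↔
      LocCoh.IsGorensteinLocalRing (P.presheaf.stalk w) := by
  have E : (P'.presheaf.stalk (e w)) ≃+* (P.presheaf.stalk w) :=
    (asIso (e.stalkMap w)).commRingCatIsoToRingEquiv
  exact ⟨fun h => by haveI := h; exact gor_of_ringEquiv E,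
    fun h => by haveI := h; exact gor_of_ringEquiv E.symm⟩

/-- "Gorenstein at a point" through any model of the fibre. -/
theorem isGorensteinAt_iff_of_isPullback {X Y P : Scheme.{u}} (f : X ⟶ Y) (y : Y) {i : P ⟶ X}
    {s : P ⟶ Spec (Y.residueField y)} (hP : IsPullback i s f (Y.fromSpecResidueField y)) (w : P) :
    Dual3.IsGorensteinAt f (i w) ↔ (f.stalkMap (i w)).hom.Flat ∧
      LocCoh.IsGorensteinLocalRing (P.presheaf.stalk w) := by
  let e : P ≅ f.fiber y := hP.isoPullback
  have h1 : e.hom ≫ f.fiberι y = i := hP.isoPullback_hom_fst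
  have hw : f.fiberι y (e.hom w) = i w := by
    rw [← h1]; rfl
  rw [Groth.Agent.Lib.Helper85.GorAtBC.isGorensteinAt_iff_of_fiber f (i w) y (e.hom w) hw]
  exact and_congr Iff.rfl (gor_stalk_of_iso e.hom w)

/-- a point of a model of the fibre over a given point of the source -/
theorem exists_point_of_isPullback {X Y P : Scheme.{u}} (f : X ⟶ Y) (x : X) {i : P ⟶ X}
    {s : P ⟶ Spec (Y.residueField (f x))}
    (hP : IsPullback i s f (Y.fromSpecResidueField (f x))) : ∃ w : P, i w = x := by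
  let e : P ≅ f.fiber (f x) := hP.isoPullback
  refine ⟨e.inv (f.asFiber x), ?_⟩
  have h1 : e.inv ≫ i = f.fiberι (f x) := hP.isoPullback_inv_fst
  have : i (e.inv (f.asFiber x)) = (e.inv ≫ i) (f.asFiber x) := rfl
  rw [this, h1, f.fiberι_asFiber]

theorem isLocallyNoetherian_of_isPullback {X Y P : Scheme.{u}} (f : X ⟶ Y) (y : Y) {i : P ⟶ X}
    {s : P ⟶ Spec (Y.residueField y)} (hP : IsPullback i s f (Y.fromSpecResidueField y))
    (h : IsLocallyNoetherian (f.fiber y)) : IsLocallyNoetherian P := by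
  haveI : IsLocallyNoetherian (pullback f (Y.fromSpecResidueField y)) := h
  exact isLocallyNoetherian_of_isOpenImmersion hP.isoPullback.hom

end Sch

variable {S : Scheme.{u}}

/-- The fibre of a chart `U = V ×_G U0 ⟶ V` over a point `v` of `V` is a chart of the sheaf fibre of
`f` over the residue field point of `v`. -/
theorem exists_fibre_chart {F G : Sp S} (f : F ⟶ G) {U0 U V : Over S}
    (a0 : (yon S).obj U0 ⟶ F) (b : (yon S).obj V ⟶ G) (k : U ⟶ V) (e0 : U ⟶ U0)
    (sqU : IsPullback ((yon S).map k) ((yon S).map e0) b (a0 ≫ f)) (v : V.left)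
    (Xv : Sp S) (a' : Xv ⟶ F)
    (c : Xv ⟶ (yon S).obj (Over.mk (V.left.fromSpecResidueField v ≫ V.hom)))
    (hP : IsPullback a' c f ((yon S).map (Over.homMk (V.left.fromSpecResidueField v) rfl :
      Over.mk (V.left.fromSpecResidueField v ≫ V.hom) ⟶ V) ≫ b)) :
    ∃ (Uv : Over S) (A : (yon S).obj Uv ⟶ Xv) (i : Uv ⟶ U)
      (s : Uv ⟶ Over.mk (V.left.fromSpecResidueField v ≫ V.hom)),
      IsPullback i.left s.left k.left (V.left.fromSpecResidueField v) ∧
      (∀ Q : MorphismProperty Scheme.{u}, RepWith Q a0 → RepWith Q A) ∧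
      A ≫ a' = (yon S).map (i ≫ e0) ≫ a0 ∧ A ≫ c = (yon S).map s := by
  set ιv : Over.mk (V.left.fromSpecResidueField v ≫ V.hom) ⟶ V :=
    Over.homMk (V.left.fromSpecResidueField v) rfl with hιv
  have sq1 : IsPullback (pullback.fst k ιv) (pullback.snd k ιv) k ιv :=
    IsPullback.of_hasPullback k ιv
  have sq1s : IsPullback (pullback.fst k ιv).left (pullback.snd k ιv).left k.left
      (V.left.fromSpecResidueField v) := sq1.map (Over.forget S)
  have hR : IsPullback ((yon S).map (pullback.fst k ιv ≫ e0)) ((yon S).map (pullback.snd k ιv))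
      (a0 ≫ f) ((yon S).map ιv ≫ b) := by
    have := (sq1.map (yon S)).paste_horiz sqU.flip
    rw [← Functor.map_comp] at this
    exact this
  obtain ⟨A, hA1, hA2⟩ : ∃ A : (yon S).obj (pullback k ιv) ⟶ Xv,
      A ≫ a' = (yon S).map (pullback.fst k ιv ≫ e0) ≫ a0 ∧
      A ≫ c = (yon S).map (pullback.snd k ιv) :=
    ⟨hP.lift _ _ (by rw [Category.assoc]; exact hR.w), hP.lift_fst _ _ _, hP.lift_snd _ _ _⟩
  refine ⟨pullback k ιv, A, pullback.fst k ιv, pullback.snd k ιv, sq1s, fun Q hQ => ?_, hA1, hA2⟩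
  exact Groth.Agent.Lib.Helper54.AlgSpFlatLocus.repWith_of_fibre Q hQ hP hR A hA1 hA2

end Groth.Agent.Lib.Helper85.GorTfaeSp
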