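import Groth.Agent.Lib.Helper15.LBCFlat
import Groth.Agent.Lib.Helper15.ExactFunctorD
import Groth.Agent.Lib.Helper39.Dual.LocExt
import Groth.Agent.Lib.Helper25.Bidual.Main
import Mathlib.RingTheory.Flat.CategoryTheory
import Mathlib.RingTheory.PicardGroup

/-! Tensoring with a flat module as an exact functor on `D(A)`; for an invertible module it is an
autoequivalence, and it preserves dualizing complexes. -/

set_option autoImplicit false
universe u

open CategoryTheory CategoryTheory.Limits MonoidalCategory DerivedCategory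

namespace Groth.Agent.Lib.Helper85.InvTensorD

open Groth.Agent.Lib.Helper15.QhAdj Groth.Agent.Lib.Helper15.ExactFunctorD

attribute [local instance] HasDerivedCategory.standard

variable {A : Type u} [CommRing A]

instance tensorRight_preservesFiniteColimits (N : ModuleCat.{u} A) :
    PreservesFiniteColimits (tensorRight N) :=
  preservesFiniteColimits_of_natIso (BraidedCategory.tensorLeftIsoTensorRight N)

/-- the exact functor on `D(A)` induced by tensoring with a flat module -/
noncomputable abbrev G (P : ModuleCat.{u} A) [Module.Flat A P] : Dual.D A ⥤ Dual.D A :=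
  (tensorRight P).mapDerivedCategory

section LT

variable (P : ModuleCat.{u} A) [Module.Flat A P]

instance : (G P).IsLeftDerivedFunctor (tensorRight P).mapDerivedCategoryFactorsh.hom (W A) :=
  Functor.isLeftDerivedFunctor_of_inverts (W A) (G P) (tensorRight P).mapDerivedCategoryFactorsh

/-- the derived tensor product with a flat module is the exact tensor product -/
noncomputable def ltFlatIso [DRing.HasLTensor A P] : DRing.LTensor A P ≅ G P :=
  Functor.leftDerivedUnique (G P) (DRing.LTensor A P)
    ((DRing.tensorKh A P).totalLeftDerivedCounit Qh (W A))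
    (tensorRight P).mapDerivedCategoryFactorsh.hom (W A)

end LT

section Equiv

variable (P P' : ModuleCat.{u} A) [Module.Flat A P] [Module.Flat A P']

/-- `G P ⋙ G P' ≅ 𝟭` when `P ⊗ P' ≅ 𝟙` -/
noncomputable def compIso (e : P ⊗ P' ≅ 𝟙_ (ModuleCat.{u} A)) : G P ⋙ G P' ≅ 𝟭 (Dual.D A) :=
  (mapDerivedCategoryComp (tensorRight P) (tensorRight P')).symm ≪≫
    mapDerivedCategoryIso ((tensorRightTensor P P').symm ≪≫
      (tensoringRight (ModuleCat.{u} A)).mapIso e ≪≫ rightUnitorNatIso (ModuleCat.{u} A)) ≪≫
    mapDerivedCategoryId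

/-- the autoequivalence of `D(A)` given by an invertible module -/
noncomputable def equiv (e : P ⊗ P' ≅ 𝟙_ (ModuleCat.{u} A)) : Dual.D A ≌ Dual.D A :=
  CategoryTheory.Equivalence.mk (G P) (G P') (compIso P P' e).symm (compIso P' P ((β_ P' P) ≪≫ e))

instance : (G P).Linear A := inferInstance

end Equiv

section Transport

/-- an `A`-linear autoequivalence of `D(A)` commuting with shifts, whose inverse preserves modules
and which preserves finiteness of cohomology, preserves dualizing complexes -/
theorem isDualizing_of_equiv (Φ : Dual.D A ≌ Dual.D A) [Φ.functor.Linear A]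
    [Φ.functor.CommShift ℤ]
    (hsingle : ∀ M : ModuleCat.{u} A, ∃ M' : ModuleCat.{u} A,
      Nonempty (Φ.inverse.obj ((singleFunctor (ModuleCat.{u} A) 0).obj M) ≅
        (singleFunctor (ModuleCat.{u} A) 0).obj M'))
    (hfin : ∀ (X : Dual.D A) (i : ℤ), Module.Finite A (Dual.HD A X i) →
      Module.Finite A (Dual.HD A (Φ.functor.obj X) i))
    (ω : Dual.D A) (hω : Dual.IsDualizing A ω) : Dual.IsDualizing A (Φ.functor.obj ω) where
  isNoetherianRing := hω.isNoetherianRing
  finite_injective_dimension := by
    obtain ⟨a, b, hab⟩ := hω.finite_injective_dimension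
    refine ⟨a, b, fun M _ _ i hi => ?_⟩
    obtain ⟨M', ⟨e⟩⟩ := hsingle (ModuleCat.of A M)
    have hsub : Subsingleton ((singleFunctor (ModuleCat.{u} A) 0).obj M' ⟶ ω⟦i⟧) := hab M' i hi
    let c := (Φ.functor.commShiftIso i).app ω
    constructor
    intro f g
    have h1 : e.inv ≫ Φ.inverse.map (f ≫ c.inv) ≫ (Φ.unitIso.app (ω⟦i⟧)).inv =
        e.inv ≫ Φ.inverse.map (g ≫ c.inv) ≫ (Φ.unitIso.app (ω⟦i⟧)).inv := hsub.elim _ _
    rw [cancel_epi, cancel_mono] at h1
    have h2 := Φ.inverse.map_injective h1
    rwa [cancel_mono] at h2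
  finite_cohomology := fun i => hfin ω i (hω.finite_cohomology i)
  toEnd_bijective := by
    have h0 := hω.toEnd_bijective
    constructor
    · intro a b hab
      apply h0.1
      apply Φ.functor.map_injective
      have hab' : a • 𝟙 (Φ.functor.obj ω) = b • 𝟙 (Φ.functor.obj ω) := hab
      show Φ.functor.map (a • 𝟙 ω) = Φ.functor.map (b • 𝟙 ω)
      rw [Functor.map_smul, Functor.map_smul, CategoryTheory.Functor.map_id]
      exact hab'
    · intro g
      obtain ⟨g', rfl⟩ := Φ.functor.map_surjective g
      obtain ⟨a, ha⟩ := h0.2 g'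
      refine ⟨a, ?_⟩
      have ha' : a • 𝟙 ω = g' := ha
      show a • 𝟙 (Φ.functor.obj ω) = Φ.functor.map g'
      rw [← ha', Functor.map_smul, CategoryTheory.Functor.map_id]
  ext_self_subsingleton := fun i hi => by
    have hsub := hω.ext_self_subsingleton i hi
    let c := (Φ.functor.commShiftIso i).app ω
    constructor
    intro f g
    obtain ⟨f', hf'⟩ := Φ.functor.map_surjective (f ≫ c.inv)
    obtain ⟨g', hg'⟩ := Φ.functor.map_surjective (g ≫ c.inv)
    have h1 : f ≫ c.inv = g ≫ c.inv := by rw [← hf', ← hg', Subsingleton.elim f' g']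
    rwa [cancel_mono] at h1

end Transport

section Main

variable (P P' : ModuleCat.{u} A) [Module.Flat A P] [Module.Flat A P']

/-- cohomology of `G P X` is `H(X) ⊗ P` -/
noncomputable def homologyIso (K : DRing.Cx A) (i : ℤ) :
    (DerivedCategory.homologyFunctor (ModuleCat.{u} A) i).obj ((G P).obj (Q.obj K)) ≅
      (tensorRight P).obj (K.homology i) :=
  (DerivedCategory.homologyFunctor (ModuleCat.{u} A) i).mapIso
      ((tensorRight P).mapDerivedCategoryFactors.app K) ≪≫
    (DerivedCategory.homologyFunctorFactors (ModuleCat.{u} A) i).app _ ≪≫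
      (K.sc i).mapHomologyIso (tensorRight P)

theorem finite_homology_G [Module.Finite A P] (X : Dual.D A) (i : ℤ)
    (h : Module.Finite A (Dual.HD A X i)) : Module.Finite A (Dual.HD A ((G P).obj X) i) := by
  let K := (DerivedCategory.Q (C := ModuleCat.{u} A)).objPreimage X
  let e : Q.obj K ≅ X := (DerivedCategory.Q (C := ModuleCat.{u} A)).objObjPreimageIso X
  have e1 : (DerivedCategory.homologyFunctor (ModuleCat.{u} A) i).obj X ≅ K.homology i :=
    (DerivedCategory.homologyFunctor (ModuleCat.{u} A) i).mapIso e.symm ≪≫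
      (DerivedCategory.homologyFunctorFactors (ModuleCat.{u} A) i).app K
  have e2 : (DerivedCategory.homologyFunctor (ModuleCat.{u} A) i).obj ((G P).obj X) ≅
      (tensorRight P).obj (K.homology i) :=
    (DerivedCategory.homologyFunctor (ModuleCat.{u} A) i).mapIso ((G P).mapIso e.symm) ≪≫
      homologyIso P K i
  have h1 : Module.Finite A (K.homology i) := by
    haveI : Module.Finite A ((DerivedCategory.homologyFunctor (ModuleCat.{u} A) i).obj X) := h
    exact Module.Finite.equiv e1.toLinearEquiv
  have h2 : Module.Finite A ((tensorRight P).obj (K.homology i)) := by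
    show Module.Finite A (TensorProduct A (K.homology i) P)
    infer_instance
  show Module.Finite A ((DerivedCategory.homologyFunctor (ModuleCat.{u} A) i).obj ((G P).obj X))
  exact Module.Finite.equiv e2.symm.toLinearEquiv

instance equivFunctorLinear (e : P ⊗ P' ≅ 𝟙_ (ModuleCat.{u} A)) :
    (equiv P P' e).functor.Linear A := by
  unfold equiv
  exact inferInstanceAs ((G P).Linear A)

noncomputable instance equivFunctorCommShift (e : P ⊗ P' ≅ 𝟙_ (ModuleCat.{u} A)) :
    (equiv P P' e).functor.CommShift ℤ := by
  unfold equiv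
  exact inferInstanceAs ((G P).CommShift ℤ)

/-- tensoring with an invertible module preserves dualizing complexes -/
theorem isDualizing_G [Module.Finite A P] (e : P ⊗ P' ≅ 𝟙_ (ModuleCat.{u} A))
    (ω : Dual.D A) (hω : Dual.IsDualizing A ω) : Dual.IsDualizing A ((G P).obj ω) := by
  refine isDualizing_of_equiv (equiv P P' e) (fun M => ⟨(tensorRight P').obj M, ⟨?_⟩⟩)
    (fun X i h => finite_homology_G P X i h) ω hω
  exact ((tensorRight P').mapDerivedCategorySingleFunctor 0).app M

end Main

section Invertible

variable (P₀ : Type u) [AddCommGroup P₀] [Module A P₀] [Module.Invertible A P₀]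

/-- `P ⊗ P^∨ ≅ A` in `ModuleCat A` for an invertible module -/
noncomputable def invIso :
    ModuleCat.of A P₀ ⊗ ModuleCat.of A (Module.Dual A P₀) ≅ 𝟙_ (ModuleCat.{u} A) :=
  β_ (ModuleCat.of A P₀) (ModuleCat.of A (Module.Dual A P₀)) ≪≫
    (Module.Invertible.linearEquiv A P₀).toModuleIso

/-- **tensoring with an invertible module and shifting preserve dualizing complexes** -/
theorem isDualizing_LTensor_invertible [DRing.HasLTensor A (ModuleCat.of A P₀)]
    (ω : Dual.D A) (hω : Dual.IsDualizing A ω) :
    Dual.IsDualizing A ((DRing.LTensor A (ModuleCat.of A P₀)).obj ω) := by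
  haveI : Module.Flat A (ModuleCat.of A P₀) := inferInstanceAs (Module.Flat A P₀)
  haveI : Module.Flat A (ModuleCat.of A (Module.Dual A P₀)) :=
    inferInstanceAs (Module.Flat A (Module.Dual A P₀))
  haveI : Module.Finite A (ModuleCat.of A P₀) := inferInstanceAs (Module.Finite A P₀)
  exact Groth.Agent.Lib.Helper25.Bidual.isDualizing_of_iso
    ((ltFlatIso (ModuleCat.of A P₀)).app ω).symm
    (isDualizing_G (ModuleCat.of A P₀) (ModuleCat.of A (Module.Dual A P₀)) (invIso P₀) ω hω)

end Invertible

end Groth.Agent.Lib.Helper85.InvTensorD
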