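import Groth.Agent.Lib.Helper85.InvTensorD

/-! Uniqueness: if `(ω ⊗ P)[n] ≅ (ω ⊗ P')[n']` for a dualizing complex `ω` and invertible modules
`P`, `P'`, then `n = n'` and `P ≅ P'`. -/

set_option autoImplicit false
universe u

open CategoryTheory CategoryTheory.Limits MonoidalCategory DerivedCategory

namespace Groth.Agent.Lib.Helper85.InvTensorUnique

open Groth.Agent.Lib.Helper85.InvTensorD

attribute [local instance] HasDerivedCategory.standard

variable {A : Type u} [CommRing A]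

section Chain

variable (L : Type u) [AddCommGroup L] [Module A L] (K : DRing.Cx A)

/-- `K ⊗ L` -/
noncomputable abbrev KL : DRing.Cx A :=
  ((tensorRight (ModuleCat.of A L)).mapHomologicalComplex (ComplexShape.up ℤ)).obj K

/-- `m ↦ m ⊗ l` -/
noncomputable def tCx (l : L) : K ⟶ KL L K where
  f i := ModuleCat.ofHom ((TensorProduct.mk A (K.X i) L).flip l)
  comm' i j _ := by
    ext m
    rfl

/-- `m ⊗ x ↦ lam x • m` -/
noncomputable def sCx (lam : L →ₗ[A] A) : KL L K ⟶ K where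
  f i := ModuleCat.ofHom
    ((TensorProduct.rid A (K.X i)).toLinearMap ∘ₗ LinearMap.lTensor (K.X i) lam)
  comm' i j _ := by
    apply ModuleCat.hom_ext
    apply TensorProduct.ext'
    intro m x
    show (K.d i j).hom (lam x • m) = lam x • (K.d i j).hom m
    exact map_smul _ _ _

theorem tCx_sCx (l : L) (lam : L →ₗ[A] A) : tCx L K l ≫ sCx L K lam = lam l • 𝟙 K := by
  ext i m
  rfl

theorem sum_sCx_tCx {k : ℕ} (l : Fin k → L) (lam : Fin k → (L →ₗ[A] A))
    (h : ∀ x : L, ∑ j, lam j x • l j = x) :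
    ∑ j, sCx L K (lam j) ≫ tCx L K (l j) = 𝟙 (KL L K) := by
  ext i : 1
  have h1 : (∑ j, sCx L K (lam j) ≫ tCx L K (l j)).f i =
      ∑ j, (sCx L K (lam j) ≫ tCx L K (l j)).f i :=
    (HomologicalComplex.eval (ModuleCat.{u} A) (ComplexShape.up ℤ) i).map_sum _ _
  rw [h1]
  apply ModuleCat.hom_ext
  rw [ModuleCat.hom_sum]
  have key : ∑ j, ((TensorProduct.mk A (K.X i) L).flip (l j)) ∘ₗ
      ((TensorProduct.rid A (K.X i)).toLinearMap ∘ₗ LinearMap.lTensor (K.X i) (lam j)) =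
      LinearMap.id := by
    apply TensorProduct.ext'
    intro m x
    rw [LinearMap.sum_apply]
    show ∑ j, (lam j x • m) ⊗ₜ[A] l j = m ⊗ₜ[A] x
    conv_rhs => rw [← h x, TensorProduct.tmul_sum]
    refine Finset.sum_congr rfl (fun j _ => ?_)
    rw [TensorProduct.smul_tmul]
  exact key

end Chain

section Core

variable (L : Type u) [AddCommGroup L] [Module A L]

theorem exists_dualBasis [Module.Finite A L] [Module.Projective A L] :
    ∃ (k : ℕ) (l : Fin k → L) (lam : Fin k → (L →ₗ[A] A)),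
      ∀ x : L, ∑ j, lam j x • l j = x := by
  obtain ⟨k, f, g, -, -, hfg⟩ := Module.Finite.exists_comp_eq_id_of_projective A L
  refine ⟨k, fun j => f (fun j' => if j = j' then 1 else 0),
    fun j => LinearMap.proj j ∘ₗ g, fun x => ?_⟩
  have h1 := LinearMap.pi_apply_eq_sum_univ f (g x)
  have h2 : f (g x) = x := LinearMap.congr_fun hfg x
  exact h1.symm.trans h2

variable (K : DRing.Cx A)

theorem sum_Q_sCx_tCx {k : ℕ} (l : Fin k → L) (lam : Fin k → (L →ₗ[A] A))
    (h : ∀ x : L, ∑ j, lam j x • l j = x) :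
    ∑ j, Q.map (sCx L K (lam j)) ≫ Q.map (tCx L K (l j)) = 𝟙 (Q.obj (KL L K)) := by
  rw [← Q.map_id, ← sum_sCx_tCx L K l lam h, Functor.map_sum]
  simp only [Functor.map_comp]

theorem Q_tCx_sCx (l : L) (lam : L →ₗ[A] A) :
    Q.map (tCx L K l) ≫ Q.map (sCx L K lam) = lam l • 𝟙 (Q.obj K) := by
  rw [← Functor.map_comp, tCx_sCx, Functor.map_smul, Q.map_id]

theorem shift_eq_zero [Nontrivial A] [Module.Finite A L] [Module.Projective A L]
    (hY : Dual.IsDualizing A (Q.obj K)) (d : ℤ)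
    (ψ : Q.obj K ≅ (Q.obj (KL L K))⟦d⟧) : d = 0 := by
  by_contra hd
  obtain ⟨k, l, lam, h⟩ := exists_dualBasis (A := A) L
  have hid := sum_Q_sCx_tCx L K l lam h
  have hz : ψ.hom = 0 := by
    have h0 : ψ.hom = ψ.hom ≫ (𝟙 (Q.obj (KL L K)))⟦d⟧' := by
      rw [CategoryTheory.Functor.map_id, Category.comp_id]
    rw [h0, ← hid, Functor.map_sum, Preadditive.comp_sum]
    refine Finset.sum_eq_zero (fun j _ => ?_)
    rw [Functor.map_comp, ← Category.assoc]
    have h1 : ψ.hom ≫ (Q.map (sCx L K (lam j)))⟦d⟧' = 0 :=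
      (hY.ext_self_subsingleton d hd).elim _ _
    rw [h1, zero_comp]
  have h1 : 𝟙 (Q.obj K) = 0 := by rw [← ψ.hom_inv_id, hz, zero_comp]
  have h2 : (1 : A) = 0 := hY.toEnd_bijective.1 (by
    show (1 : A) • 𝟙 (Q.obj K) = (0 : A) • 𝟙 (Q.obj K)
    rw [h1, smul_zero, smul_zero])
  exact one_ne_zero h2

theorem linearEquiv_of_iso [Module.Invertible A L]
    (hY : Dual.IsDualizing A (Q.obj K)) (ψ : Q.obj K ≅ Q.obj (KL L K)) :
    Nonempty (L ≃ₗ[A] A) := by
  obtain ⟨k, l, lam, h⟩ := exists_dualBasis (A := A) L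
  have hid := sum_Q_sCx_tCx L K l lam h
  have ha : ∀ j, ∃ a : A, a • 𝟙 (Q.obj K) = ψ.hom ≫ Q.map (sCx L K (lam j)) :=
    fun j => hY.toEnd_bijective.2 _
  have hb : ∀ j, ∃ b : A, b • 𝟙 (Q.obj K) = Q.map (tCx L K (l j)) ≫ ψ.inv :=
    fun j => hY.toEnd_bijective.2 _
  choose a ha using ha
  choose b hb using hb
  have hhom : ψ.hom = ∑ j, a j • Q.map (tCx L K (l j)) := by
    conv_lhs => rw [← Category.comp_id ψ.hom, ← hid, Preadditive.comp_sum]
    refine Finset.sum_congr rfl (fun j _ => ?_)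
    rw [← Category.assoc, ← ha j, Linear.smul_comp, Category.id_comp]
  have hinv : ψ.inv = ∑ j, b j • Q.map (sCx L K (lam j)) := by
    conv_lhs => rw [← Category.id_comp ψ.inv, ← hid, Preadditive.sum_comp]
    refine Finset.sum_congr rfl (fun j _ => ?_)
    rw [Category.assoc, ← hb j, Linear.comp_smul, Category.comp_id]
  let μ : L →ₗ[A] A := ∑ j, b j • lam j
  let x : L := ∑ j, a j • l j
  have hμx' : μ x = ∑ j, ∑ j', a j * b j' * lam j' (l j) := by
    simp only [μ, x, LinearMap.sum_apply, LinearMap.smul_apply, map_sum, map_smul, smul_eq_mul,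
      Finset.mul_sum]
    exact Finset.sum_congr rfl (fun j _ => Finset.sum_congr rfl (fun j' _ => by ring))
  have hcomp : ∀ j j', (a j • Q.map (tCx L K (l j))) ≫ (b j' • Q.map (sCx L K (lam j'))) =
      (a j * b j' * lam j' (l j)) • 𝟙 (Q.obj K) := by
    intro j j'
    rw [Linear.smul_comp, Linear.comp_smul, Q_tCx_sCx, smul_smul, smul_smul]
  have hone : 𝟙 (Q.obj K) = (μ x) • 𝟙 (Q.obj K) := by
    calc 𝟙 (Q.obj K) = ψ.hom ≫ ψ.inv := ψ.hom_inv_id.symm
      _ = (∑ j, a j • Q.map (tCx L K (l j))) ≫ (∑ j', b j' • Q.map (sCx L K (lam j'))) := by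
          rw [← hhom, ← hinv]
      _ = ∑ j, ∑ j', (a j * b j' * lam j' (l j)) • 𝟙 (Q.obj K) := by
          rw [Preadditive.sum_comp]
          refine Finset.sum_congr rfl (fun j _ => ?_)
          rw [Preadditive.comp_sum]
          exact Finset.sum_congr rfl (fun j' _ => hcomp j j')
      _ = (μ x) • 𝟙 (Q.obj K) := by
          rw [hμx', Finset.sum_smul]
          exact Finset.sum_congr rfl (fun j _ => (Finset.sum_smul).symm)
  have hμx : μ x = 1 := by
    apply hY.toEnd_bijective.1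
    show (μ x) • 𝟙 (Q.obj K) = (1 : A) • 𝟙 (Q.obj K)
    rw [one_smul, ← hone]
  have hsurj : Function.Surjective μ := fun r => ⟨r • x, by rw [map_smul, hμx, smul_eq_mul, mul_one]⟩
  exact ⟨LinearEquiv.ofBijective μ (Module.Invertible.bijective_of_surjective hsurj)⟩

end Core

section Reduction

open Groth.Agent.Lib.Helper15.ExactFunctorD

/-- `G P ⋙ G P' ≅ G (P ⊗ P')` -/
noncomputable def compTensorIso (P P' : ModuleCat.{u} A) [Module.Flat A P] [Module.Flat A P']
    [Module.Flat A ↑(P ⊗ P')] : G P ⋙ G P' ≅ G (P ⊗ P') :=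
  (mapDerivedCategoryComp (tensorRight P) (tensorRight P')).symm ≪≫
    mapDerivedCategoryIso (tensorRightTensor P P').symm

/-- un-shifting an isomorphism -/
noncomputable def unshiftIso {X X' : Dual.D A} (n n' : ℤ) (e : X⟦n⟧ ≅ X'⟦n'⟧) :
    X ≅ X'⟦n' - n⟧ :=
  ((shiftFunctorCompIsoId (Dual.D A) n (-n) (by simp)).symm.app X) ≪≫
    (shiftFunctor (Dual.D A) (-n)).mapIso e ≪≫
    ((shiftFunctorAdd' (Dual.D A) n' (-n) (n' - n) (by ring)).symm.app X')

variable (P P' : Type u) [AddCommGroup P] [Module A P] [Module.Invertible A P]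
  [AddCommGroup P'] [Module A P'] [Module.Invertible A P']

theorem unique_of_iso [Nontrivial A] (ω : Dual.D A) (hω : Dual.IsDualizing A ω) (n n' : ℤ)
    [DRing.HasLTensor A (ModuleCat.of A P)] [DRing.HasLTensor A (ModuleCat.of A P')]
    (h : ((DRing.LTensor A (ModuleCat.of A P)).obj ω)⟦n⟧ ≅
      ((DRing.LTensor A (ModuleCat.of A P')).obj ω)⟦n'⟧) :
    n = n' ∧ Nonempty (P ≃ₗ[A] P') := by
  haveI : Module.Flat A (ModuleCat.of A P) := inferInstanceAs (Module.Flat A P)
  haveI : Module.Flat A (ModuleCat.of A P') := inferInstanceAs (Module.Flat A P')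
  haveI : Module.Flat A (ModuleCat.of A (Module.Dual A P)) :=
    inferInstanceAs (Module.Flat A (Module.Dual A P))
  let L := TensorProduct A P' (Module.Dual A P)
  haveI : Module.Flat A ↑(ModuleCat.of A P' ⊗ ModuleCat.of A (Module.Dual A P)) :=
    inferInstanceAs (Module.Flat A L)
  -- step 1: pass to `G`
  let e1 : ((G (ModuleCat.of A P)).obj ω)⟦n⟧ ≅ ((G (ModuleCat.of A P')).obj ω)⟦n'⟧ :=
    (shiftFunctor (Dual.D A) n).mapIso ((ltFlatIso (ModuleCat.of A P)).app ω).symm ≪≫ h ≪≫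
      (shiftFunctor (Dual.D A) n').mapIso ((ltFlatIso (ModuleCat.of A P')).app ω)
  -- step 2: un-shift
  let e2 := unshiftIso n n' e1
  -- step 3: apply `G (P^∨)`
  let e3 : ω ≅ ((G (ModuleCat.of A P' ⊗ ModuleCat.of A (Module.Dual A P))).obj ω)⟦n' - n⟧ :=
    ((compIso (ModuleCat.of A P) (ModuleCat.of A (Module.Dual A P)) (invIso P)).app ω).symm ≪≫
      (G (ModuleCat.of A (Module.Dual A P))).mapIso e2 ≪≫
      ((G (ModuleCat.of A (Module.Dual A P))).commShiftIso (n' - n)).app _ ≪≫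
      (shiftFunctor (Dual.D A) (n' - n)).mapIso
        ((compTensorIso (ModuleCat.of A P') (ModuleCat.of A (Module.Dual A P))).app ω)
  -- step 4: a complex model
  let K := (DerivedCategory.Q (C := ModuleCat.{u} A)).objPreimage ω
  let e : Q.obj K ≅ ω := (DerivedCategory.Q (C := ModuleCat.{u} A)).objObjPreimageIso ω
  have hY : Dual.IsDualizing A (Q.obj K) :=
    Groth.Agent.Lib.Helper25.Bidual.isDualizing_of_iso e.symm hω
  let e4 : Q.obj K ≅ (Q.obj (KL L K))⟦n' - n⟧ :=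
    e ≪≫ e3 ≪≫ (shiftFunctor (Dual.D A) (n' - n)).mapIso
      ((G (ModuleCat.of A P' ⊗ ModuleCat.of A (Module.Dual A P))).mapIso e.symm ≪≫
        (tensorRight (ModuleCat.of A P' ⊗
          ModuleCat.of A (Module.Dual A P))).mapDerivedCategoryFactors.app K)
  have key : ∀ d : ℤ, (Q.obj K ≅ (Q.obj (KL L K))⟦d⟧) → d = 0 ∧ Nonempty (L ≃ₗ[A] A) := by
    intro d ψ
    have hd := shift_eq_zero L K hY d ψ
    subst hd
    exact ⟨rfl, linearEquiv_of_iso L K hY (ψ ≪≫ (shiftFunctorZero (Dual.D A) ℤ).app _)⟩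
  obtain ⟨hd, ⟨f⟩⟩ := key (n' - n) e4
  have hn : n = n' := by omega
  refine ⟨hn, ?_⟩
  have h1 : CommRing.Pic.mk A L = 1 := CommRing.Pic.mk_eq_one_iff.2 ⟨f⟩
  have h2 : CommRing.Pic.mk A P' = CommRing.Pic.mk A P := by
    have h3 : CommRing.Pic.mk A L = CommRing.Pic.mk A P' * (CommRing.Pic.mk A P)⁻¹ := by
      rw [← CommRing.Pic.mk_dual]
      exact CommRing.Pic.mk_tensor
    rw [h3] at h1
    exact mul_inv_eq_one.1 h1
  exact CommRing.Pic.mk_eq_mk_iff.1 h2.symm

end Reduction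

end Groth.Agent.Lib.Helper85.InvTensorUnique
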