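import Groth.Agent.Lib.Helper85.KollarFlat3
import Groth.Agent.Lib.Helper67.IterLoc2
import Groth.Agent.Lib.Helper67.DepthAlg
import Groth.Prelude.Def_FlatCA

/-!
# Localising Kollár's criterion at a prime of `B`

For `A → B` Noetherian and a prime `q` of `B` over `p`, we transport the local statements of
`KollarFlat3` (for the local homomorphism `A_p → B_q` and the maximal ideal of `B_q`) to statements
about `FlatCA.FlatAt A q` and the fibre stalks `EGA4.FibLocMod A B q`.
-/

set_option autoImplicit false
set_option linter.style.haveILetI false
set_option linter.unusedSectionVars false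
universe u

namespace Groth.Agent.Lib.Helper85.KollarLoc

open IsLocalRing TensorProduct

section Gen

variable {A B : Type u} [CommRing A] [CommRing B] [Algebra A B]
  (q : Ideal B) [q.IsPrime] (p : Ideal A) [p.IsPrime] [q.LiesOver p]

attribute [local instance] Localization.AtPrime.algebraOfLiesOver

variable (N : Type u) [AddCommGroup N] [Module (Localization.AtPrime q) N]

/-- the `A_p`-module structure on a `B_q`-module -/
@[reducible] noncomputable def modP : Module (Localization.AtPrime p) N :=
  Module.compHom N (algebraMap (Localization.AtPrime p) (Localization.AtPrime q))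

theorem tower_pq : letI := modP q p N
    IsScalarTower (Localization.AtPrime p) (Localization.AtPrime q) N :=
  letI := modP q p N
  IsScalarTower.of_algebraMap_smul fun _ _ => rfl

variable [Module A N] [IsScalarTower A (Localization.AtPrime q) N]

theorem tower_Ap : letI := modP q p N
    IsScalarTower A (Localization.AtPrime p) N :=
  letI := modP q p N
  IsScalarTower.of_algebraMap_smul fun a z => by
    change algebraMap (Localization.AtPrime p) (Localization.AtPrime q)
      (algebraMap A (Localization.AtPrime p) a) • z = a • z
    rw [← IsScalarTower.algebraMap_apply A (Localization.AtPrime p) (Localization.AtPrime q),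
      algebraMap_smul]

theorem flat_iff : letI := modP q p N
    Module.Flat (Localization.AtPrime p) N ↔ Module.Flat A N :=
  letI := modP q p N
  haveI := tower_Ap q p N
  Module.flat_iff_of_isLocalization (Localization.AtPrime p) p.primeCompl N

end Gen

section LocLoc
variable {A B : Type u} [CommRing A] [CommRing B] [Algebra A B] (q : Ideal B) [q.IsPrime]
  (G : Type u) [AddCommGroup G] [Module B G] [Module A G] [IsScalarTower A B G]
  (Q : Ideal (Localization.AtPrime q)) [Q.IsPrime]

theorem flat_locloc
    (h : Module.Flat A
      (LocalizedModule (Q.comap (algebraMap B (Localization.AtPrime q))).primeCompl G)) :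
    Module.Flat A (LocalizedModule Q.primeCompl (LocalizedModule q.primeCompl G)) := by
  have hloc := Groth.Agent.Lib.Helper67.isLocalizedModule_comp_atPrime q.primeCompl Q G
  let e := IsLocalizedModule.iso (Q.comap (algebraMap B (Localization.AtPrime q))).primeCompl
    (((LocalizedModule.mkLinearMap Q.primeCompl (LocalizedModule q.primeCompl G)).restrictScalars B)
      ∘ₗ LocalizedModule.mkLinearMap q.primeCompl G)
  exact Module.Flat.of_linearEquiv (e.restrictScalars A).symm

end LocLoc

theorem liesOver_comap (A : Type u) {B : Type u} [CommRing A] [CommRing B] [Algebra A B]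
    (q : Ideal B) [q.IsPrime] : q.LiesOver (q.comap (algebraMap A B)) := ⟨rfl⟩

section Depth

variable (A B : Type u) [CommRing A] [CommRing B] [IsNoetherianRing B] [Algebra A B]
  (q : Ideal B) [q.IsPrime]
  (X : Type u) [AddCommGroup X] [Module B X] [Module.Finite B X]

attribute [local instance] Localization.AtPrime.algebraOfLiesOver

attribute [local instance] liesOver_comap

omit [IsNoetherianRing B] in
theorem mB_eq :
    EGA4.mB (Localization.AtPrime (q.comap (algebraMap A B))) (Localization.AtPrime q) =
      (q.comap (algebraMap A B)).map (algebraMap A (Localization.AtPrime q)) := by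
  unfold EGA4.mB
  rw [← Localization.AtPrime.map_eq_maximalIdeal, Ideal.map_map, ← IsScalarTower.algebraMap_eq]

theorem fibDepth_eq :
    LocCoh.idealDepth (maximalIdeal (Localization.AtPrime q))
      (EGA4.FibMod (Localization.AtPrime (q.comap (algebraMap A B))) (Localization.AtPrime q)
        (LocalizedModule q.primeCompl X)) =
    LocCoh.idealDepth (q.map (algebraMap B (EGA4.FibLocRing A B q))) (EGA4.FibLocMod A B q X) := by
  have hNB : IsNoetherianRing (Localization.AtPrime q) :=
    IsLocalization.isNoetherianRing q.primeCompl _ inferInstance
  let e : EGA4.FibMod (Localization.AtPrime (q.comap (algebraMap A B))) (Localization.AtPrime q)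
      (LocalizedModule q.primeCompl X) ≃ₗ[Localization.AtPrime q] EGA4.FibLocMod A B q X :=
    Submodule.quotEquivOfEq _ _ (by rw [mB_eq])
  rw [Groth.Agent.Lib.Helper67.idealDepth_congr _ e]
  have hfin : Module.Finite (EGA4.FibLocRing A B q) (EGA4.FibLocMod A B q X) :=
    Module.Finite.of_restrictScalars_finite (Localization.AtPrime q) _ _
  rw [Groth.Agent.Lib.Helper67.idealDepth_eq_idealDepth_map_of_finite
    (A := Localization.AtPrime q) (B := EGA4.FibLocRing A B q) (maximalIdeal _)
    (EGA4.FibLocMod A B q X)]
  congr 1
  rw [← Localization.AtPrime.map_eq_maximalIdeal, Ideal.map_map, ← IsScalarTower.algebraMap_eq]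

end Depth

section Maps

variable {B : Type u} [CommRing B] (S : Submonoid B)
  {M N P : Type u} [AddCommGroup M] [Module B M] [AddCommGroup N] [Module B N]
  [AddCommGroup P] [Module B P]

theorem map_injective (f : M →ₗ[B] N) (hf : Function.Injective f) :
    Function.Injective (LocalizedModule.map S f) :=
  IsLocalizedModule.map_injective S (LocalizedModule.mkLinearMap S M)
    (LocalizedModule.mkLinearMap S N) f hf

theorem map_surjective (f : M →ₗ[B] N) (hf : Function.Surjective f) :
    Function.Surjective (LocalizedModule.map S f) :=
  IsLocalizedModule.map_surjective S (LocalizedModule.mkLinearMap S M)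
    (LocalizedModule.mkLinearMap S N) f hf

theorem map_exact (f : M →ₗ[B] N) (g : N →ₗ[B] P) (h : Function.Exact f g) :
    Function.Exact (LocalizedModule.map S f) (LocalizedModule.map S g) :=
  IsLocalizedModule.map_exact S (LocalizedModule.mkLinearMap S M)
    (LocalizedModule.mkLinearMap S N) (LocalizedModule.mkLinearMap S P) f g h

end Maps


section Main

variable (A B : Type u) [CommRing A] [CommRing B] [IsNoetherianRing A] [IsNoetherianRing B]
  [Algebra A B] (q : Ideal B) [q.IsPrime]
  {F E0 E1 G : Type u} [AddCommGroup F] [Module B F] [Module A F] [IsScalarTower A B F]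
  [Module.Finite B F]
  [AddCommGroup E0] [Module B E0] [Module A E0] [IsScalarTower A B E0] [Module.Finite B E0]
  [Module.Flat A E0]
  [AddCommGroup E1] [Module B E1] [Module A E1] [IsScalarTower A B E1] [Module.Finite B E1]
  [Module.Flat A E1]
  [AddCommGroup G] [Module B G] [Module A G] [IsScalarTower A B G] [Module.Finite B G]
  (f : F →ₗ[B] E0) (u : E0 →ₗ[B] E1) (v : E1 →ₗ[B] G)
  (hf : Function.Injective f) (hfu : Function.Exact f u) (huv : Function.Exact u v)
  (hv : Function.Surjective v)

attribute [local instance] Localization.AtPrime.algebraOfLiesOver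
attribute [local instance] liesOver_comap

include hf hfu huv hv

/-- if `G` is `A`-flat at `q` then so is the kernel `F` -/
theorem flatAt_ker_of_flatAt (hG : FlatCA.FlatAt A q G) : FlatCA.FlatAt A q F := by
  unfold FlatCA.FlatAt at hG ⊢
  have hI := KollarFlat.flat_localizedModule_of_exact (A := A) (LinearMap.range u).subtype v
    (Submodule.injective_subtype _) (KollarFlat.exact_subtype_range u v huv) hv q hG
  exact KollarFlat.flat_localizedModule_of_exact (A := A) f u.rangeRestrict hf
    (KollarFlat.exact_rangeRestrict f u hfu) u.surjective_rangeRestrict q hI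

theorem flatAt_of_fibre_depth
    (hGq : ∀ q' : PrimeSpectrum B, q'.asIdeal < q → FlatCA.FlatAt A q'.asIdeal G)
    (h0 : 2 ≤ LocCoh.idealDepth (q.map (algebraMap B (EGA4.FibLocRing A B q)))
      (EGA4.FibLocMod A B q E0))
    (hF : 2 ≤ LocCoh.idealDepth (q.map (algebraMap B (EGA4.FibLocRing A B q)))
      (EGA4.FibLocMod A B q F)) :
    FlatCA.FlatAt A q G := by
  unfold FlatCA.FlatAt
  have hloc : IsLocalHom (algebraMap (Localization.AtPrime (q.comap (algebraMap A B)))
      (Localization.AtPrime q)) :=
    Localization.isLocalHom_localRingHom (q.comap (algebraMap A B)) q (algebraMap A B) rfl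
  have hNA : IsNoetherianRing (Localization.AtPrime (q.comap (algebraMap A B))) :=
    IsLocalization.isNoetherianRing (q.comap (algebraMap A B)).primeCompl _ inferInstance
  have hNB : IsNoetherianRing (Localization.AtPrime q) :=
    IsLocalization.isNoetherianRing q.primeCompl _ inferInstance
  letI mF := modP q (q.comap (algebraMap A B)) (LocalizedModule q.primeCompl F)
  letI mE0 := modP q (q.comap (algebraMap A B)) (LocalizedModule q.primeCompl E0)
  letI mE1 := modP q (q.comap (algebraMap A B)) (LocalizedModule q.primeCompl E1)
  letI mG := modP q (q.comap (algebraMap A B)) (LocalizedModule q.primeCompl G)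
  haveI := tower_pq q (q.comap (algebraMap A B)) (LocalizedModule q.primeCompl F)
  haveI := tower_pq q (q.comap (algebraMap A B)) (LocalizedModule q.primeCompl E0)
  haveI := tower_pq q (q.comap (algebraMap A B)) (LocalizedModule q.primeCompl E1)
  haveI := tower_pq q (q.comap (algebraMap A B)) (LocalizedModule q.primeCompl G)
  haveI := tower_Ap q (q.comap (algebraMap A B)) (LocalizedModule q.primeCompl G)
  haveI : Module.Flat (Localization.AtPrime (q.comap (algebraMap A B)))
      (LocalizedModule q.primeCompl E0) :=
    (flat_iff q (q.comap (algebraMap A B)) _).2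
      (KollarFlat.flat_localizedModule (A := A) E0 q.primeCompl)
  haveI : Module.Flat (Localization.AtPrime (q.comap (algebraMap A B)))
      (LocalizedModule q.primeCompl E1) :=
    (flat_iff q (q.comap (algebraMap A B)) _).2
      (KollarFlat.flat_localizedModule (A := A) E1 q.primeCompl)
  rw [← flat_iff q (q.comap (algebraMap A B)) (LocalizedModule q.primeCompl G)]
  refine KollarFlat.flat_of_two_le_depth (A := Localization.AtPrime (q.comap (algebraMap A B)))
    (B := Localization.AtPrime q)
    (maximalIdeal (Localization.AtPrime q))
    (LocalizedModule.map q.primeCompl f) (LocalizedModule.map q.primeCompl u)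
    (LocalizedModule.map q.primeCompl v)
    (map_injective _ f hf) (map_exact _ f u hfu) (map_exact _ u v huv) (map_surjective _ v hv)
    ?_ ?_ ?_
  · intro Q hQ
    haveI : IsScalarTower A (Localization.AtPrime (q.comap (algebraMap A B)))
        (LocalizedModule Q.asIdeal.primeCompl (LocalizedModule q.primeCompl G)) :=
      IsScalarTower.of_algebraMap_smul fun a z => by
        induction z using LocalizedModule.induction_on with
        | h m s => rw [LocalizedModule.smul'_mk, LocalizedModule.smul'_mk, algebraMap_smul]
    rw [Module.flat_iff_of_isLocalization (Localization.AtPrime (q.comap (algebraMap A B)))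
      (q.comap (algebraMap A B)).primeCompl]
    apply flat_locloc q G Q.asIdeal
    refine hGq ⟨Q.asIdeal.comap (algebraMap B (Localization.AtPrime q)), inferInstance⟩ ?_
    have hle : Q.asIdeal.comap (algebraMap B (Localization.AtPrime q)) ≤ q := by
      have h1 : Q.asIdeal ≤ maximalIdeal (Localization.AtPrime q) :=
        IsLocalRing.le_maximalIdeal Q.2.ne_top
      have h2 := Ideal.comap_mono (f := algebraMap B (Localization.AtPrime q)) h1
      have h3 : (maximalIdeal (Localization.AtPrime q)).comap
          (algebraMap B (Localization.AtPrime q)) = q :=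
        Localization.AtPrime.under_maximalIdeal
      rwa [h3] at h2
    refine lt_of_le_of_ne hle ?_
    intro heq
    apply hQ
    rw [← Localization.AtPrime.map_eq_maximalIdeal, Ideal.map_le_iff_le_comap]
    exact heq.ge
  · rw [fibDepth_eq]; exact h0
  · rw [fibDepth_eq]; exact hF

theorem fibre_depth_of_flatAt
    (hG : FlatCA.FlatAt A q G)
    (h0 : 2 ≤ LocCoh.idealDepth (q.map (algebraMap B (EGA4.FibLocRing A B q)))
      (EGA4.FibLocMod A B q E0))
    (h1 : 1 ≤ LocCoh.idealDepth (q.map (algebraMap B (EGA4.FibLocRing A B q)))
      (EGA4.FibLocMod A B q E1)) :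
    FlatCA.FlatAt A q F ∧
      2 ≤ LocCoh.idealDepth (q.map (algebraMap B (EGA4.FibLocRing A B q)))
        (EGA4.FibLocMod A B q F) := by
  unfold FlatCA.FlatAt at hG ⊢
  have hloc : IsLocalHom (algebraMap (Localization.AtPrime (q.comap (algebraMap A B)))
      (Localization.AtPrime q)) :=
    Localization.isLocalHom_localRingHom (q.comap (algebraMap A B)) q (algebraMap A B) rfl
  have hNA : IsNoetherianRing (Localization.AtPrime (q.comap (algebraMap A B))) :=
    IsLocalization.isNoetherianRing (q.comap (algebraMap A B)).primeCompl _ inferInstance
  have hNB : IsNoetherianRing (Localization.AtPrime q) :=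
    IsLocalization.isNoetherianRing q.primeCompl _ inferInstance
  letI mF := modP q (q.comap (algebraMap A B)) (LocalizedModule q.primeCompl F)
  letI mE0 := modP q (q.comap (algebraMap A B)) (LocalizedModule q.primeCompl E0)
  letI mE1 := modP q (q.comap (algebraMap A B)) (LocalizedModule q.primeCompl E1)
  letI mG := modP q (q.comap (algebraMap A B)) (LocalizedModule q.primeCompl G)
  haveI := tower_pq q (q.comap (algebraMap A B)) (LocalizedModule q.primeCompl F)
  haveI := tower_pq q (q.comap (algebraMap A B)) (LocalizedModule q.primeCompl E0)
  haveI := tower_pq q (q.comap (algebraMap A B)) (LocalizedModule q.primeCompl E1)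
  haveI := tower_pq q (q.comap (algebraMap A B)) (LocalizedModule q.primeCompl G)
  haveI : Module.Flat (Localization.AtPrime (q.comap (algebraMap A B)))
      (LocalizedModule q.primeCompl E0) :=
    (flat_iff q (q.comap (algebraMap A B)) _).2
      (KollarFlat.flat_localizedModule (A := A) E0 q.primeCompl)
  haveI : Module.Flat (Localization.AtPrime (q.comap (algebraMap A B)))
      (LocalizedModule q.primeCompl E1) :=
    (flat_iff q (q.comap (algebraMap A B)) _).2
      (KollarFlat.flat_localizedModule (A := A) E1 q.primeCompl)
  haveI : Module.Flat (Localization.AtPrime (q.comap (algebraMap A B)))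
      (LocalizedModule q.primeCompl G) :=
    (flat_iff q (q.comap (algebraMap A B)) _).2 hG
  constructor
  · rw [← flat_iff q (q.comap (algebraMap A B)) (LocalizedModule q.primeCompl F)]
    exact KollarFlat.flat_ker_of_flat (A := Localization.AtPrime (q.comap (algebraMap A B)))
      (B := Localization.AtPrime q)
      (LocalizedModule.map q.primeCompl f) (LocalizedModule.map q.primeCompl u)
      (LocalizedModule.map q.primeCompl v)
      (map_injective _ f hf) (map_exact _ f u hfu) (map_exact _ u v huv) (map_surjective _ v hv)
  · rw [← fibDepth_eq]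
    refine KollarFlat.two_le_depth_of_flat (A := Localization.AtPrime (q.comap (algebraMap A B)))
      (B := Localization.AtPrime q) (maximalIdeal (Localization.AtPrime q))
      (LocalizedModule.map q.primeCompl f) (LocalizedModule.map q.primeCompl u)
      (LocalizedModule.map q.primeCompl v)
      (map_injective _ f hf) (map_exact _ f u hfu) (map_exact _ u v huv) (map_surjective _ v hv)
      ?_ ?_
    · rw [fibDepth_eq]; exact h0
    · rw [fibDepth_eq]; exact h1

end Main

end Groth.Agent.Lib.Helper85.KollarLoc
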