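import Groth.Agent.Lib.Helper85.FibreBC
import Groth.Agent.Lib.Helper85.DDual
import Groth.Agent.Lib.Helper85.KollarLoc
import Groth.Agent.S18707
import Groth.Agent.S18709

set_option autoImplicit false
universe u
open TensorProduct

namespace Groth.Agent.Lib.Helper85.KollarBC

section Flat
open RingTheory.Sequence
variable {R : Type u} [CommRing R] (M : Type u) [AddCommGroup M] [Module R M] [Module.Flat R M]

/-- a sequence weakly regular on `R` is weakly regular on every flat module -/
theorem isWeaklyRegular_of_flat {rs : List R} (h : IsWeaklyRegular R rs) : IsWeaklyRegular M rs := by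
  refine ⟨fun i hi => ?_⟩
  have h1 := h.regular_mod_prev i hi
  have h2 : IsSMulRegular (M ⊗[R] (R ⧸ (Ideal.ofList (rs.take i) • ⊤ : Submodule R R))) rs[i] :=
    IsSMulRegular.lTensor M h1
  have e0 : (Ideal.ofList (rs.take i) • ⊤ : Submodule R R) = Ideal.ofList (rs.take i) := by
    rw [smul_eq_mul, Ideal.mul_top]
  have e1 : (R ⧸ (Ideal.ofList (rs.take i) • ⊤ : Submodule R R)) ≃ₗ[R]
      (R ⧸ Ideal.ofList (rs.take i)) := Submodule.quotEquivOfEq _ _ e0
  have e : M ⊗[R] (R ⧸ (Ideal.ofList (rs.take i) • ⊤ : Submodule R R)) ≃ₗ[R]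
      M ⧸ (Ideal.ofList (rs.take i) • ⊤ : Submodule R M) :=
    (TensorProduct.congr (LinearEquiv.refl R M) e1) ≪≫ₗ
      TensorProduct.tensorQuotEquivQuotSMul M (Ideal.ofList (rs.take i))
  exact (e.isSMulRegular_congr _).mp h2

theorem le_idealDepth_of_flat (I : Ideal R) (n : ℕ) (h : (n : ℕ∞) ≤ LocCoh.idealDepth I R) :
    (n : ℕ∞) ≤ LocCoh.idealDepth I M := by
  rw [Groth.Agent.Lib.Helper67.le_idealDepth_iff] at h ⊢
  rcases h with h | ⟨rs, hlen, hreg, hmem⟩
  · left
    have hI : I = ⊤ := by
      rw [smul_eq_mul, Ideal.mul_top] at h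
      exact h
    rw [hI, Submodule.top_smul]
  · exact Or.inr ⟨rs, hlen, isWeaklyRegular_of_flat M hreg, hmem⟩

/-- `M / I M` is flat over `R / I` -/
theorem flat_quotient (I : Ideal R) : Module.Flat (R ⧸ I) (M ⧸ (I • ⊤ : Submodule R M)) := by
  let e : ((R ⧸ I) ⊗[R] M) ≃ₗ[R ⧸ I] M ⧸ (I • ⊤ : Submodule R M) :=
    LinearEquiv.extendScalarsOfSurjective (Ideal.Quotient.mk_surjective (I := I))
      (TensorProduct.quotTensorEquivQuotSMul M I)
  exact Module.Flat.of_linearEquiv e.symm

end Flat

section Fib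
variable (A B : Type u) [CommRing A] [CommRing B] [Algebra A B] (q : Ideal B) [q.IsPrime]
  (E : Type u) [AddCommGroup E] [Module B E] [Module.Flat B E]

instance flat_loc : Module.Flat (Localization.AtPrime q) (LocalizedModule q.primeCompl E) :=
  Module.Flat.of_isLocalizedModule (Localization.AtPrime q) q.primeCompl
    (LocalizedModule.mkLinearMap q.primeCompl E)

theorem le_fibreDepth_of_flat (n : ℕ)
    (h : (n : ℕ∞) ≤ LocCoh.idealDepth (q.map (algebraMap B (EGA4.FibLocRing A B q)))
      (EGA4.FibLocRing A B q)) :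
    (n : ℕ∞) ≤ LocCoh.idealDepth (q.map (algebraMap B (EGA4.FibLocRing A B q)))
      (EGA4.FibLocMod A B q E) := by
  have := flat_quotient (R := Localization.AtPrime q) (LocalizedModule q.primeCompl E)
    ((q.comap (algebraMap A B)).map (algebraMap A (Localization.AtPrime q)))
  exact le_idealDepth_of_flat (R := EGA4.FibLocRing A B q) (EGA4.FibLocMod A B q E) _ n h

end Fib

section FlatAll
open Groth.Agent.Lib.Helper85.KollarLoc
variable (A B : Type u) [CommRing A] [CommRing B] [IsNoetherianRing A] [IsNoetherianRing B]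
  [Algebra A B] (J : Ideal B)
  {F E0 E1 G : Type u} [AddCommGroup F] [Module B F] [Module A F] [IsScalarTower A B F]
  [Module.Finite B F]
  [AddCommGroup E0] [Module B E0] [Module A E0] [IsScalarTower A B E0] [Module.Finite B E0]
  [Module.Flat A E0]
  [AddCommGroup E1] [Module B E1] [Module A E1] [IsScalarTower A B E1] [Module.Finite B E1]
  [Module.Flat A E1]
  [AddCommGroup G] [Module B G] [Module A G] [IsScalarTower A B G] [Module.Finite B G]
  (f : F →ₗ[B] E0) (u : E0 →ₗ[B] E1) (v : E1 →ₗ[B] G)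
  (hf : Function.Injective f) (hfu : Function.Exact f u) (huv : Function.Exact u v)
  (hv : Function.Surjective v)

include hf hfu huv hv in
/-- Kollár: if the fibre stalks of `F` and `E⁰` have depth `≥ 2` along `V(J)` and `G` is flat off
`V(J)`, then `G` is flat over `A`. -/
theorem flat_of_fibre_depth_all
    (hGU : ∀ q : PrimeSpectrum B, ¬ J ≤ q.asIdeal → FlatCA.FlatAt A q.asIdeal G)
    (h0 : ∀ q : PrimeSpectrum B, J ≤ q.asIdeal →
      2 ≤ LocCoh.idealDepth (q.asIdeal.map (algebraMap B (EGA4.FibLocRing A B q.asIdeal)))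
        (EGA4.FibLocMod A B q.asIdeal E0))
    (hF : ∀ q : PrimeSpectrum B, J ≤ q.asIdeal →
      2 ≤ LocCoh.idealDepth (q.asIdeal.map (algebraMap B (EGA4.FibLocRing A B q.asIdeal)))
        (EGA4.FibLocMod A B q.asIdeal F)) :
    Module.Flat A G := by
  have key : ∀ (k : ℕ) (q : PrimeSpectrum B), q.asIdeal.height = k →
      FlatCA.FlatAt A q.asIdeal G := by
    intro k
    induction k using Nat.strong_induction_on with
    | _ k ih =>
      intro q hk
      by_cases hJ : J ≤ q.asIdeal
      · refine flatAt_of_fibre_depth A B q.asIdeal f u v hf hfu huv hv ?_ (h0 q hJ) (hF q hJ)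
        intro q' hlt
        have hfin : q'.asIdeal.height < q.asIdeal.height :=
          Ideal.height_strict_mono_of_isPrime_of_isPrime hlt
        obtain ⟨m, hm⟩ := ENat.ne_top_iff_exists.mp
          (Ideal.height_ne_top_of_isPrime (I := q'.asIdeal))
        refine ih m ?_ q' hm.symm
        rw [← hm, hk] at hfin
        exact_mod_cast hfin
      · exact hGU q hJ
  have hall : ∀ q : PrimeSpectrum B, FlatCA.FlatAt A q.asIdeal G := by
    intro q
    obtain ⟨m, hm⟩ := ENat.ne_top_iff_exists.mp
      (Ideal.height_ne_top_of_isPrime (I := q.asIdeal))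
    exact key m q hm.symm
  refine Module.flat_of_isLocalized_maximal B G
    (fun P _ => LocalizedModule P.primeCompl G)
    (fun P _ => LocalizedModule.mkLinearMap P.primeCompl G) ?_
  intro P hP
  exact hall ⟨P, hP.isPrime⟩

end FlatAll

end Groth.Agent.Lib.Helper85.KollarBC
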