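import Groth.Agent.Lib.Helper85.FibreBC
import Groth.Agent.Lib.Helper85.DDual
import Groth.Agent.Lib.Helper85.KollarLoc
import Groth.Agent.Lib.Helper85.KollarBC0
import Groth.Agent.S18710

set_option autoImplicit false
set_option linter.style.haveILetI false
set_option linter.unusedSectionVars false
universe u
open TensorProduct

namespace Groth.Agent.Lib.Helper85.KollarBC

section BC
variable (A B A' B' : Type u) [CommRing A] [CommRing B] [CommRing A'] [CommRing B']
  [Algebra A B] [Algebra A A'] [Algebra B B'] [Algebra A' B'] [Algebra A B']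
  [IsScalarTower A B B'] [IsScalarTower A A' B'] [Algebra.IsPushout A B A' B']
  {X Y : Type u} [AddCommGroup X] [Module B X] [Module A X] [IsScalarTower A B X]
  [AddCommGroup Y] [Module B Y] [Module A Y] [IsScalarTower A B Y]

/-- `B' ⊗_B X ≅ A' ⊗_A X` -/
noncomputable def cbc (X : Type u) [AddCommGroup X] [Module B X] [Module A X]
    [IsScalarTower A B X] : B' ⊗[B] X ≃ₗ[A'] A' ⊗[A] X :=
  haveI : Algebra.IsPushout A A' B B' := Algebra.IsPushout.symm inferInstance
  Algebra.IsPushout.cancelBaseChange A A' B B' X

theorem cbc_symm_tmul (s : A') (x : X) :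
    (cbc A B A' B' X).symm (s ⊗ₜ x) = algebraMap A' B' s ⊗ₜ x := by
  haveI : Algebra.IsPushout A A' B B' := Algebra.IsPushout.symm inferInstance
  exact Algebra.IsPushout.cancelBaseChange_symm_tmul A A' B B' X s x

theorem baseChange_cbc_symm (g : X →ₗ[B] Y) (z : A' ⊗[A] X) :
    g.baseChange B' ((cbc A B A' B' X).symm z) =
      (cbc A B A' B' Y).symm ((g.restrictScalars A).lTensor A' z) := by
  induction z using TensorProduct.induction_on with
  | zero => simp
  | tmul s x => simp [cbc_symm_tmul]
  | add a b ha hb => simp only [map_add, ha, hb]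

theorem baseChange_injective_of (g : X →ₗ[B] Y)
    (h : Function.Injective ((g.restrictScalars A).lTensor A')) :
    Function.Injective (g.baseChange B') := by
  intro w w' hww
  have h1 := baseChange_cbc_symm A B A' B' g (cbc A B A' B' X w)
  have h2 := baseChange_cbc_symm A B A' B' g (cbc A B A' B' X w')
  rw [LinearEquiv.symm_apply_apply] at h1 h2
  rw [h1, h2] at hww
  have := h ((cbc A B A' B' Y).symm.injective hww)
  exact (cbc A B A' B' X).injective this

end BC

section Seq
variable (A B A' B' : Type u) [CommRing A] [CommRing B] [CommRing A'] [CommRing B']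
  [IsNoetherianRing B] [IsNoetherianRing B']
  [Algebra A B] [Algebra A A'] [Algebra B B'] [Algebra A' B'] [Algebra A B']
  [IsScalarTower A B B'] [IsScalarTower A A' B']
  {F E0 E1 G : Type u} [AddCommGroup F] [Module B F] [Module A F] [IsScalarTower A B F]
  [Module.Finite B F]
  [AddCommGroup E0] [Module B E0] [Module A E0] [IsScalarTower A B E0] [Module.Finite B E0]
  [AddCommGroup E1] [Module B E1] [Module A E1] [IsScalarTower A B E1] [Module.Finite B E1]
  [Module.Flat A E1]
  [AddCommGroup G] [Module B G] [Module A G] [IsScalarTower A B G] [Module.Finite B G]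
  (f : F →ₗ[B] E0) (u : E0 →ₗ[B] E1) (v : E1 →ₗ[B] G)
  (hf : Function.Injective f) (hfu : Function.Exact f u) (huv : Function.Exact u v)
  (hv : Function.Surjective v)

include hf hfu huv hv

/-- when `G` is `A`-flat, the base change of `0 → F → E⁰ → im u → 0` and of `im u ⊆ E¹` stay
exact/injective -/
theorem baseChange_facts [Algebra.IsPushout A B A' B'] [Module.Flat A G] :
    Function.Injective (f.baseChange B') ∧
      Function.Injective ((LinearMap.range u).subtype.baseChange B') ∧
      Function.Exact (f.baseChange B') (u.rangeRestrict.baseChange B') := by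
  have hex1 := KollarFlat.exact_rangeRestrict f u hfu
  have hex2 := KollarFlat.exact_subtype_range u v huv
  have hu' : Function.Surjective u.rangeRestrict := u.surjective_rangeRestrict
  have hι : Function.Injective (LinearMap.range u).subtype := Submodule.injective_subtype _
  have hIflat : Module.Flat A ↥(LinearMap.range u) :=
    Groth.Agent.Lib.Helper85.flat_of_exact_of_flat
      ((LinearMap.range u).subtype.restrictScalars A) (v.restrictScalars A) hι hv hex2
  have inj1 : Function.Injective ((LinearMap.range u).subtype.baseChange B') :=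
    baseChange_injective_of A B A' B' _
      (LinearMap.lTensor_injective_of_exact_of_flat (v.restrictScalars A) hv
        ((LinearMap.range u).subtype.restrictScalars A) hι hex2 A')
  have inj2 : Function.Injective (f.baseChange B') :=
    baseChange_injective_of A B A' B' _
      (LinearMap.lTensor_injective_of_exact_of_flat (u.rangeRestrict.restrictScalars A) hu'
        (f.restrictScalars A) hf hex1 A')
  refine ⟨inj2, inj1, ?_⟩
  have := lTensor_exact B' hex1 hu'
  exact this

/-- when `G` is `A`-flat, the base change of `0 → F → E⁰ → E¹` stays exact -/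
theorem baseChange_exact_of_flat [Algebra.IsPushout A B A' B'] [Module.Flat A G] :
    Function.Injective (f.baseChange B') ∧
      Function.Exact (f.baseChange B') (u.baseChange B') := by
  obtain ⟨inj2, inj1, hex'⟩ := baseChange_facts A B A' B' f u v hf hfu huv hv
  refine ⟨inj2, ?_⟩
  have hcomp : ∀ z, u.baseChange B' z =
      (LinearMap.range u).subtype.baseChange B' (u.rangeRestrict.baseChange B' z) := by
    intro z
    rw [← LinearMap.comp_apply, ← LinearMap.baseChange_comp]
    rfl
  intro z
  rw [← hex' z, hcomp z]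
  constructor
  · intro h
    apply inj1
    rw [h, map_zero]
  · intro h
    rw [h, map_zero]

/-- when `G` is `A`-flat and `depth_{J'} B' ≥ 2`: `depth_{J'} (B' ⊗ F) ≥ 2` -/
theorem two_le_idealDepth_baseChange [Algebra.IsPushout A B A' B'] [Module.Flat A G]
    [Module.Flat B E0] [Module.Flat B E1] (J' : Ideal B')
    (hB' : 2 ≤ LocCoh.idealDepth J' B') : 2 ≤ LocCoh.idealDepth J' (B' ⊗[B] F) := by
  obtain ⟨inj2, inj1, hex'⟩ := baseChange_facts A B A' B' f u v hf hfu huv hv
  have hE0 : 2 ≤ LocCoh.idealDepth J' (B' ⊗[B] E0) := by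
    have := le_idealDepth_of_flat (R := B') (B' ⊗[B] E0) J' 2 (by exact_mod_cast hB')
    exact_mod_cast this
  have hE1 : 1 ≤ LocCoh.idealDepth J' (B' ⊗[B] E1) := by
    have := le_idealDepth_of_flat (R := B') (B' ⊗[B] E1) J' 1
      (le_trans (by norm_num) hB')
    exact_mod_cast this
  have hI1 : 1 ≤ LocCoh.idealDepth J' (B' ⊗[B] ↥(LinearMap.range u)) := by
    obtain ⟨x, hxJ, hx⟩ := DDual.exists_regular_of_one_le_idealDepth J' (B' ⊗[B] E1) hE1
    refine (Groth.Agent.Lib.Helper67.one_le_idealDepth_iff J' _).mpr (Or.inr ⟨x, hxJ, ?_⟩)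
    exact hx.of_injective ((LinearMap.range u).subtype.baseChange B') inj1
  have hsurj : Function.Surjective (u.rangeRestrict.baseChange B') :=
    LinearMap.lTensor_surjective B' u.surjective_rangeRestrict
  have h4 := Groth.Agent.Lib.Helper67.idealDepth_left_ge J' (B' ⊗[B] F) (B' ⊗[B] E0)
    (B' ⊗[B] ↥(LinearMap.range u)) (f.baseChange B') (u.rangeRestrict.baseChange B')
    inj2 hsurj hex'
  refine le_trans (le_min hE0 ?_) h4
  calc (2 : ℕ∞) = 1 + 1 := by norm_num
    _ ≤ _ := by gcongr

end Seq

section Free
variable (B B' : Type u) [CommRing B] [CommRing B'] [Algebra B B'] (J : Ideal B)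
  (F : Type u) [AddCommGroup F] [Module B F]

/-- stalks of the base change are free off `V(JB')` -/
theorem free_baseChange_off
    (hFU : ∀ q : PrimeSpectrum B, ¬ J ≤ q.asIdeal →
      Module.Free (Localization.AtPrime q.asIdeal) (LocalizedModule q.asIdeal.primeCompl F))
    (q' : PrimeSpectrum B') (hq' : ¬ J.map (algebraMap B B') ≤ q'.asIdeal) :
    Module.Free (Localization.AtPrime q'.asIdeal)
      (LocalizedModule q'.asIdeal.primeCompl (B' ⊗[B] F)) := by
  set q : Ideal B := q'.asIdeal.comap (algebraMap B B') with hq
  have hlo : q'.asIdeal.LiesOver q := ⟨rfl⟩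
  let _ := Localization.AtPrime.algebraOfLiesOver q q'.asIdeal
  have hfree := hFU ⟨q, inferInstance⟩ (fun h => hq' (Ideal.map_le_iff_le_comap.mpr h))
  exact Module.Free.of_equiv (Groth.Agent.S18710.locTensorEquiv q'.asIdeal q F).symm

end Free

end Groth.Agent.Lib.Helper85.KollarBC
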