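import Groth.Agent.Lib.Helper85.KollarLoc
import Groth.Agent.Lib.Helper85.KollarBC0

set_option autoImplicit false
set_option linter.style.haveILetI false
set_option linter.unusedSectionVars false
universe u

namespace Groth.Agent.Lib.Helper85.KollarLoc

open IsLocalRing TensorProduct

section DepthJ

variable (A B : Type u) [CommRing A] [CommRing B] [IsNoetherianRing B] [Algebra A B]
  (q : Ideal B) [q.IsPrime]
  (X : Type u) [AddCommGroup X] [Module B X] [Module.Finite B X]

attribute [local instance] Localization.AtPrime.algebraOfLiesOver
attribute [local instance] liesOver_comap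

theorem fibDepthJ_eq (I : Ideal (Localization.AtPrime q)) :
    LocCoh.idealDepth I
      (EGA4.FibMod (Localization.AtPrime (q.comap (algebraMap A B))) (Localization.AtPrime q)
        (LocalizedModule q.primeCompl X)) =
    LocCoh.idealDepth (I.map (algebraMap (Localization.AtPrime q) (EGA4.FibLocRing A B q)))
      (EGA4.FibLocMod A B q X) := by
  have hNB : IsNoetherianRing (Localization.AtPrime q) :=
    IsLocalization.isNoetherianRing q.primeCompl _ inferInstance
  let e : EGA4.FibMod (Localization.AtPrime (q.comap (algebraMap A B))) (Localization.AtPrime q)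
      (LocalizedModule q.primeCompl X) ≃ₗ[Localization.AtPrime q] EGA4.FibLocMod A B q X :=
    Submodule.quotEquivOfEq _ _ (by rw [mB_eq])
  rw [Groth.Agent.Lib.Helper67.idealDepth_congr _ e]
  have hfin : Module.Finite (EGA4.FibLocRing A B q) (EGA4.FibLocMod A B q X) :=
    Module.Finite.of_restrictScalars_finite (Localization.AtPrime q) _ _
  rw [Groth.Agent.Lib.Helper67.idealDepth_eq_idealDepth_map_of_finite
    (A := Localization.AtPrime q) (B := EGA4.FibLocRing A B q) I
    (EGA4.FibLocMod A B q X)]

theorem fibDepthJ_eq' (J : Ideal B) :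
    LocCoh.idealDepth (J.map (algebraMap B (Localization.AtPrime q)))
      (EGA4.FibMod (Localization.AtPrime (q.comap (algebraMap A B))) (Localization.AtPrime q)
        (LocalizedModule q.primeCompl X)) =
    LocCoh.idealDepth (J.map (algebraMap B (EGA4.FibLocRing A B q)))
      (EGA4.FibLocMod A B q X) := by
  rw [fibDepthJ_eq, Ideal.map_map, ← IsScalarTower.algebraMap_eq]

end DepthJ

section MainJ

variable (A B : Type u) [CommRing A] [CommRing B] [IsNoetherianRing A] [IsNoetherianRing B]
  [Algebra A B] (q : Ideal B) [q.IsPrime]
  {F E0 E1 G : Type u} [AddCommGroup F] [Module B F] [Module A F] [IsScalarTower A B F]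
  [Module.Finite B F]
  [AddCommGroup E0] [Module B E0] [Module A E0] [IsScalarTower A B E0] [Module.Finite B E0]
  [Module.Flat A E0]
  [AddCommGroup E1] [Module B E1] [Module A E1] [IsScalarTower A B E1] [Module.Finite B E1]
  [Module.Flat A E1]
  [AddCommGroup G] [Module B G] [Module A G] [IsScalarTower A B G] [Module.Finite B G]
  (f : F →ₗ[B] E0) (u : E0 →ₗ[B] E1) (v : E1 →ₗ[B] G)
  (hf : Function.Injective f) (hfu : Function.Exact f u) (huv : Function.Exact u v)
  (hv : Function.Surjective v)

attribute [local instance] Localization.AtPrime.algebraOfLiesOver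
attribute [local instance] liesOver_comap

include hf hfu huv hv

theorem fibre_depthJ_of_flatAt (J : Ideal B)
    (hG : FlatCA.FlatAt A q G)
    (h0 : 2 ≤ LocCoh.idealDepth (J.map (algebraMap B (EGA4.FibLocRing A B q)))
      (EGA4.FibLocMod A B q E0))
    (h1 : 1 ≤ LocCoh.idealDepth (J.map (algebraMap B (EGA4.FibLocRing A B q)))
      (EGA4.FibLocMod A B q E1)) :
    2 ≤ LocCoh.idealDepth (J.map (algebraMap B (EGA4.FibLocRing A B q)))
        (EGA4.FibLocMod A B q F) := by
  unfold FlatCA.FlatAt at hG
  have hloc : IsLocalHom (algebraMap (Localization.AtPrime (q.comap (algebraMap A B)))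
      (Localization.AtPrime q)) :=
    Localization.isLocalHom_localRingHom (q.comap (algebraMap A B)) q (algebraMap A B) rfl
  have hNA : IsNoetherianRing (Localization.AtPrime (q.comap (algebraMap A B))) :=
    IsLocalization.isNoetherianRing (q.comap (algebraMap A B)).primeCompl _ inferInstance
  have hNB : IsNoetherianRing (Localization.AtPrime q) :=
    IsLocalization.isNoetherianRing q.primeCompl _ inferInstance
  letI mF := modP q (q.comap (algebraMap A B)) (LocalizedModule q.primeCompl F)
  letI mE0 := modP q (q.comap (algebraMap A B)) (LocalizedModule q.primeCompl E0)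
  letI mE1 := modP q (q.comap (algebraMap A B)) (LocalizedModule q.primeCompl E1)
  letI mG := modP q (q.comap (algebraMap A B)) (LocalizedModule q.primeCompl G)
  haveI := tower_pq q (q.comap (algebraMap A B)) (LocalizedModule q.primeCompl F)
  haveI := tower_pq q (q.comap (algebraMap A B)) (LocalizedModule q.primeCompl E0)
  haveI := tower_pq q (q.comap (algebraMap A B)) (LocalizedModule q.primeCompl E1)
  haveI := tower_pq q (q.comap (algebraMap A B)) (LocalizedModule q.primeCompl G)
  haveI : Module.Flat (Localization.AtPrime (q.comap (algebraMap A B)))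
      (LocalizedModule q.primeCompl E0) :=
    (flat_iff q (q.comap (algebraMap A B)) _).2
      (KollarFlat.flat_localizedModule (A := A) E0 q.primeCompl)
  haveI : Module.Flat (Localization.AtPrime (q.comap (algebraMap A B)))
      (LocalizedModule q.primeCompl E1) :=
    (flat_iff q (q.comap (algebraMap A B)) _).2
      (KollarFlat.flat_localizedModule (A := A) E1 q.primeCompl)
  haveI : Module.Flat (Localization.AtPrime (q.comap (algebraMap A B)))
      (LocalizedModule q.primeCompl G) :=
    (flat_iff q (q.comap (algebraMap A B)) _).2 hG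
  rw [← fibDepthJ_eq']
  refine KollarFlat.two_le_depth_of_flat (A := Localization.AtPrime (q.comap (algebraMap A B)))
    (B := Localization.AtPrime q) (J.map (algebraMap B (Localization.AtPrime q)))
    (LocalizedModule.map q.primeCompl f) (LocalizedModule.map q.primeCompl u)
    (LocalizedModule.map q.primeCompl v)
    (map_injective _ f hf) (map_exact _ f u hfu) (map_exact _ u v huv) (map_surjective _ v hv)
    ?_ ?_
  · rw [fibDepthJ_eq']; exact h0
  · rw [fibDepthJ_eq']; exact h1

end MainJ

end Groth.Agent.Lib.Helper85.KollarLoc
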