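import Groth.Agent.Lib.Helper85.KollarBC
import Groth.Agent.Lib.Helper85.KollarLocJ
import Groth.Agent.Lib.Helper85.FibreJ

set_option autoImplicit false
set_option linter.style.haveILetI false
set_option linter.unusedSectionVars false
universe u
open TensorProduct

namespace Groth.Agent.Lib.Helper85.KollarBC

section Proj
variable {R : Type u} [CommRing R] {M N P : Type u} [AddCommGroup M] [Module R M]
  [AddCommGroup N] [Module R N] [AddCommGroup P] [Module R P]

/-- the kernel of a surjection of projective modules is projective -/
theorem projective_of_exact (f : M →ₗ[R] N) (g : N →ₗ[R] P) (hf : Function.Injective f)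
    (hg : Function.Surjective g) (hfg : Function.Exact f g) [Module.Projective R N]
    [Module.Projective R P] : Module.Projective R M := by
  obtain ⟨s, hs⟩ := Module.projective_lifting_property g LinearMap.id hg
  have h01 : (∃ l, g ∘ₗ l = LinearMap.id) ↔ (∃ l, l ∘ₗ f = LinearMap.id) :=
    (Function.Exact.split_tfae hfg hf hg).out 0 1
  obtain ⟨l, hl⟩ := h01.mp ⟨s, hs⟩
  exact Module.Projective.of_split f l hl

/-- kernel of `P0 → P1 → G → 0` with `P0, P1, G` projective is projective -/
theorem projective_ker_of_exact {P0 P1 G : Type u} [AddCommGroup P0] [Module R P0]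
    [AddCommGroup P1] [Module R P1] [AddCommGroup G] [Module R G]
    [Module.Projective R P0] [Module.Projective R P1] [Module.Projective R G]
    (ι : M →ₗ[R] P0) (u : P0 →ₗ[R] P1) (v : P1 →ₗ[R] G) (hι : Function.Injective ι)
    (hιu : Function.Exact ι u) (huv : Function.Exact u v) (hv : Function.Surjective v) :
    Module.Projective R M := by
  have h1 : Module.Projective R ↥(LinearMap.range u) :=
    projective_of_exact (LinearMap.range u).subtype v (Submodule.injective_subtype _) hv
      (KollarFlat.exact_subtype_range u v huv)
  exact projective_of_exact ι u.rangeRestrict hι u.surjective_rangeRestrict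
    (KollarFlat.exact_rangeRestrict ι u hιu)

end Proj

section KerRefl
variable {R : Type u} [CommRing R] [IsNoetherianRing R] (q : Ideal R) [q.IsPrime]
  {P0 P1 G : Type u} [AddCommGroup P0] [Module R P0] [Module.Finite R P0] [Module.Projective R P0]
  [AddCommGroup P1] [Module R P1] [Module.Finite R P1] [Module.Projective R P1]
  [AddCommGroup G] [Module R G]

/-- the stalk of the kernel of `P0 → P1 → G → 0` is reflexive where `G` is locally free -/
theorem isReflexive_localizedModule_ker (u : P0 →ₗ[R] P1) (v : P1 →ₗ[R] G)
    (huv : Function.Exact u v) (hv : Function.Surjective v)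
    [Module.Free (Localization.AtPrime q) (LocalizedModule q.primeCompl G)] :
    Module.IsReflexive (Localization.AtPrime q)
      (LocalizedModule q.primeCompl (LinearMap.ker u)) := by
  have hproj : Module.Projective (Localization.AtPrime q)
      (LocalizedModule q.primeCompl (LinearMap.ker u)) :=
    projective_ker_of_exact (LocalizedModule.map q.primeCompl (LinearMap.ker u).subtype)
      (LocalizedModule.map q.primeCompl u) (LocalizedModule.map q.primeCompl v)
      (KollarLoc.map_injective _ _ (Submodule.injective_subtype _))
      (KollarLoc.map_exact _ _ _ (LinearMap.exact_subtype_ker_map u))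
      (KollarLoc.map_exact _ _ _ huv) (KollarLoc.map_surjective _ _ hv)
  infer_instance

end KerRefl

section FibI
variable (A B : Type u) [CommRing A] [CommRing B] [Algebra A B] (q : Ideal B) [q.IsPrime]
  (E : Type u) [AddCommGroup E] [Module B E] [Module.Flat B E]

theorem le_fibreDepthI_of_flat (I : Ideal (EGA4.FibLocRing A B q)) (n : ℕ)
    (h : (n : ℕ∞) ≤ LocCoh.idealDepth I (EGA4.FibLocRing A B q)) :
    (n : ℕ∞) ≤ LocCoh.idealDepth I (EGA4.FibLocMod A B q E) := by
  have := flat_quotient (R := Localization.AtPrime q) (LocalizedModule q.primeCompl E)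
    ((q.comap (algebraMap A B)).map (algebraMap A (Localization.AtPrime q)))
  exact le_idealDepth_of_flat (R := EGA4.FibLocRing A B q) (EGA4.FibLocMod A B q E) _ n h

end FibI

section Mono
variable {R : Type u} [CommRing R]

theorem le_idealDepth_of_le {I I' : Ideal R} (h : I ≤ I') (M : Type u) [AddCommGroup M] [Module R M]
    (d : ℕ∞) (hd : d ≤ LocCoh.idealDepth I M) : d ≤ LocCoh.idealDepth I' M := by
  by_cases htop : I' • (⊤ : Submodule R M) = ⊤
  · rw [Groth.Agent.Lib.Helper67.idealDepth_eq_top_of_smul_top_eq_top I' M htop]
    exact le_top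
  · exact le_trans hd (Groth.Agent.Lib.Helper67.idealDepth_mono h M htop)

end Mono

end Groth.Agent.Lib.Helper85.KollarBC
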