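import Mathlib
import Groth.Prelude.Def_CAlg
import Groth.Prelude.Def_EGA4b
import Groth.Agent.Lib.Helper6.LocalFlat3
import Groth.Agent.Lib.Helper85.Reflexive
import Groth.Agent.Lib.Helper67.Depth

/-!
# Kollár's flatness criterion (affine-local form)

`A → B` a local homomorphism of Noetherian local rings, `M` a finite `B`-module, flat over `A`
off `V(J)`, with `depth_J (M / m_A M) ≥ 1`.  Then `M` is flat over `A`.
-/

set_option autoImplicit false
universe u

namespace Groth.Agent.Lib.Helper85.KollarFlat

open TensorProduct IsLocalRing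

section Loc

variable {A B : Type u} [CommRing A] [CommRing B] [Algebra A B]
  {M : Type u} [AddCommGroup M] [Module B M] [Module A M] [IsScalarTower A B M]

/-- elements of the kernel of `M ⊗ j` die at primes where `M` is flat -/
theorem exists_smul_eq_zero_of_flat (q : Ideal B) [q.IsPrime]
    (hq : Module.Flat A (LocalizedModule q.primeCompl M))
    {V W : Type u} [AddCommGroup V] [Module A V] [AddCommGroup W] [Module A W]
    (j : V →ₗ[A] W) (hj : Function.Injective j) (z : M ⊗[A] V) (hz : j.lTensor M z = 0) :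
    ∃ s : B, s ∉ q ∧ s • z = 0 := by
  have h1 : (AlgebraTensorModule.rTensor A V (LocalizedModule.mkLinearMap q.primeCompl M)) z = 0 := by
    apply Module.Flat.lTensor_preserves_injective_linearMap
      (M := LocalizedModule q.primeCompl M) j hj
    rw [map_zero]
    have h2 : (j.lTensor (LocalizedModule q.primeCompl M))
        ((((LocalizedModule.mkLinearMap q.primeCompl M).restrictScalars A).rTensor V) z) =
        (((LocalizedModule.mkLinearMap q.primeCompl M).restrictScalars A).rTensor W)
          (j.lTensor M z) := by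
      rw [← LinearMap.comp_apply, ← LinearMap.comp_apply, LinearMap.lTensor_comp_rTensor,
        LinearMap.rTensor_comp_lTensor]
    rw [hz, map_zero] at h2
    exact h2
  obtain ⟨s, hs⟩ := (IsLocalizedModule.eq_zero_iff q.primeCompl
    (AlgebraTensorModule.rTensor A V (LocalizedModule.mkLinearMap q.primeCompl M))).mp h1
  exact ⟨s, s.2, hs⟩

variable [IsNoetherianRing B]

/-- if `M` is flat off `V(J)`, the kernel of `M ⊗ j` is killed by a power of `J` -/
theorem exists_pow_smul_eq_zero (J : Ideal B)
    (hU : ∀ q : PrimeSpectrum B, ¬ J ≤ q.asIdeal →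
      Module.Flat A (LocalizedModule q.asIdeal.primeCompl M))
    {V W : Type u} [AddCommGroup V] [Module A V] [AddCommGroup W] [Module A W]
    (j : V →ₗ[A] W) (hj : Function.Injective j) (z : M ⊗[A] V) (hz : j.lTensor M z = 0) :
    ∃ n : ℕ, ∀ b ∈ J ^ n, b • z = 0 := by
  obtain ⟨n, hn⟩ := Groth.Agent.Lib.Helper85.Reflexive.exists_pow_le_of_forall_prime J
    (LinearMap.ker (LinearMap.toSpanSingleton B (M ⊗[A] V) z)) (by
      intro P hP hJP
      by_contra hJ
      obtain ⟨s, hs, hsz⟩ := exists_smul_eq_zero_of_flat P (hU ⟨P, hP⟩ hJ) j hj z hz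
      apply hs
      apply hJP
      rw [LinearMap.mem_ker, LinearMap.toSpanSingleton_apply]
      exact hsz)
  refine ⟨n, fun b hb => ?_⟩
  have := hn hb
  rw [LinearMap.mem_ker, LinearMap.toSpanSingleton_apply] at this
  exact this

end Loc

section Reg

variable {A B : Type u} [CommRing A] [CommRing B] [IsLocalRing A] [Algebra A B]
  (M : Type u) [AddCommGroup M] [Module B M] [Module A M] [IsScalarTower A B M]

theorem mem_smul_top_iff (y : M) :
    y ∈ (maximalIdeal A • ⊤ : Submodule A M) ↔ y ∈ (EGA4.mB A B • ⊤ : Submodule B M) := by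
  have h := Ideal.smul_restrictScalars (maximalIdeal A) (⊤ : Submodule B M)
  rw [Submodule.restrictScalars_top] at h
  rw [← h]
  rfl

/-- a regular element on the closed fibre is regular on `(A/m) ⊗ M` -/
theorem lTensor_residue_injective (x : B) (hx : IsSMulRegular (EGA4.FibMod A B M) x) :
    Function.Injective (LinearMap.lTensor (A ⧸ maximalIdeal A) (Algebra.lsmul (A := B) A A M x)) := by
  rw [injective_iff_map_eq_zero]
  intro t ht
  obtain ⟨y, rfl⟩ := TensorProduct.mk_surjective A M (A ⧸ maximalIdeal A)
    Ideal.Quotient.mk_surjective t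
  rw [TensorProduct.mk_apply, LinearMap.lTensor_tmul] at ht
  have h1 : x • y ∈ LinearMap.ker (TensorProduct.mk A (A ⧸ maximalIdeal A) M 1) := by
    rw [LinearMap.mem_ker, TensorProduct.mk_apply]
    exact ht
  rw [LinearMap.ker_tensorProductMk, mem_smul_top_iff (B := B)] at h1
  have h2 : x • (Submodule.Quotient.mk y : EGA4.FibMod A B M) = 0 := by
    rw [← Submodule.Quotient.mk_smul, Submodule.Quotient.mk_eq_zero]
    exact h1
  have h3 : (Submodule.Quotient.mk y : EGA4.FibMod A B M) = 0 := by
    apply hx
    change x • (Submodule.Quotient.mk y : EGA4.FibMod A B M) = x • 0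
    rw [h2, smul_zero]
  rw [Submodule.Quotient.mk_eq_zero, ← mem_smul_top_iff (A := A)] at h3
  have h4 : y ∈ LinearMap.ker (TensorProduct.mk A (A ⧸ maximalIdeal A) M 1) := by
    rw [LinearMap.ker_tensorProductMk]
    exact h3
  exact h4

/-- a regular element on the closed fibre is regular on `M ⊗ V` for every `A/m`-vector space `V` -/
theorem isSMulRegular_tensor (x : B) (hx : IsSMulRegular (EGA4.FibMod A B M) x)
    (V : Type u) [AddCommGroup V] [Module A V] [Module (A ⧸ maximalIdeal A) V]
    [IsScalarTower A (A ⧸ maximalIdeal A) V] : IsSMulRegular (M ⊗[A] V) x := by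
  have h1 := Groth.Agent.Lib.Helper6.LocalFlat.lTensor_injective_of_field
    (Algebra.lsmul (A := B) A A M x) (maximalIdeal A) (lTensor_residue_injective M x hx) V
  rw [LinearMap.lTensor_inj_iff_rTensor_inj] at h1
  exact h1

end Reg

section Main

variable {A B : Type u} [CommRing A] [CommRing B] [IsNoetherianRing B] [IsLocalRing A]
  [Algebra A B]
  {M : Type u} [AddCommGroup M] [Module B M] [Module A M] [IsScalarTower A B M]
  (J : Ideal B)
  (hU : ∀ q : PrimeSpectrum B, ¬ J ≤ q.asIdeal →
    Module.Flat A (LocalizedModule q.asIdeal.primeCompl M))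
  (x : B) (hxJ : x ∈ J) (hx : IsSMulRegular (EGA4.FibMod A B M) x)

include hU hxJ hx

/-- Key lemma: `M ⊗ j` is injective for injective `j : V → W` with `V` killed by `m`. -/
theorem lTensor_injective_of_torsion
    {V W : Type u} [AddCommGroup V] [Module A V] [AddCommGroup W] [Module A W]
    [Module (A ⧸ maximalIdeal A) V] [IsScalarTower A (A ⧸ maximalIdeal A) V]
    (j : V →ₗ[A] W) (hj : Function.Injective j) : Function.Injective (j.lTensor M) := by
  rw [injective_iff_map_eq_zero]
  intro z hz
  obtain ⟨n, hn⟩ := exists_pow_smul_eq_zero J hU j hj z hz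
  have h1 := hn (x ^ n) (Ideal.pow_mem_pow hxJ n)
  have h2 : IsSMulRegular (M ⊗[A] V) (x ^ n) := (isSMulRegular_tensor M x hx V).pow n
  apply h2
  change x ^ n • z = x ^ n • 0
  rw [h1, smul_zero]

/-- one step of the filtration argument -/
theorem step {P : Type u} [AddCommGroup P] [Module A P] (ι : P →ₗ[A] A)
    (hι : Function.Injective ι) (w : M ⊗[A] P) (hw : ι.lTensor M w = 0) :
    w ∈ LinearMap.range ((maximalIdeal A • ⊤ : Submodule A P).subtype.lTensor M) := by
  set Q : Submodule A P := maximalIdeal A • ⊤ with hQ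
  let j : (P ⧸ Q) →ₗ[A] (A ⧸ Q.map ι) := Submodule.mapQ Q (Q.map ι) ι (Submodule.le_comap_map ι Q)
  have hj : Function.Injective j := by
    rw [injective_iff_map_eq_zero]
    intro v hv
    obtain ⟨p, rfl⟩ := Submodule.Quotient.mk_surjective _ v
    rw [Submodule.mapQ_apply, Submodule.Quotient.mk_eq_zero] at hv
    obtain ⟨p', hp', hpp'⟩ := hv
    rw [Submodule.Quotient.mk_eq_zero, ← hι hpp']
    exact hp'
  have hcomp : j ∘ₗ Q.mkQ = (Q.map ι).mkQ ∘ₗ ι := by
    ext p
    rfl
  have h1 : j.lTensor M (Q.mkQ.lTensor M w) = 0 := by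
    rw [← LinearMap.comp_apply, ← LinearMap.lTensor_comp, hcomp, LinearMap.lTensor_comp,
      LinearMap.comp_apply, hw, map_zero]
  have h2 : Q.mkQ.lTensor M w = 0 :=
    lTensor_injective_of_torsion J hU x hxJ hx j hj (h1.trans (map_zero _).symm)
  exact (lTensor_exact M (LinearMap.exact_subtype_mkQ Q) (Submodule.mkQ_surjective Q) w).mp h2

/-- one step of the filtration argument, inside `m` -/
theorem step2 (F : Submodule A ↥(maximalIdeal A)) (w : M ⊗[A] ↥F)
    (hz : (maximalIdeal A).subtype.lTensor M (F.subtype.lTensor M w) = 0) :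
    F.subtype.lTensor M w ∈ LinearMap.range ((maximalIdeal A • F).subtype.lTensor M) := by
  have hw : ((maximalIdeal A).subtype ∘ₗ F.subtype).lTensor M w = 0 := by
    rw [LinearMap.lTensor_comp, LinearMap.comp_apply]
    exact hz
  obtain ⟨w', hw'⟩ := step J hU x hxJ hx ((maximalIdeal A).subtype ∘ₗ F.subtype)
    ((Submodule.injective_subtype _).comp (Submodule.injective_subtype _)) w hw
  have hmem : ∀ c : ↥(maximalIdeal A • ⊤ : Submodule A ↥F),
      (F.subtype ∘ₗ (maximalIdeal A • ⊤ : Submodule A ↥F).subtype) c ∈ maximalIdeal A • F := by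
    have h0 : ∀ y : ↥F, y ∈ (maximalIdeal A • ⊤ : Submodule A ↥F) →
        (y : ↥(maximalIdeal A)) ∈ maximalIdeal A • F := by
      intro y hy
      refine Submodule.smul_induction_on hy ?_ ?_
      · intro a ha v _
        exact Submodule.smul_mem_smul ha v.2
      · intro a b ha hb
        exact add_mem ha hb
    intro c
    exact h0 c.1 c.2
  have hθ : (maximalIdeal A • F).subtype ∘ₗ
      LinearMap.codRestrict (maximalIdeal A • F)
        (F.subtype ∘ₗ (maximalIdeal A • ⊤ : Submodule A ↥F).subtype) hmem =
      F.subtype ∘ₗ (maximalIdeal A • ⊤ : Submodule A ↥F).subtype :=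
    LinearMap.subtype_comp_codRestrict _ _ _
  refine ⟨(LinearMap.codRestrict (maximalIdeal A • F)
        (F.subtype ∘ₗ (maximalIdeal A • ⊤ : Submodule A ↥F).subtype) hmem).lTensor M w', ?_⟩
  rw [← LinearMap.comp_apply, ← LinearMap.lTensor_comp, hθ, LinearMap.lTensor_comp,
    LinearMap.comp_apply, hw']

/-- elements of the kernel of `M ⊗ m → M ⊗ A` lift along the whole `m`-adic filtration of `m` -/
theorem mem_range_of_ker (z : M ⊗[A] ↥(maximalIdeal A))
    (hz : (maximalIdeal A).subtype.lTensor M z = 0) (n : ℕ) :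
    z ∈ LinearMap.range
      (((maximalIdeal A) ^ n • ⊤ : Submodule A ↥(maximalIdeal A)).subtype.lTensor M) := by
  induction n with
  | zero =>
    have hs : Function.Surjective
        ((maximalIdeal A) ^ 0 • ⊤ : Submodule A ↥(maximalIdeal A)).subtype := by
      intro y
      refine ⟨⟨y, ?_⟩, rfl⟩
      rw [pow_zero, Ideal.one_eq_top, Submodule.top_smul]
      trivial
    exact LinearMap.mem_range.mpr (LinearMap.lTensor_surjective M hs z)
  | succ n ih =>
    obtain ⟨w, rfl⟩ := ih
    have e : maximalIdeal A • ((maximalIdeal A) ^ n • ⊤ : Submodule A ↥(maximalIdeal A)) =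
        (maximalIdeal A) ^ (n + 1) • ⊤ := by
      rw [← Submodule.mul_smul, ← pow_succ']
    rw [← e]
    exact step2 J hU x hxJ hx _ w hz

variable [IsNoetherianRing A] [IsLocalRing B] [IsLocalHom (algebraMap A B)] [Module.Finite B M]

theorem rTensor_subtype_injective :
    Function.Injective (LinearMap.rTensor M (maximalIdeal A).subtype) := by
  rw [← LinearMap.lTensor_inj_iff_rTensor_inj, injective_iff_map_eq_zero]
  intro z hz
  have key : ∀ n : ℕ, z ∈ ((maximalIdeal A) ^ n • ⊤ :
      Submodule A (M ⊗[A] ↥(maximalIdeal A))) := by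
    intro n
    obtain ⟨y, rfl⟩ := mem_range_of_ker J hU x hxJ hx z hz n
    exact Groth.Agent.Lib.Helper6.LocalFlat.range_lTensor_le_smul (maximalIdeal A) _ n le_rfl y
  have : Module.Finite B (M ⊗[A] ↥(maximalIdeal A)) :=
    Groth.Agent.Lib.Helper6.LocalFlat.finite_tensor_of_finite A B M _
  have hIS : (maximalIdeal A).map (algebraMap A B) ≤ Ideal.jacobson ⊥ :=
    le_trans (IsLocalRing.map_maximalIdeal_le (algebraMap A B))
      (IsLocalRing.maximalIdeal_le_jacobson ⊥)
  have hmem : z ∈ (⨅ n : ℕ, ((maximalIdeal A).map (algebraMap A B)) ^ n • ⊤ :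
      Submodule B (M ⊗[A] ↥(maximalIdeal A))) := by
    rw [Submodule.mem_iInf]
    intro n
    exact Groth.Agent.Lib.Helper6.LocalFlat.smul_top_le_map_smul_top (S := B)
      (maximalIdeal A) n z (key n)
  rw [Ideal.iInf_pow_smul_eq_bot_of_le_jacobson _ hIS] at hmem
  exact (Submodule.mem_bot B).mp hmem

/-- Kollár's flatness criterion, with a given regular element. -/
theorem flat_of_regular : Module.Flat A M := by
  letI : Field (A ⧸ maximalIdeal A) := Ideal.Quotient.field _
  exact Groth.Agent.Lib.Helper6.LocalFlat.flat_of_isLocalHom (S := B) (maximalIdeal A)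
    Ideal.IsPrime.ne_top' (rTensor_subtype_injective J hU x hxJ hx) inferInstance

end Main

section Final

variable {A B : Type u} [CommRing A] [CommRing B] [IsNoetherianRing A] [IsNoetherianRing B]
  [IsLocalRing A] [IsLocalRing B] [Algebra A B] [IsLocalHom (algebraMap A B)]
  {M : Type u} [AddCommGroup M] [Module B M] [Module A M] [IsScalarTower A B M]
  [Module.Finite B M]

omit [IsNoetherianRing A] [IsNoetherianRing B] [Module A M] [IsScalarTower A B M] in
/-- Nakayama: if the closed fibre vanishes, so does the module -/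
theorem subsingleton_of_fibMod (h : Subsingleton (EGA4.FibMod A B M)) : Subsingleton M := by
  have h1 : EGA4.mB A B • (⊤ : Submodule B M) = ⊤ := Submodule.Quotient.subsingleton_iff.mp h
  have hle : EGA4.mB A B ≤ Ideal.jacobson ⊥ :=
    le_trans (IsLocalRing.map_maximalIdeal_le (algebraMap A B))
      (IsLocalRing.maximalIdeal_le_jacobson ⊥)
  have h2 := Submodule.eq_bot_of_le_smul_of_le_jacobson_bot (EGA4.mB A B)
    (⊤ : Submodule B M) Module.Finite.fg_top h1.ge hle
  exact (Submodule.subsingleton_iff B).mp (subsingleton_of_bot_eq_top h2.symm)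

omit [IsNoetherianRing A] [IsNoetherianRing B] [Module A M] [IsScalarTower A B M] in
/-- a positive-depth hypothesis on the nonzero closed fibre yields a regular element in `J` -/
theorem exists_regular_of_depth (J : Ideal B) [Nontrivial (EGA4.FibMod A B M)]
    (h1 : 1 ≤ LocCoh.idealDepth J (EGA4.FibMod A B M)) :
    ∃ x ∈ J, IsSMulRegular (EGA4.FibMod A B M) x := by
  rcases (Groth.Agent.Lib.Helper67.one_le_idealDepth_iff J _).mp h1 with h | h
  · have hJ : J = ⊤ := by
      by_contra hJ
      have hle : J ≤ maximalIdeal B := IsLocalRing.le_maximalIdeal hJ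
      have := Submodule.eq_bot_of_le_smul_of_le_jacobson_bot J
        (⊤ : Submodule B (EGA4.FibMod A B M)) Module.Finite.fg_top h.ge
        (hle.trans (IsLocalRing.maximalIdeal_le_jacobson ⊥))
      exact top_ne_bot this
    exact ⟨1, hJ ▸ Submodule.mem_top, IsSMulRegular.one _⟩
  · exact h

/-- **Kollár's flatness criterion** (affine-local form): a finite `B`-module flat over `A` off
`V(J)` whose closed fibre has `J`-depth at least one is flat over `A`. -/
theorem flat_of_depth (J : Ideal B)
    (hU : ∀ q : PrimeSpectrum B, ¬ J ≤ q.asIdeal →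
      Module.Flat A (LocalizedModule q.asIdeal.primeCompl M))
    (h1 : 1 ≤ LocCoh.idealDepth J (EGA4.FibMod A B M)) : Module.Flat A M := by
  by_cases hsub : Subsingleton (EGA4.FibMod A B M)
  · have := subsingleton_of_fibMod (A := A) (B := B) (M := M) hsub
    infer_instance
  · rw [not_subsingleton_iff_nontrivial] at hsub
    obtain ⟨x, hxJ, hx⟩ := exists_regular_of_depth J h1
    exact flat_of_regular J hU x hxJ hx

end Final

end Groth.Agent.Lib.Helper85.KollarFlat
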