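import Groth.Agent.Lib.Helper85.KollarFlat
import Groth.Agent.Lib.Helper85.MatlisEnd
import Groth.Agent.Lib.Helper67.Depth2

/-!
# Depth of infinitesimal neighbourhoods of the closed fibre of a flat module
-/

set_option autoImplicit false
universe u

namespace Groth.Agent.Lib.Helper85.KollarFlat

open TensorProduct IsLocalRing

section Quot

variable {A : Type u} (B : Type u) [CommRing A] [CommRing B] [Algebra A B]
  (M : Type u) [AddCommGroup M] [Module B M] [Module A M] [IsScalarTower A B M]

theorem mem_smul_top_iff' (I : Ideal A) (y : M) :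
    y ∈ (I • ⊤ : Submodule A M) ↔ y ∈ (I.map (algebraMap A B) • ⊤ : Submodule B M) := by
  have h := Ideal.smul_restrictScalars I (⊤ : Submodule B M)
  rw [Submodule.restrictScalars_top] at h
  rw [← h]
  rfl

/-- `y ↦ y ⊗ 1`, as a `B`-linear map -/
noncomputable def mkOne (I : Ideal A) : M →ₗ[B] M ⊗[A] (A ⧸ I) where
  toFun y := y ⊗ₜ[A] (1 : A ⧸ I)
  map_add' a b := TensorProduct.add_tmul a b 1
  map_smul' b y := (TensorProduct.smul_tmul' b y 1).symm

theorem mkOne_apply (I : Ideal A) (y : M) : mkOne B M I y = y ⊗ₜ[A] (1 : A ⧸ I) := rfl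

theorem mkOne_eq_comm (I : Ideal A) (y : M) :
    mkOne B M I y = (TensorProduct.comm A (A ⧸ I) M) (TensorProduct.mk A (A ⧸ I) M 1 y) := rfl

theorem mkOne_surjective (I : Ideal A) : Function.Surjective (mkOne B M I) := by
  intro t
  obtain ⟨y, hy⟩ := TensorProduct.mk_surjective A M (A ⧸ I) Ideal.Quotient.mk_surjective
    ((TensorProduct.comm A (A ⧸ I) M).symm t)
  refine ⟨y, ?_⟩
  rw [mkOne_eq_comm, hy, LinearEquiv.apply_symm_apply]

theorem ker_mkOne (I : Ideal A) :
    LinearMap.ker (mkOne B M I) = (I.map (algebraMap A B) • ⊤ : Submodule B M) := by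
  ext y
  rw [LinearMap.mem_ker, mkOne_eq_comm, LinearEquiv.map_eq_zero_iff, ← mem_smul_top_iff' B M I y]
  have := LinearMap.ker_tensorProductMk (R := A) (Q := M) (I := I)
  rw [← this, LinearMap.mem_ker]

/-- `M ⊗_A A/I ≅ M / I M`, `B`-linearly -/
noncomputable def tensorQuotEquiv (I : Ideal A) :
    M ⊗[A] (A ⧸ I) ≃ₗ[B] M ⧸ (I.map (algebraMap A B) • ⊤ : Submodule B M) :=
  ((Submodule.quotEquivOfEq _ _ (ker_mkOne B M I)).symm ≪≫ₗ
    (mkOne B M I).quotKerEquivOfSurjective (mkOne_surjective B M I)).symm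

end Quot

section Depth

variable {A B : Type u} [CommRing A] [CommRing B] [IsNoetherianRing A] [IsNoetherianRing B]
  [IsLocalRing A] [Algebra A B]
  (M : Type u) [AddCommGroup M] [Module B M] [Module A M] [IsScalarTower A B M]
  [Module.Finite B M]

/-- for `M` flat over `A`: `depth_J (M ⊗ N) ≥ depth_J (M / m M)` for `N` of finite length -/
theorem le_idealDepth_tensor [Module.Flat A M] (J : Ideal B) (d : ℕ∞)
    (hd : d ≤ LocCoh.idealDepth J (EGA4.FibMod A B M))
    (N : Type u) [AddCommGroup N] [Module A N] (hN : IsFiniteLength A N) :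
    d ≤ LocCoh.idealDepth J (M ⊗[A] N) := by
  induction hN with
  | @of_subsingleton N _ _ _ =>
    rw [Groth.Agent.Lib.Helper67.idealDepth_eq_top_of_smul_top_eq_top J _
      (Subsingleton.elim _ _)]
    exact le_top
  | @of_simple_quotient N _ _ N' hs h ih =>
    have hN : IsFiniteLength A N := .of_simple_quotient h
    have : IsNoetherian A N := (isFiniteLength_iff_isNoetherian_isArtinian.mp hN).1
    have : Module.Finite B (M ⊗[A] N) :=
      Groth.Agent.Lib.Helper6.LocalFlat.finite_tensor_of_finite A B M N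
    have : Module.Finite B (M ⊗[A] ↥N') :=
      Groth.Agent.Lib.Helper6.LocalFlat.finite_tensor_of_finite A B M ↥N'
    have : Module.Finite B (M ⊗[A] (N ⧸ N')) :=
      Groth.Agent.Lib.Helper6.LocalFlat.finite_tensor_of_finite A B M _
    have h1 : Function.Injective (AlgebraTensorModule.lTensor B M N'.subtype) :=
      Module.Flat.lTensor_preserves_injective_linearMap (M := M) N'.subtype
        (Submodule.injective_subtype _)
    have h2 : Function.Surjective (AlgebraTensorModule.lTensor B M N'.mkQ) :=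
      LinearMap.lTensor_surjective M (Submodule.mkQ_surjective _)
    have h3 : Function.Exact (AlgebraTensorModule.lTensor B M N'.subtype)
        (AlgebraTensorModule.lTensor B M N'.mkQ) :=
      lTensor_exact M (LinearMap.exact_subtype_mkQ N') (Submodule.mkQ_surjective _)
    have hmid := Groth.Agent.Lib.Helper67.idealDepth_mid_ge J (M ⊗[A] ↥N') (M ⊗[A] N)
      (M ⊗[A] (N ⧸ N')) _ _ h1 h2 h3
    refine le_trans (le_min ih ?_) hmid
    obtain ⟨I, hI, ⟨e⟩⟩ := isSimpleModule_iff_quot_maximal.mp hs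
    have hIm := IsLocalRing.eq_maximalIdeal hI
    subst hIm
    rw [Groth.Agent.Lib.Helper67.idealDepth_congr J
      (AlgebraTensorModule.congr (LinearEquiv.refl B M) e),
      Groth.Agent.Lib.Helper67.idealDepth_congr J (tensorQuotEquiv B M (maximalIdeal A))]
    exact hd

/-- for `M` flat over `A`: `depth_J (M / m^n M) ≥ depth_J (M / m M)` -/
theorem le_idealDepth_quot_pow [Module.Flat A M] (J : Ideal B) (d : ℕ∞)
    (hd : d ≤ LocCoh.idealDepth J (EGA4.FibMod A B M)) (n : ℕ) :
    d ≤ LocCoh.idealDepth J (M ⧸ ((EGA4.mB A B) ^ n • (⊤ : Submodule B M))) := by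
  have h1 := le_idealDepth_tensor M J d hd (A ⧸ maximalIdeal A ^ n)
    (Groth.Agent.Lib.Helper85.Matlis.isFiniteLength_quot_pow n)
  rw [Groth.Agent.Lib.Helper67.idealDepth_congr J (tensorQuotEquiv B M (maximalIdeal A ^ n))] at h1
  have e : (maximalIdeal A ^ n).map (algebraMap A B) = (EGA4.mB A B) ^ n := Ideal.map_pow _ _ _
  rw [e] at h1
  exact h1

end Depth

end Groth.Agent.Lib.Helper85.KollarFlat
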