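import Groth.Agent.Lib.Helper85.KollarFlat3
import Groth.Agent.Lib.Helper85.CanonStep
import Groth.Agent.Lib.Helper92.LocCohDepth
import Groth.Agent.Lib.Helper92.LocCohSeq
import Groth.Agent.Lib.Helper92.LocCohExtCrit

/-!
# Kollár's criterion via `H²_J` of the closed fibre (helper85)
-/

set_option autoImplicit false
universe u

namespace Groth.Agent.Lib.Helper85.KollarFlat4

open TensorProduct IsLocalRing CategoryTheory
open Groth.Agent.Lib.Helper92.LC Groth.Agent.Lib.Helper85.Canon

section Generic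

variable {R : Type u} [CommRing R] [IsNoetherianRing R] (J : Ideal R)

theorem isPowerTorsion_of_surjective {T T' : Type u} [AddCommGroup T] [Module R T]
    [AddCommGroup T'] [Module R T'] (g : T →ₗ[R] T') (hg : Function.Surjective g)
    (hT : LocCoh.IsPowerTorsion J T) : LocCoh.IsPowerTorsion J T' := by
  intro x
  obtain ⟨y, rfl⟩ := hg x
  obtain ⟨n, hn⟩ := hT y
  exact ⟨n, fun a ha => by rw [← map_smul, hn a ha, map_zero]⟩

theorem isPowerTorsion_of_subsingleton (T : Type u) [AddCommGroup T] [Module R T]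
    [Subsingleton T] : LocCoh.IsPowerTorsion J T :=
  fun _ => ⟨0, fun _ _ => Subsingleton.elim _ _⟩

/-- local cohomology of a zero module vanishes -/
theorem subsingleton_H_of_subsingleton (i : ℕ) (N : Type u) [AddCommGroup N] [Module R N]
    [Subsingleton N] : Subsingleton (LocCoh.H J i N) := by
  cases i with
  | zero =>
    refine ⟨fun y y' => γ_injective J (M := ModuleCat.of R N) (Subsingleton.elim (α := N) _ _)⟩
  | succ i => exact subsingleton_of_isPowerTorsion J i N (isPowerTorsion_of_subsingleton J N)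

/-- an element which dies at every prime off `V(J)` is killed by a power of `J` -/
theorem exists_pow_smul_eq_zero_of_forall_prime (N : Type u) [AddCommGroup N] [Module R N] (z : N)
    (hz : ∀ q : PrimeSpectrum R, ¬ J ≤ q.asIdeal → ∃ s : R, s ∉ q.asIdeal ∧ s • z = 0) :
    ∃ n : ℕ, ∀ a ∈ J ^ n, a • z = 0 := by
  obtain ⟨n, hn⟩ := Groth.Agent.Lib.Helper85.Reflexive.exists_pow_le_of_forall_prime J
    (LinearMap.ker (LinearMap.toSpanSingleton R N z)) (by
      intro P hP hJP
      by_contra hJ
      obtain ⟨s, hs, hsz⟩ := hz ⟨P, hP⟩ hJ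
      apply hs
      apply hJP
      rw [LinearMap.mem_ker, LinearMap.toSpanSingleton_apply]
      exact hsz)
  refine ⟨n, fun a ha => ?_⟩
  have := hn ha
  rw [LinearMap.mem_ker, LinearMap.toSpanSingleton_apply] at this
  exact this

/-- `H^i(E/K) = 0` from `H^i(E) = 0` and `H^{i+1}(K) = 0`. -/
theorem H_shift_left (i : ℕ) {K E : Type u} [AddCommGroup K] [Module R K] [AddCommGroup E]
    [Module R E] (e : K →ₗ[R] E) (he : Function.Injective e)
    (hE : Subsingleton (LocCoh.H J i E)) (hK : Subsingleton (LocCoh.H J (i + 1) K)) :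
    Subsingleton (LocCoh.H J i (E ⧸ LinearMap.range e)) := by
  have hS := sesOfInjective_shortExact e he
  refine ⟨fun z z' => ?_⟩
  suffices h0 : ∀ z : (localCohomology J i).obj (sesOfInjective e).X₃, z = 0 from
    (h0 z).trans (h0 z').symm
  intro z
  have hδ : δ J i hS z = 0 := by
    haveI : Subsingleton ((localCohomology J (i + 1)).obj (sesOfInjective e).X₁) := hK
    exact Subsingleton.elim _ _
  obtain ⟨y, rfl⟩ := exact₃ J i hS z hδ
  haveI : Subsingleton ((localCohomology J i).obj (sesOfInjective e).X₂) := hE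
  rw [Subsingleton.elim y 0, map_zero]

/-- `H^i(E) = 0` from `H^i(K) = 0` and `H^i(E/K) = 0`. -/
theorem H_middle (i : ℕ) {K E : Type u} [AddCommGroup K] [Module R K] [AddCommGroup E]
    [Module R E] (e : K →ₗ[R] E) (he : Function.Injective e)
    (hK : Subsingleton (LocCoh.H J i K))
    (hQ : Subsingleton (LocCoh.H J i (E ⧸ LinearMap.range e))) :
    Subsingleton (LocCoh.H J i E) := by
  have hS := sesOfInjective_shortExact e he
  refine ⟨fun z z' => ?_⟩
  suffices h0 : ∀ z : (localCohomology J i).obj (sesOfInjective e).X₂, z = 0 from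
    (h0 z).trans (h0 z').symm
  intro y
  have hg : Hmap J i (sesOfInjective e).g y = 0 := by
    haveI : Subsingleton ((localCohomology J i).obj (sesOfInjective e).X₃) := hQ
    exact Subsingleton.elim _ _
  obtain ⟨x, rfl⟩ := exact₂ J i hS y hg
  haveI : Subsingleton ((localCohomology J i).obj (sesOfInjective e).X₁) := hK
  rw [Subsingleton.elim x 0, map_zero]

theorem subsingleton_H_congr (i : ℕ) {N N' : Type u} [AddCommGroup N] [Module R N]
    [AddCommGroup N'] [Module R N'] (e : N ≃ₗ[R] N') (h : Subsingleton (LocCoh.H J i N)) :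
    Subsingleton (LocCoh.H J i N') :=
  (Hcongr J i e).symm.toEquiv.subsingleton

/-- comparison of `H^{i+1}` along a map with torsion kernel and cokernel -/
theorem cmp_succ (i : ℕ) {M N : Type u} [AddCommGroup M] [Module R M] [AddCommGroup N]
    [Module R N] (φ : M →ₗ[R] N)
    (hker : LocCoh.IsPowerTorsion J (LinearMap.ker φ))
    (hcoker : LocCoh.IsPowerTorsion J (N ⧸ LinearMap.range φ))
    (h : Subsingleton (LocCoh.H J (i + 1) M)) : Subsingleton (LocCoh.H J (i + 1) N) := by
  -- image
  have h3 : Subsingleton (LocCoh.H J (i + 1) (M ⧸ LinearMap.range (LinearMap.ker φ).subtype)) :=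
    H_shift_left J (i + 1) (LinearMap.ker φ).subtype (Submodule.injective_subtype _) h
      (subsingleton_of_isPowerTorsion J (i + 1) _ hker)
  have e : (M ⧸ LinearMap.range (LinearMap.ker φ).subtype) ≃ₗ[R] LinearMap.range φ :=
    (Submodule.quotEquivOfEq _ _ (Submodule.range_subtype _)).trans φ.quotKerEquivRange
  have h4 : Subsingleton (LocCoh.H J (i + 1) (LinearMap.range φ)) :=
    subsingleton_H_congr J (i + 1) e h3
  have hc : LocCoh.IsPowerTorsion J (N ⧸ LinearMap.range (LinearMap.range φ).subtype) :=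
    isPowerTorsion_of_surjective J
      (Submodule.quotEquivOfEq _ _ (Submodule.range_subtype (LinearMap.range φ)).symm).toLinearMap
      (LinearEquiv.surjective _) hcoker
  exact H_middle J (i + 1) (LinearMap.range φ).subtype (Submodule.injective_subtype _) h4
    (subsingleton_of_isPowerTorsion J i _ hc)

/-- `H^0 = 0` from positive depth (local ring) -/
theorem subsingleton_H0_of_depth {B : Type u} [CommRing B] [IsLocalRing B] [IsNoetherianRing B]
    (J : Ideal B) (N : Type u) [AddCommGroup N] [Module B N] [Module.Finite B N]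
    (h1 : 1 ≤ LocCoh.idealDepth J N) : Subsingleton (LocCoh.H J 0 N) := by
  by_cases hsub : Subsingleton N
  · exact subsingleton_H_of_subsingleton J 0 N
  rw [not_subsingleton_iff_nontrivial] at hsub
  obtain ⟨x, hxJ, hx⟩ := Groth.Agent.Lib.Helper85.KollarFlat.exists_regular_of_one_le_depth J N h1
  apply subsingleton_H0_of_torsionSub_eq_bot J (ModuleCat.of B N)
  rw [eq_bot_iff]
  rintro z ⟨n, hn⟩
  have h2 : x ^ n • z = 0 := hn _ (Ideal.pow_mem_pow hxJ n)
  have : z = 0 := by
    apply hx.pow n
    change x ^ n • z = x ^ n • 0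
    rw [h2, smul_zero]
  rw [this]; exact Submodule.zero_mem _

/-- `H^1 = 0` from depth at least two (local ring, proper ideal) -/
theorem subsingleton_H1_of_depth {B : Type u} [CommRing B] [IsLocalRing B] [IsNoetherianRing B]
    (J : Ideal B) (hJ : J ≠ ⊤) (N : Type u) [AddCommGroup N] [Module B N] [Module.Finite B N]
    (h2 : 2 ≤ LocCoh.idealDepth J N) : Subsingleton (LocCoh.H J 1 N) := by
  by_cases hJN : J • (⊤ : Submodule B N) = ⊤
  · have hle : J ≤ maximalIdeal B := IsLocalRing.le_maximalIdeal hJ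
    have := Submodule.eq_bot_of_le_smul_of_le_jacobson_bot J
      (⊤ : Submodule B N) Module.Finite.fg_top hJN.ge
      (hle.trans (IsLocalRing.maximalIdeal_le_jacobson ⊥))
    haveI : Subsingleton N := by
      refine ⟨fun a b => ?_⟩
      have ha : a ∈ (⊤ : Submodule B N) := Submodule.mem_top
      have hb : b ∈ (⊤ : Submodule B N) := Submodule.mem_top
      rw [this] at ha hb
      rw [(Submodule.mem_bot B).1 ha, (Submodule.mem_bot B).1 hb]
    exact subsingleton_H_of_subsingleton J 1 N
  · exact subsingleton_of_lt_idealDepth J 2 N hJN (by exact_mod_cast h2) 1 (by norm_num)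

/-- positive depth from `H^0 = 0` -/
theorem one_le_depth_of_H0 (N : Type u) [AddCommGroup N] [Module R N] [Module.Finite R N]
    (h : Subsingleton (LocCoh.H J 0 N)) : 1 ≤ LocCoh.idealDepth J N := by
  by_cases hJN : J • (⊤ : Submodule R N) = ⊤
  · exact (Groth.Agent.Lib.Helper67.one_le_idealDepth_iff J N).mpr (Or.inl hJN)
  · rw [ENat.one_le_iff_ne_zero]
    intro h0
    have := nontrivial_of_idealDepth_eq J 0 N hJN (by exact_mod_cast h0)
    exact not_subsingleton _ h

end Generic

section Seq

open Groth.Agent.Lib.Helper85.KollarFlat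

variable {A B : Type u} [CommRing A] [CommRing B] [IsNoetherianRing A] [IsNoetherianRing B]
  [IsLocalRing A] [IsLocalRing B] [Algebra A B] [IsLocalHom (algebraMap A B)] (J : Ideal B)
  {F E0 E1 G : Type u} [AddCommGroup F] [Module B F] [Module A F] [IsScalarTower A B F]
  [Module.Finite B F]
  [AddCommGroup E0] [Module B E0] [Module A E0] [IsScalarTower A B E0] [Module.Finite B E0]
  [Module.Flat A E0]
  [AddCommGroup E1] [Module B E1] [Module A E1] [IsScalarTower A B E1] [Module.Finite B E1]
  [Module.Flat A E1]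
  [AddCommGroup G] [Module B G] [Module A G] [IsScalarTower A B G] [Module.Finite B G]
  (f : F →ₗ[B] E0) (u : E0 →ₗ[B] E1) (v : E1 →ₗ[B] G)
  (hf : Function.Injective f) (hfu : Function.Exact f u) (huv : Function.Exact u v)
  (hv : Function.Surjective v)

include hf hfu huv hv

set_option maxHeartbeats 1000000 in
/-- if `H²_J` of the closed fibre of `F` vanishes then `G` is flat -/
theorem flat_of_H2
    (hGU : ∀ q : PrimeSpectrum B, ¬ J ≤ q.asIdeal →
      Module.Flat A (LocalizedModule q.asIdeal.primeCompl G))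
    (h0 : 2 ≤ LocCoh.idealDepth J (EGA4.FibMod A B E0))
    (h1 : 1 ≤ LocCoh.idealDepth J (EGA4.FibMod A B E1))
    (hH2 : Subsingleton (LocCoh.H J 2 (EGA4.FibMod A B F))) : Module.Flat A G := by
  -- the case `J = ⊤`
  by_cases hJ : J = ⊤
  · refine flat_of_depth J hGU ?_
    refine (Groth.Agent.Lib.Helper67.one_le_idealDepth_iff J _).mpr (Or.inl ?_)
    rw [hJ]
    exact Submodule.top_smul _
  set k := A ⧸ maximalIdeal A with hk
  have hex1 := exact_rangeRestrict f u hfu
  have hex2 := exact_subtype_range u v huv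
  have hu' : Function.Surjective u.rangeRestrict := u.surjective_rangeRestrict
  have hι : Function.Injective (LinearMap.range u).subtype := Submodule.injective_subtype _
  have hIq : ∀ q : PrimeSpectrum B, ¬ J ≤ q.asIdeal →
      Module.Flat A (LocalizedModule q.asIdeal.primeCompl ↥(LinearMap.range u)) :=
    fun q hq => flat_localizedModule_of_exact (LinearMap.range u).subtype v hι hex2 hv
      q.asIdeal (hGU q hq)
  haveI : Module.Finite B (F ⊗[A] k) :=
    Groth.Agent.Lib.Helper6.LocalFlat.finite_tensor_of_finite A B F _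
  haveI : Module.Finite B (E0 ⊗[A] k) :=
    Groth.Agent.Lib.Helper6.LocalFlat.finite_tensor_of_finite A B E0 _
  haveI : Module.Finite B (E1 ⊗[A] k) :=
    Groth.Agent.Lib.Helper6.LocalFlat.finite_tensor_of_finite A B E1 _
  haveI : Module.Finite B (G ⊗[A] k) :=
    Groth.Agent.Lib.Helper6.LocalFlat.finite_tensor_of_finite A B G _
  have hTE0 : 2 ≤ LocCoh.idealDepth J (E0 ⊗[A] k) := by
    rw [depth_fib_eq]; exact h0
  have hTE1 : 1 ≤ LocCoh.idealDepth J (E1 ⊗[A] k) := by
    rw [depth_fib_eq]; exact h1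
  have hHF : Subsingleton (LocCoh.H J 2 (F ⊗[A] k)) :=
    subsingleton_H_congr J 2 (tensorQuotEquiv B F (maximalIdeal A)).symm hH2
  -- the maps on the closed fibre
  set fb : F ⊗[A] k →ₗ[B] E0 ⊗[A] k := AlgebraTensorModule.rTensor A k f with hfb
  set ub : E0 ⊗[A] k →ₗ[B] E1 ⊗[A] k := AlgebraTensorModule.rTensor A k u with hub
  set vb : E1 ⊗[A] k →ₗ[B] G ⊗[A] k := AlgebraTensorModule.rTensor A k v with hvb
  set rb : E0 ⊗[A] k →ₗ[B] ↥(LinearMap.range u) ⊗[A] k :=
    AlgebraTensorModule.rTensor A k u.rangeRestrict with hrb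
  set ιb : ↥(LinearMap.range u) ⊗[A] k →ₗ[B] E1 ⊗[A] k :=
    AlgebraTensorModule.rTensor A k (LinearMap.range u).subtype with hιb
  have hvbs : Function.Surjective vb := rTensor_surjective_of v _ hv
  have hexuv : Function.Exact ub vb := rTensor_exact_of u v _ huv hv
  have hexfr : Function.Exact fb rb := rTensor_exact_of f u.rangeRestrict _ hex1 hu'
  have hcomp : ∀ z, ub z = ιb (rb z) := by
    intro z
    have h1 : u = (LinearMap.range u).subtype ∘ₗ u.rangeRestrict := by
      ext x; rfl
    have : ub = ιb ∘ₗ rb := by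
      rw [hub, hιb, hrb, ← AlgebraTensorModule.rTensor_comp]
      exact congrArg _ h1
    rw [this]; rfl
  have hubfb : ∀ z, ub (fb z) = 0 := by
    intro z
    rw [hcomp, (hexfr (fb z)).2 ⟨z, rfl⟩, map_zero]
  -- `K = ker ū` and the comparison map `φ : F̄ → K`
  set K := LinearMap.ker ub with hK
  let φ : F ⊗[A] k →ₗ[B] K := fb.codRestrict K (fun z => by
    rw [hK, LinearMap.mem_ker]; exact hubfb z)
  have hkerφ : LocCoh.IsPowerTorsion J (LinearMap.ker φ) := by
    rintro ⟨z, hz⟩
    have hz' : fb z = 0 := by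
      have := congrArg Subtype.val (LinearMap.mem_ker.1 hz)
      exact this
    have hz'' : (f.restrictScalars A).rTensor k z = 0 := by
      rw [← AlgebraTensorModule.coe_rTensor]
      exact hz'
    obtain ⟨n, hn⟩ := exists_pow_smul_eq_zero_of_forall_prime J (F ⊗[A] k) z (fun q hq =>
      exists_smul_eq_zero_of_flat_coker f u.rangeRestrict hf hex1 hu' q.asIdeal (hIq q hq) k z hz'')
    exact ⟨n, fun a ha => Subtype.ext (hn a ha)⟩
  have hcokerφ : LocCoh.IsPowerTorsion J (K ⧸ LinearMap.range φ) := by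
    intro x
    obtain ⟨⟨z, hz⟩, rfl⟩ := Submodule.Quotient.mk_surjective _ x
    have hz1 : ιb (rb z) = 0 := by
      rw [← hcomp]; exact LinearMap.mem_ker.1 hz
    have hz2 : ((LinearMap.range u).subtype.restrictScalars A).rTensor k (rb z) = 0 := by
      rw [← AlgebraTensorModule.coe_rTensor]
      exact hz1
    obtain ⟨n, hn⟩ := exists_pow_smul_eq_zero_of_forall_prime J _ (rb z) (fun q hq =>
      exists_smul_eq_zero_of_flat_coker (LinearMap.range u).subtype v hι hex2 hv q.asIdeal
        (hGU q hq) k (rb z) hz2)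
    refine ⟨n, fun a ha => ?_⟩
    rw [← Submodule.Quotient.mk_smul, Submodule.Quotient.mk_eq_zero]
    have h3 : rb (a • z) = 0 := by rw [map_smul, hn a ha]
    obtain ⟨w, hw⟩ := (hexfr (a • z)).1 h3
    exact ⟨w, Subtype.ext hw⟩
  have hHK : Subsingleton (LocCoh.H J 2 K) := cmp_succ J 1 φ hkerφ hcokerφ hHF
  -- first shift
  have hH1E0 : Subsingleton (LocCoh.H J 1 (E0 ⊗[A] k)) :=
    subsingleton_H1_of_depth J hJ _ hTE0
  have hQ1 : Subsingleton (LocCoh.H J 1 ((E0 ⊗[A] k) ⧸ LinearMap.range K.subtype)) :=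
    H_shift_left J 1 K.subtype (Submodule.injective_subtype _) hH1E0 hHK
  -- second shift
  have hle : LinearMap.range K.subtype ≤ LinearMap.ker ub := by
    rw [Submodule.range_subtype]
  let e2 : ((E0 ⊗[A] k) ⧸ LinearMap.range K.subtype) →ₗ[B] E1 ⊗[A] k :=
    Submodule.liftQ _ ub hle
  have he2 : Function.Injective e2 := by
    rw [← LinearMap.ker_eq_bot]
    apply Submodule.ker_liftQ_eq_bot
    rw [Submodule.range_subtype]
  have hH0E1 : Subsingleton (LocCoh.H J 0 (E1 ⊗[A] k)) := subsingleton_H0_of_depth J _ hTE1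
  have hQ2 : Subsingleton (LocCoh.H J 0 ((E1 ⊗[A] k) ⧸ LinearMap.range e2)) :=
    H_shift_left J 0 e2 he2 hH0E1 hQ1
  have hrange : LinearMap.range e2 = LinearMap.ker vb := by
    rw [Submodule.range_liftQ]
    exact (LinearMap.exact_iff.1 hexuv).symm
  have eG : ((E1 ⊗[A] k) ⧸ LinearMap.range e2) ≃ₗ[B] G ⊗[A] k :=
    (Submodule.quotEquivOfEq _ _ hrange).trans (vb.quotKerEquivOfSurjective hvbs)
  have hG0 : Subsingleton (LocCoh.H J 0 (G ⊗[A] k)) := subsingleton_H_congr J 0 eG hQ2
  have hdG : 1 ≤ LocCoh.idealDepth J (G ⊗[A] k) := one_le_depth_of_H0 J _ hG0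
  rw [depth_fib_eq] at hdG
  exact flat_of_depth J hGU hdG

end Seq

end Groth.Agent.Lib.Helper85.KollarFlat4
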