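import Groth.Agent.Lib.Helper85.GorLoc
import Groth.Agent.Lib.Helper98.CechRestrict

/-!
# Identifying `M_p` over `A_p` with the localization of `M` over a ring `R'` surjecting onto `A`
-/

set_option autoImplicit false
set_option linter.style.haveILetI false

namespace Groth.Agent.Lib.Helper85.ExtLoc

open CategoryTheory Abelian IsLocalRing

universe u

section Ident2

variable {R' A : Type u} [CommRing R'] [CommRing A] [Algebra R' A]
  (hg : Function.Surjective (algebraMap R' A)) (p : Ideal A) [p.IsPrime]

include hg in
theorem algebraMapSubmonoid_primeCompl :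
    Algebra.algebraMapSubmonoid A (p.comap (algebraMap R' A)).primeCompl = p.primeCompl := by
  ext t
  constructor
  · rintro ⟨s, hs, rfl⟩
    exact hs
  · intro ht
    obtain ⟨s, rfl⟩ := hg t
    exact ⟨s, ht, rfl⟩

variable (M : Type u) [AddCommGroup M] [Module A M] [Module R' M] [IsScalarTower R' A M]

include hg in
theorem isLocalizedModule_restrict :
    IsLocalizedModule (p.comap (algebraMap R' A)).primeCompl
      ((LocalizedModule.mkLinearMap p.primeCompl M).restrictScalars R') := by
  haveI : IsLocalizedModule (Algebra.algebraMapSubmonoid A (p.comap (algebraMap R' A)).primeCompl)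
      (LocalizedModule.mkLinearMap p.primeCompl M) := by
    rw [algebraMapSubmonoid_primeCompl hg p]
    infer_instance
  exact IsLocalizedModule.restrictScalars (p.comap (algebraMap R' A)).primeCompl
    (LocalizedModule.mkLinearMap p.primeCompl M)


variable [IsNoetherianRing R'] [IsNoetherianRing A]

include hg in
/-- local cohomology of `M_p` over `A_p` and of `M_P` over `R'_P` vanish simultaneously -/
theorem subsingleton_H_loc_iff (j : ℕ) :
    Subsingleton (LocCoh.H (maximalIdeal (Localization.AtPrime (p.comap (algebraMap R' A)))) j
        ((ModuleCat.of R' M).localizedModule (p.comap (algebraMap R' A)).primeCompl)) ↔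
      Subsingleton (LocCoh.H (maximalIdeal (Localization.AtPrime p)) j
        (LocalizedModule p.primeCompl M)) := by
  -- (a)
  obtain ⟨φa, -⟩ := Helper98.CechRestrict.lc_restrict (R := R')
    (R' := Localization.AtPrime (p.comap (algebraMap R' A))) (p.comap (algebraMap R' A))
    ((ModuleCat.of R' M).localizedModule (p.comap (algebraMap R' A)).primeCompl) j
  rw [Localization.AtPrime.map_eq_maximalIdeal] at φa
  -- (b)
  obtain ⟨φb, -⟩ := Helper98.CechRestrict.lc_restrict (R := A)
    (R' := Localization.AtPrime p) p (LocalizedModule p.primeCompl M) j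
  rw [Localization.AtPrime.map_eq_maximalIdeal] at φb
  -- (c)
  obtain ⟨φc, -⟩ := Helper98.CechRestrict.lc_restrict (R := R')
    (R' := A) (p.comap (algebraMap R' A)) (LocalizedModule p.primeCompl M) j
  rw [Ideal.map_comap_of_surjective _ hg] at φc
  -- (d)
  haveI := isLocalizedModule_restrict hg p M
  haveI := ModuleCat.localizedModule_isLocalizedModule (ModuleCat.of R' M)
    (p.comap (algebraMap R' A)).primeCompl
  let e : ((ModuleCat.of R' M).localizedModule (p.comap (algebraMap R' A)).primeCompl) ≃ₗ[R']
      LocalizedModule p.primeCompl M :=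
    IsLocalizedModule.linearEquiv (p.comap (algebraMap R' A)).primeCompl
      ((ModuleCat.of R' M).localizedModuleMkLinearMap (p.comap (algebraMap R' A)).primeCompl)
      ((LocalizedModule.mkLinearMap p.primeCompl M).restrictScalars R')
  let φd := ((localCohomology (p.comap (algebraMap R' A)) j).mapIso
    e.toModuleIso).toLinearEquiv.toEquiv
  rw [φa.toEquiv.subsingleton_congr, φd.subsingleton_congr, ← φc.toEquiv.subsingleton_congr,
    ← φb.toEquiv.subsingleton_congr]

end Ident2

end Groth.Agent.Lib.Helper85.ExtLoc
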