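import Mathlib
import Groth.Prelude.Def_W4bk4grossh111Obs

set_option autoImplicit false
set_option linter.style.haveILetI false
set_option linter.unusedSectionVars false
universe u
open CategoryTheory CategoryTheory.Limits MonoidalCategory CartesianMonoidalCategory MonObj
  AlgebraicGeometry Opposite TopologicalSpace
open scoped TensorProduct

namespace Groth.Agent.Lib.Helper85.ObsTfaeT4

variable {k : Type u} [Field k]

section
variable {M₁ M₂ : Type u} [AddCommGroup M₁] [Module k M₁] [AddCommGroup M₂] [Module k M₂]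

/-- `B ⊗ (M₁ × M₂) ≃ (B ⊗ M₁) × (B ⊗ M₂)` -/
noncomputable abbrev P (M₁ M₂ : Type u) [AddCommGroup M₁] [Module k M₁] [AddCommGroup M₂]
    [Module k M₂] (B : Type u) [CommRing B] [Algebra k B] :
    B ⊗[k] (M₁ × M₂) ≃ₗ[B] (B ⊗[k] M₁) × (B ⊗[k] M₂) :=
  TensorProduct.prodRight k B B M₁ M₂

theorem P_Wmap {B B' : Type u} [CommRing B] [Algebra k B] [CommRing B'] [Algebra k B']
    (φ : B →ₐ[k] B') (x : B ⊗[k] (M₁ × M₂)) :
    P (k := k) M₁ M₂ B' (VecGrp.Wmap φ x) =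
      (VecGrp.Wmap φ (P (k := k) M₁ M₂ B x).1, VecGrp.Wmap φ (P (k := k) M₁ M₂ B x).2) := by
  induction x using TensorProduct.induction_on with
  | zero => simp only [map_zero]; rfl
  | tmul b m =>
    obtain ⟨m₁, m₂⟩ := m
    rw [VecGrp.Wmap_tmul]
    simp only [P, TensorProduct.prodRight_tmul, VecGrp.Wmap_tmul]
  | add x y hx hy => simp only [map_add, hx, hy, Prod.fst_add, Prod.snd_add, Prod.mk_add_mk]

end

/-- T4 : product of two G-modules -/
theorem exists_gmod_prod (G : Over (Spec (CommRingCat.of k))) [GrpObj G]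
    {M₁ M₂ : Type u} [AddCommGroup M₁] [Module k M₁] [AddCommGroup M₂] [Module k M₂]
    (ρ₁ : VecGrp.GMod G M₁) (ρ₂ : VecGrp.GMod G M₂) :
    ∃ ρ : VecGrp.GMod G (M₁ × M₂), ∀ (g : VecGrp.pt k k ⟶ G) (m₁ : M₁) (m₂ : M₂),
      ρ.ρ k g ((1 : k) ⊗ₜ[k] (m₁, m₂)) = (1 : k) ⊗ₜ[k] (m₁, m₂) ↔
        (ρ₁.ρ k g ((1 : k) ⊗ₜ[k] m₁) = (1 : k) ⊗ₜ[k] m₁ ∧
         ρ₂.ρ k g ((1 : k) ⊗ₜ[k] m₂) = (1 : k) ⊗ₜ[k] m₂) := by
  let R : ∀ (B : Type u) [CommRing B] [Algebra k B], (VecGrp.pt k B ⟶ G) →*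
      (VecGrp.W k (M₁ × M₂) B ≃ₗ[B] VecGrp.W k (M₁ × M₂) B) := fun B _ _ =>
    { toFun := fun g => (P (k := k) M₁ M₂ B).trans
        ((LinearEquiv.prodCongr (ρ₁.ρ B g) (ρ₂.ρ B g)).trans (P (k := k) M₁ M₂ B).symm)
      map_one' := by
        apply LinearEquiv.ext
        intro x
        change (P (k := k) M₁ M₂ B).symm (LinearEquiv.prodCongr (ρ₁.ρ B 1) (ρ₂.ρ B 1)
          (P (k := k) M₁ M₂ B x)) = x
        rw [map_one, map_one]
        change (P (k := k) M₁ M₂ B).symm ((P (k := k) M₁ M₂ B x).1, (P (k := k) M₁ M₂ B x).2) = x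
        rw [Prod.mk.eta, LinearEquiv.symm_apply_apply]
      map_mul' := fun g h => by
        apply LinearEquiv.ext
        intro x
        change (P (k := k) M₁ M₂ B).symm (LinearEquiv.prodCongr (ρ₁.ρ B (g * h)) (ρ₂.ρ B (g * h))
          (P (k := k) M₁ M₂ B x)) =
          (P (k := k) M₁ M₂ B).symm (LinearEquiv.prodCongr (ρ₁.ρ B g) (ρ₂.ρ B g)
            (P (k := k) M₁ M₂ B ((P (k := k) M₁ M₂ B).symm
              (LinearEquiv.prodCongr (ρ₁.ρ B h) (ρ₂.ρ B h) (P (k := k) M₁ M₂ B x)))))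
        rw [LinearEquiv.apply_symm_apply, map_mul, map_mul]
        rfl }
  have hR : ∀ (B : Type u) [CommRing B] [Algebra k B] (g : VecGrp.pt k B ⟶ G)
      (x : B ⊗[k] (M₁ × M₂)), P (k := k) M₁ M₂ B (R B g x) =
        (ρ₁.ρ B g (P (k := k) M₁ M₂ B x).1, ρ₂.ρ B g (P (k := k) M₁ M₂ B x).2) := by
    intro B _ _ g x
    change P (k := k) M₁ M₂ B ((P (k := k) M₁ M₂ B).symm _) = _
    rw [LinearEquiv.apply_symm_apply]
    rfl
  refine ⟨⟨R, ?_⟩, ?_⟩
  · intro B B' _ _ _ _ φ g x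
    apply (P (k := k) M₁ M₂ B').injective
    rw [P_Wmap, hR, hR, P_Wmap, ρ₁.naturality, ρ₂.naturality]
  · intro g m₁ m₂
    change R k g _ = _ ↔ _
    rw [← (P (k := k) M₁ M₂ k).injective.eq_iff, hR]
    simp only [P, TensorProduct.prodRight_tmul, Prod.mk.injEq]

end Groth.Agent.Lib.Helper85.ObsTfaeT4
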