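import Mathlib
import Groth.Prelude.Def_W4bk4grossh111Obs
import Groth.Agent.Lib.Helper85.ObsHull
import Groth.Agent.Lib.Helper19.Grp.AntiAffineRep
import Groth.Agent.Lib.Helper19.Grp.GModMatrix

set_option autoImplicit false
set_option linter.style.haveILetI false
set_option linter.unusedSectionVars false
universe u
open CategoryTheory CategoryTheory.Limits MonoidalCategory CartesianMonoidalCategory MonObj
  AlgebraicGeometry Opposite TopologicalSpace
open scoped TensorProduct
open Groth.Agent.Lib.Helper19.AffinePts Groth.Agent.Lib.Helper19.Kunneth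
  Groth.Agent.Lib.Helper85.ObsHull Groth.Agent.Lib.Helper19.GModMatrix
  Groth.Agent.Lib.Helper19.AntiAffineRep

namespace Groth.Agent.Lib.Helper85.ObsTfaeT5

variable {k : Type u} [Field k]

/-- functions on the rational point are constants -/
theorem pt_const (r : Γ((VecGrp.pt k k).left, ⊤)) :
    r = algebraMap k Γ((VecGrp.pt k k).left, ⊤)
      ((Scheme.ΓSpecIso (CommRingCat.of k)).hom.hom r) := by
  rw [algebraMap_eq]
  unfold str
  have h2 := Scheme.ΓSpecIso_naturality (CommRingCat.ofHom (algebraMap k k))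
  have h3 : (VecGrp.pt k k).hom.appTop =
      (Scheme.ΓSpecIso (CommRingCat.of k)).hom ≫ CommRingCat.ofHom (algebraMap k k) ≫
        (Scheme.ΓSpecIso (CommRingCat.of k)).inv := by
    rw [← Category.assoc, ← h2, Category.assoc, Iso.hom_inv_id, Category.comp_id]
    rfl
  rw [h3]
  simp only [CommRingCat.hom_comp, RingHom.comp_apply, Iso.inv_hom_id_assoc]
  change r = (Scheme.ΓSpecIso (CommRingCat.of k)).inv.hom
    ((Scheme.ΓSpecIso (CommRingCat.of k)).hom.hom r)
  have := congrArg (fun φ => φ.hom r) (Scheme.ΓSpecIso (CommRingCat.of k)).hom_inv_id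
  simp only [CommRingCat.hom_comp, RingHom.comp_apply, CommRingCat.hom_id, RingHom.id_apply] at this
  exact this.symm

/-- the structure morphism `G ⟶ pt` -/
noncomputable def toPt (G : Over (Spec (CommRingCat.of k))) : G ⟶ VecGrp.pt k k :=
  Over.homMk G.hom (by
    change G.hom ≫ Spec.map (CommRingCat.ofHom (RingHom.id k)) = G.hom
    rw [show CommRingCat.ofHom (RingHom.id k) = 𝟙 _ from rfl, Spec.map_id, Category.comp_id])

variable (G : Over (Spec (CommRingCat.of k))) [GrpObj G]

theorem pb_snd_comp (g : VecGrp.pt k k ⟶ G) (r : Γ(G.left, ⊤)) :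
    pb (snd G (VecGrp.pt k k) ≫ g) r =
      algebraMap k Γ((G ⊗ VecGrp.pt k k).left, ⊤) (ev G g r) := by
  rw [pb_comp, pt_const (pb g r), AlgHom.commutes]
  rfl

theorem whisker_mul (g : VecGrp.pt k k ⟶ G) :
    (G ◁ g) ≫ μ[G] = fst G (VecGrp.pt k k) * (snd G (VecGrp.pt k k) ≫ g) := by
  rw [Hom.mul_def]
  congr 1

theorem exists_gmod_stab [CompactSpace G.left] [QuasiSeparatedSpace G.left] (f : Γ(G.left, ⊤)) :
    ∃ (J : Type u) (_ : Fintype J) (ρ : VecGrp.GMod G (J → k)) (v : J → k),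
      ∀ g : VecGrp.pt k k ⟶ G,
        ρ.ρ k g ((1 : k) ⊗ₜ[k] v) = (1 : k) ⊗ₜ[k] v ↔ AGF.IsRTransInv g f := by
  classical
  obtain ⟨J, hJ, hJ', a, c, hli, hf, ha, hmul, hone⟩ := exists_matrix_rep G f
  obtain ⟨lam, hlam⟩ := (Submodule.mem_span_range_iff_exists_fun k).mp hf
  refine ⟨J, hJ, gmod G c hmul hone, lam, fun g => ?_⟩
  have he : e (J := J) k ((1 : k) ⊗ₜ[k] lam) = lam := by
    ext j
    simp [e]
  have hL : (gmod G c hmul hone).ρ k g ((1 : k) ⊗ₜ[k] lam) = (1 : k) ⊗ₜ[k] lam ↔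
      (mat G c k g).mulVec lam = lam := by
    constructor
    · intro h
      have h1 := congrArg (e (J := J) k) h
      rw [show (gmod G c hmul hone).ρ k g ((1 : k) ⊗ₜ[k] lam) =
        F G c k g ((1 : k) ⊗ₜ[k] lam) from rfl, e_F, he] at h1
      exact h1
    · intro h
      apply (e (J := J) k).injective
      rw [show (gmod G c hmul hone).ρ k g ((1 : k) ⊗ₜ[k] lam) =
        F G c k g ((1 : k) ⊗ₜ[k] lam) from rfl, e_F, he, h]
  rw [hL]
  have h1 : ∀ j, pb ((G ◁ g) ≫ μ[G]) (a j) =
      pb (fst G (VecGrp.pt k k)) (∑ i, mat G c k g i j • a i) := by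
    intro j
    rw [whisker_mul, ha, map_sum]
    refine Finset.sum_congr rfl fun i _ => ?_
    rw [pb_snd_comp, map_smul, Algebra.smul_def, mul_comm]
    rfl
  have h2 : pb ((G ◁ g) ≫ μ[G]) f =
      pb (fst G (VecGrp.pt k k)) (∑ i, (mat G c k g).mulVec lam i • a i) := by
    have h0 : (∑ i, (mat G c k g).mulVec lam i • a i) =
        ∑ x, lam x • ∑ i, mat G c k g i x • a i := by
      simp only [Finset.smul_sum, Matrix.mulVec, dotProduct, Finset.sum_smul, smul_smul]
      rw [Finset.sum_comm]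
      refine Finset.sum_congr rfl fun i _ => Finset.sum_congr rfl fun j _ => ?_
      rw [mul_comm]
    rw [h0, ← hlam]
    simp only [map_sum, map_smul, h1]
  have hiff : AGF.IsRTransInv g f ↔
      pb ((G ◁ g) ≫ μ[G]) f = pb (fst G (VecGrp.pt k k)) f := Iff.rfl
  rw [hiff, h2]
  constructor
  · intro h
    rw [h, hlam]
  · intro h
    let σ : G ⟶ G ⊗ VecGrp.pt k k := lift (𝟙 G) (toPt G)
    have hσ : σ ≫ fst G (VecGrp.pt k k) = 𝟙 G := lift_fst _ _
    have h3 := congrArg (pb σ) h
    rw [← pb_comp, ← pb_comp, hσ, pb_id, pb_id, ← hlam] at h3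
    have h4 : ∑ i, ((mat G c k g).mulVec lam i - lam i) • a i = 0 := by
      simp only [sub_smul, Finset.sum_sub_distrib]
      rw [h3, sub_self]
    have h5 := Fintype.linearIndependent_iff.mp hli _ h4
    ext i
    exact sub_eq_zero.mp (h5 i)

end Groth.Agent.Lib.Helper85.ObsTfaeT5
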