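import Mathlib
import Groth.Prelude.Def_W4bk4grossh111Obs
import Groth.Agent.Lib.Helper85.ObsHull

set_option autoImplicit false
universe u
open CategoryTheory CategoryTheory.Limits MonoidalCategory CartesianMonoidalCategory MonObj
  AlgebraicGeometry Opposite TopologicalSpace
open scoped TensorProduct
open Groth.Agent.Lib.Helper19.AffinePts Groth.Agent.Lib.Helper85.ObsHull

namespace Groth.Agent.Lib.Helper85.ObsTfaeT6

variable {k : Type u} [Field k]

/-- evaluating a right-translation-invariant function: `f(g) = f(1)` -/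
theorem appTop_eq_of_isRTransInv (G : Over (Spec (CommRingCat.of k))) [GrpObj G]
    (g : VecGrp.pt k k ⟶ G) (f : Γ(G.left, ⊤)) (hf : AGF.IsRTransInv g f) :
    (1 : VecGrp.pt k k ⟶ G).left.appTop f = g.left.appTop f := by
  let z : VecGrp.pt k k ⟶ G ⊗ VecGrp.pt k k := lift 1 (𝟙 _)
  have hwh : G ◁ g = lift (fst G (VecGrp.pt k k)) (snd G (VecGrp.pt k k) ≫ g) := by
    ext <;> simp
  have hz1 : z ≫ ((G ◁ g) ≫ μ[G]) = g := by
    rw [hwh, ← Category.assoc, comp_lift, lift_fst, ← Category.assoc, lift_snd,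
      Category.id_comp, ← Hom.mul_def, _root_.one_mul]
  have hz2 : z ≫ fst G (VecGrp.pt k k) = 1 := lift_fst _ _
  have h4 := congrArg (fun r => z.left.appTop r) hf
  simp only at h4
  have key : ∀ {X Y Z : Over (Spec (CommRingCat.of k))} (x : X ⟶ Y) (y : Y ⟶ Z) (r : Γ(Z.left, ⊤)),
      (x ≫ y).left.appTop r = x.left.appTop (y.left.appTop r) := by
    intro X Y Z x y r
    simp only [Over.comp_left, Scheme.Hom.comp_appTop]
    rfl
  have e1 : z.left.appTop (((G ◁ g) ≫ μ[G]).left.appTop f) = g.left.appTop f := by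
    rw [← key, hz1]
  have e2 : z.left.appTop ((fst G (VecGrp.pt k k)).left.appTop f) =
      (1 : VecGrp.pt k k ⟶ G).left.appTop f := by
    rw [← key, hz2]
  rw [← e1, ← e2, h4]

/-- T6 : (iii) ⇒ (i) -/
theorem observable_of_sep (G H : Over (Spec (CommRingCat.of k))) [GrpObj G] [GrpObj H]
    (i : H ⟶ G) (s : Finset Γ(G.left, ⊤)) (hs : ∀ f ∈ s, AGF.IsRTransInv i f)
    (hsep : ∀ g g' : VecGrp.pt k k ⟶ G, (∀ f ∈ s, g.left.appTop f = g'.left.appTop f) →
          ∃ h : VecGrp.pt k k ⟶ H, g' = g * (h ≫ i)) :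
    AGF.IsObservableIn k i := by
  intro g hg
  obtain ⟨h, hh⟩ := hsep 1 g (fun f hf => appTop_eq_of_isRTransInv G g f (hg f (hs f hf)))
  exact ⟨h, by rw [hh, _root_.one_mul]⟩

end Groth.Agent.Lib.Helper85.ObsTfaeT6
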