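import Mathlib
import Groth.Prelude.Def_W4bk4grossh111Obs
import Groth.Agent.Lib.Helper85.ObsHull

set_option autoImplicit false
set_option linter.style.haveILetI false
set_option linter.unusedSectionVars false
universe u
open CategoryTheory CategoryTheory.Limits MonoidalCategory CartesianMonoidalCategory MonObj
  AlgebraicGeometry Opposite TopologicalSpace
open scoped TensorProduct
open Groth.Agent.Lib.Helper19.AffinePts Groth.Agent.Lib.Helper85.ObsHull

namespace Groth.Agent.Lib.Helper85.ObsTfaeT7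

variable {k : Type u} [Field k]

theorem coef_eq_lid {M : Type u} [AddCommGroup M] [Module k M] (l : M →ₗ[k] k) (z : k ⊗[k] M) :
    coef l k z = l (TensorProduct.lid k M z) := by
  induction z using TensorProduct.induction_on with
  | zero => simp
  | tmul b m => rw [coef_tmul, TensorProduct.lid_tmul, map_smul, smul_eq_mul, smul_eq_mul, mul_comm]
  | add x y hx hy => simp only [map_add, hx, hy]

/-- T7 : (ii) ⇒ (iii) -/
theorem sep_of_stab (G H : Over (Spec (CommRingCat.of k))) [GrpObj G] [GrpObj H]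
    [IsAffine G.left] [IsAffine H.left] (i : H ⟶ G)
    {V : Type u} [AddCommGroup V] [Module k V] [Module.Finite k V] (ρ : VecGrp.GMod G V) (v : V)
    (hfix : v ∈ ρ.fixedUnder i)
    (hst : AGF.IsStabOnPts k i ρ v) :
    ∃ s : Finset Γ(G.left, ⊤), (∀ f ∈ s, AGF.IsRTransInv i f) ∧
        ∀ g g' : VecGrp.pt k k ⟶ G, (∀ f ∈ s, g.left.appTop f = g'.left.appTop f) →
          ∃ h : VecGrp.pt k k ⟶ H, g' = g * (h ≫ i) := by
  classical
  let b := Module.finBasis k V
  refine ⟨Finset.univ.image (fun j => fcoef G ρ (b.coord j) v), ?_, ?_⟩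
  · intro f hf
    obtain ⟨j, -, rfl⟩ := Finset.mem_image.mp hf
    have ha' : ∀ (B : Type u) [CommRing B] [Algebra k B] (h : VecGrp.pt k B ⟶ H),
        ρ.ρ B (h ≫ i) ((1 : B) ⊗ₜ[k] v) = (1 : B) ⊗ₜ[k] v := hfix
    have hP : IsAffine (G ⊗ H).left := by rw [Over.tensorObj_left]; infer_instance
    have hwh : G ◁ i = lift (fst G H) (snd G H ≫ i) := by
      ext <;> simp
    exact fcoef_invariant G i ρ (b.coord j) v ha' (G ⊗ H) ((G ◁ i) ≫ μ[G]) (fst G H) (snd G H)
      (by rw [Hom.mul_def, hwh])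
  · intro g g' hgg'
    have h1 : ρ.ρ k g ((1 : k) ⊗ₜ[k] v) = ρ.ρ k g' ((1 : k) ⊗ₜ[k] v) := by
      apply (TensorProduct.lid k V).injective
      apply b.ext_elem
      intro j
      have h2 := hgg' (fcoef G ρ (b.coord j) v) (Finset.mem_image.mpr ⟨j, Finset.mem_univ _, rfl⟩)
      have h3 : ev G g (fcoef G ρ (b.coord j) v) = ev G g' (fcoef G ρ (b.coord j) v) := by
        rw [ev_apply, ev_apply]
        exact congrArg _ h2
      rw [← coef_rho, ← coef_rho, coef_eq_lid, coef_eq_lid] at h3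
      exact h3
    have h4 : ρ.ρ k (g⁻¹ * g') ((1 : k) ⊗ₜ[k] v) = (1 : k) ⊗ₜ[k] v := by
      rw [map_mul, LinearEquiv.mul_apply, ← h1, ← LinearEquiv.mul_apply, ← map_mul,
        inv_mul_cancel, map_one]
      rfl
    obtain ⟨h, hh⟩ := (hst (g⁻¹ * g')).mp h4
    exact ⟨h, by rw [hh, mul_inv_cancel_left]⟩

end Groth.Agent.Lib.Helper85.ObsTfaeT7
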