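import Mathlib
import Groth.Prelude.Def_W4bk4grossh111Obs

set_option autoImplicit false
set_option linter.style.haveILetI false
set_option linter.unusedSectionVars false
universe u
open CategoryTheory CategoryTheory.Limits MonoidalCategory CartesianMonoidalCategory MonObj
  AlgebraicGeometry Opposite TopologicalSpace
open scoped TensorProduct

namespace Groth.Agent.Lib.Helper85.ObsTfaeT8

variable {k : Type u} [Field k]

/-- the trivial module on a point -/
noncomputable def trivGMod (G : Over (Spec (CommRingCat.of k))) [GrpObj G] :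
    VecGrp.GMod G PUnit.{u + 1} where
  ρ B _ _ := 1
  naturality := by
    intros
    rfl

/-- T8 : finset induction: a finite set of functions is the stabiliser datum of one vector -/
theorem exists_gmod_stab_finset (G : Over (Spec (CommRingCat.of k))) [GrpObj G]
    (hT4 : ∀ {M₁ M₂ : Type u} [AddCommGroup M₁] [Module k M₁] [AddCommGroup M₂] [Module k M₂]
      (ρ₁ : VecGrp.GMod G M₁) (ρ₂ : VecGrp.GMod G M₂),
      ∃ ρ : VecGrp.GMod G (M₁ × M₂), ∀ (g : VecGrp.pt k k ⟶ G) (m₁ : M₁) (m₂ : M₂),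
        ρ.ρ k g ((1 : k) ⊗ₜ[k] (m₁, m₂)) = (1 : k) ⊗ₜ[k] (m₁, m₂) ↔
          (ρ₁.ρ k g ((1 : k) ⊗ₜ[k] m₁) = (1 : k) ⊗ₜ[k] m₁ ∧
           ρ₂.ρ k g ((1 : k) ⊗ₜ[k] m₂) = (1 : k) ⊗ₜ[k] m₂))
    (hT5 : ∀ f : Γ(G.left, ⊤), ∃ (J : Type u) (_ : Fintype J) (ρ : VecGrp.GMod G (J → k))
      (v : J → k), ∀ g : VecGrp.pt k k ⟶ G,
        ρ.ρ k g ((1 : k) ⊗ₜ[k] v) = (1 : k) ⊗ₜ[k] v ↔ AGF.IsRTransInv g f)
    (s : Finset Γ(G.left, ⊤)) :
    ∃ (V : Type u) (_ : AddCommGroup V) (_ : Module k V) (_ : Module.Finite k V)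
      (ρ : VecGrp.GMod G V) (v : V), ∀ g : VecGrp.pt k k ⟶ G,
        ρ.ρ k g ((1 : k) ⊗ₜ[k] v) = (1 : k) ⊗ₜ[k] v ↔ ∀ f ∈ s, AGF.IsRTransInv g f := by
  classical
  induction s using Finset.induction_on with
  | empty =>
    refine ⟨PUnit, inferInstance, inferInstance, inferInstance, trivGMod G, PUnit.unit,
      fun g => ?_⟩
    constructor
    · intro _ f hf
      simp at hf
    · intro _
      rfl
  | insert f s hf ih =>
    obtain ⟨V, i1, i2, i3, ρs, vs, hs⟩ := ih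
    obtain ⟨J, hJ, ρf, vf, hf'⟩ := hT5 f
    obtain ⟨ρ, hρ⟩ := hT4 ρs ρf
    refine ⟨V × (J → k), inferInstance, inferInstance, inferInstance, ρ, (vs, vf), fun g => ?_⟩
    rw [hρ, hs, hf', Finset.forall_mem_insert]
    exact and_comm

end Groth.Agent.Lib.Helper85.ObsTfaeT8
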