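import Mathlib
import Groth.Prelude.Def_W4bk4grossh111Obs
import Groth.Agent.Lib.Helper85.ObsHull

set_option autoImplicit false
set_option linter.style.haveILetI false
set_option linter.unusedSectionVars false
universe u
open CategoryTheory CategoryTheory.Limits MonoidalCategory CartesianMonoidalCategory MonObj
  AlgebraicGeometry Opposite TopologicalSpace
open scoped TensorProduct

namespace Groth.Agent.Lib.Helper85.ObsTfaeT9

variable {k : Type u} [Field k]

/-- T9 : restriction of invariance to points of H -/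
theorem isRTransInv_pt (G H : Over (Spec (CommRingCat.of k))) [GrpObj G] [GrpObj H]
    (i : H ⟶ G) (f : Γ(G.left, ⊤)) (hf : AGF.IsRTransInv i f) (h : VecGrp.pt k k ⟶ H) :
    AGF.IsRTransInv (h ≫ i) f := by
  have key : ∀ {X Y Z : Over (Spec (CommRingCat.of k))} (x : X ⟶ Y) (y : Y ⟶ Z) (r : Γ(Z.left, ⊤)),
      (x ≫ y).left.appTop r = x.left.appTop (y.left.appTop r) := by
    intro X Y Z x y r
    simp only [Over.comp_left, Scheme.Hom.comp_appTop]
    rfl
  unfold AGF.IsRTransInv at hf ⊢
  have e1 : (G ◁ (h ≫ i)) ≫ μ[G] = (G ◁ h) ≫ ((G ◁ i) ≫ μ[G]) := by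
    rw [MonoidalCategory.whiskerLeft_comp, Category.assoc]
  have e2 : fst G (VecGrp.pt k k) = (G ◁ h) ≫ fst G H := by
    simp
  rw [e1, key (G ◁ h) ((G ◁ i) ≫ μ[G]), hf, ← key, ← e2]

end Groth.Agent.Lib.Helper85.ObsTfaeT9
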