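import Groth.Agent.Lib.Helper85.UnivInjLocal
import Groth.Agent.Lib.Helper74.FlatFiber

/-! A finite type module which is projective over the base is universally pure. -/

set_option autoImplicit false
universe u

open TensorProduct IsLocalRing

namespace Groth.Agent.Lib.Helper85.ProjPure

open Groth.Agent.Lib.Helper85.UnivInjLocal

section Prime

variable {A : Type u} [CommRing A] (t : Ideal A) [t.IsPrime] {N : Type u} [AddCommGroup N]
  [Module A N] [Module.Projective A N]

/-- an endomorphism of a projective module which is injective modulo a prime `t` stays injective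
after tensoring with any module over the local ring at `t` -/
theorem lTensor_injective_of_prime (u : N →ₗ[A] N)
    (hu : ∀ y : Localization.AtPrime t ⊗[A] N,
      u.baseChange (Localization.AtPrime t) y ∈
        maximalIdeal (Localization.AtPrime t) • (⊤ : Submodule (Localization.AtPrime t) _) →
      y ∈ maximalIdeal (Localization.AtPrime t) • (⊤ : Submodule (Localization.AtPrime t) _))
    (Q : Type u) [AddCommGroup Q] [Module A Q] [Module (Localization.AtPrime t) Q]
    [IsScalarTower A (Localization.AtPrime t) Q] : Function.Injective (u.lTensor Q) := by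
  haveI : Module.Free (Localization.AtPrime t) (Localization.AtPrime t ⊗[A] N) :=
    Groth.Agent.Lib.Helper52.Kap.free_of_projective_of_isLocalRing _
  have h1 := lTensor_injective_of_residueField
    (Module.Free.chooseBasis (Localization.AtPrime t) (Localization.AtPrime t ⊗[A] N))
    (u.baseChange (Localization.AtPrime t)) (lTensor_residueField_injective _ hu) Q
  let e := TensorProduct.AlgebraTensorModule.cancelBaseChange A (Localization.AtPrime t)
    (Localization.AtPrime t) Q N
  have hnat : ∀ z, e (((u.baseChange (Localization.AtPrime t)).lTensor Q) z) =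
      (u.lTensor Q) (e z) := by
    intro z
    induction z using TensorProduct.induction_on with
    | zero => simp
    | tmul q y =>
      induction y using TensorProduct.induction_on with
      | zero => simp
      | tmul r n => rfl
      | add a b ha hb =>
        rw [TensorProduct.tmul_add, map_add, map_add, ha, hb, map_add, map_add]
    | add a b ha hb => rw [map_add, map_add, ha, hb, map_add, map_add]
  rw [injective_iff_map_eq_zero]
  intro w hw
  obtain ⟨z, rfl⟩ := e.surjective w
  rw [← hnat] at hw
  have h2 : ((u.baseChange (Localization.AtPrime t)).lTensor Q) z = 0 := by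
    apply e.injective
    rw [hw, map_zero]
  rw [(injective_iff_map_eq_zero _).1 h1 z h2, map_zero]

end Prime

section Smul

variable {A B : Type u} [CommRing A] [CommRing B] [Algebra A B] (t : Ideal A) [t.IsPrime]
  (N : Type u) [AddCommGroup N] [Module B N] [Module A N] [IsScalarTower A B N]

/-- multiplication by `b` as an `A`-linear map -/
abbrev smulA (b : B) : N →ₗ[A] N := (LinearMap.lsmul B N b).restrictScalars A

/-- the ideal of elements of `B` acting as zero on `N_t / t N_t` -/
def JJ : Ideal B where
  carrier := {b | ∀ (r : Localization.AtPrime t) (n : N),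
    (r ⊗ₜ[A] (b • n) : Localization.AtPrime t ⊗[A] N) ∈
      maximalIdeal (Localization.AtPrime t) •
        (⊤ : Submodule (Localization.AtPrime t) (Localization.AtPrime t ⊗[A] N))}
  zero_mem' := by
    intro r n
    rw [zero_smul, tmul_zero]
    exact zero_mem _
  add_mem' := by
    intro b b' hb hb' r n
    rw [add_smul, tmul_add]
    exact add_mem (hb r n) (hb' r n)
  smul_mem' := by
    intro c b hb r n
    rw [smul_eq_mul, mul_comm, mul_smul]
    exact hb r (c • n)

theorem map_le_JJ : t.map (algebraMap A B) ≤ JJ t N := by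
  rw [Ideal.map_le_iff_le_comap]
  intro a ha r n
  have h1 : (r ⊗ₜ[A] (algebraMap A B a • n) : Localization.AtPrime t ⊗[A] N) =
      (algebraMap A (Localization.AtPrime t) a) • (r ⊗ₜ[A] n) := by
    rw [algebraMap_smul, ← TensorProduct.smul_tmul, TensorProduct.smul_tmul', Algebra.smul_def,
      smul_eq_mul]
  rw [h1]
  exact Submodule.smul_mem_smul
    ((IsLocalization.AtPrime.to_map_mem_maximal_iff (Localization.AtPrime t) t a).2 ha)
    Submodule.mem_top

theorem baseChange_smulA_mem {b : B} (hb : b ∈ t.map (algebraMap A B))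
    (y : Localization.AtPrime t ⊗[A] N) :
    (smulA (A := A) (B := B) N b).baseChange (Localization.AtPrime t) y ∈
      maximalIdeal (Localization.AtPrime t) •
        (⊤ : Submodule (Localization.AtPrime t) (Localization.AtPrime t ⊗[A] N)) := by
  induction y using TensorProduct.induction_on with
  | zero => rw [map_zero]; exact zero_mem _
  | tmul r n => exact map_le_JJ t N hb r n
  | add x y hx hy => rw [map_add]; exact add_mem hx hy

theorem baseChange_smulA_algebraMap (a : A) (y : Localization.AtPrime t ⊗[A] N) :
    (smulA (A := A) (B := B) N (algebraMap A B a)).baseChange (Localization.AtPrime t) y =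
      algebraMap A (Localization.AtPrime t) a • y := by
  induction y using TensorProduct.induction_on with
  | zero => rw [map_zero, smul_zero]
  | tmul r n =>
    show (r ⊗ₜ[A] (algebraMap A B a • n) : Localization.AtPrime t ⊗[A] N) = _
    rw [algebraMap_smul, ← TensorProduct.smul_tmul, TensorProduct.smul_tmul', Algebra.smul_def,
      smul_eq_mul]
  | add x y hx hy => rw [map_add, hx, hy, smul_add]

/-- if `s ≡ a` modulo `tB` with `a ∉ t`, then `s` acts injectively on `N_t / t N_t` -/
theorem hu_of_congr {s m₀ : B} {a : A} (ha : a ∉ t) (hm₀ : m₀ ∈ t.map (algebraMap A B))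
    (hs : algebraMap A B a = s + m₀) (y : Localization.AtPrime t ⊗[A] N)
    (hy : (smulA (A := A) (B := B) N s).baseChange (Localization.AtPrime t) y ∈
      maximalIdeal (Localization.AtPrime t) •
        (⊤ : Submodule (Localization.AtPrime t) (Localization.AtPrime t ⊗[A] N))) :
    y ∈ maximalIdeal (Localization.AtPrime t) •
        (⊤ : Submodule (Localization.AtPrime t) (Localization.AtPrime t ⊗[A] N)) := by
  have h1 : (smulA (A := A) (B := B) N (algebraMap A B a)).baseChange (Localization.AtPrime t) y =
      (smulA (A := A) (B := B) N s).baseChange (Localization.AtPrime t) y +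
        (smulA (A := A) (B := B) N m₀).baseChange (Localization.AtPrime t) y := by
    rw [hs]
    have : smulA (A := A) (B := B) N (s + m₀) =
        smulA (A := A) (B := B) N s + smulA (A := A) (B := B) N m₀ := by
      ext n
      exact add_smul s m₀ n
    rw [this, LinearMap.baseChange_add, LinearMap.add_apply]
  have h2 : algebraMap A (Localization.AtPrime t) a • y ∈
      maximalIdeal (Localization.AtPrime t) •
        (⊤ : Submodule (Localization.AtPrime t) (Localization.AtPrime t ⊗[A] N)) := by
    rw [← baseChange_smulA_algebraMap (B := B) t N a y, h1]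
    exact add_mem hy (baseChange_smulA_mem t N hm₀ y)
  have hu : IsUnit (algebraMap A (Localization.AtPrime t) a) :=
    (IsLocalization.AtPrime.isUnit_to_map_iff (Localization.AtPrime t) t a).2 ha
  obtain ⟨c, hc⟩ := hu.exists_left_inv
  have : y = c • (algebraMap A (Localization.AtPrime t) a • y) := by
    rw [smul_smul, hc, one_smul]
  rw [this]
  exact Submodule.smul_mem _ _ h2

end Smul

section ClaimC

variable {A : Type u} [CommRing A] (t' t : Ideal A) [t'.IsPrime] [t.IsPrime]
  {N : Type u} [AddCommGroup N] [Module A N]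

theorem exists_smul_mem (u : N →ₗ[A] N)
    (hu : ∀ (Q : Type u) [AddCommGroup Q] [Module A Q] [Module (Localization.AtPrime t) Q]
      [IsScalarTower A (Localization.AtPrime t) Q], Function.Injective (u.lTensor Q))
    (n : N) (hn : u n ∈ t' • (⊤ : Submodule A N)) :
    ∃ c : A, c ∉ t ∧ c • n ∈ t' • (⊤ : Submodule A N) := by
  let g := LocalizedModule.mkLinearMap t.primeCompl (A ⧸ t')
  let G := TensorProduct.AlgebraTensorModule.rTensor A N g
  haveI : IsLocalizedModule t.primeCompl G := IsLocalizedModule.rTensor A t.primeCompl g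
  have h1 : ((1 : A ⧸ t') ⊗ₜ[A] u n : (A ⧸ t') ⊗[A] N) = 0 := by
    apply (TensorProduct.quotTensorEquivQuotSMul N t').injective
    rw [TensorProduct.quotTensorEquivQuotSMul_mk_one_tmul, map_zero,
      Submodule.Quotient.mk_eq_zero]
    exact hn
  have h2 : (u.lTensor (LocalizedModule t.primeCompl (A ⧸ t')))
      (G ((1 : A ⧸ t') ⊗ₜ[A] n)) = G ((1 : A ⧸ t') ⊗ₜ[A] u n) := rfl
  rw [h1, map_zero] at h2
  have h3 : G ((1 : A ⧸ t') ⊗ₜ[A] n) = 0 :=
    (injective_iff_map_eq_zero _).1 (hu (LocalizedModule t.primeCompl (A ⧸ t'))) _ h2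
  obtain ⟨c, hc⟩ := (IsLocalizedModule.eq_zero_iff t.primeCompl G).1 h3
  refine ⟨c.1, c.2, ?_⟩
  have h4 : ((1 : A ⧸ t') ⊗ₜ[A] ((c : A) • n) : (A ⧸ t') ⊗[A] N) = 0 := by
    rw [TensorProduct.tmul_smul]
    exact hc
  have h5 := congrArg (TensorProduct.quotTensorEquivQuotSMul N t') h4
  rw [TensorProduct.quotTensorEquivQuotSMul_mk_one_tmul, map_zero,
    Submodule.Quotient.mk_eq_zero] at h5
  exact h5

end ClaimC

section FiberInj

open FlatCA Groth.Agent.Lib.Helper74.FiberAss

attribute [local instance] Algebra.TensorProduct.rightAlgebra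

variable {A B : Type u} [CommRing A] [CommRing B] [Algebra A B] (t' t : Ideal A) [t'.IsPrime]
  [t.IsPrime] (N : Type u) [AddCommGroup N] [Module B N] [Module A N] [IsScalarTower A B N]
  [Module.Projective A N]

/-- if `s ≡ a` modulo `tB` with `a ∉ t` and `t' ≤ t`, then `s` acts injectively on the fibre of a
module which is projective over the base over `t'` -/
theorem smul_fiberMod_injective (hle : t' ≤ t) {s m₀ : B} {a : A} (ha : a ∉ t)
    (hm₀ : m₀ ∈ t.map (algebraMap A B)) (hs : algebraMap A B a = s + m₀)
    (x : fiberMod t' B N) (hx : s • x = 0) : x = 0 := by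
  have hQ : ∀ (Q : Type u) [AddCommGroup Q] [Module A Q] [Module (Localization.AtPrime t) Q]
      [IsScalarTower A (Localization.AtPrime t) Q],
      Function.Injective ((smulA (A := A) (B := B) N s).lTensor Q) := fun Q _ _ _ _ =>
    lTensor_injective_of_prime t (smulA (A := A) (B := B) N s)
      (fun y hy => hu_of_congr t N ha hm₀ hs y hy) Q
  haveI := isLocalizedModule_phi B N t'
  obtain ⟨⟨nbar, a₁⟩, h⟩ := IsLocalizedModule.surj (TS B t') (phi B N t') x
  obtain ⟨n, rfl⟩ := Submodule.Quotient.mk_surjective _ nbar
  simp only at h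
  have h1 : phi B N t' (Submodule.Quotient.mk (s • n)) = 0 := by
    rw [Submodule.Quotient.mk_smul, map_smul, ← h, smul_comm, hx, smul_zero]
  obtain ⟨c', hc'⟩ := (IsLocalizedModule.eq_zero_iff (TS B t') (phi B N t')).1 h1
  obtain ⟨c'v, ⟨a', ha', rfl⟩⟩ := c'
  replace hc' : (algebraMap A B a') • (Submodule.Quotient.mk (s • n) :
      N ⧸ (t'.map (algebraMap A B)) • (⊤ : Submodule B N)) = 0 := hc'
  rw [← Submodule.Quotient.mk_smul, Submodule.Quotient.mk_eq_zero,
    mem_map_smul_top_iff] at hc'
  have h2 : (smulA (A := A) (B := B) N s) (a' • n) ∈ t' • (⊤ : Submodule A N) := by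
    show s • (a' • n) ∈ _
    rw [smul_comm, ← algebraMap_smul B a' (s • n)]
    exact hc'
  obtain ⟨c, hc, hcn⟩ := exists_smul_mem t' t (smulA (A := A) (B := B) N s) hQ (a' • n) h2
  have hca' : c * a' ∈ t'.primeCompl := by
    intro hmem
    rcases (Ideal.IsPrime.mem_or_mem inferInstance hmem) with h | h
    · exact hc (hle h)
    · exact ha' h
  have h3 : phi B N t' (Submodule.Quotient.mk n) = 0 := by
    rw [IsLocalizedModule.eq_zero_iff (TS B t')]
    refine ⟨⟨algebraMap A B (c * a'), c * a', hca', rfl⟩, ?_⟩
    show (algebraMap A B (c * a')) • (Submodule.Quotient.mk n :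
      N ⧸ (t'.map (algebraMap A B)) • (⊤ : Submodule B N)) = 0
    rw [← Submodule.Quotient.mk_smul, Submodule.Quotient.mk_eq_zero,
      mem_map_smul_top_iff, algebraMap_smul, mul_smul]
    exact hcn
  rw [h3] at h
  have := IsLocalizedModule.smul_injective (phi B N t') a₁
  exact this (by simpa using h)

end FiberInj

section NoImpurity

open FlatCA Groth.Agent.Lib.Helper74.FiberAss

attribute [local instance] Algebra.TensorProduct.rightAlgebra

variable {A B : Type u} [CommRing A] [CommRing B] [Algebra A B] (t' t : Ideal A) [t'.IsPrime]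
  [t.IsPrime] (N : Type u) [AddCommGroup N] [Module B N] [Module A N] [IsScalarTower A B N]
  [Module.Projective A N]

omit [t'.IsPrime] [Module.Projective A N] in
theorem exists_congr (P : Ideal B) [P.IsPrime]
    (hno : ∀ (P' : Ideal B) [P'.IsPrime], P ≤ P' → ¬ P'.LiesOver t) :
    ∃ (a : A) (s m₀ : B), a ∉ t ∧ s ∈ P ∧ m₀ ∈ t.map (algebraMap A B) ∧
      algebraMap A B a = s + m₀ := by
  by_contra hcon
  have hdisj : Disjoint ((P ⊔ t.map (algebraMap A B) : Ideal B) : Set B)
      (Algebra.algebraMapSubmonoid B t.primeCompl : Set B) := by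
    rw [Set.disjoint_left]
    rintro b hb ⟨a, ha, rfl⟩
    obtain ⟨s, hs, m₀, hm₀, hsum⟩ := Submodule.mem_sup.1 hb
    exact hcon ⟨a, s, m₀, ha, hs, hm₀, hsum.symm⟩
  obtain ⟨P', hP', hle, hdis⟩ := Ideal.exists_le_prime_disjoint _ _ hdisj
  haveI := hP'
  refine hno P' (le_sup_left.trans hle) ⟨?_⟩
  ext a
  constructor
  · intro ha
    exact hle (Ideal.mem_sup_right (Ideal.mem_map_of_mem _ ha))
  · intro ha
    by_contra hat
    exact Set.disjoint_left.1 hdis ha ⟨a, hat, rfl⟩

theorem no_impurity (hle : t' ≤ t) (P : Ideal B) [P.IsPrime]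
    (hass : fiberIdeal t' P ∈ associatedPrimes (t'.Fiber B) (fiberMod t' B N))
    (hno : ∀ (P' : Ideal B) [P'.IsPrime], P ≤ P' → ¬ P'.LiesOver t) : False := by
  obtain ⟨a, s, m₀, ha, hs, hm₀, hsum⟩ := exists_congr t P hno
  have hinj := smul_fiberMod_injective t' t N hle ha hm₀ hsum
  obtain ⟨hprime, x, hx⟩ := hass
  have hs' : algebraMap B (t'.Fiber B) s ∈ fiberIdeal t' P := Ideal.mem_map_of_mem _ hs
  rw [hx] at hs'
  obtain ⟨k, hk⟩ := hs'
  rw [Submodule.mem_colon_singleton, Submodule.mem_bot, ← map_pow,
    ← smul_fiberMod_eq B N t' (s ^ k) x] at hk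
  have hx0 : x = 0 := by
    clear hx
    induction k with
    | zero => rwa [pow_zero, one_smul] at hk
    | succ k ih =>
      apply ih
      apply hinj
      rw [smul_smul, ← pow_succ']
      exact hk
  have htop : fiberIdeal t' P = ⊤ := by
    rw [hx, hx0]
    rw [Ideal.radical_eq_top, Ideal.eq_top_iff_one, Submodule.mem_colon_singleton, smul_zero]
    exact Submodule.zero_mem _
  exact hprime.ne_top htop

end NoImpurity

section Main

open FlatCA

/-- a module which is projective over the base is universally pure -/
theorem isUnivPure_of_projective {A B : Type u} [CommRing A] [CommRing B] [Algebra A B]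
    (N : Type u) [AddCommGroup N] [Module B N] [Module A N] [IsScalarTower A B N]
    [Module.Projective A N] : IsUnivPure A B N := by
  intro p _ A' B' N' _ _ _ _ _ _ _ _ _ _ _ _ _ _ f t' t _ _ P _ himp
  obtain ⟨hpush, hbc, hle, -, -, hass, hno⟩ := himp
  haveI : Algebra.IsPushout A A' B B' := hpush.symm
  let e1 := hbc.equiv
  let e2 := Algebra.IsPushout.cancelBaseChange A A' B B' N
  haveI : Module.Projective A' N' :=
    Module.Projective.of_equiv (e2.symm ≪≫ₗ e1.restrictScalars A')
  exact no_impurity t' t N' hle P hass hno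

end Main

end Groth.Agent.Lib.Helper85.ProjPure
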