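import Groth.Agent.Lib.Helper85.SGA2Fin
import Groth.Agent.Lib.Helper85.GenCM
import Groth.Agent.Lib.Helper92.LocCohGV

/-!
# SGA 2 VIII 2.3 for modules which are Cohen–Macaulay off `V(I)`
-/

set_option autoImplicit false
set_option linter.style.haveILetI false

namespace Groth.Agent.Lib.Helper85.SGA2Codim

open CategoryTheory Abelian IsLocalRing Order

universe u

section Aux

variable {A : Type u} [CommRing A]

theorem height_Ici_eq (p q : PrimeSpectrum A) (hpq : p ≤ q) :
    Order.height (⟨q, hpq⟩ : Set.Ici p) =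
      (q.asIdeal.map (Ideal.Quotient.mk p.asIdeal)).height := by
  haveI : (q.asIdeal.map (Ideal.Quotient.mk p.asIdeal)).IsPrime :=
    Ideal.isPrime_map_quotientMk_of_isPrime hpq
  let 𝔮' : PrimeSpectrum (A ⧸ p.asIdeal) := ⟨q.asIdeal.map (Ideal.Quotient.mk p.asIdeal),
    inferInstance⟩
  have he : quotIso p 𝔮' = ⟨q, hpq⟩ := by
    apply Subtype.ext
    apply PrimeSpectrum.ext
    rw [quotIso_apply]
    exact Groth.Agent.Lib.Helper73.comap_map_quotientMk_of_le p.asIdeal q.asIdeal hpq
  have h2 : Order.height (quotIso p 𝔮') = Order.height 𝔮' := Order.height_orderIso _ _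
  rw [he, ← PrimeSpectrum.height_eq_orderHeight] at h2
  exact h2

theorem height_Ici_ne_top [IsNoetherianRing A] (p q : PrimeSpectrum A) (hpq : p ≤ q) :
    Order.height (⟨q, hpq⟩ : Set.Ici p) ≠ ⊤ := by
  rw [height_Ici_eq]
  haveI : (q.asIdeal.map (Ideal.Quotient.mk p.asIdeal)).IsPrime :=
    Ideal.isPrime_map_quotientMk_of_isPrime hpq
  exact Ideal.height_ne_top (Ideal.IsPrime.ne_top inferInstance)

theorem height_Ici_anti (p₀ p q : PrimeSpectrum A) (h0 : p₀ ≤ p) (hpq : p ≤ q) :
    Order.height (⟨q, hpq⟩ : Set.Ici p) ≤ Order.height (⟨q, h0.trans hpq⟩ : Set.Ici p₀) := by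
  let f : Set.Ici p → Set.Ici p₀ := fun x => ⟨x.1, h0.trans x.2⟩
  have hf : StrictMono f := fun x y hxy => hxy
  exact Order.height_le_height_apply_of_strictMono f hf ⟨q, hpq⟩

variable [IsNoetherianRing A] (M : Type u) [AddCommGroup M] [Module A M] [Module.Finite A M]

theorem nontrivial_loc_of_le (p : PrimeSpectrum A) (h : Module.annihilator A M ≤ p.asIdeal) :
    Nontrivial (LocalizedModule p.asIdeal.primeCompl M) := by
  rw [← Module.mem_support_iff, Module.mem_support_iff_of_finite]
  exact h

theorem depth_zero_of_minimal (p : PrimeSpectrum A)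
    (hmin : p.asIdeal ∈ (Module.annihilator A M).minimalPrimes) :
    LocCoh.depth (Localization.AtPrime p.asIdeal) (LocalizedModule p.asIdeal.primeCompl M) = 0 := by
  haveI := nontrivial_loc_of_le M p hmin.1.2
  have h1 := Groth.Agent.Lib.Helper67.depth_le_supportDim (R := Localization.AtPrime p.asIdeal)
    (LocalizedModule p.asIdeal.primeCompl M)
  have h2 := Groth.Agent.Lib.Helper85.FLCrit.supportDim_loc_minimal_le_zero M p.asIdeal hmin
  have h3 := h1.trans h2
  have h4 : LocCoh.depth (Localization.AtPrime p.asIdeal)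
      (LocalizedModule p.asIdeal.primeCompl M) ≤ 0 := by exact_mod_cast h3
  exact le_antisymm h4 zero_le

end Aux

section CM

variable (R : Type u) [CommRing R] [IsRegularRing R] (A : Type u) [CommRing A]
  [IsNoetherianRing A] (π : R →+* A) (hπ : Function.Surjective π) (I : Ideal A)
  (M : Type u) [AddCommGroup M] [Module A M] [Module.Finite A M]

include hπ in
/-- SGA 2 VIII 2.3 for modules Cohen–Macaulay off `V(I)` -/
theorem finite_iff_relCodim_of_CM
    (hCM : ∀ p : PrimeSpectrum A, ¬ I ≤ p.asIdeal →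
      Subsingleton (LocalizedModule p.asIdeal.primeCompl M) ∨
        LocCoh.IsCohenMacaulayModule (Localization.AtPrime p.asIdeal)
          (LocalizedModule p.asIdeal.primeCompl M)) (n : ℕ) :
    (∀ i : ℕ, i ≤ n → Module.Finite A (LocCoh.H I i M)) ↔
      ∀ p : PrimeSpectrum A, ¬ I ≤ p.asIdeal →
        p.asIdeal ∈ (Module.annihilator A M).minimalPrimes → (n : ℕ∞) < SGA2.relCodim I p := by
  rw [finite_iff_adjDepth R A π hπ I M n]
  constructor
  · intro h p hp hmin
    have h1 := h p hp
    unfold LocCoh.adjDepth at h1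
    rw [← relCodim_eq_height, depth_zero_of_minimal M p hmin, zero_add] at h1
    exact h1
  · intro h p hp
    unfold LocCoh.adjDepth
    rw [← relCodim_eq_height]
    by_cases hnt : Subsingleton (LocalizedModule p.asIdeal.primeCompl M)
    · rw [Groth.Agent.Lib.Helper85.FLCrit.depth_eq_top_of_subsingleton, top_add]
      exact ENat.natCast_lt_top n
    rcases hc : SGA2.relCodim I p with _ | c
    · have : (LocCoh.depth (Localization.AtPrime p.asIdeal)
          (LocalizedModule p.asIdeal.primeCompl M) + (⊤ : ℕ∞)) = ⊤ := add_top _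
      change (n : ℕ∞) < LocCoh.depth (Localization.AtPrime p.asIdeal)
          (LocalizedModule p.asIdeal.primeCompl M) + (⊤ : ℕ∞)
      rw [this]
      exact ENat.natCast_lt_top n
    · change (n : ℕ∞) < LocCoh.depth (Localization.AtPrime p.asIdeal)
          (LocalizedModule p.asIdeal.primeCompl M) + ((c : ℕ) : ℕ∞)
      obtain ⟨q, hpq, hIq, hq⟩ := exists_of_relCodim_eq I p c hc
      have hsupp : Module.annihilator A M ≤ p.asIdeal := by
        rw [← Module.mem_support_iff_of_finite, Module.mem_support_iff]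
        exact not_subsingleton_iff_nontrivial.mp hnt
      obtain ⟨p₀i, hp₀min, hp₀le⟩ := Ideal.exists_minimalPrimes_le hsupp
      let p₀ : PrimeSpectrum A := ⟨p₀i, hp₀min.1.1⟩
      haveI : p₀.asIdeal.IsPrime := hp₀min.1.1
      have hp₀p : p₀ ≤ p := hp₀le
      have hIp₀ : ¬ I ≤ p₀.asIdeal := fun hI => hp (hI.trans hp₀le)
      have hn := h p₀ hIp₀ hp₀min
      have hle := relCodim_le I p₀ q (hp₀p.trans hpq) hIq
      obtain ⟨e₀, he₀⟩ := ENat.ne_top_iff_exists.mp (height_Ici_ne_top p₀ q (hp₀p.trans hpq))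
      have hce : c ≤ e₀ := by
        have := height_Ici_anti p₀ p q hp₀p hpq
        rw [hq, ← he₀] at this
        exact_mod_cast this
      have hH0 : ¬ Subsingleton (LocCoh.H (maximalIdeal (Localization.AtPrime p₀.asIdeal)) 0
          (LocalizedModule p₀.asIdeal.primeCompl M)) := by
        intro hs
        have h1 : ((1 : ℕ) : ℕ∞) ≤ LocCoh.depth (Localization.AtPrime p₀.asIdeal)
            (LocalizedModule p₀.asIdeal.primeCompl M) := by
          rw [Groth.Agent.Lib.Helper85.FLCrit.le_depth_iff]
          intro j hj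
          have : j = 0 := by omega
          subst this
          exact hs
        rw [depth_zero_of_minimal M p₀ hp₀min] at h1
        exact absurd h1 (by norm_num)
      have hHj : ¬ Subsingleton (LocCoh.H (maximalIdeal (Localization.AtPrime p.asIdeal))
          (e₀ - c) (LocalizedModule p.asIdeal.primeCompl M)) := fun hs =>
        hH0 (key R A π hπ M p₀ p q hp₀p hpq e₀ c 0 (e₀ - c) he₀.symm hq (by omega) hs)
      have hdim : ((e₀ - c : ℕ) : WithBot ℕ∞) ≤ Module.supportDim (Localization.AtPrime p.asIdeal)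
          (LocalizedModule p.asIdeal.primeCompl M) := by
        by_contra hlt
        rw [not_le] at hlt
        exact hHj (Groth.Agent.Lib.Helper92.LC.subsingleton_of_supportDim_lt _ (e₀ - c) _ hlt)
      have hcm := (hCM p hp).resolve_left hnt
      unfold LocCoh.IsCohenMacaulayModule at hcm
      rw [hcm] at hdim
      have hdim' : ((e₀ - c : ℕ) : ℕ∞) ≤ LocCoh.depth (Localization.AtPrime p.asIdeal)
          (LocalizedModule p.asIdeal.primeCompl M) := by
        change (((e₀ - c : ℕ) : ℕ∞) : WithBot ℕ∞) ≤ _ at hdim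
        exact WithBot.coe_le_coe.mp hdim
      calc (n : ℕ∞) < SGA2.relCodim I p₀ := hn
        _ ≤ (e₀ : ℕ∞) := by rw [he₀]; exact hle
        _ = ((e₀ - c : ℕ) : ℕ∞) + (c : ℕ∞) := by
            have : e₀ = (e₀ - c) + c := by omega
            exact_mod_cast this
        _ ≤ _ := add_le_add_left hdim' _

end CM

end Groth.Agent.Lib.Helper85.SGA2Codim
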