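import Groth.Agent.Lib.Helper85.SGA2Order
import Groth.Agent.Lib.Helper85.DepthLC

/-!
# Propagation of non-vanishing of local cohomology along specialization
(over a quotient of a regular ring), the key to SGA 2 VIII 2.1 (i) ⇔ (ii)
-/

set_option autoImplicit false
set_option linter.style.haveILetI false

namespace Groth.Agent.Lib.Helper85.SGA2Codim

open CategoryTheory Abelian IsLocalRing Groth.Agent.Lib.Helper85.FLCrit
  Groth.Agent.Lib.Helper85.ExtLoc

universe u

section Local

variable (R' : Type u) [CommRing R'] [LocCoh.IsGorensteinLocalRing R']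
  {A : Type u} [CommRing A] [IsNoetherianRing A] [IsLocalRing A] [Algebra R' A]
  (hg : Function.Surjective (algebraMap R' A))
  (M : Type u) [AddCommGroup M] [Module A M] [Module R' M] [IsScalarTower R' A M]
  [Module.Finite A M]

include hg in
/-- the vanishing condition at a prime passes to its generalizations -/
theorem locVanish_of_le (i : ℕ) (p p' : Ideal A) [p.IsPrime] [p'.IsPrime] (hpp' : p ≤ p')
    (h : LocVanish M i p') : LocVanish M i p := by
  obtain ⟨d, hd, -, -⟩ := Groth.Agent.Lib.Helper4.GorCM.gorenstein_dim R'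
  by_cases hid : i ≤ d
  · obtain ⟨k, hki⟩ : ∃ k, k + i = d := ⟨d - i, by omega⟩
    refine (locVanish_iff_of_le R' hg M d k i hd hki p).mp ?_
    have h' := (locVanish_iff_of_le R' hg M d k i hd hki p').mpr h
    intro x
    obtain ⟨t, ht, htx⟩ := h' x
    exact ⟨t, fun htp => ht (hpp' htp), htx⟩
  · exact locVanish_of_lt R' hg M d i hd (by omega) p

end Local

section Ident

variable {A : Type u} [CommRing A] [IsNoetherianRing A] (p : Ideal A) [p.IsPrime]
  (B : Type u) [CommRing B] [IsNoetherianRing B] [IsLocalRing B] [Algebra A B]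
  (hB : p.map (algebraMap A B) = maximalIdeal B)
  (M : Type u) [AddCommGroup M] [Module A M]
  (N : Type u) [AddCommGroup N] [Module B N] [Module A N] [IsScalarTower A B N]
  (f : M →ₗ[A] N) [IsLocalizedModule p.primeCompl f]

include hB f in
/-- local cohomology of any model `N` of `M_p` over any model `B` of `A_p` -/
theorem subsingleton_H_iff_of_isLocalizedModule (j : ℕ) :
    Subsingleton (LocCoh.H (maximalIdeal B) j N) ↔
      Subsingleton (LocCoh.H (maximalIdeal (Localization.AtPrime p)) j
        (LocalizedModule p.primeCompl M)) := by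
  obtain ⟨φa, -⟩ := Helper98.CechRestrict.lc_restrict (R := A) (R' := B) p N j
  rw [hB] at φa
  obtain ⟨φb, -⟩ := Helper98.CechRestrict.lc_restrict (R := A)
    (R' := Localization.AtPrime p) p (LocalizedModule p.primeCompl M) j
  rw [Localization.AtPrime.map_eq_maximalIdeal] at φb
  let e : N ≃ₗ[A] LocalizedModule p.primeCompl M :=
    IsLocalizedModule.linearEquiv p.primeCompl f (LocalizedModule.mkLinearMap p.primeCompl M)
  let φd := ((localCohomology p j).mapIso e.toModuleIso).toLinearEquiv.toEquiv
  rw [φa.toEquiv.subsingleton_congr, φd.subsingleton_congr, ← φb.toEquiv.subsingleton_congr]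

end Ident

section Double

variable {A : Type u} [CommRing A] [IsNoetherianRing A] (p q : Ideal A) [p.IsPrime] [q.IsPrime]
  (hpq : p ≤ q) (M : Type u) [AddCommGroup M] [Module A M]

include hpq in
theorem isPrime_map : (p.map (algebraMap A (Localization.AtPrime q))).IsPrime :=
  IsLocalization.isPrime_of_isPrime_disjoint q.primeCompl _ p inferInstance
    (by
      rw [Set.disjoint_left]
      intro x hx hxp
      exact hx (hpq hxp))

include hpq in
theorem comap_map : (p.map (algebraMap A (Localization.AtPrime q))).comap
    (algebraMap A (Localization.AtPrime q)) = p :=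
  IsLocalization.comap_map_of_isPrime_disjoint q.primeCompl _ inferInstance
    (by
      rw [Set.disjoint_left]
      intro x hx hxp
      exact hx (hpq hxp))

include hpq in
/-- local cohomology of `(M_q)_{pA_q}` over `(A_q)_{pA_q}` versus that of `M_p` over `A_p` -/
theorem subsingleton_H_double_iff
    [hP : (p.map (algebraMap A (Localization.AtPrime q))).IsPrime] (j : ℕ) :
    Subsingleton (LocCoh.H (maximalIdeal (Localization.AtPrime
        (p.map (algebraMap A (Localization.AtPrime q))))) j
        (LocalizedModule (p.map (algebraMap A (Localization.AtPrime q))).primeCompl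
          (LocalizedModule q.primeCompl M))) ↔
      Subsingleton (LocCoh.H (maximalIdeal (Localization.AtPrime p)) j
        (LocalizedModule p.primeCompl M)) := by
  set Aq := Localization.AtPrime q with hAq
  set pq := p.map (algebraMap A Aq) with hpq'
  set B := Localization.AtPrime pq with hBdef
  set Mq := LocalizedModule q.primeCompl M with hMq
  set N := LocalizedModule pq.primeCompl Mq with hN
  haveI : IsScalarTower A B N := IsScalarTower.of_algebraMap_smul (fun a n => by
    rw [IsScalarTower.algebraMap_apply A Aq B, algebraMap_smul, algebraMap_smul])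
  have hB : p.map (algebraMap A B) = maximalIdeal B := by
    rw [IsScalarTower.algebraMap_eq A Aq B, ← Ideal.map_map]
    exact Localization.AtPrime.map_eq_maximalIdeal
  let g₁ : M →ₗ[A] Mq := LocalizedModule.mkLinearMap q.primeCompl M
  let g₂ : Mq →ₗ[Aq] N := LocalizedModule.mkLinearMap pq.primeCompl Mq
  let f : M →ₗ[A] N := (g₂.restrictScalars A) ∘ₗ g₁
  haveI hloc : IsLocalization p.primeCompl B := by
    have h1 : IsLocalization.AtPrime B (pq.comap (algebraMap A Aq)) :=
      IsLocalization.isLocalization_isLocalization_atPrime_isLocalization q.primeCompl B pq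
    have key : ∀ (P : Ideal A) [P.IsPrime], P = p → IsLocalization P.primeCompl B →
        IsLocalization p.primeCompl B := by
      rintro P _ rfl h
      exact h
    exact key _ (comap_map p q hpq) h1
  haveI : IsLocalizedModule p.primeCompl f := by
    rw [isLocalizedModule_iff_isBaseChange p.primeCompl B f]
    exact IsBaseChange.comp (IsLocalizedModule.isBaseChange q.primeCompl Aq g₁)
      (IsLocalizedModule.isBaseChange pq.primeCompl B g₂)
  exact subsingleton_H_iff_of_isLocalizedModule p B hB M N f j

end Double

section Global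

variable (R : Type u) [CommRing R] [IsRegularRing R] (A : Type u) [CommRing A]
  [IsNoetherianRing A] (π : R →+* A) (hπ : Function.Surjective π)
  (M : Type u) [AddCommGroup M] [Module A M] [Module.Finite A M]

include hπ in
/-- **Key lemma**: over a quotient of a regular ring, for primes `p ≤ p' ≤ q`, vanishing of
`H^{j'}(M_{p'})` forces vanishing of `H^j(M_p)` when `j + ht(q/p) = j' + ht(q/p')`. -/
theorem key (p p' q : PrimeSpectrum A) (hpp' : p ≤ p') (hp'q : p' ≤ q) (e e' j j' : ℕ)
    (he : Order.height (⟨q, hpp'.trans hp'q⟩ : Set.Ici p) = e)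
    (he' : Order.height (⟨q, hp'q⟩ : Set.Ici p') = e')
    (hj : j + e = j' + e')
    (h : Subsingleton (LocCoh.H (maximalIdeal (Localization.AtPrime p'.asIdeal)) j'
      (LocalizedModule p'.asIdeal.primeCompl M))) :
    Subsingleton (LocCoh.H (maximalIdeal (Localization.AtPrime p.asIdeal)) j
      (LocalizedModule p.asIdeal.primeCompl M)) := by
  let Q : Ideal R := q.asIdeal.comap π
  let RQ := Localization.AtPrime Q
  let Aq := Localization.AtPrime q.asIdeal
  let Mq := LocalizedModule q.asIdeal.primeCompl M
  letI : Algebra RQ Aq := (Localization.localRingHom Q q.asIdeal π rfl).toAlgebra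
  have hg : Function.Surjective (algebraMap RQ Aq) :=
    RingHom.surjective_localRingHom_of_surjective π hπ q.asIdeal
  letI : Module RQ Mq := Module.compHom Mq (algebraMap RQ Aq)
  haveI : IsScalarTower RQ Aq Mq := IsScalarTower.of_algebraMap_smul (fun r x => rfl)
  haveI : LocCoh.IsGorensteinLocalRing RQ := isGorensteinLocalRing_of_regular RQ
  haveI hP : (p.asIdeal.map (algebraMap A Aq)).IsPrime :=
    isPrime_map p.asIdeal q.asIdeal (hpp'.trans hp'q)
  haveI hP' : (p'.asIdeal.map (algebraMap A Aq)).IsPrime :=
    isPrime_map p'.asIdeal q.asIdeal hp'q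
  have hle : p.asIdeal.map (algebraMap A Aq) ≤ p'.asIdeal.map (algebraMap A Aq) :=
    Ideal.map_mono hpp'
  have hV' : LocVanish Mq (j' + e') (p'.asIdeal.map (algebraMap A Aq)) := by
    intro e₁ j₁ he₁ hj₁
    have h1 : e₁ = e' := by
      rw [ringKrullDim_quot_loc p' q hp'q, he'] at he₁
      exact_mod_cast he₁.symm
    subst h1
    have h2 : j₁ = j' := by omega
    subst h2
    rw [subsingleton_H_double_iff p'.asIdeal q.asIdeal hp'q M j₁]
    exact h
  have hV := locVanish_of_le RQ hg Mq (j' + e') _ _ hle hV'
  have h3 := hV e j (by rw [ringKrullDim_quot_loc p q (hpp'.trans hp'q), he]; rfl) hj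
  rwa [subsingleton_H_double_iff p.asIdeal q.asIdeal (hpp'.trans hp'q) M j] at h3

include hπ in
/-- SGA 2 VIII 2.1 (i) ⇔ (ii), affine form -/
theorem main_iff (I : Ideal A) (i : ℕ) :
    (∀ p : PrimeSpectrum A, ¬ I ≤ p.asIdeal → ∀ (c j : ℕ), SGA2.relCodim I p = c → j + c = i →
      Subsingleton (LocCoh.H (IsLocalRing.maximalIdeal (Localization.AtPrime p.asIdeal)) j
        (LocalizedModule p.asIdeal.primeCompl M))) ↔
    (∀ p : PrimeSpectrum A, ¬ I ≤ p.asIdeal → SGA2.relCodim I p = 1 → ∀ j : ℕ, j + 1 = i →
      Subsingleton (LocCoh.H (IsLocalRing.maximalIdeal (Localization.AtPrime p.asIdeal)) j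
        (LocalizedModule p.asIdeal.primeCompl M))) := by
  constructor
  · intro h p hp hc j hj
    exact h p hp 1 j (by rw [hc]; rfl) hj
  · intro h p hp c j hc hj
    obtain ⟨p', q, hpq, hpp', hcov, hIq, hIp', hq, h1⟩ := exists_penultimate I p hp c hc
    have h2 := h p' hIp' (relCodim_eq_one I p' q hIp' hcov hIq) (j + c - 1) (by omega)
    exact key R A π hπ M p p' q hpp' hcov.le c 1 j (j + c - 1) hq
      (by rw [height_of_covBy p' q hcov]; rfl) (by omega) h2

end Global

end Groth.Agent.Lib.Helper85.SGA2Codim
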