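import Groth.Agent.Lib.Helper85.SGA2Key
import Groth.Agent.Lib.Helper85.AnnThmQuot
import Groth.Agent.S0329
import Groth.Agent.S11653
import Groth.Agent.S5172

/-!
# Finiteness of local cohomology over quotients of regular rings (SGA 2 VIII 2.3)
-/

set_option autoImplicit false
set_option linter.style.haveILetI false

namespace Groth.Agent.Lib.Helper85.SGA2Codim

open CategoryTheory Abelian IsLocalRing Order

universe u

section RC

variable {A : Type u} [CommRing A]

/-- `Spec (A/p) ≃o [p, ∞)` -/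
noncomputable def quotIso (p : PrimeSpectrum A) :
    PrimeSpectrum (A ⧸ p.asIdeal) ≃o Set.Ici p :=
  (Ideal.primeSpectrumQuotientOrderIsoZeroLocus p.asIdeal).trans
    (OrderIso.setCongr _ _ (by
      ext x
      rw [PrimeSpectrum.mem_zeroLocus]
      exact Iff.rfl))

theorem quotIso_apply (p : PrimeSpectrum A) (𝔮 : PrimeSpectrum (A ⧸ p.asIdeal)) :
    ((quotIso p 𝔮).1).asIdeal = 𝔮.asIdeal.comap (Ideal.Quotient.mk p.asIdeal) := rfl

/-- the codimension function is the height of `(I + p)/p` in `A/p` -/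
theorem relCodim_eq_height (I : Ideal A) (p : PrimeSpectrum A) :
    SGA2.relCodim I p = ((I ⊔ p.asIdeal).map (Ideal.Quotient.mk p.asIdeal)).height := by
  apply le_antisymm
  · rw [Ideal.height_eq_inf_minimalPrimes]
    refine le_iInf₂ (fun 𝔮 h𝔮 => ?_)
    haveI := h𝔮.1.1
    let 𝔮' : PrimeSpectrum (A ⧸ p.asIdeal) := ⟨𝔮, h𝔮.1.1⟩
    have hI : I ≤ ((quotIso p 𝔮').1).asIdeal := by
      rw [quotIso_apply]
      refine le_trans le_sup_left (le_trans Ideal.le_comap_map (Ideal.comap_mono h𝔮.1.2))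
    have h1 := relCodim_le I p (quotIso p 𝔮').1 (quotIso p 𝔮').2 hI
    have h2 : Order.height (quotIso p 𝔮') = Order.height 𝔮' := Order.height_orderIso _ _
    rw [← PrimeSpectrum.height_eq_orderHeight] at h2
    calc SGA2.relCodim I p ≤ Order.height (⟨(quotIso p 𝔮').1, (quotIso p 𝔮').2⟩ : Set.Ici p) := h1
      _ = 𝔮.height := h2
  · unfold SGA2.relCodim
    refine le_iInf ?_
    rintro ⟨q, hpq, hIq⟩
    haveI : (q.asIdeal.map (Ideal.Quotient.mk p.asIdeal)).IsPrime :=
      Ideal.isPrime_map_quotientMk_of_isPrime hpq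
    let 𝔮' : PrimeSpectrum (A ⧸ p.asIdeal) := ⟨q.asIdeal.map (Ideal.Quotient.mk p.asIdeal),
      inferInstance⟩
    have he : quotIso p 𝔮' = ⟨q, hpq⟩ := by
      apply Subtype.ext
      apply PrimeSpectrum.ext
      rw [quotIso_apply]
      exact Groth.Agent.Lib.Helper73.comap_map_quotientMk_of_le p.asIdeal q.asIdeal hpq
    have h2 : Order.height (quotIso p 𝔮') = Order.height 𝔮' := Order.height_orderIso _ _
    rw [he, ← PrimeSpectrum.height_eq_orderHeight] at h2
    change _ ≤ Order.height (⟨q, hpq⟩ : Set.Ici p)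
    rw [h2]
    exact Ideal.height_mono (Ideal.map_mono (sup_le hIq hpq))

theorem covBy_of_height_eq_one (p q : PrimeSpectrum A) (hpq : p ≤ q)
    (h : Order.height (⟨q, hpq⟩ : Set.Ici p) = 1) : p ⋖ q := by
  have hne : p ≠ q := by
    rintro rfl
    have hmin : IsMin (⟨p, hpq⟩ : Set.Ici p) := fun z _ => z.2
    rw [Order.height_eq_zero.mpr hmin] at h
    exact zero_ne_one h
  refine ⟨lt_of_le_of_ne hpq hne, ?_⟩
  intro r hpr hrq
  have hfin : Order.height (⟨q, hpq⟩ : Set.Ici p) < ⊤ := by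
    rw [h]; exact ENat.one_lt_top
  have hfr : Order.height (⟨r, hpr.le⟩ : Set.Ici p) < ⊤ :=
    lt_of_le_of_lt (Order.height_mono (show (⟨r, hpr.le⟩ : Set.Ici p) ≤ ⟨q, hpq⟩ from hrq.le)) hfin
  have h1 : Order.height (⟨r, hpr.le⟩ : Set.Ici p) < Order.height (⟨q, hpq⟩ : Set.Ici p) :=
    Order.height_strictMono (show (⟨r, hpr.le⟩ : Set.Ici p) < ⟨q, hpq⟩ from hrq) hfr
  rw [h] at h1
  have h0 : Order.height (⟨r, hpr.le⟩ : Set.Ici p) = 0 := by
    rwa [ENat.lt_one_iff_eq_zero] at h1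
  rw [Order.height_eq_zero] at h0
  have : (⟨r, hpr.le⟩ : Set.Ici p) ≤ ⟨p, le_refl p⟩ :=
    h0 (show (⟨p, le_refl p⟩ : Set.Ici p) ≤ ⟨r, hpr.le⟩ from hpr.le)
  exact not_le_of_gt hpr this

theorem exists_covBy_of_relCodim_eq_one (I : Ideal A) (p : PrimeSpectrum A)
    (h : SGA2.relCodim I p = 1) : ∃ q : PrimeSpectrum A, I ≤ q.asIdeal ∧ p ⋖ q := by
  obtain ⟨q, hpq, hIq, hq⟩ := exists_of_relCodim_eq I p 1 (by rw [h]; rfl)
  exact ⟨q, hIq, covBy_of_height_eq_one p q hpq (by rw [hq]; rfl)⟩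

end RC

section Inf

theorem natCast_lt_iInf₂_iff {ι : Type*} (P : ι → Prop) (f : ι → ℕ∞) (n : ℕ) :
    (n : ℕ∞) < ⨅ (i : ι) (_ : P i), f i ↔ ∀ i, P i → (n : ℕ∞) < f i := by
  constructor
  · intro h i hi
    exact lt_of_lt_of_le h (iInf₂_le i hi)
  · intro h
    have h1 : ((n : ℕ∞) + 1) ≤ ⨅ (i : ι) (_ : P i), f i :=
      le_iInf₂ (fun i hi => (ENat.add_one_le_iff (ENat.natCast_ne_top n)).mpr (h i hi))
    exact (ENat.add_one_le_iff (ENat.natCast_ne_top n)).mp h1

end Inf

section Fin0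

variable {A : Type u} [CommRing A] [IsNoetherianRing A]
  (M : Type u) [AddCommGroup M] [Module A M]

omit [IsNoetherianRing A] in
theorem lt_finDimRel_iff (a b : Ideal A) (n : ℕ) :
    (n : ℕ∞) < LocCoh.finDimRel a b M ↔
      ∀ i ≤ n, b ≤ (Module.annihilator A (LocCoh.H a i M)).radical := by
  unfold LocCoh.finDimRel
  rw [natCast_lt_iInf₂_iff]
  constructor
  · intro h i hi
    by_contra hcon
    have := h i hcon
    have : n < i := by exact_mod_cast this
    omega
  · intro h i hi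
    have : n < i := by
      by_contra hcon
      exact hi (h i (by omega))
    exact_mod_cast this

omit [IsNoetherianRing A] in
theorem lt_minAdjDepth_iff (a b : Ideal A) (n : ℕ) :
    (n : ℕ∞) < LocCoh.minAdjDepth a b M ↔
      ∀ p : PrimeSpectrum A, ¬ b ≤ p.asIdeal → (n : ℕ∞) < LocCoh.adjDepth a M p := by
  unfold LocCoh.minAdjDepth
  exact natCast_lt_iInf₂_iff _ _ n

variable [Module.Finite A M]

/-- finiteness in degrees `≤ n` versus annihilation by powers of `I` -/
theorem finite_iff_le_radical (I : Ideal A) (n : ℕ) :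
    (∀ i : ℕ, i ≤ n → Module.Finite A (LocCoh.H I i M)) ↔
      ∀ i ≤ n, I ≤ (Module.annihilator A (LocCoh.H I i M)).radical := by
  rw [Groth.Agent.S0329.result A I M n]
  constructor
  · rintro ⟨J, hIJ, hJ⟩ i hi
    refine hIJ.trans (Ideal.radical_mono ?_)
    intro a ha
    exact Module.mem_annihilator.mpr (hJ i hi a ha)
  · intro h
    have h1 : ∀ i : ℕ, ∃ K : ℕ, i ≤ n → I ^ K ≤ Module.annihilator A (LocCoh.H I i M) := by
      intro i
      by_cases hi : i ≤ n
      · obtain ⟨K, hK⟩ := Ideal.exists_pow_le_of_le_radical_of_fg (h i hi)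
          (IsNoetherian.noetherian I)
        exact ⟨K, fun _ => hK⟩
      · exact ⟨0, fun h' => absurd h' hi⟩
    choose K hK using h1
    refine ⟨I ^ ((Finset.range (n + 1)).sup K + 1), ?_, ?_⟩
    · rw [Ideal.radical_pow I (Nat.succ_ne_zero _)]
      exact Ideal.le_radical
    · intro i hi a ha x
      have hle : K i ≤ (Finset.range (n + 1)).sup K :=
        Finset.le_sup (f := K) (Finset.mem_range.mpr (Nat.lt_succ_of_le hi))
      have : I ^ ((Finset.range (n + 1)).sup K + 1) ≤ I ^ (K i) :=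
        Ideal.pow_le_pow_right (by omega)
      exact Module.mem_annihilator.mp (hK i hi (this ha)) x

end Fin0

section Fin

variable (R : Type u) [CommRing R] [IsRegularRing R] (A : Type u) [CommRing A]
  [IsNoetherianRing A] (π : R →+* A) (hπ : Function.Surjective π) (I : Ideal A)
  (M : Type u) [AddCommGroup M] [Module A M] [Module.Finite A M] (n : ℕ)

include hπ in
/-- finiteness in degrees `≤ n` iff the `I`-adjusted depths off `V(I)` exceed `n` -/
theorem finite_iff_adjDepth :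
    (∀ i : ℕ, i ≤ n → Module.Finite A (LocCoh.H I i M)) ↔
      ∀ p : PrimeSpectrum A, ¬ I ≤ p.asIdeal → (n : ℕ∞) < LocCoh.adjDepth I M p := by
  rw [finite_iff_le_radical, ← lt_finDimRel_iff]
  have heq : LocCoh.finDimRel I I M = LocCoh.minAdjDepth I I M :=
    le_antisymm (Groth.Agent.S11653.result A I I M)
      (Groth.Agent.Lib.Helper85.AnnThm.minAdjDepth_le_finDimRel R A π hπ I I M)
  rw [heq, lt_minAdjDepth_iff]

include hπ in
/-- SGA 2 VIII 2.3 (ii) ⇔ (iii) -/
theorem finite_iff_depth :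
    (∀ i : ℕ, i ≤ n → Module.Finite A (LocCoh.H I i M)) ↔
      ∀ p q : PrimeSpectrum A, ¬ I ≤ p.asIdeal → I ≤ q.asIdeal → p ⋖ q →
        (n : ℕ∞) ≤ LocCoh.depth (Localization.AtPrime p.asIdeal)
          (LocalizedModule p.asIdeal.primeCompl M) := by
  rw [finite_iff_adjDepth R A π hπ I M n]
  constructor
  · intro h p q hp hq hcov
    have h1 := h p hp
    unfold LocCoh.adjDepth at h1
    rw [← relCodim_eq_height, relCodim_eq_one I p q hp hcov hq] at h1
    by_cases hd : LocCoh.depth (Localization.AtPrime p.asIdeal)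
        (LocalizedModule p.asIdeal.primeCompl M) = ⊤
    · rw [hd]; exact le_top
    · exact (ENat.lt_add_one_iff hd).mp h1
  · intro h p hp
    unfold LocCoh.adjDepth
    rw [← relCodim_eq_height]
    refine (Groth.Agent.S5172.result R A π hπ I M n).mpr ?_ p hp
    intro p' hp' hc'
    obtain ⟨q, hIq, hcov⟩ := exists_covBy_of_relCodim_eq_one I p' hc'
    exact h p' q hp' hIq hcov

end Fin

end Groth.Agent.Lib.Helper85.SGA2Codim
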