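import Mathlib
import Groth.Prelude.Def_SGA2

/-!
# Order-theoretic facts about the codimension function `SGA2.relCodim`
-/

set_option autoImplicit false

namespace Groth.Agent.Lib.Helper85.SGA2Codim

open Order

universe u

section Ord

variable {A : Type u} [CommRing A]

theorem relCodim_le (I : Ideal A) (p q : PrimeSpectrum A) (hpq : p ≤ q) (hI : I ≤ q.asIdeal) :
    SGA2.relCodim I p ≤ Order.height (⟨q, hpq⟩ : Set.Ici p) := by
  unfold SGA2.relCodim
  exact iInf_le (fun q : {q : PrimeSpectrum A // p ≤ q ∧ I ≤ q.asIdeal} =>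
    Order.height (⟨q.1, q.2.1⟩ : Set.Ici p)) ⟨q, hpq, hI⟩

theorem exists_of_relCodim_eq (I : Ideal A) (p : PrimeSpectrum A) (c : ℕ)
    (hc : SGA2.relCodim I p = c) :
    ∃ (q : PrimeSpectrum A) (hpq : p ≤ q), I ≤ q.asIdeal ∧
      Order.height (⟨q, hpq⟩ : Set.Ici p) = c := by
  unfold SGA2.relCodim at hc
  by_cases hne : Nonempty {q : PrimeSpectrum A // p ≤ q ∧ I ≤ q.asIdeal}
  · obtain ⟨a, ha⟩ := ENat.exists_eq_iInf (fun q : {q : PrimeSpectrum A // p ≤ q ∧ I ≤ q.asIdeal} =>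
      Order.height (⟨q.1, q.2.1⟩ : Set.Ici p))
    exact ⟨a.1, a.2.1, a.2.2, ha.trans hc⟩
  · rw [not_nonempty_iff] at hne
    rw [iInf_of_empty] at hc
    exact absurd hc (ENat.top_ne_natCast c)

theorem one_le_relCodim (I : Ideal A) (p : PrimeSpectrum A) (hI : ¬ I ≤ p.asIdeal) :
    1 ≤ SGA2.relCodim I p := by
  unfold SGA2.relCodim
  refine le_iInf ?_
  rintro ⟨q, hpq, hIq⟩
  rw [Order.one_le_iff_pos, Order.height_pos]
  intro hmin
  have : (⟨q, hpq⟩ : Set.Ici p) ≤ ⟨p, le_refl p⟩ := hmin (show (⟨p, le_refl p⟩ : Set.Ici p) ≤ ⟨q, hpq⟩ from hpq)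
  have hqp : q ≤ p := this
  exact hI (hIq.trans hqp)

/-- if `p' ⋖ q` then `q` has height one above `p'` -/
theorem height_of_covBy (p' q : PrimeSpectrum A) (h : p' ⋖ q) :
    Order.height (⟨q, h.le⟩ : Set.Ici p') = 1 := by
  apply le_antisymm
  · have : Order.height (⟨q, h.le⟩ : Set.Ici p') ≤ ((1 : ℕ) : ℕ∞) := by
      rw [Order.height_le_coe_iff]
      intro y hy
      have hy1 : p' ≤ y.1 := y.2
      have hy2 : y.1 < q := hy
      have : y.1 = p' := by
        by_contra hne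
        exact h.2 (lt_of_le_of_ne hy1 (Ne.symm hne)) hy2
      have hmin : IsMin y := by
        intro z _
        have hz : p' ≤ z.1 := z.2
        show y.1 ≤ z.1
        rw [this]
        exact hz
      rw [Order.height_eq_zero.mpr hmin]
      exact_mod_cast zero_lt_one
    exact_mod_cast this
  · rw [Order.one_le_iff_pos, Order.height_pos]
    intro hmin
    have : (⟨q, h.le⟩ : Set.Ici p') ≤ ⟨p', le_refl p'⟩ :=
      hmin (show (⟨p', le_refl p'⟩ : Set.Ici p') ≤ ⟨q, h.le⟩ from h.le)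
    exact not_le_of_gt h.lt this

theorem relCodim_eq_one (I : Ideal A) (p' q : PrimeSpectrum A) (hI : ¬ I ≤ p'.asIdeal)
    (h : p' ⋖ q) (hIq : I ≤ q.asIdeal) : SGA2.relCodim I p' = 1 :=
  le_antisymm ((relCodim_le I p' q h.le hIq).trans (height_of_covBy p' q h).le)
    (one_le_relCodim I p' hI)

/-- the penultimate prime in a maximal chain from `p` to `q` -/
theorem exists_penultimate (I : Ideal A) (p : PrimeSpectrum A) (hI : ¬ I ≤ p.asIdeal) (c : ℕ)
    (hc : SGA2.relCodim I p = c) :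
    ∃ (p' q : PrimeSpectrum A) (hpq : p ≤ q), p ≤ p' ∧ p' ⋖ q ∧ I ≤ q.asIdeal ∧ ¬ I ≤ p'.asIdeal ∧
      Order.height (⟨q, hpq⟩ : Set.Ici p) = c ∧ 1 ≤ c := by
  obtain ⟨q, hpq, hIq, hq⟩ := exists_of_relCodim_eq I p c hc
  have h1 : 1 ≤ c := by
    have := one_le_relCodim I p hI
    rw [hc] at this
    exact_mod_cast this
  obtain ⟨c', rfl⟩ : ∃ c', c = c' + 1 := ⟨c - 1, by omega⟩
  have hfin : Order.height (⟨q, hpq⟩ : Set.Ici p) < ⊤ := by
    rw [hq]; exact ENat.natCast_lt_top _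
  have hlt : (c' : ℕ∞) < Order.height (⟨q, hpq⟩ : Set.Ici p) := by
    rw [hq]; exact_mod_cast Nat.lt_succ_self c'
  obtain ⟨y, hyq, hy⟩ := (Order.coe_lt_height_iff hfin).mp hlt
  have hpy : p ≤ y.1 := y.2
  have hyq' : y.1 < q := hyq
  have hIy : ¬ I ≤ y.1.asIdeal := by
    intro hIy
    have h2 := relCodim_le I p y.1 hpy hIy
    rw [hc] at h2
    have h3 : Order.height (⟨y.1, hpy⟩ : Set.Ici p) = c' := hy
    rw [h3] at h2
    have : c' + 1 ≤ c' := by exact_mod_cast h2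
    omega
  have hcov : y.1 ⋖ q := by
    refine ⟨hyq', ?_⟩
    intro r hyr hrq
    have hpr : p ≤ r := hpy.trans hyr.le
    have hfy : Order.height y < ⊤ := by rw [hy]; exact ENat.natCast_lt_top _
    have h4 : Order.height y < Order.height (⟨r, hpr⟩ : Set.Ici p) :=
      Order.height_strictMono (show y < ⟨r, hpr⟩ from hyr) hfy
    have hfr : Order.height (⟨r, hpr⟩ : Set.Ici p) < ⊤ :=
      lt_of_le_of_lt (Order.height_mono (show (⟨r, hpr⟩ : Set.Ici p) ≤ ⟨q, hpq⟩ from hrq.le)) hfin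
    have h5 : Order.height (⟨r, hpr⟩ : Set.Ici p) < Order.height (⟨q, hpq⟩ : Set.Ici p) :=
      Order.height_strictMono (show (⟨r, hpr⟩ : Set.Ici p) < ⟨q, hpq⟩ from hrq) hfr
    rw [hy] at h4
    rw [hq] at h5
    obtain ⟨m, hm⟩ := ENat.ne_top_iff_exists.mp hfr.ne
    rw [← hm] at h4 h5
    have h4' : c' < m := by exact_mod_cast h4
    have h5' : m < c' + 1 := by exact_mod_cast h5
    omega
  exact ⟨y.1, q, hpq, hpy, hcov, hIq, hIy, hq, h1⟩

end Ord

section Dim

variable {A : Type u} [CommRing A]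

/-- `dim A_q / pA_q` is the height of `q` above `p` -/
theorem ringKrullDim_quot_loc (p q : PrimeSpectrum A) (hpq : p ≤ q) :
    ringKrullDim (Localization.AtPrime q.asIdeal ⧸
        p.asIdeal.map (algebraMap A (Localization.AtPrime q.asIdeal))) =
      (Order.height (⟨q, hpq⟩ : Set.Ici p) : WithBot ℕ∞) := by
  rw [ringKrullDim_quotient, Order.height_eq_krullDim_Iic]
  let e := IsLocalization.AtPrime.primeSpectrumOrderIso (Localization.AtPrime q.asIdeal) q.asIdeal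
  have he1 : ∀ r, ((e r).1).asIdeal = r.asIdeal.comap (algebraMap A _) := fun _ => rfl
  have he2 : ∀ r, (e.symm r).asIdeal = r.1.asIdeal.map (algebraMap A _) := fun _ => rfl
  refine Order.krullDim_eq_of_orderIso
    { toFun := fun r => ⟨⟨(e r.1).1, ?_⟩, ?_⟩
      invFun := fun s => ⟨e.symm ⟨s.1.1, s.2⟩, ?_⟩
      left_inv := ?_
      right_inv := ?_
      map_rel_iff' := ?_ }
  · -- p ≤ e r
    have hr := r.2
    rw [PrimeSpectrum.mem_zeroLocus] at hr
    show p.asIdeal ≤ ((e r.1).1).asIdeal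
    rw [he1]
    exact Ideal.map_le_iff_le_comap.mp hr
  · exact (e r.1).2
  · rw [PrimeSpectrum.mem_zeroLocus]
    show _ ≤ (e.symm ⟨s.1.1, s.2⟩).asIdeal
    rw [he2]
    exact Ideal.map_mono (show p.asIdeal ≤ s.1.1.asIdeal from s.1.2)
  · intro r
    apply Subtype.ext
    show e.symm ⟨(e r.1).1, _⟩ = r.1
    exact e.symm_apply_apply r.1
  · intro s
    apply Subtype.ext
    apply Subtype.ext
    show (e (e.symm ⟨s.1.1, s.2⟩)).1 = s.1.1
    rw [e.apply_symm_apply]
  · intro r r'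
    show (e r.1).1 ≤ (e r'.1).1 ↔ r.1 ≤ r'.1
    exact e.le_iff_le

end Dim

end Groth.Agent.Lib.Helper85.SGA2Codim
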