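import Mathlib
import Groth.Prelude.Def_FlatCA
import Groth.Prelude.Def_EGA4b
import Groth.Agent.Lib.Helper85.SmFibBF

set_option autoImplicit false
set_option linter.style.haveILetI false
universe u
open TensorProduct

namespace Groth.Agent.Lib.Helper85.SmFibBF2

/-- The transcendence degree of the residue field at `Q` over a base field `k`, with exactly the
instances a statement over a generic field `k` produces. -/
noncomputable def trdegRes (k C : Type u) [Field k] [CommRing C] [Algebra k C] (Q : Ideal C) [Q.IsPrime] :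
    Cardinal.{u} :=
  Algebra.trdeg k Q.ResidueField

theorem trdegRes_def (k C : Type u) [Field k] [CommRing C] [Algebra k C] (Q : Ideal C)
    [Q.IsPrime] : trdegRes k C Q = Algebra.trdeg k Q.ResidueField := rfl

theorem trdeg_eq_of_ringHom_bijective' {k K L : Type u} [CommRing k] [CommRing K] [CommRing L]
    [Algebra k K] [Algebra k L] (ψ : K →+* L) (hψ : Function.Bijective ψ)
    (hcomp : ψ.comp (algebraMap k K) = algebraMap k L) :
    Algebra.trdeg k K = Algebra.trdeg k L := by
  let ψa : K →ₐ[k] L := { ψ with commutes' := fun x => RingHom.congr_fun hcomp x }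
  exact (AlgEquiv.ofBijective ψa hψ).trdeg_eq

theorem trdegRes_eq_of_bijective {k C K : Type u} [Field k] [CommRing C] [Algebra k C]
    (Q : Ideal C) [Q.IsPrime] [CommRing K] [Algebra k K] (ψ : K →+* Q.ResidueField)
    (hψ : Function.Bijective ψ)
    (hcomp : ∀ x : k, ψ (algebraMap k K x) = algebraMap k Q.ResidueField x) :
    Algebra.trdeg k K = trdegRes k C Q :=
  trdeg_eq_of_ringHom_bijective' ψ hψ (RingHom.ext hcomp)

theorem algebraMap_residueField_tower {A k C : Type u} [CommRing A] [Field k] [CommRing C]
    [Algebra A k] [Algebra k C] [Algebra A C] [IsScalarTower A k C] (Q : Ideal C) [Q.IsPrime]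
    (a : A) :
    algebraMap k Q.ResidueField (algebraMap A k a) =
      algebraMap C Q.ResidueField (algebraMap A C a) := by
  rw [IsScalarTower.algebraMap_apply k C Q.ResidueField, ← IsScalarTower.algebraMap_apply A k C]

theorem ringHom_eq_on_residueField {A : Type u} [CommRing A] (p : Ideal A) [p.IsPrime]
    {L : Type u} [CommRing L] (f g : p.ResidueField →+* L)
    (h : ∀ a : A, f (algebraMap A p.ResidueField a) = g (algebraMap A p.ResidueField a))
    (x : p.ResidueField) : f x = g x := by
  have : f = g := by
    apply Ideal.ResidueField.ringHom_ext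
    ext a
    exact h a
  rw [this]

theorem exists_fiber_prime_data' (A B : Type u) [CommRing A] [CommRing B] [Algebra A B]
    (p : Ideal A) [p.IsPrime] (q : Ideal B) [q.IsPrime] [hq : q.LiesOver p] :
    ∃ (Q : Ideal (p.Fiber B)) (_ : Q.IsPrime),
      Nonempty (Localization.AtPrime Q ≃+* EGA4.FibLocRing A B q) ∧
      @Algebra.trdeg p.ResidueField q.ResidueField _ _
        (Ideal.ResidueField.mapₐ p q (Algebra.ofId A B) hq.over).toRingHom.toAlgebra =
        trdegRes p.ResidueField (p.Fiber B) Q := by
  obtain ⟨Q, hQ⟩ := Groth.Agent.Lib.Helper85.SmFibBF.exists_fiber_prime' A B p q hq.over.symm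
  subst hQ
  refine ⟨Q.asIdeal, Q.2, ⟨Groth.Agent.Lib.Helper56.fiberLocEquiv A B p Q.asIdeal⟩, ?_⟩
  letI alg : Algebra p.ResidueField
      (Q.asIdeal.comap (Algebra.TensorProduct.includeRight : B →ₐ[A] p.Fiber B)).ResidueField :=
    (Ideal.ResidueField.mapₐ p _ (Algebra.ofId A B) hq.over).toRingHom.toAlgebra
  let incl : B →+* p.Fiber B := (Algebra.TensorProduct.includeRight : B →ₐ[A] p.Fiber B)
  have hsurj : incl.SurjectiveOnStalks :=
    RingHom.SurjectiveOnStalks.baseChange' (R := A) (S := p.ResidueField) (T := B)
      (Ideal.surjectiveOnStalks_residueField p)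
  have hbij := hsurj.residueFieldMap_bijective
    (Q.asIdeal.comap (Algebra.TensorProduct.includeRight : B →ₐ[A] p.Fiber B)) Q.asIdeal rfl
  refine trdegRes_eq_of_bijective Q.asIdeal _ hbij ?_
  intro x
  refine ringHom_eq_on_residueField p ((Ideal.ResidueField.map
      (Q.asIdeal.comap (Algebra.TensorProduct.includeRight : B →ₐ[A] p.Fiber B))
      Q.asIdeal incl rfl).comp
      (algebraMap p.ResidueField
        (Q.asIdeal.comap (Algebra.TensorProduct.includeRight : B →ₐ[A] p.Fiber B)).ResidueField))
      _ ?_ x
  intro a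
  simp only [RingHom.comp_apply]
  have e1 : algebraMap p.ResidueField
      (Q.asIdeal.comap (Algebra.TensorProduct.includeRight : B →ₐ[A] p.Fiber B)).ResidueField
      (algebraMap A p.ResidueField a) =
      algebraMap B _ (algebraMap A B a) := by
    exact Ideal.ResidueField.map_algebraMap p _ ((Algebra.ofId A B : A →ₐ[A] B) : A →+* B)
      hq.over a
  rw [e1]
  refine (Ideal.ResidueField.map_algebraMap _ Q.asIdeal incl rfl (algebraMap A B a)).trans ?_
  have e2 : incl (algebraMap A B a) = algebraMap A (p.Fiber B) a :=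
    (Algebra.TensorProduct.includeRight : B →ₐ[A] p.Fiber B).commutes a
  rw [e2]
  exact (algebraMap_residueField_tower (A := A) (k := p.ResidueField) (C := p.Fiber B)
    Q.asIdeal a).symm

end Groth.Agent.Lib.Helper85.SmFibBF2
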