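import Mathlib
import Groth.Agent.Lib.Helper87.SmoothNormal

/-!
# Global functions of an integral affine scheme smooth over a field are integrally closed (helper85)
-/

set_option autoImplicit false
universe u
open CategoryTheory AlgebraicGeometry
open scoped nonZeroDivisors

namespace Groth.Agent.Lib.Helper85.SmoothGammaNormal

/-- Global functions of an affine scheme smooth over a field, assumed integral, form an
integrally closed domain. -/
theorem isIntegrallyClosed_Gamma_of_smooth (k : Type u) [Field k] {X : Scheme.{u}} [IsAffine X]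
    [IsIntegral X] (p : X ⟶ Spec (CommRingCat.of k)) [Smooth p] :
    IsIntegrallyClosed Γ(X, ⊤) := by
  have h1 : RingHom.Smooth p.appTop.hom :=
    (HasRingHomProperty.iff_of_isAffine (P := @Smooth)).mp ‹_›
  let φ : k →+* Γ(X, ⊤) := p.appTop.hom.comp (Scheme.ΓSpecIso (CommRingCat.of k)).inv.hom
  have hφ : φ.Smooth := by
    have := RingHom.Smooth.respectsIso.2 p.appTop.hom
      (Scheme.ΓSpecIso (CommRingCat.of k)).symm.commRingCatIsoToRingEquiv h1
    exact this
  algebraize [φ]
  apply IsIntegrallyClosed.of_localization_maximal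
  intro P _ hP
  exact (Groth.Agent.Lib.Helper87.SmoothNormal.isDomain_and_isIntegrallyClosed k Γ(X, ⊤) P
    (Localization.AtPrime P)).2

/-- A flat morphism of affine schemes pulls nonzerodivisors back to nonzerodivisors (on global
functions). -/
theorem appTop_mem_nonZeroDivisors_of_flat {X Y : Scheme.{u}} [IsAffine X] [IsAffine Y]
    (f : X ⟶ Y) [Flat f] {b : Γ(Y, ⊤)} (hb : b ∈ Γ(Y, ⊤)⁰) : f.appTop.hom b ∈ Γ(X, ⊤)⁰ := by
  have h2 : (f.appTop.hom).Flat := (HasRingHomProperty.iff_of_isAffine (P := @Flat)).mp ‹_›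
  letI := f.appTop.hom.toAlgebra
  have hfl : Module.Flat Γ(Y, ⊤) Γ(X, ⊤) := h2
  have hreg : IsSMulRegular Γ(X, ⊤) b := Module.Flat.isSMulRegular_of_nonZeroDivisors hb
  have key : ∀ x : Γ(X, ⊤), f.appTop.hom b * x = 0 → x = 0 := by
    intro x hx
    apply hreg
    change b • x = b • 0
    rw [smul_zero, Algebra.smul_def]
    exact hx
  rw [mem_nonZeroDivisors_iff]
  refine ⟨key, fun x hx => key x ?_⟩
  rw [mul_comm]
  exact hx

end Groth.Agent.Lib.Helper85.SmoothGammaNormal
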