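import Groth.Agent.Lib.Helper85.Matlis
import Mathlib

/-!
# Power-torsion modules embed in a direct sum of injective hulls, bijectively on socles (helper85)

`R` Noetherian local, `e : κ → E` an injective hull of the residue field, `M` an `𝔪`-power torsion module.
Then there are a set `J` and an injective linear map `φ : M → J →₀ E` whose range contains the socle of
`J →₀ E`.
-/

set_option autoImplicit false
universe u

namespace Groth.Agent.Lib.Helper85.SocleSum

open InjHull IsLocalRing

section BassPapp

variable {A : Type u} [CommRing A] [IsNoetherianRing A]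

lemma exists_le_supported {ι : Type*} {E : Type*} [AddCommGroup E] [Module A E]
    (N : Submodule A (ι →₀ E)) (hN : N.FG) :
    ∃ s : Finset ι, N ≤ Finsupp.supported E A (s : Set ι) := by
  classical
  obtain ⟨T, rfl⟩ := hN
  refine ⟨T.biUnion Finsupp.support, ?_⟩
  rw [Submodule.span_le]
  intro m hm
  rw [SetLike.mem_coe, Finsupp.mem_supported]
  intro i hi
  exact Finset.mem_biUnion.2 ⟨m, hm, hi⟩

theorem baer_finsupp (ι : Type u) (E : Type u) [AddCommGroup E] [Module A E]
    [Module.Injective A E] : Module.Baer A (ι →₀ E) := by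
  classical
  intro I g
  have hfg : (LinearMap.range g).FG := by
    rw [LinearMap.range_eq_map]
    exact Submodule.FG.map _ (Module.Finite.fg_top)
  obtain ⟨s, hs⟩ := exists_le_supported _ hfg
  have hB : Module.Baer A (Finsupp.supported E A (s : Set ι)) := by
    have h1 : Module.Baer A (((s : Set ι) : Type u) → E) := Module.Baer.of_injective inferInstance
    exact Module.Baer.of_equiv
      ((Finsupp.supportedEquivFinsupp (R := A) (M := E) (s : Set ι)).trans
        (Finsupp.linearEquivFunOnFinite A E (s : Set ι))).symm h1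
  let g₀ : I →ₗ[A] Finsupp.supported E A (s : Set ι) :=
    g.codRestrict _ (fun x => hs (LinearMap.mem_range_self g x))
  obtain ⟨h₀, hh₀⟩ := hB I g₀
  refine ⟨(Finsupp.supported E A (s : Set ι)).subtype ∘ₗ h₀, fun x hx => ?_⟩
  rw [LinearMap.comp_apply, hh₀ x hx]
  rfl

theorem injective_finsupp (ι : Type u) (E : Type u) [AddCommGroup E] [Module A E]
    [Module.Injective A E] : Module.Injective A (ι →₀ E) :=
  Module.Baer.injective (baer_finsupp ι E)

end BassPapp

variable {R : Type u} [CommRing R] [IsLocalRing R] [IsNoetherianRing R]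
  {E : Type u} [AddCommGroup E] [Module R E] {e : ResidueField R →ₗ[R] E}

/-- a finitely supported family in `E` killed by `𝔪` has all coordinates in the image of the residue
field -/
theorem mem_range_mapRange (he : IsEssentialInj e) {J : Type u} (y : J →₀ E)
    (hy : ∀ a ∈ maximalIdeal R, a • y = 0) :
    y ∈ LinearMap.range (Finsupp.mapRange.linearMap (α := J) e) := by
  classical
  have hsum : y = y.sum Finsupp.single := (Finsupp.sum_single y).symm
  rw [hsum]
  refine Submodule.sum_mem _ (fun j _ => ?_)
  have hj : y j ∈ LocCoh.torsionBy (maximalIdeal R) E := by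
    rw [Submodule.mem_torsionBySet_iff]
    rintro ⟨a, ha⟩
    have := congrArg (fun z : J →₀ E => z j) (hy a ha)
    simpa using this
  rw [Groth.Agent.Lib.Helper85.Matlis.socle_eq_range he] at hj
  obtain ⟨c, hc⟩ := hj
  refine ⟨Finsupp.single j c, ?_⟩
  rw [Finsupp.mapRange.linearMap_apply, Finsupp.mapRange_single, hc]

theorem isPowerTorsion_finsupp (he : IsEssentialInj e) (J : Type u) :
    LocCoh.IsPowerTorsion (maximalIdeal R) (J →₀ E) := by
  classical
  intro y
  induction y using Finsupp.induction_linear with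
  | zero => exact ⟨0, fun a _ => smul_zero a⟩
  | add y₁ y₂ h₁ h₂ =>
    obtain ⟨n₁, hn₁⟩ := h₁
    obtain ⟨n₂, hn₂⟩ := h₂
    refine ⟨max n₁ n₂, fun a ha => ?_⟩
    rw [smul_add, hn₁ a (Ideal.pow_le_pow_right (le_max_left _ _) ha),
      hn₂ a (Ideal.pow_le_pow_right (le_max_right _ _) ha), add_zero]
  | single j v =>
    obtain ⟨n, hn⟩ := Groth.Agent.Lib.Helper85.Matlis.isPowerTorsion he v
    refine ⟨n, fun a ha => ?_⟩
    rw [Finsupp.smul_single, hn a ha, Finsupp.single_zero]

/-- **Embedding of a power torsion module** into a direct sum of copies of `E`, bijective on socles. -/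
theorem exists_embedding (he : IsInjectiveHull e) (M : Type u) [AddCommGroup M] [Module R M]
    (hM : LocCoh.IsPowerTorsion (maximalIdeal R) M) :
    ∃ (J : Type u) (φ : M →ₗ[R] (J →₀ E)), Function.Injective φ ∧
      ∀ y : J →₀ E, (∀ a ∈ maximalIdeal R, a • y = 0) → y ∈ LinearMap.range φ := by
  classical
  let 𝔪 := maximalIdeal R
  let S : Submodule R M := Submodule.torsionBySet R M (𝔪 : Set R)
  have hS : Module.IsTorsionBySet R S (𝔪 : Set R) := Submodule.torsionBySet_isTorsionBySet _
  letI modS : Module (R ⧸ 𝔪) S := hS.module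
  haveI towS : IsScalarTower R (R ⧸ 𝔪) S := hS.isScalarTower
  letI : Field (R ⧸ 𝔪) := Ideal.Quotient.field 𝔪
  let J := Module.Free.ChooseBasisIndex (R ⧸ 𝔪) S
  let b : Module.Basis J (R ⧸ 𝔪) S := Module.Free.chooseBasis (R ⧸ 𝔪) S
  let e' : (R ⧸ 𝔪) →ₗ[R] E := e
  have he' : Function.Injective e' := he.injective
  let r : S →ₗ[R] (J →₀ (R ⧸ 𝔪)) := (b.repr.restrictScalars R).toLinearMap
  have hr : Function.Bijective r := (b.repr.restrictScalars R).bijective
  let ψ : S →ₗ[R] (J →₀ E) := (Finsupp.mapRange.linearMap (α := J) e') ∘ₗ r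
  have hψ : Function.Injective ψ := by
    intro s₁ s₂ h
    apply hr.1
    exact Finsupp.mapRange_injective e' (map_zero e') he' h
  haveI : Module.Injective R E := he.isInjective
  haveI : Module.Injective R (J →₀ E) := injective_finsupp J E
  obtain ⟨φ, hφ⟩ := Module.Injective.out (R := R) (Q := J →₀ E) S.subtype S.injective_subtype ψ
  refine ⟨J, φ, ?_, ?_⟩
  · rw [← LinearMap.ker_eq_bot, eq_bot_iff]
    intro z hz
    rw [LinearMap.mem_ker] at hz
    rw [Submodule.mem_bot]
    by_contra hne
    obtain ⟨a, haz, has⟩ :=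
      Groth.Agent.Lib.Helper85.Matlis.exists_smul_mem_socle hM z hne
    have h1 : ψ ⟨a • z, has⟩ = 0 := by
      rw [← hφ ⟨a • z, has⟩]
      change φ (a • z) = 0
      rw [map_smul, hz, smul_zero]
    have h2 : (⟨a • z, has⟩ : S) = 0 := hψ (h1.trans (map_zero ψ).symm)
    exact haz (congrArg Subtype.val h2)
  · intro y hy
    obtain ⟨y', hy'⟩ := mem_range_mapRange (R := R) (e := e) he.toIsEssentialInj y hy
    obtain ⟨s, hs⟩ := hr.2 y'
    refine ⟨(s : M), ?_⟩
    have := hφ s
    change φ (s : M) = ψ s at this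
    rw [this]
    change Finsupp.mapRange.linearMap (α := J) e' (r s) = y
    rw [hs]
    exact hy'

end Groth.Agent.Lib.Helper85.SocleSum
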