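import Mathlib
set_option autoImplicit false
universe u
namespace Groth.Agent.Lib.Helper85.SpreadLIM

/-- An element of `C[1/g]` that dies in `W = C_q` is killed by some `u ∉ q`. -/
theorem exists_mul_eq_zero {C : Type u} [CommRing C] (q : Ideal C) [q.IsPrime] (W : Type u)
    [CommRing W] [Algebra C W] [IsLocalization.AtPrime W q] (g : C) (A : Type u) [CommRing A]
    [Algebra C A] [IsLocalization.Away g A] (θ : A →ₐ[C] W) (x : A) (hx : θ x = 0) :
    ∃ u : C, u ∉ q ∧ algebraMap C A u * x = 0 := by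
  obtain ⟨a, s, rfl⟩ := IsLocalization.exists_mk'_eq (Submonoid.powers g) x
  have h1 : algebraMap C W a = 0 := by
    have := IsLocalization.mk'_spec A a s
    have h2 := congrArg θ this
    rw [map_mul, hx, zero_mul, AlgHom.commutes] at h2
    exact h2.symm
  obtain ⟨u, hu⟩ := (IsLocalization.map_eq_zero_iff q.primeCompl W a).mp h1
  refine ⟨u, u.2, ?_⟩
  rw [IsLocalization.mul_mk'_eq_mk'_of_mul, hu, IsLocalization.mk'_zero]

theorem exists_away_solution {C : Type u} [CommRing C] (q : Ideal C) [q.IsPrime] (W : Type u)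
    [CommRing W] [Algebra C W] [IsLocalization.AtPrime W q] (h₀ : C) (hh₀ : h₀ ∉ q) {n m : ℕ}
    (F : Fin m → MvPolynomial (Fin n) C) (w : Fin n → W)
    (hw : ∀ j, MvPolynomial.aeval w (F j) = 0) :
    ∃ h : C, h ∉ q ∧ ∃ b : Fin n → Localization.Away (h₀ * h),
      (∀ j, MvPolynomial.aeval b (F j) = 0) ∧
        ∀ θ : Localization.Away (h₀ * h) →ₐ[C] W, ∀ i, θ (b i) = w i := by
  classical
  obtain ⟨h1, hh1⟩ := IsLocalization.exist_integer_multiples_of_finite q.primeCompl w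
  choose c hc using hh1
  have hunitW : ∀ g : C, g ∉ q → IsUnit (algebraMap C W g) := fun g hg =>
    IsLocalization.map_units W (⟨g, hg⟩ : q.primeCompl)
  have hg1 : h₀ * (h1 : C) ∉ q := fun h => (Ideal.IsPrime.mem_or_mem ‹_› h).elim hh₀ h1.2
  let θ1 : Localization.Away (h₀ * (h1 : C)) →ₐ[C] W :=
    IsLocalization.Away.liftAlgHom (A := C) (h₀ * (h1 : C)) (f := Algebra.ofId C W)
      (hunitW _ hg1)
  let d : Submonoid.powers (h₀ * (h1 : C)) := ⟨h₀ * h1, Submonoid.mem_powers _⟩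
  let b1 : Fin n → Localization.Away (h₀ * (h1 : C)) := fun i =>
    IsLocalization.mk' (Localization.Away (h₀ * (h1 : C))) (c i * h₀) d
  have hθ1 : ∀ i, θ1 (b1 i) = w i := by
    intro i
    have h2 := IsLocalization.mk'_spec (Localization.Away (h₀ * (h1 : C))) (c i * h₀) d
    have h3 := congrArg θ1 h2
    rw [map_mul, AlgHom.commutes, AlgHom.commutes] at h3
    have h4 : algebraMap C W (c i * h₀) = w i * algebraMap C W (h₀ * h1) := by
      rw [map_mul, hc i, map_mul, Algebra.smul_def]; ring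
    rw [h4] at h3
    exact (hunitW _ hg1).mul_right_cancel h3
  have hkill : ∀ j, ∃ u : C, u ∉ q ∧
      algebraMap C (Localization.Away (h₀ * (h1 : C))) u * MvPolynomial.aeval b1 (F j) = 0 := by
    intro j
    apply exists_mul_eq_zero q W (h₀ * h1) (Localization.Away (h₀ * (h1 : C))) θ1
    rw [MvPolynomial.comp_aeval_apply]
    have : (fun i => θ1 (b1 i)) = w := funext hθ1
    rw [this]; exact hw j
  choose u hu hukill using hkill
  have hU : (∏ j, u j) ∉ q := by
    intro h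
    obtain ⟨j, -, hj⟩ := (Ideal.IsPrime.prod_mem_iff (hp := ‹q.IsPrime›)).mp h
    exact hu j hj
  have hh : (h1 : C) * ∏ j, u j ∉ q := fun h => (Ideal.IsPrime.mem_or_mem ‹_› h).elim h1.2 hU
  refine ⟨(h1 : C) * ∏ j, u j, hh, ?_⟩
  have hdvd : h₀ * (h1 : C) ∣ h₀ * ((h1 : C) * ∏ j, u j) :=
    ⟨∏ j, u j, by ring⟩
  let φ : Localization.Away (h₀ * (h1 : C)) →ₐ[C]
      Localization.Away (h₀ * ((h1 : C) * ∏ j, u j)) :=
    IsLocalization.Away.liftAlgHom (A := C) (h₀ * (h1 : C))
      (f := Algebra.ofId C (Localization.Away (h₀ * ((h1 : C) * ∏ j, u j))))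
      (IsLocalization.Away.isUnit_of_dvd (h₀ * ((h1 : C) * ∏ j, u j)) hdvd)
  refine ⟨fun i => φ (b1 i), ?_, ?_⟩
  · intro j
    have h1' : MvPolynomial.aeval (fun i => φ (b1 i)) (F j) = φ (MvPolynomial.aeval b1 (F j)) :=
      by rw [MvPolynomial.comp_aeval_apply]
    rw [h1']
    have hdvd2 : u j ∣ h₀ * ((h1 : C) * ∏ j, u j) :=
      Dvd.dvd.mul_left (Dvd.dvd.mul_left (Finset.dvd_prod_of_mem u (Finset.mem_univ j)) _) _
    have hunit : IsUnit (algebraMap C (Localization.Away (h₀ * ((h1 : C) * ∏ j, u j))) (u j)) :=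
      IsLocalization.Away.isUnit_of_dvd (h₀ * ((h1 : C) * ∏ j, u j)) hdvd2
    have h5 := congrArg φ (hukill j)
    rw [map_mul, AlgHom.commutes, map_zero] at h5
    exact (hunit.mul_right_eq_zero).mp h5
  · intro θ i
    have : θ.comp φ = θ1 :=
      (IsLocalization.algHom_subsingleton (Submonoid.powers (h₀ * (h1 : C)))).elim _ _
    have h6 : θ (φ (b1 i)) = (θ.comp φ) (b1 i) := rfl
    rw [h6, this, hθ1]

end Groth.Agent.Lib.Helper85.SpreadLIM
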