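import Mathlib
import Groth.Agent.Lib.Helper51.CurveEtale
import Groth.Agent.Lib.Helper34.MiracleC
import Groth.Agent.Lib.Helper19.Sm.SmoothFiberPointwise

/-!
# Smoothness of `S ×_C C'` for a fibration over a curve and a cover unramified over the bad fibres
(helper85)
-/

set_option autoImplicit false
universe u
open CategoryTheory CategoryTheory.Limits AlgebraicGeometry TopologicalSpace IsLocalRing

namespace Groth.Agent.Lib.Helper85.SurfSmooth

/-- A surjective morphism from an integral scheme to an integral smooth curve over a field is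
flat. -/
theorem flat_of_surjective_curve (k : Type u) [Field k] {X Y : Scheme.{u}} [IsIntegral X]
    [IsIntegral Y] (pY : Y ⟶ Spec (CommRingCat.of k)) [Smooth pY]
    (hdY : topologicalKrullDim Y = 1) (f : X ⟶ Y) [Surjective f] : Flat f := by
  rw [Flat.iff_flat_stalkMap]
  intro x
  have hreg : IsRegularLocalRing (Y.presheaf.stalk (f x)) :=
    Groth.Agent.Lib.Helper30.SmoothRegular.stalk_regular_of_smooth_field k pY _
  have hdim : ringKrullDim (Y.presheaf.stalk (f x)) ≤ 1 :=
    (Groth.Agent.Lib.Helper51.CurveEtale.ringKrullDim_stalk_le Y _).trans hdY.le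
  have : IsPrincipalIdealRing (Y.presheaf.stalk (f x)) :=
    Groth.Agent.Lib.Helper51.CurveEtale.isPrincipalIdealRing_of_regular_of_dim_le_one _ hdim
  have hinj : Function.Injective (f.stalkMap x).hom := by
    apply Groth.Agent.Lib.Helper34.Miracle.stalkMap_injective_of_dominant f x
    intro Z hZ
    have hX : irreducibleComponents (X : Type u) = {Set.univ} :=
      irreducibleComponents_eq_singleton
    have hY : irreducibleComponents (Y : Type u) = {Set.univ} :=
      irreducibleComponents_eq_singleton
    rw [hX, Set.mem_singleton_iff] at hZ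
    rw [hY, Set.mem_singleton_iff, hZ, Set.image_univ, (f.surjective).range_eq, closure_univ]
  algebraize [(f.stalkMap x).hom]
  have hfl : Module.Flat (Y.presheaf.stalk (f x)) (X.presheaf.stalk x) :=
    Groth.Agent.Lib.Helper51.CurveEtale.flat_of_injective_of_pid hinj
  rw [← RingHom.flat_algebraMap_iff, RingHom.algebraMap_toAlgebra] at hfl
  exact hfl

/-- Smooth points compose. -/
theorem mem_smoothLocus_comp {X Y Z : Scheme.{u}} (f : X ⟶ Y) (g : Y ⟶ Z)
    [LocallyOfFinitePresentation f] [LocallyOfFinitePresentation g] (x : X)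
    (hf : x ∈ f.smoothLocus) (hg : f x ∈ g.smoothLocus) : x ∈ (f ≫ g).smoothLocus := by
  rw [Scheme.Hom.mem_smoothLocus] at hf hg ⊢
  rw [Scheme.Hom.stalkMap_comp]
  exact hg.comp hf

/-- In a Jacobson space every point of an open set specializes to a closed point of that open
set. -/
theorem exists_closed_specializes {X : Type*} [TopologicalSpace X] [JacobsonSpace X]
    (U : Set X) (hU : IsOpen U) (c : X) (hc : c ∈ U) :
    ∃ x, x ∈ U ∧ IsClosed ({x} : Set X) ∧ c ⤳ x := by
  have hne : (closure {c} ∩ U).Nonempty := ⟨c, subset_closure rfl, hc⟩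
  have hlc : IsLocallyClosed (closure {c} ∩ U) :=
    (isClosed_closure.isLocallyClosed).inter hU.isLocallyClosed
  obtain ⟨x, ⟨hx1, hx2⟩, hxc⟩ := nonempty_inter_closedPoints hne hlc
  exact ⟨x, hx2, hxc, specializes_iff_mem_closure.mpr hx1⟩

/-- Let `S`, `C`, `C'` be integral and smooth over an algebraically closed field `k`, with `C` and
`C'` of dimension one, `f : S ⟶ C` a surjective `k`-morphism and `ψ : C' ⟶ C` a `k`-morphism that is
unramified near every point lying over a point of `C` whose `f`-fibre is not smooth.  Then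
`S ×_C C'` is smooth over `k`. -/
theorem smooth_pullback_snd_comp (k : Type u) [Field k] [IsAlgClosed k]
    {S C C' : Scheme.{u}} (pS : S ⟶ Spec (CommRingCat.of k)) (pC : C ⟶ Spec (CommRingCat.of k))
    (pC' : C' ⟶ Spec (CommRingCat.of k))
    [Smooth pS] [Smooth pC] [Smooth pC'] [IsIntegral S] [IsIntegral C] [IsIntegral C']
    (hdimC : topologicalKrullDim C = 1) (hdimC' : topologicalKrullDim C' = 1)
    (f : S ⟶ C) (hf : f ≫ pC = pS) [Surjective f]
    (ψ : C' ⟶ C) (hψw : ψ ≫ pC = pC')
    (hψ : ∀ c : C', ¬ Smooth (f.fiberToSpecResidueField (ψ.base c)) →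
      ∃ U : C'.Opens, c ∈ U ∧ FormallyUnramified (U.ι ≫ ψ)) :
    Smooth (pullback.snd f ψ ≫ pC') := by
  have hlftf : LocallyOfFiniteType f := by
    have : LocallyOfFiniteType (f ≫ pC) := by rw [hf]; infer_instance
    exact locallyOfFiniteType_of_comp f pC
  have hlftψ : LocallyOfFiniteType ψ := by
    have : LocallyOfFiniteType (ψ ≫ pC) := by rw [hψw]; infer_instance
    exact locallyOfFiniteType_of_comp ψ pC
  have hN : IsLocallyNoetherian C := LocallyOfFiniteType.isLocallyNoetherian pC
  have hN' : IsLocallyNoetherian C' := LocallyOfFiniteType.isLocallyNoetherian pC'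
  have hlfpf : LocallyOfFinitePresentation f := inferInstance
  have hlfpψ : LocallyOfFinitePresentation ψ := inferInstance
  have hflat : Flat f := flat_of_surjective_curve k pC hdimC f
  have hJ : JacobsonSpace C' := LocallyOfFiniteType.jacobsonSpace pC'
  have heq : pullback.snd f ψ ≫ pC' = pullback.fst f ψ ≫ pS := by
    rw [← hψw, ← hf, ← Category.assoc, ← Category.assoc, pullback.condition]
  rw [← Scheme.Hom.smoothLocus_eq_top_iff, ← top_le_iff]
  rintro p -
  by_cases hsm : Smooth (f.fiberToSpecResidueField (ψ.base (pullback.snd f ψ p)))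
  · -- Case A
    apply mem_smoothLocus_comp
    · apply Groth.Agent.Lib.Helper19.mem_smoothLocus_of_flat_of_smooth_fiber
      · exact (Flat.iff_flat_stalkMap (pullback.snd f ψ)).mp inferInstance p
      · exact MorphismProperty.of_isPullback
          (isPullback_fiberToSpecResidueField_of_isPullback (IsPullback.of_hasPullback f ψ) _) hsm
    · rw [pC'.smoothLocus_eq_top]; trivial
  · -- Case B
    obtain ⟨U, hcU, hU⟩ := hψ _ hsm
    obtain ⟨x, hxU, hxc, hspec⟩ := exists_closed_specializes (U : Set C') U.2 _ hcU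
    have hmax := Groth.Agent.Lib.Helper51.CurveEtale.map_maximalIdeal_of_unramified ψ x U hxU
    obtain ⟨U', hxU', hU'⟩ :=
      Groth.Agent.Lib.Helper51.CurveEtale.exists_etale_of_map_maximalIdeal k pC' pC ψ hψw hdimC'
        hdimC x hxc hmax
    have hcU' : pullback.snd f ψ p ∈ U' := hspec.mem_open U'.2 hxU'
    have transfer : ∀ {A B : Scheme.{u}} (h₁ h₂ : A ⟶ B) [LocallyOfFinitePresentation h₁]
        [LocallyOfFinitePresentation h₂] (a : A), h₁ = h₂ → a ∈ h₁.smoothLocus →
        a ∈ h₂.smoothLocus := by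
      rintro A B h₁ _ _ _ a rfl h
      exact h
    have hlfp2 : LocallyOfFinitePresentation (pullback.fst f ψ ≫ pS) := inferInstance
    refine transfer (pullback.fst f ψ ≫ pS) _ p heq.symm ?_
    let j : pullback f (U'.ι ≫ ψ) ⟶ pullback f ψ :=
      pullback.map f (U'.ι ≫ ψ) f ψ (𝟙 S) U'.ι (𝟙 C) (by simp) (by simp)
    have hj : IsOpenImmersion j := inferInstance
    have hjfst : j ≫ pullback.fst f ψ = pullback.fst f (U'.ι ≫ ψ) :=
      (pullback.lift_fst _ _ _).trans (Category.comp_id _)
    have hrange : p ∈ Set.range j := by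
      rw [Scheme.Pullback.range_map]
      refine ⟨?_, ?_⟩
      · simp
      · simpa using hcU'
    obtain ⟨q, rfl⟩ := hrange
    apply mem_smoothLocus_comp
    · rw [← Scheme.Hom.mem_preimage, Scheme.Hom.preimage_smoothLocus_eq]
      refine transfer (pullback.fst f (U'.ι ≫ ψ)) _ q hjfst.symm ?_
      rw [(pullback.fst f (U'.ι ≫ ψ)).smoothLocus_eq_top]; trivial
    · rw [pS.smoothLocus_eq_top]; trivial

end Groth.Agent.Lib.Helper85.SurfSmooth

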