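import Mathlib
import Groth.Agent.S9363
import Groth.Agent.S9142
import Groth.Agent.S0116
import Groth.Agent.Lib.Helper56.FibreCM

/-!
# Descent of local-ring properties along syntomic covers (helper85)

`Good P`: a property `P` of rings which is iso-invariant, ascends along syntomic ring maps
(prime by prime) and descends along flat local homomorphisms of Noetherian local rings.
`main`: for a jointly surjective family of syntomic morphisms `f i : X i ⟶ S`,
`S` is locally Noetherian with `P` on all stalks iff every `X i` is.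
Instances: Cohen–Macaulay (`good_CM`) and Serre's `(S_k)` (`good_Sk`).
-/

set_option autoImplicit false
universe u

namespace Groth.Agent.Lib.Helper85.SyntDesc

open AlgebraicGeometry CategoryTheory CategoryTheory.Limits Opposite

section Basic
variable {X S : Scheme.{u}} (f : X ⟶ S)

theorem flat_of_syntomic (hf : Synt.IsSyntomicMor f) : Flat f := by
  rw [HasRingHomProperty.iff_appLE (P := @Flat)]
  intro V U e
  exact ((Groth.Agent.S9363.result f).mp hf U V e).1

theorem lfp_of_syntomic (hf : Synt.IsSyntomicMor f) : LocallyOfFinitePresentation f := by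
  rw [HasRingHomProperty.iff_appLE (P := @LocallyOfFinitePresentation)]
  intro V U e
  exact ((Groth.Agent.S9363.result f).mp hf U V e).2.1

end Basic

/-- a property of rings that is local in the syntomic topology (ring-level axioms) -/
structure Good (P : ∀ (R : Type u) [CommRing R], Prop) : Prop where
  iso : ∀ {R R' : Type u} [CommRing R] [CommRing R'], (R ≃+* R') → P R → P R'
  ascent : ∀ (R T : Type u) [CommRing R] [CommRing T] [Algebra R T] [IsNoetherianRing R],
    Synt.IsSyntomic R T → (∀ (p : Ideal R) [p.IsPrime], P (Localization.AtPrime p)) →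
      ∀ (q : Ideal T) [q.IsPrime], P (Localization.AtPrime q)
  descent : ∀ (A B : Type u) [CommRing A] [CommRing B] [IsLocalRing A] [IsLocalRing B]
    [IsNoetherianRing A] [IsNoetherianRing B] (φ : A →+* B), φ.Flat → IsLocalHom φ → P B → P A

section Main

variable {P : ∀ (R : Type u) [CommRing R], Prop}

theorem ascent_stalk (hP : Good P) {X S : Scheme.{u}} (f : X ⟶ S) (hf : Synt.IsSyntomicMor f)
    [IsLocallyNoetherian S] (hS : ∀ s : S, P (S.presheaf.stalk s)) (x : X) :
    P (X.presheaf.stalk x) := by
  obtain ⟨V, hV, hsV, -⟩ := exists_isAffineOpen_mem_and_subset (X := S) (U := ⊤) (x := f x)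
    (by simp)
  obtain ⟨U, hU, hxU, hUV⟩ := exists_isAffineOpen_mem_and_subset (X := X) (U := f ⁻¹ᵁ V)
    (x := x) hsV
  have hsyn := (Groth.Agent.S9363.result f).mp hf ⟨U, hU⟩ ⟨V, hV⟩ hUV
  letI := (f.appLE V U hUV).hom.toAlgebra
  have hN : IsNoetherianRing Γ(S, V) := IsLocallyNoetherian.component_noetherian ⟨V, hV⟩
  have hR : ∀ (p : Ideal Γ(S, V)) [p.IsPrime], P (Localization.AtPrime p) := by
    intro p hp
    let y : PrimeSpectrum Γ(S, V) := ⟨p, hp⟩
    have hy : hV.fromSpec y ∈ V := (hV.isoSpec.inv y).2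
    letI := TopCat.Presheaf.algebra_section_stalk S.presheaf ⟨hV.fromSpec y, hy⟩
    have hloc : IsLocalization.AtPrime (S.presheaf.stalk (hV.fromSpec y)) p :=
      hV.isLocalization_stalk' y hy
    exact hP.iso (IsLocalization.algEquiv p.primeCompl (S.presheaf.stalk (hV.fromSpec y))
      (Localization.AtPrime p)).toRingEquiv (hS _)
  have hT := hP.ascent Γ(S, V) Γ(X, U) hsyn hR (hU.primeIdealOf ⟨x, hxU⟩).asIdeal
  letI := TopCat.Presheaf.algebra_section_stalk X.presheaf ⟨x, hxU⟩
  have hloc := hU.isLocalization_stalk ⟨x, hxU⟩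
  exact hP.iso (IsLocalization.algEquiv (hU.primeIdealOf ⟨x, hxU⟩).asIdeal.primeCompl
    (Localization.AtPrime (hU.primeIdealOf ⟨x, hxU⟩).asIdeal)
    (X.presheaf.stalk x)).toRingEquiv hT

theorem descent_stalk (hP : Good P) {X S : Scheme.{u}} (f : X ⟶ S) [Flat f]
    [IsLocallyNoetherian S] [IsLocallyNoetherian X] (x : X) (hx : P (X.presheaf.stalk x)) :
    P (S.presheaf.stalk (f x)) :=
  hP.descent _ _ (f.stalkMap x).hom (Flat.stalkMap f x) inferInstance hx

theorem isLocallyNoetherian_of_cover {ι : Type u} {S : Scheme.{u}} {X : ι → Scheme.{u}}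
    (f : ∀ i, X i ⟶ S) (hsurj : ∀ s : S, ∃ i, s ∈ Set.range (f i))
    [∀ i, Flat (f i)] [∀ i, LocallyOfFinitePresentation (f i)]
    [∀ i, IsLocallyNoetherian (X i)] : IsLocallyNoetherian S := by
  let p : ∐ X ⟶ S := Sigma.desc f
  have hp : Surjective p := by
    refine ⟨fun s ↦ ?_⟩
    obtain ⟨i, x, rfl⟩ := hsurj s
    refine ⟨Sigma.ι X i x, ?_⟩
    rw [← Scheme.Hom.comp_apply]
    simp [p]
  have hN : IsLocallyNoetherian (∐ X) := by
    rw [isLocallyNoetherian_iff_openCover (sigmaOpenCover X)]
    intro i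
    change IsLocallyNoetherian (X i)
    infer_instance
  have hflat : Flat p := by
    rw [IsZariskiLocalAtSource.iff_of_openCover (P := @Flat) (sigmaOpenCover X)]
    intro i
    change Flat (Sigma.ι X i ≫ Sigma.desc f)
    rw [Sigma.ι_desc]
    infer_instance
  have hlfp : LocallyOfFinitePresentation p := by
    rw [IsZariskiLocalAtSource.iff_of_openCover (P := @LocallyOfFinitePresentation)
      (sigmaOpenCover X)]
    intro i
    change LocallyOfFinitePresentation (Sigma.ι X i ≫ Sigma.desc f)
    rw [Sigma.ι_desc]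
    infer_instance
  exact Groth.Agent.S0116.result p

theorem main (hP : Good P) {ι : Type u} {S : Scheme.{u}} {X : ι → Scheme.{u}} (f : ∀ i, X i ⟶ S)
    (hsurj : ∀ s : S, ∃ i, s ∈ Set.range (f i).base) (hsyn : ∀ i, Synt.IsSyntomicMor (f i)) :
    (IsLocallyNoetherian S ∧ ∀ s : S, P (S.presheaf.stalk s)) ↔
      ∀ i, IsLocallyNoetherian (X i) ∧ ∀ x : X i, P ((X i).presheaf.stalk x) := by
  have hflat : ∀ i, Flat (f i) := fun i => flat_of_syntomic _ (hsyn i)
  have hlfp : ∀ i, LocallyOfFinitePresentation (f i) := fun i => lfp_of_syntomic _ (hsyn i)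
  constructor
  · rintro ⟨hS, hPS⟩ i
    have hXi : IsLocallyNoetherian (X i) := LocallyOfFiniteType.isLocallyNoetherian (f i)
    exact ⟨hXi, fun x => ascent_stalk hP (f i) (hsyn i) hPS x⟩
  · intro h
    have hX : ∀ i, IsLocallyNoetherian (X i) := fun i => (h i).1
    have hS : IsLocallyNoetherian S := isLocallyNoetherian_of_cover f hsurj
    refine ⟨hS, fun s => ?_⟩
    obtain ⟨i, x, rfl⟩ := hsurj s
    exact descent_stalk hP (f i) x ((h i).2 x)

end Main

section Instances

open LocCoh Groth.Agent.Lib.Helper56 Groth.Agent.Lib.Helper77.FlatDepth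

theorem noeth_of_syntomic (R T : Type u) [CommRing R] [CommRing T] [Algebra R T]
    [IsNoetherianRing R] (h : Synt.IsSyntomic R T) : IsNoetherianRing T := by
  have := h.2.1
  exact Algebra.FiniteType.isNoetherianRing R T

theorem isCohenMacaulayRing_fiber (R T : Type u) [CommRing R] [CommRing T] [Algebra R T]
    (h : Synt.IsSyntomic R T) (p : Ideal R) [hp : p.IsPrime] :
    IsCohenMacaulayRing (p.Fiber T) :=
  Groth.Agent.S9142.result _ _ (h.2.2 ⟨p, hp⟩)

theorem good_CM : Good (fun (R : Type u) [CommRing R] => IsCohenMacaulayLocalRing R) where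
  iso e h := isCohenMacaulayLocalRing_of_ringEquiv e h
  ascent R T _ _ _ _ hsyn hR q _ := by
    have hNT := noeth_of_syntomic R T hsyn
    have hfl : Module.Flat R T := hsyn.1
    exact (loc_formulas R T q).2.2.mpr ⟨hR _,
      isCM_fibLocRing_of_fiber R T q (isCohenMacaulayRing_fiber R T hsyn _)⟩
  descent A B _ _ _ _ _ _ φ hφ hloc hB := by
    algebraize [φ]
    have : IsLocalHom (algebraMap A B) := hloc
    exact ((isCM_iff A B).mp hB).1

theorem hasSk_self_of_isCohenMacaulayRing (k : ℕ) (R : Type u) [CommRing R]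
    (h : IsCohenMacaulayRing R) : HasSk k R R := by
  rw [hasSk_self_iff]
  intro p _
  have h1 := (h.isCohenMacaulayLocalRing_localization p).supportDim_eq_depth
  rw [Module.supportDim_self_eq_ringKrullDim] at h1
  rw [h1]
  exact min_le_right _ _

theorem good_Sk (k : ℕ) : Good (fun (R : Type u) [CommRing R] => HasSk k R R) where
  iso e h := hasSk_self_of_ringEquiv e k h
  ascent R T _ _ _ _ hsyn hR q _ := by
    have hNT := noeth_of_syntomic R T hsyn
    have hfl : Module.Flat R T := hsyn.1
    have hRk : HasSk k R R :=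
      (hasSk_self_iff k).mpr (fun p _ => sk_ineq_of_hasSk_local _ k (hR p))
    have hTk : HasSk k T T := hasSk_of_flat_of_fiber R T k
      (fun p _ => hasSk_self_of_isCohenMacaulayRing k _ (isCohenMacaulayRing_fiber R T hsyn p)) hRk
    exact hasSk_self_localization k hTk q
  descent A B _ _ _ _ _ _ φ hφ hloc hB := by
    algebraize [φ]
    have : IsLocalHom (algebraMap A B) := hloc
    have : Module.FaithfullyFlat A B := Module.FaithfullyFlat.of_flat_of_isLocalHom
    exact hasSk_descent A B k hB

end Instances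

end Groth.Agent.Lib.Helper85.SyntDesc
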