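import Groth.Agent.Lib.Helper52.KapLocal
import Groth.Agent.Lib.Helper74.FlatFiber
import Mathlib.RingTheory.LocalRing.Module
import Mathlib.RingTheory.Localization.BaseChange

/-! An endomorphism of a free module over a local ring which is injective modulo the maximal ideal
is universally injective. -/

set_option autoImplicit false
universe u

open TensorProduct IsLocalRing

namespace Groth.Agent.Lib.Helper85.UnivInjLocal

section Free

variable {R : Type u} [CommRing R] {N : Type u} [AddCommGroup N] [Module R N]
  {ι : Type u} (b : Module.Basis ι R N)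

/-- coordinates on a finite set of basis vectors -/
noncomputable def cJ (J : Finset ι) : N →ₗ[R] (J → R) := LinearMap.pi (fun j => b.coord j)

/-- the finite free summand spanned by a finite set of basis vectors -/
noncomputable def aJ (J : Finset ι) : (J → R) →ₗ[R] N :=
  Fintype.linearCombination R (fun j : J => b j)

theorem cJ_apply (J : Finset ι) (n : N) (j : J) : cJ b J n j = b.repr n j := rfl

theorem aJ_apply (J : Finset ι) (v : J → R) : aJ b J v = ∑ j, v j • b j :=
  Fintype.linearCombination_apply R _ v

theorem cJ_aJ (J : Finset ι) (v : J → R) : cJ b J (aJ b J v) = v := by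
  classical
  ext j
  rw [cJ_apply, aJ_apply, map_sum, Finsupp.finsetSum_apply]
  simp only [map_smul, Module.Basis.repr_self, Finsupp.smul_apply, Finsupp.single_apply,
    smul_eq_mul, mul_ite, mul_one, mul_zero]
  rw [Finset.sum_eq_single j]
  · simp
  · intro i _ hij
    rw [if_neg]
    exact fun h => hij (Subtype.ext h)
  · intro h; exact absurd (Finset.mem_univ j) h

theorem aJ_cJ_of_support (J : Finset ι) (n : N) (h : (b.repr n).support ⊆ J) :
    aJ b J (cJ b J n) = n := by
  classical
  rw [aJ_apply]
  simp only [cJ_apply]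
  rw [Finset.sum_coe_sort J (fun x => b.repr n x • b x)]
  conv_rhs => rw [← b.linearCombination_repr n, Finsupp.linearCombination_apply,
    Finsupp.sum_of_support_subset _ h _ (fun i _ => zero_smul R (b i))]

theorem support_repr_aJ (J : Finset ι) (v : J → R) : (b.repr (aJ b J v)).support ⊆ J := by
  classical
  intro i hi
  by_contra hiJ
  rw [Finsupp.mem_support_iff] at hi
  apply hi
  rw [aJ_apply, map_sum, Finsupp.finsetSum_apply]
  refine Finset.sum_eq_zero (fun j _ => ?_)
  rw [map_smul, Module.Basis.repr_self, Finsupp.smul_apply, Finsupp.single_apply, if_neg,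
    smul_zero]
  intro hji
  exact hiJ (hji ▸ j.2)

/-- the projection onto the finite free summand -/
noncomputable def pJ (J : Finset ι) : N →ₗ[R] N := aJ b J ∘ₗ cJ b J

theorem pJ_of_support (J : Finset ι) (n : N) (h : (b.repr n).support ⊆ J) : pJ b J n = n :=
  aJ_cJ_of_support b J n h

theorem pJ_pJ {J J' : Finset ι} (h : J ⊆ J') (n : N) : pJ b J' (pJ b J n) = pJ b J n :=
  pJ_of_support b J' _ ((support_repr_aJ b J _).trans h)

theorem exists_pJ_fix (Q : Type u) [AddCommGroup Q] [Module R Q] (x : Q ⊗[R] N) :
    ∃ J : Finset ι, (pJ b J).lTensor Q x = x := by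
  classical
  induction x using TensorProduct.induction_on with
  | zero => exact ⟨∅, map_zero _⟩
  | tmul q n =>
    refine ⟨(b.repr n).support, ?_⟩
    rw [LinearMap.lTensor_tmul, pJ_of_support b _ n subset_rfl]
  | add x y hx hy =>
    obtain ⟨J₁, h₁⟩ := hx
    obtain ⟨J₂, h₂⟩ := hy
    refine ⟨J₁ ∪ J₂, ?_⟩
    have e₁ : (pJ b (J₁ ∪ J₂)).lTensor Q x = x := by
      conv_lhs => rw [← h₁, ← LinearMap.lTensor_comp_apply]
      have : pJ b (J₁ ∪ J₂) ∘ₗ pJ b J₁ = pJ b J₁ :=
        LinearMap.ext (fun n => pJ_pJ b Finset.subset_union_left n)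
      rw [this, h₁]
    have e₂ : (pJ b (J₁ ∪ J₂)).lTensor Q y = y := by
      conv_lhs => rw [← h₂, ← LinearMap.lTensor_comp_apply]
      have : pJ b (J₁ ∪ J₂) ∘ₗ pJ b J₂ = pJ b J₂ :=
        LinearMap.ext (fun n => pJ_pJ b Finset.subset_union_right n)
      rw [this, h₂]
    rw [map_add, e₁, e₂]

end Free

section Local

variable {R : Type u} [CommRing R] [IsLocalRing R] {N : Type u} [AddCommGroup N] [Module R N]
  {ι : Type u} (b : Module.Basis ι R N)

/-- a local retraction of `u` on every finite free summand -/
theorem exists_retraction (u : N →ₗ[R] N)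
    (hu : Function.Injective (u.lTensor (ResidueField R))) (J : Finset ι) :
    ∃ r : N →ₗ[R] N, r ∘ₗ u ∘ₗ pJ b J = pJ b J := by
  classical
  let J' : Finset ι := J.biUnion (fun j => (b.repr (u (b j))).support)
  have hsupp : ∀ v : J → R, (b.repr (u (aJ b J v))).support ⊆ J' := by
    intro v
    have hmem : b.repr (u (aJ b J v)) ∈ Finsupp.supported R R (J' : Set ι) := by
      rw [aJ_apply, map_sum, map_sum]
      refine Submodule.sum_mem _ (fun j _ => ?_)
      rw [map_smul, map_smul]
      refine Submodule.smul_mem _ _ ?_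
      rw [Finsupp.mem_supported]
      intro i hi
      exact Finset.mem_biUnion.2 ⟨j.1, j.2, hi⟩
    rw [Finsupp.mem_supported] at hmem
    exact_mod_cast hmem
  let l : (J → R) →ₗ[R] (J' → R) := cJ b J' ∘ₗ u ∘ₗ aJ b J
  have hal : aJ b J' ∘ₗ l = u ∘ₗ aJ b J := by
    refine LinearMap.ext (fun v => ?_)
    exact aJ_cJ_of_support b J' _ (hsupp v)
  have hl : Function.Injective (l.lTensor (ResidueField R)) := by
    have h1 : (aJ b J').lTensor (ResidueField R) ∘ₗ l.lTensor (ResidueField R) =
        u.lTensor (ResidueField R) ∘ₗ (aJ b J).lTensor (ResidueField R) := by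
      rw [← LinearMap.lTensor_comp, ← LinearMap.lTensor_comp, hal]
    have h2 : Function.Injective ((aJ b J).lTensor (ResidueField R)) := by
      have h3 : (cJ b J).lTensor (ResidueField R) ∘ₗ (aJ b J).lTensor (ResidueField R) =
          LinearMap.id := by
        rw [← LinearMap.lTensor_comp]
        have : cJ b J ∘ₗ aJ b J = LinearMap.id := LinearMap.ext (fun v => cJ_aJ b J v)
        rw [this, LinearMap.lTensor_id]
      exact Function.LeftInverse.injective (g := (cJ b J).lTensor (ResidueField R))
        (fun y => LinearMap.congr_fun h3 y)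
    have h4 : Function.Injective ((aJ b J').lTensor (ResidueField R) ∘
        l.lTensor (ResidueField R)) := by
      have : ((aJ b J').lTensor (ResidueField R) ∘ l.lTensor (ResidueField R)) =
          (u.lTensor (ResidueField R) ∘ (aJ b J).lTensor (ResidueField R)) := by
        funext y
        exact LinearMap.congr_fun h1 y
      rw [this]
      exact hu.comp h2
    exact Function.Injective.of_comp h4
  obtain ⟨l', hl'⟩ :=
    (IsLocalRing.split_injective_iff_lTensor_residueField_injective l).2 hl
  refine ⟨aJ b J ∘ₗ l' ∘ₗ cJ b J', LinearMap.ext (fun n => ?_)⟩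
  show aJ b J (l' (cJ b J' (u (aJ b J (cJ b J n))))) = aJ b J (cJ b J n)
  have : l' (cJ b J' (u (aJ b J (cJ b J n)))) = cJ b J n := LinearMap.congr_fun hl' (cJ b J n)
  rw [this]

include b in
/-- an endomorphism of a free module over a local ring which is injective modulo the maximal ideal
is universally injective -/
theorem lTensor_injective_of_residueField (u : N →ₗ[R] N)
    (hu : Function.Injective (u.lTensor (ResidueField R)))
    (Q : Type u) [AddCommGroup Q] [Module R Q] : Function.Injective (u.lTensor Q) := by
  rw [injective_iff_map_eq_zero]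
  intro x hx
  obtain ⟨J, hJ⟩ := exists_pJ_fix b Q x
  obtain ⟨r, hr⟩ := exists_retraction b u hu J
  rw [← hJ, ← hr, LinearMap.lTensor_comp_apply, LinearMap.lTensor_comp_apply, hJ, hx, map_zero]

end Local

section Fibre

variable {R : Type u} [CommRing R] [IsLocalRing R] {N : Type u} [AddCommGroup N] [Module R N]

/-- injectivity modulo the maximal ideal in terms of `𝔪 N` -/
theorem lTensor_residueField_injective (u : N →ₗ[R] N)
    (hu : ∀ n : N, u n ∈ maximalIdeal R • (⊤ : Submodule R N) →
      n ∈ maximalIdeal R • (⊤ : Submodule R N)) :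
    Function.Injective (u.lTensor (ResidueField R)) := by
  let e := TensorProduct.quotTensorEquivQuotSMul N (maximalIdeal R)
  have hform : ∀ y : (R ⧸ maximalIdeal R) ⊗[R] N, ∃ n : N, y = (1 : R ⧸ maximalIdeal R) ⊗ₜ[R] n := by
    intro y
    obtain ⟨n, hn⟩ := Submodule.Quotient.mk_surjective _ (e y)
    refine ⟨n, ?_⟩
    rw [← e.symm_apply_apply y, ← hn]
    rfl
  rw [injective_iff_map_eq_zero]
  intro y hy
  obtain ⟨n, rfl⟩ := hform y
  have h1 : ((1 : R ⧸ maximalIdeal R) ⊗ₜ[R] u n : (R ⧸ maximalIdeal R) ⊗[R] N) = 0 := hy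
  have h2 := congrArg e h1
  rw [TensorProduct.quotTensorEquivQuotSMul_mk_one_tmul, map_zero,
    Submodule.Quotient.mk_eq_zero] at h2
  have h3 := hu n h2
  have h4 : ((1 : R ⧸ maximalIdeal R) ⊗ₜ[R] n : (R ⧸ maximalIdeal R) ⊗[R] N) = 0 := by
    apply e.injective
    rw [TensorProduct.quotTensorEquivQuotSMul_mk_one_tmul, map_zero,
      Submodule.Quotient.mk_eq_zero]
    exact h3
  exact h4

end Fibre

section NzdFiber

open FlatCA Groth.Agent.Lib.Helper74.FiberAss

attribute [local instance] Algebra.TensorProduct.rightAlgebra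

variable {R S : Type u} [CommRing R] [IsLocalRing R] [CommRing S] [Algebra R S] (N : Type u)
  [AddCommGroup N] [Module S N] [Module R N] [IsScalarTower R S N]

/-- an element of `S` which is a nonzerodivisor on the closed fibre module acts injectively
on `N / 𝔪 N` -/
theorem mem_smul_top_of_nzdFiber {s : S} (hs : s ∈ nzdFiber R S N) (n : N)
    (h : s • n ∈ maximalIdeal R • (⊤ : Submodule R N)) :
    n ∈ maximalIdeal R • (⊤ : Submodule R N) := by
  rw [← mem_map_smul_top_iff S N (maximalIdeal R)] at h ⊢
  have h1 : toFiberMod (maximalIdeal R) S N (s • n) = 0 :=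
    toFiberMod_eq_zero_of_mem S N (maximalIdeal R) h
  rw [map_smul] at h1
  have h2 : toFiberMod (maximalIdeal R) S N n = 0 :=
    (mem_nonZeroSMulDivisors_iff.1 hs) _ h1
  obtain ⟨t, ⟨r, hr, rfl⟩, ht⟩ :=
    exists_smul_mem_of_toFiberMod_eq_zero S N (maximalIdeal R) n h2
  have hru : IsUnit r := by
    by_contra hnu
    exact hr ((IsLocalRing.mem_maximalIdeal r).2 hnu)
  obtain ⟨r', hr'⟩ := hru.exists_left_inv
  have : n = (algebraMap R S r') • ((algebraMap R S r) • n) := by
    rw [smul_smul, ← map_mul, hr', map_one, one_smul]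
  rw [this]
  exact Submodule.smul_mem _ _ ht

end NzdFiber

section Main

open FlatCA

variable {R S : Type u} [CommRing R] [IsLocalRing R] [CommRing S] [Algebra R S] (N : Type u)
  [AddCommGroup N] [Module S N] [Module R N] [IsScalarTower R S N] [Module.Projective R N]

theorem univInj_smul {s : S} (hs : s ∈ nzdFiber R S N) :
    UnivInj R ((LinearMap.lsmul S N s).restrictScalars R) := by
  haveI : Module.Free R N := Groth.Agent.Lib.Helper52.Kap.free_of_projective_of_isLocalRing N
  intro Q _ _
  exact lTensor_injective_of_residueField (Module.Free.chooseBasis R N) _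
    (lTensor_residueField_injective _ (fun n h => mem_smul_top_of_nzdFiber N hs n h)) Q

theorem univInj_mkLinearMap :
    UnivInj R ((LocalizedModule.mkLinearMap (nzdFiber R S N) N).restrictScalars R) := by
  intro Q _ _
  rw [LinearMap.lTensor_inj_iff_rTensor_inj, injective_iff_map_eq_zero]
  intro y hy
  -- the `S`-linear version of the map
  let F := TensorProduct.AlgebraTensorModule.rTensor R Q
    (LocalizedModule.mkLinearMap (nzdFiber R S N) N)
  have hF : ∀ z : N ⊗[R] Q, F z =
      ((LocalizedModule.mkLinearMap (nzdFiber R S N) N).restrictScalars R).rTensor Q z := by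
    intro z
    induction z using TensorProduct.induction_on with
    | zero => rw [map_zero, map_zero]
    | tmul n q => rfl
    | add a b ha hb => rw [map_add, map_add, ha, hb]
  have hFy : F y = 0 := by rw [hF, hy]
  haveI : IsLocalizedModule (nzdFiber R S N) F :=
    IsLocalizedModule.rTensor S (nzdFiber R S N) (LocalizedModule.mkLinearMap (nzdFiber R S N) N)
  obtain ⟨c, hc⟩ := (IsLocalizedModule.eq_zero_iff (nzdFiber R S N) F).1 hFy
  have hsm : ∀ z : N ⊗[R] Q, (c : S) • z =
      ((LinearMap.lsmul S N (c : S)).restrictScalars R).rTensor Q z := by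
    intro z
    induction z using TensorProduct.induction_on with
    | zero => rw [smul_zero, map_zero]
    | tmul n q => rfl
    | add a b ha hb => rw [smul_add, map_add, ha, hb]
  have hinj : Function.Injective
      (((LinearMap.lsmul S N (c : S)).restrictScalars R).rTensor Q) := by
    rw [← LinearMap.lTensor_inj_iff_rTensor_inj]
    exact univInj_smul N c.2 Q
  apply hinj
  rw [map_zero, ← hsm]
  exact hc

end Main

end Groth.Agent.Lib.Helper85.UnivInjLocal
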