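import Groth.Prelude.Def_EGA4c
import Groth.Agent.Lib.Helper48.TildeSections
import Groth.Agent.Lib.Helper56.DepthAss
import Mathlib.RingTheory.Ideal.AssociatedPrime.Basic

set_option autoImplicit false
universe u

namespace Groth.Agent.Lib.Helper85.ZClosed

open AlgebraicGeometry StructureSheaf TopologicalSpace Opposite CategoryTheory
open Groth.Agent.Lib.Helper48

variable (A : Type u) [CommRing A] (J : Ideal A) (M : Type u) [AddCommGroup M] [Module A M]

/-- restriction of concrete sections -/
def res (U : Opens (PrimeSpectrum.Top A)) : Sec A M ⊤ → Sec A M U :=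
  (structureSheafInType A M).obj.map (homOfLE (le_top : U ≤ ⊤)).op

/-- The complement of `V(J)` as an open subset of `PrimeSpectrum.Top A`
(definitionally the same as `EGA4.openCompl A J`, but with the type expected by
`StructureSheaf.toOpenₗ` and the lemmas of `Helper48.TildeSections`). -/
def openC : Opens (PrimeSpectrum.Top A) :=
  ⟨(PrimeSpectrum.zeroLocus (J : Set A))ᶜ, (PrimeSpectrum.isClosed_zeroLocus _).isOpen_compl⟩

theorem restrCompl_injective_iff :
    Function.Injective (EGA4.restrCompl A J M) ↔
      Function.Injective (toOpenₗ A M (openC A J)) := by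
  have hb : Function.Bijective (toOpenₗ A M ⊤) := toOpenₗ_top_bijective
  have hcomp : (toOpenₗ A M (openC A J) : M → _) =
      (fun s => (EGA4.restrCompl A J M) s) ∘ (toOpenₗ A M ⊤) := rfl
  rw [hcomp]
  exact (Function.Injective.of_comp_iff' _ hb).symm

theorem restrCompl_surjective_iff :
    Function.Surjective (EGA4.restrCompl A J M) ↔
      Function.Surjective (toOpenₗ A M (openC A J)) := by
  have hb : Function.Bijective (toOpenₗ A M ⊤) := toOpenₗ_top_bijective
  have hcomp : (toOpenₗ A M (openC A J) : M → _) =
      (fun s => (EGA4.restrCompl A J M) s) ∘ (toOpenₗ A M ⊤) := rfl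
  rw [hcomp]
  exact (Function.Surjective.of_comp_iff _ hb.surjective).symm

theorem mem_openCompl_iff (x : PrimeSpectrum A) :
    x ∈ openC A J ↔ ¬ J ≤ x.asIdeal := by
  change x ∈ (PrimeSpectrum.zeroLocus (J : Set A))ᶜ ↔ _
  rw [Set.mem_compl_iff, PrimeSpectrum.mem_zeroLocus]
  rfl

variable [IsNoetherianRing A]

/-- injectivity of the restriction to the complement of `V(J)` means no `J`-power torsion. -/
theorem restrCompl_injective_iff_torsion :
    Function.Injective (EGA4.restrCompl A J M) ↔
      ∀ m : M, (∃ n : ℕ, ∀ r ∈ J ^ n, r • m = 0) → m = 0 := by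
  rw [restrCompl_injective_iff, injective_iff_map_eq_zero]
  refine forall_congr' fun m => ?_
  rw [toOpenₗ_eq_zero_iff (openC A J) J (mem_openCompl_iff A J) m]

variable {A M} in
theorem isPureAlong_iff_torsion (Z : Set (PrimeSpectrum A)) :
    EGA4.IsPureAlong Z M ↔ ∀ J : Ideal A, PrimeSpectrum.zeroLocus (J : Set A) ⊆ Z →
      ∀ m : M, (∃ n : ℕ, ∀ r ∈ J ^ n, r • m = 0) → m = 0 := by
  unfold EGA4.IsPureAlong
  refine forall_congr' fun J => ?_
  rw [restrCompl_injective_iff_torsion]

variable {A M} in
/-- S2719, first part. -/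
theorem isPureAlong_iff_ass (Z : Set (PrimeSpectrum A)) (hZ : StableUnderSpecialization Z) :
    EGA4.IsPureAlong Z M ↔
      ∀ p : PrimeSpectrum A, p.asIdeal ∈ associatedPrimes A M → p ∉ Z := by
  rw [isPureAlong_iff_torsion]
  constructor
  · intro h p hp hpZ
    obtain ⟨hprime, x, hx⟩ := (isAssociatedPrime_iff (R := A)).mp hp
    have hV : PrimeSpectrum.zeroLocus (p.asIdeal : Set A) ⊆ Z := by
      intro q hq
      have hle : p.asIdeal ≤ q.asIdeal := hq
      exact hZ ((PrimeSpectrum.le_iff_specializes p q).mp hle) hpZ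
    have hx0 : x = 0 := by
      apply h p.asIdeal hV x
      refine ⟨1, fun r hr => ?_⟩
      rw [pow_one, hx, Submodule.mem_colon_singleton, Submodule.mem_bot] at hr
      exact hr
    apply hprime.ne_top
    rw [hx, hx0, Ideal.eq_top_iff_one, Submodule.mem_colon_singleton]
    simp
  · intro h J hJ m ⟨n, hn⟩
    by_contra hm
    obtain ⟨P, hP, hle⟩ := exists_le_isAssociatedPrime_of_isNoetherianRing A m hm
    have hPprime : P.IsPrime := hP.isPrime
    have hJP : J ≤ P := by
      intro f hf
      have : f ^ n ∈ P := by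
        apply hle
        rw [Submodule.mem_colon_singleton, Submodule.mem_bot]
        exact hn _ (Ideal.pow_mem_pow hf n)
      exact hPprime.mem_of_pow_mem n this
    exact h ⟨P, hPprime⟩ hP (hJ hJP)

variable {A M} in
theorem mem_ass_iff_depth_eq_zero [Module.Finite A M] (p : Ideal A) [p.IsPrime] :
    p ∈ associatedPrimes A M ↔
      LocCoh.depth (Localization.AtPrime p) (LocalizedModule p.primeCompl M) = 0 := by
  constructor
  · intro h
    exact Groth.Agent.Lib.Helper56.depth_localizedModule_eq_zero_of_mem_associatedPrimes h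
  · intro h
    have h1 := (Groth.Agent.Lib.Helper67.depth_eq_zero_iff _).mp h
    have h2 := Module.associatedPrimes.comap_mem_associatedPrimes_of_mem_associatedPrimes_of_isLocalizedModule_of_fg
      p.primeCompl (LocalizedModule.mkLinearMap p.primeCompl M) _ h1
      ((isNoetherianRing_iff_ideal_fg A).mp inferInstance _)
    have e : Ideal.comap (algebraMap A (Localization.AtPrime p))
        (IsLocalRing.maximalIdeal (Localization.AtPrime p)) = p :=
      IsLocalization.AtPrime.under_maximalIdeal (Localization.AtPrime p) p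
    rwa [e] at h2

end Groth.Agent.Lib.Helper85.ZClosed
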