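import Groth.Agent.Lib.Helper85.ZClosed

set_option autoImplicit false
universe u

namespace Groth.Agent.Lib.Helper85.ZClosed

open AlgebraicGeometry StructureSheaf TopologicalSpace Opposite CategoryTheory
open Groth.Agent.Lib.Helper48

section Algebra

variable {A : Type u} [CommRing A] {M : Type u} [AddCommGroup M] [Module A M]

theorem mem_of_smul_mem_quot {x y : A} (hy : IsSMulRegular (QuotSMulTop x M) y) (a : M)
    (h : ∃ c : M, y • a = x • c) : ∃ c : M, a = x • c := by
  obtain ⟨c, hc⟩ := h
  have h1 : y • (Submodule.Quotient.mk a : QuotSMulTop x M) = y • 0 := by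
    rw [smul_zero, ← Submodule.Quotient.mk_smul, Submodule.Quotient.mk_eq_zero, hc]
    exact Submodule.smul_mem_pointwise_smul c x ⊤ Submodule.mem_top
  have h2 := hy h1
  rw [Submodule.Quotient.mk_eq_zero] at h2
  obtain ⟨c', -, hc'⟩ := (Submodule.mem_smul_pointwise_iff_exists _ _ _).mp h2
  exact ⟨c', hc'.symm⟩

theorem mem_pow_of_smul_mem {x y : A} (hx : IsSMulRegular M x)
    (hy : IsSMulRegular (QuotSMulTop x M) y) (k : ℕ) :
    ∀ a : M, (∃ c : M, y • a = x ^ k • c) → ∃ c : M, a = x ^ k • c := by
  induction k with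
  | zero => intro a _; exact ⟨a, by simp⟩
  | succ k ih =>
    intro a ⟨c, hc⟩
    obtain ⟨a', ha'⟩ := mem_of_smul_mem_quot hy a ⟨x ^ k • c, by rw [hc, pow_succ', mul_smul]⟩
    have h1 : y • a' = x ^ k • c := by
      apply hx
      change x • y • a' = x • x ^ k • c
      rw [smul_comm, ← ha', hc, pow_succ', mul_smul]
    obtain ⟨c', hc'⟩ := ih a' ⟨c, h1⟩
    exact ⟨c', by rw [ha', hc', pow_succ', mul_smul]⟩

theorem mem_pow_of_pow_smul_mem {x y : A} (hx : IsSMulRegular M x)
    (hy : IsSMulRegular (QuotSMulTop x M) y) (k n : ℕ) :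
    ∀ a : M, (∃ c : M, y ^ n • a = x ^ k • c) → ∃ c : M, a = x ^ k • c := by
  induction n with
  | zero => intro a ⟨c, hc⟩; exact ⟨c, by simpa using hc⟩
  | succ n ih =>
    intro a ⟨c, hc⟩
    apply ih
    apply mem_pow_of_smul_mem hx hy k
    refine ⟨c, ?_⟩
    rw [← hc, pow_succ', mul_smul]

/-- regular elements act injectively on localizations -/
theorem smul_localizedModule_eq_zero {x : A} (hx : IsSMulRegular M x) (S : Submonoid A)
    (z : LocalizedModule S M) (h : x • z = 0) : z = 0 := by
  induction z using LocalizedModule.induction_on with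
  | h m s =>
    rw [LocalizedModule.smul'_mk, ← LocalizedModule.zero_mk s, LocalizedModule.mk_eq] at h
    obtain ⟨u, hu⟩ := h
    rw [smul_zero, smul_zero] at hu
    have h1 : x • ((u * s : S) • m) = x • (0 : M) := by
      rw [smul_zero, ← hu]
      simp only [Submonoid.smul_def, Submonoid.coe_mul]
      rw [smul_comm, mul_smul]
    have h2 := hx h1
    rw [← LocalizedModule.zero_mk s, LocalizedModule.mk_eq]
    refine ⟨u, ?_⟩
    rw [smul_zero, smul_zero]
    simp only [Submonoid.smul_def, mul_smul] at h2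
    simpa [Submonoid.smul_def] using h2

end Algebra

end Groth.Agent.Lib.Helper85.ZClosed
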