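import Groth.Agent.Lib.Helper85.ZClosed
import Groth.Agent.Lib.Helper85.ZClosedAlg

set_option autoImplicit false
universe u

namespace Groth.Agent.Lib.Helper85.ZClosed

open AlgebraicGeometry StructureSheaf TopologicalSpace Opposite CategoryTheory
open Groth.Agent.Lib.Helper48

section General
variable {A : Type u} [CommRing A] {M : Type u} [AddCommGroup M] [Module A M]

/-- a finitely generated submodule whose generators are `S`-torsion is killed by one element
of `S`. -/
theorem exists_smul_eq_zero_of_span {S : Submonoid A} (T : Finset M)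
    (h : ∀ k ∈ T, ∃ t ∈ S, t • k = 0) :
    ∃ t ∈ S, ∀ k ∈ Submodule.span A (T : Set M), t • k = 0 := by
  classical
  induction T using Finset.induction_on with
  | empty =>
    refine ⟨1, S.one_mem, fun k hk => ?_⟩
    rw [Finset.coe_empty, Submodule.span_empty, Submodule.mem_bot] at hk
    rw [hk, smul_zero]
  | insert a T _ ih =>
    obtain ⟨t₁, ht₁, h₁⟩ := ih (fun k hk => h k (Finset.mem_insert_of_mem hk))
    obtain ⟨t₂, ht₂, h₂⟩ := h a (Finset.mem_insert_self a T)
    refine ⟨t₁ * t₂, S.mul_mem ht₁ ht₂, fun k hk => ?_⟩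
    rw [Finset.coe_insert, Submodule.mem_span_insert] at hk
    obtain ⟨c, k', hk', rfl⟩ := hk
    rw [smul_add, mul_smul, smul_comm t₂ c, h₂, smul_zero, smul_zero, zero_add, mul_comm, mul_smul,
      h₁ k' hk', smul_zero]

theorem exists_section (p : Ideal A) (x₀ w : A) (m' : M)
    (hp : ∀ a ∈ p, ∃ n : M, a • m' = x₀ • n)
    (hw : ∀ k : M, x₀ • k = 0 → w • k = 0) :
    ∃ τ : Sec A M (openC A p), ∀ (q : openC A p) (b : A) (hb : b ∉ q.1.asIdeal) (k : M),
      b ∈ p → b • m' = x₀ • k → τ.1 q = LocalizedModule.mk (w • k) ⟨b, hb⟩ := by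
  classical
  have hq : ∀ q : openC A p, ∃ a ∈ p, a ∉ q.1.asIdeal := fun q => by
    have := (mem_openCompl_iff A p q.1).mp q.2
    obtain ⟨a, ha, ha'⟩ := SetLike.not_le_iff_exists.mp this
    exact ⟨a, ha, ha'⟩
  choose a hap haq using hq
  choose n hn using fun q => hp (a q) (hap q)
  have key : ∀ (q : PrimeSpectrum A) (b c : A) (hb : b ∉ q.asIdeal) (hc : c ∉ q.asIdeal) (k l : M),
      b • m' = x₀ • k → c • m' = x₀ • l →
      (LocalizedModule.mk (w • l) ⟨c, hc⟩ : LocalizedModule q.asIdeal.primeCompl M) =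
        LocalizedModule.mk (w • k) ⟨b, hb⟩ := by
    intro q b c hb hc k l hk hl
    rw [LocalizedModule.mk_eq]
    refine ⟨1, ?_⟩
    have h1 : x₀ • (b • l - c • k) = 0 := by
      rw [smul_sub, smul_comm x₀ b, ← hl, smul_comm x₀ c, ← hk, smul_comm, sub_self]
    have h2 := hw _ h1
    rw [smul_sub, sub_eq_zero] at h2
    simp only [one_smul, Submonoid.smul_def]
    rw [smul_comm b w, smul_comm c w]
    exact h2
  refine ⟨⟨fun q => LocalizedModule.mk (w • n q) ⟨a q, haq q⟩, ?_⟩, ?_⟩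
  · intro q
    refine ⟨PrimeSpectrum.basicOpen (a q) ⊓ openC A p, ⟨haq q, q.2⟩, homOfLE inf_le_right,
      w • n q, a q, ?_⟩
    intro y
    refine ⟨y.2.1, ?_⟩
    exact key y.1 (a q) (a ⟨y.1, y.2.2⟩) y.2.1 (haq ⟨y.1, y.2.2⟩) (n q) (n ⟨y.1, y.2.2⟩) (hn q)
      (hn ⟨y.1, y.2.2⟩)
  · intro q b hb k _ hk
    exact key q.1 b (a q) hb (haq q) k (n q) hk (hn q)

end General

end Groth.Agent.Lib.Helper85.ZClosed
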