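import Groth.Agent.Lib.Helper85.ZClosed
import Groth.Agent.Lib.Helper85.ZClosedAlg
import Groth.Agent.Lib.Helper85.ZClosedSec

set_option autoImplicit false
universe u

namespace Groth.Agent.Lib.Helper85.ZClosed

open AlgebraicGeometry StructureSheaf TopologicalSpace Opposite CategoryTheory
open Groth.Agent.Lib.Helper48

section General
variable {A : Type u} [CommRing A] {M : Type u} [AddCommGroup M] [Module A M]

theorem exists_kill_ker [IsNoetherian A M] (S : Submonoid A) (x₀ : A)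
    (h : ∀ k : M, x₀ • k = 0 → ∃ t ∈ S, t • k = 0) :
    ∃ w ∈ S, ∀ k : M, x₀ • k = 0 → w • k = 0 := by
  classical
  let K : Submodule A M := LinearMap.ker (LinearMap.lsmul A M x₀)
  have hK : ∀ k, k ∈ K ↔ x₀ • k = 0 := fun k => by simp [K, LinearMap.mem_ker]
  obtain ⟨T, hT⟩ := (IsNoetherian.noetherian K : K.FG)
  obtain ⟨w, hwS, hw⟩ := exists_smul_eq_zero_of_span (S := S) T (fun k hk => by
    apply h
    rw [← hK, ← hT]
    exact Submodule.subset_span hk)
  refine ⟨w, hwS, fun k hk => hw k ?_⟩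
  rw [hT, hK]
  exact hk

theorem exists_mul_mem (S : Submonoid A) (p : Ideal A) (hfg : p.FG) (x₀ : A) (m : M)
    (h : ∀ a ∈ p, ∃ t ∈ S, ∃ n : M, t • a • m = x₀ • n) :
    ∃ u ∈ S, ∀ a ∈ p, ∃ n : M, a • (u • m) = x₀ • n := by
  classical
  obtain ⟨G, hG⟩ := hfg
  let Q := QuotSMulTop x₀ M
  let mq : Q := Submodule.Quotient.mk m
  have hzero : ∀ y : M, (Submodule.Quotient.mk y : Q) = 0 ↔ ∃ n : M, y = x₀ • n := by
    intro y
    rw [Submodule.Quotient.mk_eq_zero]
    constructor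
    · intro hy
      obtain ⟨n, -, hn⟩ := (Submodule.mem_smul_pointwise_iff_exists _ _ _).mp hy
      exact ⟨n, hn.symm⟩
    · rintro ⟨n, rfl⟩
      exact Submodule.smul_mem_pointwise_smul n x₀ ⊤ Submodule.mem_top
  let φ : A →ₗ[A] Q := LinearMap.toSpanSingleton A Q mq
  have hφ : ∀ a, φ a = a • mq := fun a => by simp [φ, LinearMap.toSpanSingleton_apply]
  let T : Finset Q := G.image φ
  obtain ⟨u, huS, hu⟩ := exists_smul_eq_zero_of_span (S := S) T (fun k hk => by
    obtain ⟨a, haG, rfl⟩ := Finset.mem_image.mp hk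
    have hap : a ∈ p := by rw [← hG]; exact Submodule.subset_span haG
    obtain ⟨t, htS, n, hn⟩ := h a hap
    refine ⟨t, htS, ?_⟩
    rw [hφ, ← Submodule.Quotient.mk_smul, ← Submodule.Quotient.mk_smul, hzero]
    exact ⟨n, hn⟩)
  refine ⟨u, huS, fun a hap => ?_⟩
  have h1 : φ a ∈ Submodule.span A (T : Set Q) := by
    rw [Finset.coe_image]
    apply Submodule.apply_mem_span_image_of_mem_span
    have : a ∈ Ideal.span (G : Set A) := by rw [hG]; exact hap
    exact this
  have h2 := hu _ h1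
  rw [hφ, ← Submodule.Quotient.mk_smul, ← Submodule.Quotient.mk_smul, hzero] at h2
  obtain ⟨n, hn⟩ := h2
  exact ⟨n, by rw [smul_comm, hn]⟩

end General

section Bij
variable {A : Type u} [CommRing A] {M : Type u} [AddCommGroup M] [Module A M]

theorem exists_eq_of_bijective (p : Ideal A) (x₀ w : A) (m' : M)
    (hp : ∀ a ∈ p, ∃ n : M, a • m' = x₀ • n)
    (hw : ∀ k : M, x₀ • k = 0 → w • k = 0)
    (hbij : Function.Bijective (EGA4.restrCompl A p M)) :
    ∃ n₀ : M, x₀ • n₀ = w • m' := by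
  obtain ⟨τ, hτ⟩ := exists_section p x₀ w m' hp hw
  have hinj := (restrCompl_injective_iff A p M).mp hbij.1
  have hsurj := (restrCompl_surjective_iff A p M).mp hbij.2
  obtain ⟨n₀, hn₀⟩ := hsurj τ
  refine ⟨n₀, ?_⟩
  rw [← sub_eq_zero]
  apply hinj
  rw [map_zero]
  apply section_ext
  intro q
  rw [Groth.Agent.Lib.Helper48.zero_apply]
  obtain ⟨a, hap, haq⟩ := SetLike.not_le_iff_exists.mp ((mem_openCompl_iff A p q.1).mp q.2)
  obtain ⟨n, hn⟩ := hp a hap
  have h1 := hτ q a haq n hap hn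
  have hqp : (PrimeSpectrum.asIdeal (R := A) q.1).IsPrime := PrimeSpectrum.isPrime (R := A) q.1
  have h2 : ((toOpenₗ A M (openC A p)) (w • m')).1 q =
      LocalizedModule.mk (w • m') (1 : (PrimeSpectrum.asIdeal (R := A) q.1).primeCompl) := rfl
  rw [map_sub, Groth.Agent.Lib.Helper48.sub_apply, map_smul, structureSheafInType.smul_apply, hn₀, h1, sub_eq_zero,
    h2, LocalizedModule.smul'_mk, LocalizedModule.mk_eq]
  refine ⟨1, ?_⟩
  simp only [one_smul, Submonoid.smul_def]
  rw [smul_comm x₀ w, ← hn, smul_comm]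

end Bij

end Groth.Agent.Lib.Helper85.ZClosed
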