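import Groth.Agent.Lib.Helper85.ZClosed
import Groth.Agent.Lib.Helper85.ZClosedAlg
import Groth.Agent.Lib.Helper85.ZClosedSec
import Groth.Agent.Lib.Helper85.ZClosedFin

set_option autoImplicit false
universe u

namespace Groth.Agent.Lib.Helper85.ZClosed

open AlgebraicGeometry StructureSheaf TopologicalSpace Opposite CategoryTheory
open Groth.Agent.Lib.Helper48

variable {A : Type u} [CommRing A] [IsNoetherianRing A] {M : Type u} [AddCommGroup M] [Module A M]

theorem bijective_of_regular_pair (J : Ideal A) {x y : A} (hxJ : x ∈ J) (hyJ : y ∈ J)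
    (hx : IsSMulRegular M x) (hy : IsSMulRegular (QuotSMulTop x M) y) :
    Function.Bijective (EGA4.restrCompl A J M) := by
  have hinj : Function.Injective (EGA4.restrCompl A J M) := by
    rw [restrCompl_injective_iff_torsion]
    rintro m ⟨n, hn⟩
    have h1 : x ^ n • m = x ^ n • 0 := by
      rw [smul_zero]; exact hn _ (Ideal.pow_mem_pow hxJ n)
    exact (hx.pow n) h1
  refine ⟨hinj, ?_⟩
  have hinj' := (restrCompl_injective_iff A J M).mp hinj
  rw [restrCompl_surjective_iff]
  intro τ
  obtain ⟨n, hn⟩ := exists_pow_smul_mem_range (openC A J) J (mem_openCompl_iff A J) τ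
  obtain ⟨a, ha⟩ := hn _ (Ideal.pow_mem_pow hxJ n)
  obtain ⟨b, hb⟩ := hn _ (Ideal.pow_mem_pow hyJ n)
  have hab : y ^ n • a = x ^ n • b := by
    apply hinj'
    rw [map_smul, map_smul, ha, hb, smul_comm]
  obtain ⟨c, hc⟩ := mem_pow_of_pow_smul_mem hx hy n n a ⟨b, hab⟩
  refine ⟨c, ?_⟩
  apply section_ext
  intro q
  have h1 : x ^ n • ((toOpenₗ A M (openC A J) c).1 q - τ.1 q) = 0 := by
    rw [smul_sub, ← structureSheafInType.smul_apply, ← structureSheafInType.smul_apply, ← map_smul,
      ← hc, ha, sub_self]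
  exact sub_eq_zero.mp (smul_localizedModule_eq_zero (hx.pow n) _ _ h1)

theorem two_le_depth_of_bijective_of_le [Module.Finite A M] (J p : Ideal A) [p.IsPrime]
    (hJp : J ≤ p) (hbij : Function.Bijective (EGA4.restrCompl A J M)) :
    2 ≤ LocCoh.depth (Localization.AtPrime p) (LocalizedModule p.primeCompl M) := by
  classical
  have hpure : p ∉ associatedPrimes A M := by
    intro hp
    obtain ⟨hprime, x, hx⟩ := (isAssociatedPrime_iff (R := A)).mp hp
    have hx0 : x = 0 := by
      apply (restrCompl_injective_iff_torsion A J M).mp hbij.1 x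
      refine ⟨1, fun r hr => ?_⟩
      rw [pow_one] at hr
      have hr' := hJp hr
      rw [hx, Submodule.mem_colon_singleton, Submodule.mem_bot] at hr'
      exact hr'
    apply hprime.ne_top
    rw [hx, hx0, Ideal.eq_top_iff_one, Submodule.mem_colon_singleton]
    simp
  by_cases hnt : Nontrivial (LocalizedModule p.primeCompl M)
  swap
  · rw [not_nontrivial_iff_subsingleton] at hnt
    rw [Groth.Agent.Lib.Helper56.depth_eq_top_of_subsingleton]
    exact le_top
  have h0 : LocCoh.depth (Localization.AtPrime p) (LocalizedModule p.primeCompl M) ≠ 0 :=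
    fun h => hpure ((mem_ass_iff_depth_eq_zero p).mpr h)
  have hIM := Groth.Agent.Lib.Helper67.maximalIdeal_smul_top_ne_top (R := Localization.AtPrime p)
    (LocalizedModule p.primeCompl M)
  have h1 : 1 ≤ LocCoh.depth (Localization.AtPrime p) (LocalizedModule p.primeCompl M) :=
    Order.one_le_iff_pos.mpr (pos_iff_ne_zero.mpr h0)
  rcases (Groth.Agent.Lib.Helper67.one_le_idealDepth_iff _ _).mp h1 with h | ⟨r, hrm, hr⟩
  · exact absurd h hIM
  obtain ⟨⟨x₀, u⟩, hru⟩ := IsLocalization.mk'_surjective p.primeCompl r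
  simp only at hru
  have hspec : r * algebraMap A (Localization.AtPrime p) u = algebraMap A (Localization.AtPrime p) x₀ := by
    rw [← hru, IsLocalization.mk'_spec]
  set x' := algebraMap A (Localization.AtPrime p) x₀ with hx'
  have hx'm : x' ∈ IsLocalRing.maximalIdeal (Localization.AtPrime p) := by
    rw [← hspec]; exact Ideal.mul_mem_right _ _ hrm
  have hx₀p : x₀ ∈ p :=
    (IsLocalization.AtPrime.to_map_mem_maximal_iff (Localization.AtPrime p) p x₀).mp hx'm
  have hx'reg : IsSMulRegular (LocalizedModule p.primeCompl M) x' := by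
    rw [← hspec]
    exact hr.mul ((IsLocalization.map_units (Localization.AtPrime p) u).isSMulRegular _)
  have hadd := Groth.Agent.Lib.Helper67.idealDepth_quotSMulTop_add_one
    (IsLocalRing.maximalIdeal (Localization.AtPrime p)) (LocalizedModule p.primeCompl M) hIM x' hx'm hx'reg
  suffices hq : LocCoh.idealDepth (IsLocalRing.maximalIdeal (Localization.AtPrime p))
      (QuotSMulTop x' (LocalizedModule p.primeCompl M)) ≠ 0 by
    have h2 : 1 ≤ LocCoh.idealDepth (IsLocalRing.maximalIdeal (Localization.AtPrime p))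
        (QuotSMulTop x' (LocalizedModule p.primeCompl M)) :=
      Order.one_le_iff_pos.mpr (pos_iff_ne_zero.mpr hq)
    change 2 ≤ LocCoh.idealDepth (IsLocalRing.maximalIdeal (Localization.AtPrime p))
      (LocalizedModule p.primeCompl M)
    rw [← hadd]
    calc (2 : ℕ∞) = 1 + 1 := by norm_num
      _ ≤ _ := add_le_add_left h2 1
  intro hq0
  have hass := (Groth.Agent.Lib.Helper67.depth_eq_zero_iff (R := Localization.AtPrime p)
    (QuotSMulTop x' (LocalizedModule p.primeCompl M))).mp hq0
  obtain ⟨hmprime, zbar, hz⟩ := (isAssociatedPrime_iff).mp hass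
  obtain ⟨z, rfl⟩ := Submodule.Quotient.mk_surjective _ zbar
  have hzs : ∃ m s, z = LocalizedModule.mk m s := by
    induction z using LocalizedModule.induction_on with
    | h m s => exact ⟨m, s, rfl⟩
  obtain ⟨m, s, rfl⟩ := hzs
  -- membership in x' • ⊤
  have hmem : ∀ y : LocalizedModule p.primeCompl M,
      (Submodule.Quotient.mk y : QuotSMulTop x' (LocalizedModule p.primeCompl M)) = 0 ↔
        ∃ c, y = x' • c := by
    intro y
    rw [Submodule.Quotient.mk_eq_zero]
    constructor
    · intro hy
      obtain ⟨n, -, hn⟩ := (Submodule.mem_smul_pointwise_iff_exists _ _ _).mp hy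
      exact ⟨n, hn.symm⟩
    · rintro ⟨n, rfl⟩
      exact Submodule.smul_mem_pointwise_smul n x' ⊤ Submodule.mem_top
  have H1 : ¬ ∃ c, (LocalizedModule.mk m s : LocalizedModule p.primeCompl M) = x' • c := by
    intro hc
    have h0' := (hmem _).mpr hc
    apply hmprime.ne_top
    rw [hz, h0', Ideal.eq_top_iff_one, Submodule.mem_colon_singleton]
    simp
  have H2 : ∀ a ∈ p, ∃ c, a • (LocalizedModule.mk m s : LocalizedModule p.primeCompl M) = x' • c := by
    intro a ha
    have ham : algebraMap A (Localization.AtPrime p) a ∈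
        IsLocalRing.maximalIdeal (Localization.AtPrime p) :=
      (IsLocalization.AtPrime.to_map_mem_maximal_iff (Localization.AtPrime p) p a).mpr ha
    rw [hz, Submodule.mem_colon_singleton, Submodule.mem_bot, ← Submodule.Quotient.mk_smul,
      hmem, algebraMap_smul] at ham
    exact ham
  -- step C
  have hC : ∀ a ∈ p, ∃ t ∈ p.primeCompl, ∃ n : M, t • a • m = x₀ • n := by
    intro a ha
    obtain ⟨c, hc⟩ := H2 a ha
    have hcs : ∃ n s', c = LocalizedModule.mk n s' := by
      induction c using LocalizedModule.induction_on with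
      | h n s' => exact ⟨n, s', rfl⟩
    obtain ⟨n, s', rfl⟩ := hcs
    rw [hx', algebraMap_smul, LocalizedModule.smul'_mk, LocalizedModule.smul'_mk,
      LocalizedModule.mk_eq] at hc
    obtain ⟨t, ht⟩ := hc
    refine ⟨(t * s' : p.primeCompl), (t * s').2, (t * s) • n, ?_⟩
    simp only [Submonoid.smul_def, Submonoid.coe_mul, mul_smul] at ht ⊢
    rw [ht, smul_comm (s : A) x₀, smul_comm (t : A) x₀]
  obtain ⟨u, huS, hu⟩ := exists_mul_mem p.primeCompl p
    ((isNoetherianRing_iff_ideal_fg A).mp inferInstance p) x₀ m hC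
  -- step D
  have hD : ∀ k : M, x₀ • k = 0 → ∃ t ∈ p.primeCompl, t • k = 0 := by
    intro k hk
    have h3 : x' • (LocalizedModule.mk k 1 : LocalizedModule p.primeCompl M) = x' • 0 := by
      rw [smul_zero, hx', algebraMap_smul, LocalizedModule.smul'_mk, hk, LocalizedModule.zero_mk]
    have h4 := hx'reg h3
    rw [← LocalizedModule.zero_mk 1, LocalizedModule.mk_eq] at h4
    obtain ⟨t, ht⟩ := h4
    refine ⟨t, t.2, ?_⟩
    simpa [Submonoid.smul_def] using ht
  obtain ⟨w, hwS, hw⟩ := exists_kill_ker p.primeCompl x₀ hD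
  obtain ⟨n₀, hn₀⟩ := exists_eq_of_bijective J x₀ w (u • m) (fun a ha => hu a (hJp ha)) hw hbij
  apply H1
  refine ⟨LocalizedModule.mk n₀ (⟨w, hwS⟩ * ⟨u, huS⟩ * s), ?_⟩
  rw [hx', algebraMap_smul, LocalizedModule.smul'_mk, LocalizedModule.mk_eq]
  refine ⟨1, ?_⟩
  simp only [one_smul, Submonoid.smul_def, mul_smul]
  rw [hn₀, smul_comm (s : A) w, smul_comm (s : A) u]


theorem two_le_depth_of_bijective [Module.Finite A M] (p : Ideal A) [p.IsPrime]
    (hbij : Function.Bijective (EGA4.restrCompl A p M))
    (_hpure : p ∉ associatedPrimes A M) :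
    2 ≤ LocCoh.depth (Localization.AtPrime p) (LocalizedModule p.primeCompl M) :=
  two_le_depth_of_bijective_of_le p p le_rfl hbij

/-- S2720: a finite module over a Noetherian ring is closed along a specialization-stable set `Z`
iff its localizations at the points of `Z` have depth at least two. -/
theorem isClosedAlong_iff_depth [Module.Finite A M] (Z : Set (PrimeSpectrum A))
    (hZ : StableUnderSpecialization Z) :
    EGA4.IsClosedAlong Z M ↔ ∀ p : PrimeSpectrum A, p ∈ Z →
      (2 : ℕ∞) ≤ LocCoh.depth (Localization.AtPrime p.asIdeal)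
        (LocalizedModule p.asIdeal.primeCompl M) := by
  constructor
  · intro hcl p hpZ
    have hV : PrimeSpectrum.zeroLocus (p.asIdeal : Set A) ⊆ Z := by
      intro q hq
      have hle : p.asIdeal ≤ q.asIdeal := hq
      exact hZ ((PrimeSpectrum.le_iff_specializes p q).mp hle) hpZ
    have hpure : EGA4.IsPureAlong Z M := fun J hJ => (hcl J hJ).1
    have hass := (isPureAlong_iff_ass Z hZ).mp hpure p
    exact two_le_depth_of_bijective p.asIdeal (hcl p.asIdeal hV) (fun h => hass h hpZ)
  · intro h J hJ
    obtain ⟨x, hxJ, y, hyJ, hx, hy⟩ :=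
      Groth.Agent.Lib.Helper56.exists_regular_pair_of_forall_two_le_depth J M
        (fun p hp hJp => h ⟨p, hp⟩ (hJ hJp))
    exact bijective_of_regular_pair J hxJ hyJ hx hy

end Groth.Agent.Lib.Helper85.ZClosed
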