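import Groth.Agent.Lib.Helper85.ZClosedEv

set_option autoImplicit false
universe u

namespace Groth.Agent.Lib.Helper85.ZClosed

open AlgebraicGeometry StructureSheaf TopologicalSpace Opposite CategoryTheory
open Groth.Agent.Lib.Helper48

variable {A : Type u} [CommRing A] [IsNoetherianRing A] {M : Type u} [AddCommGroup M] [Module A M]

theorem sec_injective (J : Ideal A) :
    Function.Injective (toOpenₗ A (Sec A M (openC A J)) (openC A J)) := by
  rw [injective_iff_map_eq_zero]
  intro n hn
  obtain ⟨k, hk⟩ := (toOpenₗ_eq_zero_iff (openC A J) J (mem_openCompl_iff A J) n).mp hn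
  apply section_ext
  intro x
  exact apply_eq_zero_of_pow_smul_eq_zero (openC A J) n J k hk x
    ((mem_openCompl_iff A J x.1).mp x.2)

theorem sec_surjective (J : Ideal A) :
    Function.Surjective (toOpenₗ A (Sec A M (openC A J)) (openC A J)) := by
  intro σ
  -- the candidate section
  have hloc : (isLocallyFraction A M).pred (fun x : openC A J => evLoc (openC A J) x (σ.1 x)) := by
    intro x
    obtain ⟨g, s, hgx, hgU, hσ⟩ := exists_fraction (openC A J) σ x.1 x.2
    obtain ⟨h, a, hhx, hhU, hs⟩ := exists_fraction (openC A J) s x.1 x.2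
    refine ⟨PrimeSpectrum.basicOpen (h * g), ?_, homOfLE ?_, a, h * g, ?_⟩
    · exact x.1.asIdeal.primeCompl.mul_mem hhx hgx
    · intro y hy
      exact hgU y (fun hg => hy (y.asIdeal.mul_mem_left h hg))
    · intro y
      have hy : h * g ∉ (PrimeSpectrum.asIdeal (R := A) y.1) := y.2
      have hgy : g ∉ (PrimeSpectrum.asIdeal (R := A) y.1) := fun hg => hy (Ideal.mul_mem_left _ h hg)
      have hhy : h ∉ (PrimeSpectrum.asIdeal (R := A) y.1) := fun hh => hy (Ideal.mul_mem_right g _ hh)
      refine ⟨hy, ?_⟩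
      have hyU : y.1 ∈ openC A J := hgU y.1 hgy
      change evLoc (openC A J) ⟨y.1, hyU⟩ (σ.1 ⟨y.1, hyU⟩) = _
      rw [hσ ⟨y.1, hyU⟩ hgy]
      rw [← sub_eq_zero]
      apply smul_localization_injective y.1 g hgy
      rw [smul_sub, smul_evLoc_mk (openC A J) ⟨y.1, hyU⟩ s ⟨g, hgy⟩, hs ⟨y.1, hyU⟩ hhy, sub_eq_zero,
        LocalizedModule.smul'_mk, LocalizedModule.mk_eq]
      refine ⟨1, ?_⟩
      simp only [one_smul, Submonoid.smul_def]
      rw [← mul_smul, mul_comm]
  let n : Sec A M (openC A J) := ⟨fun x => evLoc (openC A J) x (σ.1 x), hloc⟩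
  refine ⟨n, ?_⟩
  apply section_ext
  intro x
  obtain ⟨g, s, hgx, hgU, hσ⟩ := exists_fraction (openC A J) σ x.1 x.2
  -- δ := s - g • n vanishes on D(g)
  obtain ⟨K, hK⟩ := exists_pow_smul_eq_zero_of_vanish (openC A J) (s - g • n) g (by
    intro y hy
    rw [Groth.Agent.Lib.Helper48.sub_apply, structureSheafInType.smul_apply, sub_eq_zero]
    change s.1 y = g • evLoc (openC A J) y (σ.1 y)
    rw [hσ y hy]
    exact (smul_evLoc_mk (openC A J) y s ⟨g, hy⟩).symm)
  rw [hσ x hgx]
  change LocalizedModule.mk n (1 : (PrimeSpectrum.asIdeal (R := A) x.1).primeCompl) = _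
  rw [LocalizedModule.mk_eq]
  refine ⟨⟨g ^ K, (PrimeSpectrum.asIdeal (R := A) x.1).primeCompl.pow_mem hgx K⟩, ?_⟩
  simp only [one_smul, Submonoid.smul_def]
  rw [smul_sub, sub_eq_zero] at hK
  exact hK.symm

theorem span_eq_top_of_span_eq_top {R S N : Type*} [CommRing R] [Ring S] [AddCommGroup N]
    [Module R N] [Module S N] (hcompat : ∀ γ : S, ∃ a : R, ∀ x : N, γ • x = a • x) (T : Set N)
    (h : Submodule.span S T = ⊤) : Submodule.span R T = ⊤ := by
  rw [eq_top_iff]
  intro n _
  have hn : n ∈ Submodule.span S T := by rw [h]; trivial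
  induction hn using Submodule.span_induction with
  | mem x hx => exact Submodule.subset_span hx
  | zero => exact Submodule.zero_mem _
  | add x y _ _ hx hy => exact Submodule.add_mem _ (hx trivial) (hy trivial)
  | smul γ x _ hx =>
    obtain ⟨a, ha⟩ := hcompat γ
    rw [ha]
    exact Submodule.smul_mem _ a (hx trivial)

omit [IsNoetherianRing A] in

theorem finite_of_isCoherentPushCompl (J : Ideal A) (h : EGA4.IsCoherentPushCompl A J M) :
    Module.Finite A (Sec A M (openC A J)) := by
  unfold EGA4.IsCoherentPushCompl at h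
  obtain ⟨T, hT⟩ := h.fg_top
  let N' := (ModuleCat.restrictScalars ((Spec (CommRingCat.of A)).ringCatSheaf.obj.map
        (homOfLE (le_top : EGA4.openCompl A J ≤ ⊤)).op).hom).obj
      ((EGA4.tildeOf A M).val.obj (op (EGA4.openCompl A J)))
  let instA : Module A N' := inferInstanceAs (Module A (Sec A M (openC A J)))
  have key := span_eq_top_of_span_eq_top (R := A)
    (S := ((Spec (CommRingCat.of A)).ringCatSheaf.obj.obj (op ⊤))) (N := N') ?_ _ hT
  · exact ⟨⟨T, key⟩⟩
  intro γ
  obtain ⟨a, ha⟩ := (toOpenₗ_top_bijective (R := A) (M := A)).2 γ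
  refine ⟨a, fun x => ?_⟩
  subst ha
  apply section_ext (R := A) (M := M) (U := openC A J)
  intro y
  exact IsScalarTower.algebraMap_smul (Localizations A y.1) a (x.1 y)

end Groth.Agent.Lib.Helper85.ZClosed
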